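import Mathlib
universe v v' u u'
open CategoryTheory Category Limits

namespace Groth.Agent.LD.QC

variable {C : Type u'} [Category.{v'} C] {J : GrothendieckTopology C} (R : Sheaf J RingCat.{u})
  [J.WEqualsLocallyBijective AddCommGrpCat.{v}] [HasSheafify J AddCommGrpCat.{v}]

/-- the forgetful functor from sheaves of modules to sheaves of abelian groups preserves
epimorphisms. -/
theorem toSheaf_map_epi {G H : SheafOfModules.{v} R} (p : G ⟶ H) [Epi p] :
    Epi ((SheafOfModules.toSheaf R).map p) := by
  let a := PresheafOfModules.sheafification.{v} (𝟙 R.obj)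
  let F := SheafOfModules.forget.{v} R ⋙ PresheafOfModules.restrictScalars (𝟙 R.obj)
  let adj : a ⊣ F := PresheafOfModules.sheafificationAdjunction (𝟙 R.obj)
  let q := F.map p
  let e := Abelian.factorThruImage q
  let m := Abelian.image.ι q
  have hem : e ≫ m = q := Abelian.image.fac q
  have h1 : a.map q ≫ adj.counit.app H = adj.counit.app G ≫ p := adj.counit.naturality p
  have hq : Epi (a.map q) := by
    have : a.map q = adj.counit.app G ≫ p ≫ inv (adj.counit.app H) := by
      rw [← Category.assoc, ← h1, Category.assoc, IsIso.hom_inv_id, Category.comp_id]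
    rw [this]
    infer_instance
  have hm1 : Epi (a.map m) := by
    have : a.map e ≫ a.map m = a.map q := by rw [← Functor.map_comp, hem]
    exact epi_of_epi_fac this
  have hm2 : Mono (a.map m) := inferInstance
  have hm3 : IsIso (a.map m) := isIso_of_mono_of_epi _
  have he : Epi ((SheafOfModules.toSheaf R).map (a.map e)) := by
    have h2 : Epi ((PresheafOfModules.toPresheaf _).map e) := by
      have : ∀ X, Epi (((PresheafOfModules.toPresheaf _).map e).app X) := fun X => by
        rw [AddCommGrpCat.epi_iff_surjective]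
        exact PresheafOfModules.surjective_of_epi e X
      exact NatTrans.epi_of_epi_app _
    change Epi ((presheafToSheaf J AddCommGrpCat).map ((PresheafOfModules.toPresheaf _).map e))
    infer_instance
  have : p = inv (adj.counit.app G) ≫ a.map e ≫ a.map m ≫ adj.counit.app H := by
    rw [← Functor.map_comp_assoc, hem, h1, IsIso.inv_hom_id_assoc]
  rw [this]
  simp only [Functor.map_comp]
  infer_instance

end Groth.Agent.LD.QC

namespace Groth.Agent.LD.QC
open AlgebraicGeometry TopologicalSpace Opposite

/-- an epimorphism of `O_X`-modules is locally surjective on sections. -/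
theorem exists_local_lift {X : Scheme.{u}} {G H : X.Modules} (p : G ⟶ H)
    (hp : @Epi X.Modules _ _ _ p) (U : X.Opens) (h : Γ(H, U)) (x : X) (hx : x ∈ U) :
    ∃ (W : X.Opens) (hW : W ≤ U), x ∈ W ∧ ∃ g : Γ(G, W),
      p.app W g = H.presheaf.map (homOfLE hW).op h := by
  have h1 : Epi ((SheafOfModules.toSheaf X.ringCatSheaf).map p) :=
    @toSheaf_map_epi _ _ _ X.ringCatSheaf _ _ _ _ p hp
  have h2 := (Sheaf.isLocallySurjective_iff_epi'
    (φ := (SheafOfModules.toSheaf X.ringCatSheaf).map p)).mpr h1
  have h3 := (TopCat.Presheaf.isLocallySurjective_iff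
    ((SheafOfModules.toSheaf X.ringCatSheaf).map p).hom).mp h2 U h x hx
  obtain ⟨W, hW, ⟨g, hg⟩, hxW⟩ := h3
  exact ⟨W, hW, hxW, g, hg⟩

end Groth.Agent.LD.QC
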