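import Groth.Agent.Lib.Lead.QC.LocFree3
import Groth.Agent.Lib.Lead.QC.Epi
universe u
open CategoryTheory Limits AlgebraicGeometry TopologicalSpace Opposite TensorProduct

namespace Groth.Agent.LD.QC
variable {X : Scheme.{u}}

/-- the structure sheaf as a module. -/
noncomputable abbrev unitMod (X : Scheme.{u}) : X.Modules := SheafOfModules.unit X.ringCatSheaf

/-- a section over the whole space, as a compatible family of sections. -/
noncomputable def secOfTop (M : X.Modules) (t : Γ(M, ⊤)) : SheafOfModules.sections M :=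
  PresheafOfModules.sectionsMk (M := M.val)
    (fun U => M.presheaf.map (homOfLE (le_top : U.unop ≤ ⊤)).op t)
    (fun U V f => by
      change M.presheaf.map f (M.presheaf.map (homOfLE (le_top : U.unop ≤ ⊤)).op t) = _
      rw [← ConcreteCategory.comp_apply, ← Functor.map_comp]
      rfl)

/-- the morphism `O_X ⟶ M` attached to a global section. -/
noncomputable def homOfSection (M : X.Modules) (t : Γ(M, ⊤)) : unitMod X ⟶ M :=
  (SheafOfModules.unitHomEquiv M).symm (secOfTop M t)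

/-- the global section attached to a morphism `O_X ⟶ M`. -/
noncomputable def sectionOfHom {M : X.Modules} (σ : unitMod X ⟶ M) : Γ(M, ⊤) :=
  σ.app ⊤ (1 : Γ(X, ⊤))

lemma homOfSection_sectionOfHom {M : X.Modules} (σ : unitMod X ⟶ M) :
    homOfSection M (sectionOfHom σ) = σ := by
  apply (SheafOfModules.unitHomEquiv M).injective
  rw [homOfSection, Equiv.apply_symm_apply]
  apply PresheafOfModules.sections_ext
  intro U
  have h1 : ((SheafOfModules.unitHomEquiv M) σ).val U = σ.app U.unop (1 : Γ(X, U.unop)) := rfl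
  rw [h1]
  change M.presheaf.map (homOfLE (le_top : U.unop ≤ ⊤)).op (σ.app ⊤ (1 : Γ(X, ⊤))) = _
  rw [← app_res σ (le_top : U.unop ≤ ⊤) (1 : Γ(X, ⊤))]
  congr 1
  exact map_one (X.presheaf.map (homOfLE (le_top : U.unop ≤ ⊤)).op).hom

lemma sectionOfHom_homOfSection (M : X.Modules) (t : Γ(M, ⊤)) :
    sectionOfHom (homOfSection M t) = t := by
  have h := Equiv.apply_symm_apply (SheafOfModules.unitHomEquiv M) (secOfTop M t)
  have h1 : ((SheafOfModules.unitHomEquiv M) (homOfSection M t)).val (op ⊤) =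
      (homOfSection M t).app ⊤ (1 : Γ(X, ⊤)) := rfl
  have h2 : (secOfTop M t).val (op ⊤) = t := by
    change M.presheaf.map (homOfLE (le_top : (⊤ : X.Opens) ≤ ⊤)).op t = t
    exact res_self M le_rfl t
  rw [sectionOfHom, ← h1]
  change ((SheafOfModules.unitHomEquiv M) ((SheafOfModules.unitHomEquiv M).symm (secOfTop M t))).val
    (op ⊤) = t
  rw [h, h2]

lemma homOfSection_comp {M N : X.Modules} (p : M ⟶ N) (t : Γ(M, ⊤)) :
    homOfSection M t ≫ p = homOfSection N (p.app ⊤ t) := by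
  rw [← homOfSection_sectionOfHom (homOfSection M t ≫ p)]
  congr 1
  change p.app ⊤ ((homOfSection M t).app ⊤ (1 : Γ(X, ⊤))) = _
  have := sectionOfHom_homOfSection M t
  rw [sectionOfHom] at this
  rw [this]

/-- the morphism `O_X^n ⟶ M` attached to `n` global sections. -/
noncomputable def homOfSections (M : X.Modules) {n : ℕ} (t : Fin n → Γ(M, ⊤)) :
    freeMod X n ⟶ M :=
  Sigma.desc fun i => homOfSection M (t i)

/-- the global sections attached to a morphism `O_X^n ⟶ M`. -/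
noncomputable def sectionsOfHom {M : X.Modules} {n : ℕ} (φ : freeMod X n ⟶ M) :
    Fin n → Γ(M, ⊤) :=
  fun i => sectionOfHom (Sigma.ι (fun _ : Fin n => unitMod X) i ≫ φ)

lemma homOfSections_sectionsOfHom {M : X.Modules} {n : ℕ} (φ : freeMod X n ⟶ M) :
    homOfSections M (sectionsOfHom φ) = φ := by
  apply Sigma.hom_ext
  intro i
  rw [homOfSections, Sigma.ι_desc, sectionsOfHom, homOfSection_sectionOfHom]

lemma sectionsOfHom_homOfSections (M : X.Modules) {n : ℕ} (t : Fin n → Γ(M, ⊤)) :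
    sectionsOfHom (homOfSections M t) = t := by
  funext i
  rw [sectionsOfHom, homOfSections, Sigma.ι_desc, sectionOfHom_homOfSection]

lemma sectionsOfHom_comp {M N : X.Modules} {n : ℕ} (φ : freeMod X n ⟶ M) (p : M ⟶ N) :
    sectionsOfHom (φ ≫ p) = fun i => p.app ⊤ (sectionsOfHom φ i) := by
  funext i
  rw [sectionsOfHom, ← Category.assoc]
  rfl

lemma hom_ext_sections {M : X.Modules} {n : ℕ} {φ ψ : freeMod X n ⟶ M}
    (h : sectionsOfHom φ = sectionsOfHom ψ) : φ = ψ := by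
  rw [← homOfSections_sectionsOfHom φ, ← homOfSections_sectionsOfHom ψ, h]

/-- lifting a morphism from a free module through `p`, after restriction to an open subscheme,
given lifts of the corresponding sections. -/
theorem exists_lift_restrict {Y Z : Scheme.{u}} (ℓ : Z ⟶ Y) [IsOpenImmersion ℓ]
    {E F G : Y.Modules} {n : ℕ} (e : E ≅ freeMod Y n) (p : G ⟶ F) (φ : E ⟶ F)
    (g : Fin n → Γ(G, ℓ ''ᵁ (ℓ ⁻¹ᵁ ⊤)))
    (hg : ∀ i, p.app _ (g i) = F.presheaf.map (homOfLE (ℓ.image_preimage_le ⊤)).op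
      (sectionsOfHom (e.inv ≫ φ) i)) :
    ∃ ψ : E.restrict ℓ ⟶ G.restrict ℓ,
      ψ ≫ (Scheme.Modules.restrictFunctor ℓ).map p = (Scheme.Modules.restrictFunctor ℓ).map φ := by
  let adj := Scheme.Modules.restrictAdjunction ℓ
  let P : Y.Modules := (Scheme.Modules.pushforward ℓ).obj (G.restrict ℓ)
  let ψ' : freeMod Y n ⟶ P := homOfSections P g
  refine ⟨(adj.homEquiv E (G.restrict ℓ)).symm (e.hom ≫ ψ'), ?_⟩
  apply (adj.homEquiv E (F.restrict ℓ)).injective
  rw [Adjunction.homEquiv_naturality_right, Equiv.apply_symm_apply, Adjunction.homEquiv_unit]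
  have hnat : adj.unit.app E ≫ (Scheme.Modules.pushforward ℓ).map
      ((Scheme.Modules.restrictFunctor ℓ).map φ) = φ ≫ adj.unit.app F :=
    (adj.unit.naturality φ).symm
  rw [hnat, ← cancel_epi e.inv, Category.assoc, Iso.inv_hom_id_assoc]
  apply hom_ext_sections
  rw [sectionsOfHom_comp, sectionsOfHom_homOfSections]
  funext i
  change p.app _ (g i) = _
  rw [hg i, ← Category.assoc, sectionsOfHom_comp]
  rfl

end Groth.Agent.LD.QC

namespace Groth.Agent.LD.QC
variable {X : Scheme.{u}}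

lemma map_eq_res (M : X.Modules) {U V : X.Opens} (q : V ⟶ U) (s : Γ(M, U)) :
    M.presheaf.map q.op s = M.presheaf.map (homOfLE (leOfHom q)).op s := rfl

/-- a morphism from a finite locally free module lifts locally through an epimorphism. -/
theorem exists_local_lift_of_isFinLocFree {E F G : X.Modules} (p : G ⟶ F) [Epi p] (φ : E ⟶ F)
    (hE : FlatMod.IsFinLocFree E) (x : X) :
    ∃ (V : X.Opens) (ψ : E.restrict V.ι ⟶ G.restrict V.ι), x ∈ V ∧
      ψ ≫ (Scheme.Modules.restrictFunctor V.ι).map p =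
        (Scheme.Modules.restrictFunctor V.ι).map φ := by
  obtain ⟨V₀, n, hx₀, ⟨e⟩⟩ := hE x
  let p₀ := (Scheme.Modules.restrictFunctor V₀.ι).map p
  let φ₀ := (Scheme.Modules.restrictFunctor V₀.ι).map φ
  let f : Fin n → Γ(F, V₀.ι ''ᵁ ⊤) := sectionsOfHom (e.inv ≫ φ₀)
  have hxt : x ∈ V₀.ι ''ᵁ ⊤ := ⟨⟨x, hx₀⟩, trivial, rfl⟩
  have key := fun i => exists_local_lift p inferInstance (V₀.ι ''ᵁ ⊤) (f i) x hxt
  choose W hW hxW g hg using key
  have hopen : IsOpen ((V₀ : Set X) ∩ ⋂ i, (W i : Set X)) :=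
    V₀.2.inter (isOpen_iInter_of_finite fun i => (W i).2)
  let V : X.Opens := ⟨(V₀ : Set X) ∩ ⋂ i, (W i : Set X), hopen⟩
  have hxV : x ∈ V := ⟨hx₀, Set.mem_iInter.mpr hxW⟩
  have hVV₀ : V ≤ V₀ := fun y hy => hy.1
  have hVW : ∀ i, V ≤ W i := fun i y hy => Set.mem_iInter.mp hy.2 i
  have hr : Set.range V.ι ⊆ Set.range V₀.ι := by
    rw [Scheme.Opens.range_ι, Scheme.Opens.range_ι]; exact hVV₀
  let ℓ := IsOpenImmersion.lift V₀.ι V.ι hr
  have hfac : ℓ ≫ V₀.ι = V.ι := IsOpenImmersion.lift_fac _ _ _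
  have hle : ∀ i, V₀.ι ''ᵁ (ℓ ''ᵁ (ℓ ⁻¹ᵁ ⊤)) ≤ W i := by
    intro i y hy
    obtain ⟨z, ⟨w, -, rfl⟩, rfl⟩ := hy
    apply hVW i
    have : V₀.ι (ℓ w) = V.ι w := by rw [← hfac]; rfl
    change V₀.ι (ℓ w) ∈ V
    rw [this]
    exact w.2
  let g' : Fin n → Γ(G.restrict V₀.ι, ℓ ''ᵁ (ℓ ⁻¹ᵁ ⊤)) := fun i =>
    G.presheaf.map (homOfLE (hle i)).op (g i)
  obtain ⟨ψ', hψ'⟩ := exists_lift_restrict ℓ e p₀ φ₀ g' (fun i => by
    change p.app _ (G.presheaf.map (homOfLE (hle i)).op (g i)) = _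
    rw [app_res, hg i, res_res]
    rfl)
  let Θ : Scheme.Modules.restrictFunctor V₀.ι ⋙ Scheme.Modules.restrictFunctor ℓ ≅
      Scheme.Modules.restrictFunctor V.ι :=
    (Scheme.Modules.restrictFunctorComp ℓ V₀.ι).symm ≪≫ Scheme.Modules.restrictFunctorCongr hfac
  refine ⟨V, Θ.inv.app E ≫ ψ' ≫ Θ.hom.app G, hxV, ?_⟩
  have h1 : Θ.hom.app G ≫ (Scheme.Modules.restrictFunctor V.ι).map p =
      (Scheme.Modules.restrictFunctor ℓ).map p₀ ≫ Θ.hom.app F := (Θ.hom.naturality p).symm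
  have h2 : (Scheme.Modules.restrictFunctor ℓ).map φ₀ ≫ Θ.hom.app F =
      Θ.hom.app E ≫ (Scheme.Modules.restrictFunctor V.ι).map φ := Θ.hom.naturality φ
  rw [Category.assoc, Category.assoc, h1, ← Category.assoc ψ', hψ', h2, ← Category.assoc,
    Iso.inv_hom_id_app, Category.id_comp]

end Groth.Agent.LD.QC
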