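import Groth.Agent.Lib.Lead.QC.Extend
universe u
open CategoryTheory Limits AlgebraicGeometry TopologicalSpace Opposite

namespace Groth.Agent.LD.QC
variable {X : Scheme.{u}}

/-- a morphism of modules which is injective on sections over arbitrarily small neighbourhoods of
every point is injective on sections over every open. -/
theorem app_injective_of_local {M N : X.Modules} (φ : M ⟶ N)
    (h : ∀ (x : X) (W : X.Opens), x ∈ W →
      ∃ V : X.Opens, x ∈ V ∧ V ≤ W ∧ Function.Injective (φ.app V)) (U : X.Opens) :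
    Function.Injective (φ.app U) := by
  intro s s' hss
  choose V hxV hVU hinj using fun x : U => h x.1 U x.2
  apply section_ext_of_cover M V hVU ?_ s s' ?_
  · intro x hx
    exact Opens.mem_iSup.mpr ⟨⟨x, hx⟩, hxV ⟨x, hx⟩⟩
  · intro x
    apply hinj x
    rw [app_res, app_res, hss]

/-- a morphism of modules which is bijective on sections over arbitrarily small neighbourhoods of
every point is an isomorphism. -/
theorem isIso_of_local_bijective {M N : X.Modules} (φ : M ⟶ N)
    (h : ∀ (x : X) (W : X.Opens), x ∈ W →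
      ∃ V : X.Opens, x ∈ V ∧ V ≤ W ∧ Function.Bijective (φ.app V)) : IsIso φ := by
  have hinj : ∀ U : X.Opens, Function.Injective (φ.app U) :=
    app_injective_of_local φ fun x W hx => by
      obtain ⟨V, h1, h2, h3⟩ := h x W hx
      exact ⟨V, h1, h2, h3.1⟩
  rw [Scheme.Modules.Hom.isIso_iff_isIso_app]
  intro U
  rw [ConcreteCategory.isIso_iff_bijective]
  refine ⟨hinj U, fun t => ?_⟩
  choose V hxV hVU hbij using fun x : U => h x.1 U x.2
  choose sf hsf using fun x : U => (hbij x).2 (N.presheaf.map (homOfLE (hVU x)).op t)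
  have hcov : U ≤ iSup V := fun x hx => Opens.mem_iSup.mpr ⟨⟨x, hx⟩, hxV ⟨x, hx⟩⟩
  have hcompat : TopCat.Presheaf.IsCompatible M.presheaf V sf := by
    intro x y
    apply hinj (V x ⊓ V y)
    change φ.app _ (M.presheaf.map (homOfLE (inf_le_left : V x ⊓ V y ≤ V x)).op (sf x)) =
      φ.app _ (M.presheaf.map (homOfLE (inf_le_right : V x ⊓ V y ≤ V y)).op (sf y))
    rw [app_res, app_res, hsf, hsf, res_res, res_res]
  obtain ⟨s, hs, -⟩ := TopCat.Sheaf.existsUnique_gluing' ⟨_, M.isSheaf⟩ V U
    (fun x => homOfLE (hVU x)) hcov sf hcompat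
  refine ⟨s, ?_⟩
  apply section_ext_of_cover N V hVU hcov
  intro x
  rw [← app_res, ← hsf x]
  congr 1
  exact hs x

end Groth.Agent.LD.QC
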