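import Groth.Agent.Lib.Lead.QC.TensorFormulas
import Groth.Agent.Lib.Lead.QC.SheafIso
import Groth.Agent.Lib.Lead.QC.FreeHom
import Groth.Prelude.Def_KoszTw
universe u
open CategoryTheory Limits AlgebraicGeometry TopologicalSpace Opposite TensorProduct MonoidalCategory

namespace Groth.Agent.LD.QC
variable {X : Scheme.{u}}

/-- the tensor product of two isomorphisms. -/
noncomputable def tensorIso' {M M' N N' : X.Modules} (e : M ≅ M') (g : N ≅ N') :
    CohB1.tensorMod M N ≅ CohB1.tensorMod M' N' where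
  hom := KoszTw.tensorMap e.hom g.hom
  inv := KoszTw.tensorMap e.inv g.inv
  hom_inv_id := by rw [← KoszTw.tensorMap_comp, e.hom_inv_id, g.hom_inv_id, KoszTw.tensorMap_id]
  inv_hom_id := by rw [← KoszTw.tensorMap_comp, e.inv_hom_id, g.inv_hom_id, KoszTw.tensorMap_id]

lemma unitorR_inv_app (F : X.Modules) (U : X.Opens) (t : Γ(F, U)) :
    (SecTwist.unitorR F).inv.app U t =
      SecTwist.tmul F (unitMod X) U t (1 : Γ(X, U)) := by
  have h := (SecTwist.unitorR_tmul F U t (1 : Γ(X, U))).trans (one_smul Γ(X, U) t)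
  have h2 : (SecTwist.unitorR F).inv.app U ((SecTwist.unitorR F).hom.app U
      (SecTwist.tmul F (unitMod X) U t (1 : Γ(X, U)))) =
      SecTwist.tmul F (unitMod X) U t (1 : Γ(X, U)) := by
    rw [← ConcreteCategory.comp_apply, ← Scheme.Modules.Hom.comp_app, Iso.hom_inv_id]
    rfl
  rw [← h2]
  congr 1
  exact h.symm

/-- twisting by a module trivialised over `U`. -/
noncomputable def twistIso (F L : X.Modules) (U : X.Opens) (φ : unitMod U ≅ L.restrict U.ι) :
    F.restrict U.ι ≅ (CohB1.tensorMod F L).restrict U.ι :=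
  (SecTwist.unitorR (F.restrict U.ι)).symm ≪≫ tensorIso' (Iso.refl _) φ ≪≫
    restrictTensorIso U.ι F L

lemma twistIso_hom_app (F L : X.Modules) (U : X.Opens) (φ : unitMod U ≅ L.restrict U.ι)
    (W : (U : Scheme.{u}).Opens) (t : Γ(F.restrict U.ι, W)) :
    (twistIso F L U φ).hom.app W t =
      SecTwist.tmul F L (U.ι ''ᵁ W) t (φ.hom.app W (1 : Γ(U, W))) := by
  change (restrictTensorHom U.ι F L).app W ((KoszTw.tensorMap (𝟙 _) φ.hom).app W
    ((SecTwist.unitorR (F.restrict U.ι)).inv.app W t)) = _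
  rw [unitorR_inv_app, KoszTw.tensorMap_tmul, restrictTensorHom_tmul]
  rfl

lemma app_bijective_of_isIso {M N : X.Modules} (φ : M ⟶ N) [IsIso φ] (U : X.Opens) :
    Function.Bijective (φ.app U) := by
  have h := (Scheme.Modules.Hom.isIso_iff_isIso_app (φ := φ)).mp inferInstance U
  exact (ConcreteCategory.isIso_iff_bijective _).mp h

/-- `e` is a basis of `L` over `U`: multiplication by `e` identifies `O_V` with `L|_V` for all
`V ≤ U`. -/
def IsBasisOver (L : X.Modules) (U : X.Opens) (e : Γ(L, U)) : Prop :=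
  ∀ (V : X.Opens) (h : V ≤ U),
    Function.Bijective (fun a : Γ(X, V) => a • L.presheaf.map (homOfLE h).op e)

lemma IsBasisOver.mono {L : X.Modules} {U V : X.Opens} {e : Γ(L, U)} (he : IsBasisOver L U e)
    (h : V ≤ U) : IsBasisOver L V (L.presheaf.map (homOfLE h).op e) := by
  intro W hW
  have := he W (hW.trans h)
  simp only [res_res]
  exact this

/-- the image of `1` under a trivialisation, restricted to `W`. -/
lemma iso_app_one_res (L : X.Modules) (U : X.Opens) (φ : unitMod U ⟶ L.restrict U.ι)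
    {W W' : (U : Scheme.{u}).Opens} (h : W' ≤ W) :
    (L.restrict U.ι).presheaf.map (homOfLE h).op (φ.app W (1 : Γ(U, W))) =
      φ.app W' (1 : Γ(U, W')) := by
  rw [← app_res φ h]
  congr 1
  exact map_one ((U : Scheme.{u}).presheaf.map (homOfLE h).op).hom

lemma bijective_smul_of_iso (L : X.Modules) (U : X.Opens) (φ : unitMod U ≅ L.restrict U.ι)
    (W : (U : Scheme.{u}).Opens) :
    Function.Bijective (fun a : Γ(X, U.ι ''ᵁ W) =>
      a • (show Γ(L, U.ι ''ᵁ W) from φ.hom.app W (1 : Γ(U, W)))) := by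
  have h1 := app_bijective_of_isIso φ.hom W
  have h2 : Function.Bijective (U.ι.appIso W).hom.hom :=
    (ConcreteCategory.isIso_iff_bijective (U.ι.appIso W).hom).mp inferInstance
  have h3 : (fun a : Γ(X, U.ι ''ᵁ W) =>
      a • (show Γ(L, U.ι ''ᵁ W) from φ.hom.app W (1 : Γ(U, W)))) =
      fun a => φ.hom.app W ((U.ι.appIso W).hom.hom a) := by
    funext a
    have h4 : φ.hom.app W ((U.ι.appIso W).hom.hom a) =
        (U.ι.appIso W).hom.hom a • φ.hom.app W (1 : Γ(U, W)) := by
      rw [← Scheme.Modules.Hom.app_smul]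
      congr 1
      exact (mul_one ((U.ι.appIso W).hom.hom a)).symm
    rw [h4]
    change _ = ((U.ι.appIso W).inv.hom ((U.ι.appIso W).hom.hom a)) •
      (show Γ(L, U.ι ''ᵁ W) from φ.hom.app W (1 : Γ(U, W)))
    congr 1
    exact (congr($((U.ι.appIso W).hom_inv_id) a)).symm
  rw [h3]
  exact h1.comp h2

/-- the basis attached to a trivialisation. -/
noncomputable def basisOfIso (L : X.Modules) (U : X.Opens) (φ : unitMod U ⟶ L.restrict U.ι) :
    Γ(L, U) :=
  L.presheaf.map (homOfLE U.ι_image_top.ge).op (φ.app ⊤ (1 : Γ(U, ⊤)))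

lemma basisOfIso_res (L : X.Modules) (U : X.Opens) (φ : unitMod U ⟶ L.restrict U.ι)
    (W : (U : Scheme.{u}).Opens) (h : U.ι ''ᵁ W ≤ U) :
    L.presheaf.map (homOfLE h).op (basisOfIso L U φ) = φ.app W (1 : Γ(U, W)) := by
  rw [basisOfIso, res_res, ← iso_app_one_res L U φ (le_top : W ≤ ⊤)]
  rfl

theorem isBasisOver_basisOfIso (L : X.Modules) (U : X.Opens) (φ : unitMod U ≅ L.restrict U.ι) :
    IsBasisOver L U (basisOfIso L U φ.hom) := by
  intro V hV
  have hV' : U.ι ''ᵁ (U.ι ⁻¹ᵁ V) = V := by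
    simp [Scheme.Hom.image_preimage_eq_opensRange_inf, hV]
  have key := bijective_smul_of_iso L U φ (U.ι ⁻¹ᵁ V)
  have gen : ∀ (V' : X.Opens) (heq : V' = U.ι ''ᵁ (U.ι ⁻¹ᵁ V)) (h : V' ≤ U),
      Function.Bijective (fun a : Γ(X, V') =>
        a • L.presheaf.map (homOfLE h).op (basisOfIso L U φ.hom)) := by
    intro V' heq h
    subst heq
    simp only [basisOfIso_res]
    exact key
  exact gen V hV'.symm hV

/-- a morphism out of the structure sheaf is multiplication by the image of `1`. -/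
lemma unitHom_app (M : X.Modules) (σ : unitMod X ⟶ M) (W : X.Opens) (b : Γ(X, W)) :
    σ.app W b = b • σ.app W (1 : Γ(X, W)) := by
  rw [← Scheme.Modules.Hom.app_smul]
  congr 1
  exact (mul_one b).symm

lemma unitHom_app_one_res (M : X.Modules) (σ : unitMod X ⟶ M) {W W' : X.Opens} (h : W' ≤ W) :
    M.presheaf.map (homOfLE h).op (σ.app W (1 : Γ(X, W))) = σ.app W' (1 : Γ(X, W')) := by
  rw [← app_res σ h]
  congr 1
  exact map_one (X.presheaf.map (homOfLE h).op).hom

lemma homOfSection_app_one (M : X.Modules) (t : Γ(M, ⊤)) (W : X.Opens) :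
    (homOfSection M t).app W (1 : Γ(X, W)) = M.presheaf.map (homOfLE le_top).op t := by
  rw [← unitHom_app_one_res M (homOfSection M t) (le_top : W ≤ ⊤)]
  congr 1
  exact sectionOfHom_homOfSection M t

/-- the morphism `O_U ⟶ L|_U` attached to a section of `L` over `U`. -/
noncomputable def homOfSecOver (L : X.Modules) (U : X.Opens) (e : Γ(L, U)) :
    unitMod U ⟶ L.restrict U.ι :=
  homOfSection (L.restrict U.ι) (L.presheaf.map (homOfLE U.ι_image_top.le).op e)

lemma homOfSecOver_app_one (L : X.Modules) (U : X.Opens) (e : Γ(L, U))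
    (W : (U : Scheme.{u}).Opens) :
    (homOfSecOver L U e).app W (1 : Γ(U, W)) =
      L.presheaf.map (homOfLE (U.ι_image_le W)).op e := by
  rw [homOfSecOver, homOfSection_app_one]
  change L.presheaf.map (homOfLE _).op (L.presheaf.map (homOfLE U.ι_image_top.le).op e) = _
  rw [res_res]
  rfl

lemma basisOfIso_homOfSecOver (L : X.Modules) (U : X.Opens) (e : Γ(L, U)) :
    basisOfIso L U (homOfSecOver L U e) = e := by
  rw [basisOfIso, homOfSecOver_app_one, res_res]
  exact res_self L le_rfl e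

theorem isIso_homOfSecOver (L : X.Modules) (U : X.Opens) (e : Γ(L, U)) (he : IsBasisOver L U e) :
    IsIso (homOfSecOver L U e) := by
  rw [Scheme.Modules.Hom.isIso_iff_isIso_app]
  intro W
  rw [ConcreteCategory.isIso_iff_bijective]
  have h1 := he (U.ι ''ᵁ W) (U.ι_image_le W)
  have h2 : Function.Bijective (U.ι.appIso W).inv.hom :=
    (ConcreteCategory.isIso_iff_bijective (U.ι.appIso W).inv).mp inferInstance
  have h3 : ⇑(ConcreteCategory.hom ((homOfSecOver L U e).app W)) =
      fun b => (fun a : Γ(X, U.ι ''ᵁ W) =>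
        a • L.presheaf.map (homOfLE (U.ι_image_le W)).op e) ((U.ι.appIso W).inv.hom b) := by
    funext b
    rw [unitHom_app, homOfSecOver_app_one]
    rfl
  rw [h3]
  exact h1.comp h2

/-- a basis over `U` gives a trivialisation over `U`. -/
noncomputable def isoOfBasis (L : X.Modules) (U : X.Opens) (e : Γ(L, U)) (he : IsBasisOver L U e) :
    unitMod U ≅ L.restrict U.ι :=
  haveI := isIso_homOfSecOver L U e he
  asIso (homOfSecOver L U e)

theorem isInvertible_iff_exists_isBasisOver (L : X.Modules) :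
    PicF.IsInvertible L ↔ ∀ x : X, ∃ (U : X.Opens) (e : Γ(L, U)), x ∈ U ∧ IsBasisOver L U e := by
  constructor
  · intro h x
    obtain ⟨U, hxU, ⟨φ⟩⟩ := h x
    exact ⟨U, _, hxU, isBasisOver_basisOfIso L U φ.symm⟩
  · intro h x
    obtain ⟨U, e, hxU, he⟩ := h x
    exact ⟨U, hxU, ⟨(isoOfBasis L U e he).symm⟩⟩

lemma tmul_smul_left (M N : X.Modules) (U : X.Opens) (a : Γ(X, U)) (m : Γ(M, U)) (n : Γ(N, U)) :
    SecTwist.tmul M N U (a • m) n = a • SecTwist.tmul M N U m n := by
  rw [tmul_eq_tensorSec, tmul_eq_tensorSec]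
  exact (tensorSec M N U).map_smul a (m ⊗ₜ n)

lemma tmul_smul_right (M N : X.Modules) (U : X.Opens) (a : Γ(X, U)) (m : Γ(M, U)) (n : Γ(N, U)) :
    SecTwist.tmul M N U m (a • n) = a • SecTwist.tmul M N U m n := by
  rw [tmul_eq_tensorSec, tmul_eq_tensorSec]
  refine Eq.trans ?_ ((tensorSec M N U).map_smul a (m ⊗ₜ n))
  congr 1
  exact (TensorProduct.smul_tmul a m n).symm

lemma tmul_res (M N : X.Modules) {U V : X.Opens} (h : V ≤ U) (m : Γ(M, U)) (n : Γ(N, U)) :
    (CohB1.tensorMod M N).presheaf.map (homOfLE h).op (SecTwist.tmul M N U m n) =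
      SecTwist.tmul M N V (M.presheaf.map (homOfLE h).op m) (N.presheaf.map (homOfLE h).op n) :=
  SecTwist.map_tmul M N (homOfLE h) m n

/-- twisting by a basis is bijective on sections. -/
theorem bijective_tmul_of_isBasisOver (F L : X.Modules) {U : X.Opens} {e : Γ(L, U)}
    (he : IsBasisOver L U e) (V : X.Opens) (hV : V ≤ U) :
    Function.Bijective (fun t : Γ(F, V) =>
      SecTwist.tmul F L V t (L.presheaf.map (homOfLE hV).op e)) := by
  have hV' : U.ι ''ᵁ (U.ι ⁻¹ᵁ V) = V := by
    simp [Scheme.Hom.image_preimage_eq_opensRange_inf, hV]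
  have key := app_bijective_of_isIso (twistIso F L U (isoOfBasis L U e he)).hom (U.ι ⁻¹ᵁ V)
  have h3 : ⇑(ConcreteCategory.hom ((twistIso F L U (isoOfBasis L U e he)).hom.app (U.ι ⁻¹ᵁ V))) =
      fun t : Γ(F, U.ι ''ᵁ (U.ι ⁻¹ᵁ V)) => SecTwist.tmul F L (U.ι ''ᵁ (U.ι ⁻¹ᵁ V)) t
        (L.presheaf.map (homOfLE (U.ι_image_le _)).op e) := by
    funext t
    rw [twistIso_hom_app]
    congr 1
    exact homOfSecOver_app_one L U e _
  rw [h3] at key
  have gen : ∀ (V' : X.Opens) (heq : V' = U.ι ''ᵁ (U.ι ⁻¹ᵁ V)) (h : V' ≤ U),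
      Function.Bijective (fun t : Γ(F, V') =>
        SecTwist.tmul F L V' t (L.presheaf.map (homOfLE h).op e)) := by
    intro V' heq h
    subst heq
    exact key
  exact gen V hV'.symm hV

theorem IsBasisOver.tmul {L L' : X.Modules} {U : X.Opens} {e : Γ(L, U)} {e' : Γ(L', U)}
    (he : IsBasisOver L U e) (he' : IsBasisOver L' U e') :
    IsBasisOver (CohB1.tensorMod L L') U (SecTwist.tmul L L' U e e') := by
  intro V hV
  have h1 := he V hV
  have h2 := bijective_tmul_of_isBasisOver L L' he' V hV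
  have h3 : (fun a : Γ(X, V) => a • (CohB1.tensorMod L L').presheaf.map (homOfLE hV).op
      (SecTwist.tmul L L' U e e')) =
      (fun t : Γ(L, V) => SecTwist.tmul L L' V t (L'.presheaf.map (homOfLE hV).op e')) ∘
        (fun a : Γ(X, V) => a • L.presheaf.map (homOfLE hV).op e) := by
    funext a
    rw [Function.comp_apply, tmul_smul_left, tmul_res]
    rfl
  rw [h3]
  exact h2.comp h1

lemma isIso_restrict_iff {M N : X.Modules} (φ : M ⟶ N) (U : X.Opens) :
    IsIso ((Scheme.Modules.restrictFunctor U.ι).map φ) ↔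
      ∀ V : X.Opens, V ≤ U → Function.Bijective (φ.app V) := by
  constructor
  · intro h V hV
    have hV' : U.ι ''ᵁ (U.ι ⁻¹ᵁ V) = V := by
      simp [Scheme.Hom.image_preimage_eq_opensRange_inf, hV]
    have key : Function.Bijective (φ.app (U.ι ''ᵁ (U.ι ⁻¹ᵁ V))) :=
      app_bijective_of_isIso ((Scheme.Modules.restrictFunctor U.ι).map φ) (U.ι ⁻¹ᵁ V)
    rwa [hV'] at key
  · intro h
    rw [Scheme.Modules.Hom.isIso_iff_isIso_app]
    intro W
    rw [ConcreteCategory.isIso_iff_bijective]
    exact h (U.ι ''ᵁ W) (U.ι_image_le W)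

/-- being an isomorphism over an open is a local property. -/
theorem bijective_app_of_local {M N : X.Modules} (φ : M ⟶ N) (U : X.Opens)
    (h : ∀ x ∈ U, ∃ W : X.Opens, x ∈ W ∧ ∀ V : X.Opens, V ≤ W → Function.Bijective (φ.app V)) :
    ∀ V : X.Opens, V ≤ U → Function.Bijective (φ.app V) := by
  intro V hV
  haveI : IsIso ((Scheme.Modules.restrictFunctor V.ι).map φ) := by
    apply isIso_of_local_bijective
    intro y W' hy
    obtain ⟨W, hyW, hW⟩ := h y.1 (hV y.2)
    refine ⟨W' ⊓ V.ι ⁻¹ᵁ W, ⟨hy, hyW⟩, inf_le_left, ?_⟩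
    apply hW
    rintro _ ⟨z, hz, rfl⟩
    exact hz.2
  exact (isIso_restrict_iff φ V).mp inferInstance V le_rfl

theorem le_genLocus_iff (L : X.Modules) (s : Coh.structureModule X ⟶ L) (U : X.Opens) :
    U ≤ CohB1.genLocus L s ↔ ∀ V : X.Opens, V ≤ U → Function.Bijective (s.app V) := by
  constructor
  · intro h
    apply bijective_app_of_local
    intro x hx
    obtain ⟨U', hU', hxU'⟩ := Opens.mem_sSup.mp (h hx)
    exact ⟨U', hxU', (isIso_restrict_iff s U').mp hU'⟩
  · intro h
    exact le_sSup ((isIso_restrict_iff s U).mpr h)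

theorem le_genLocus_iff_isBasisOver (L : X.Modules) (s : Coh.structureModule X ⟶ L) (U : X.Opens) :
    U ≤ CohB1.genLocus L s ↔ IsBasisOver L U (SecTwist.val s U) := by
  rw [le_genLocus_iff]
  have key : ∀ (V : X.Opens) (hV : V ≤ U), ⇑(ConcreteCategory.hom (s.app V)) =
      fun a : Γ(X, V) => a • L.presheaf.map (homOfLE hV).op (SecTwist.val s U) := by
    intro V hV
    funext a
    rw [unitHom_app L s V a]
    congr 1
    exact (SecTwist.map_val s (homOfLE hV)).symm
  constructor
  · intro h V hV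
    rw [← key V hV]
    exact h V hV
  · intro h V hV
    rw [key V hV]
    exact h V hV

theorem mem_genLocus_iff (L : X.Modules) (s : Coh.structureModule X ⟶ L) (x : X) :
    x ∈ CohB1.genLocus L s ↔ ∃ U : X.Opens, x ∈ U ∧ IsBasisOver L U (SecTwist.val s U) := by
  constructor
  · intro h
    exact ⟨_, h, (le_genLocus_iff_isBasisOver L s _).mp le_rfl⟩
  · rintro ⟨U, hxU, hU⟩
    exact (le_genLocus_iff_isBasisOver L s U).mpr hU hxU

lemma isUnit_res_of_le_basicOpen {U V : X.Opens} (f : Γ(X, U)) (hVU : V ≤ U)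
    (hV : V ≤ X.basicOpen f) : IsUnit (X.presheaf.map (homOfLE hVU).op f) := by
  have h1 := X.toRingedSpace.isUnit_res_basicOpen f
  have h2 := h1.map (X.presheaf.map (homOfLE hV).op).hom
  have h3 : (X.presheaf.map (homOfLE hV).op).hom
      ((X.presheaf.map (homOfLE (X.basicOpen_le f)).op).hom f) =
      X.presheaf.map (homOfLE hVU).op f := sres_res _ _ f
  rw [← h3]
  exact h2

lemma le_basicOpen_of_isUnit_res {U V : X.Opens} (f : Γ(X, U)) (hVU : V ≤ U)
    (h : IsUnit (X.presheaf.map (homOfLE hVU).op f)) : V ≤ X.basicOpen f := by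
  have h1 := X.basicOpen_of_isUnit h
  rw [X.basicOpen_res] at h1
  exact (inf_eq_left.mp h1)

/-- scaling a basis by a function gives a basis exactly when the function is a unit. -/
theorem IsBasisOver.smul_iff {L : X.Modules} {U : X.Opens} {e : Γ(L, U)} (he : IsBasisOver L U e)
    (f : Γ(X, U)) : IsBasisOver L U (f • e) ↔ IsUnit f := by
  constructor
  · intro h
    obtain ⟨a, ha⟩ := (h U le_rfl).2 (L.presheaf.map (homOfLE le_rfl).op e)
    have ha' : a • L.presheaf.map (homOfLE (le_refl U)).op (f • e) =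
        L.presheaf.map (homOfLE (le_refl U)).op e := ha
    rw [res_self, res_self, smul_smul] at ha'
    have h1 : (a * f) • L.presheaf.map (homOfLE (le_refl U)).op e =
        (1 : Γ(X, U)) • L.presheaf.map (homOfLE (le_refl U)).op e := by
      rw [res_self, one_smul]; exact ha'
    have h2 := (he U le_rfl).1 h1
    exact IsUnit.of_mul_eq_one_right a h2
  · intro hf V hV
    have hfV : IsUnit (X.presheaf.map (homOfLE hV).op f) := hf.map (X.presheaf.map (homOfLE hV).op).hom
    have h1 := he V hV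
    have h2 : Function.Bijective (fun a : Γ(X, V) => a * X.presheaf.map (homOfLE hV).op f) := by
      obtain ⟨u, hu⟩ := hfV
      rw [← hu]
      exact (Units.mulRight u).bijective
    have h3 : (fun a : Γ(X, V) => a • L.presheaf.map (homOfLE hV).op (f • e)) =
        (fun b : Γ(X, V) => b • L.presheaf.map (homOfLE hV).op e) ∘
          (fun a : Γ(X, V) => a * X.presheaf.map (homOfLE hV).op f) := by
      funext a
      rw [Function.comp_apply, Scheme.Modules.map_smul, smul_smul]
    rw [h3]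
    exact h1.comp h2

/-- on an open over which `L` has a basis `e` and `s = f e`, the locus where `s` generates is the
non-vanishing locus of `f`. -/
theorem genLocus_inf_eq_basicOpen {L : X.Modules} (s : Coh.structureModule X ⟶ L) {U : X.Opens}
    {e : Γ(L, U)} (he : IsBasisOver L U e) (f : Γ(X, U)) (hs : SecTwist.val s U = f • e) :
    CohB1.genLocus L s ⊓ U = X.basicOpen f := by
  have key : ∀ V : X.Opens, ∀ hV : V ≤ U, V ≤ CohB1.genLocus L s ↔ V ≤ X.basicOpen f := by
    intro V hV
    rw [le_genLocus_iff_isBasisOver, ← SecTwist.map_val s (homOfLE hV), hs]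
    have h1 : L.val.map (homOfLE hV).op (f • e) =
        X.presheaf.map (homOfLE hV).op f • L.presheaf.map (homOfLE hV).op e :=
      Scheme.Modules.map_smul L (homOfLE hV) f e
    rw [h1, (he.mono hV).smul_iff]
    exact ⟨le_basicOpen_of_isUnit_res f hV, isUnit_res_of_le_basicOpen f hV⟩
  apply le_antisymm
  · exact (key _ inf_le_right).mp inf_le_left
  · exact le_inf ((key _ (X.basicOpen_le f)).mpr le_rfl) (X.basicOpen_le f)

end Groth.Agent.LD.QC
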