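import Groth.Agent.Lib.Lead.QC.Affine
import Groth.Agent.Lib.Helper5.AG.TildeExact
universe u
open CategoryTheory Limits AlgebraicGeometry TopologicalSpace Opposite

namespace Groth.Agent.LD.QC



section RestrictLimits
variable {X Y : Scheme.{u}} (f : X ⟶ Y) [IsOpenImmersion f]

noncomputable def restrictCompToPresheafIso :
    Scheme.Modules.restrictFunctor f ⋙ Scheme.Modules.toPresheaf X ≅
      Scheme.Modules.toPresheaf Y ⋙ (Functor.whiskeringLeft _ _ _).obj f.opensFunctor.op :=
  Iso.refl _

noncomputable instance restrictFunctor_preservesLimits :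
    PreservesLimitsOfSize.{u, u} (Scheme.Modules.restrictFunctor f) := by
  have : ReflectsLimitsOfSize.{u, u} (Scheme.Modules.toPresheaf X) :=
    reflectsLimits_of_reflectsIsomorphisms
  have h1 : PreservesLimitsOfSize.{u, u} (Scheme.Modules.toPresheaf Y) := inferInstance
  have h2 : PreservesLimitsOfSize.{u, u}
      ((Functor.whiskeringLeft (Opens ↥X)ᵒᵖ (Opens ↥Y)ᵒᵖ Ab.{u}).obj f.opensFunctor.op) :=
    inferInstance
  have h3 : PreservesLimitsOfSize.{u, u} (Scheme.Modules.toPresheaf Y ⋙
      (Functor.whiskeringLeft (Opens ↥X)ᵒᵖ (Opens ↥Y)ᵒᵖ Ab.{u}).obj f.opensFunctor.op) :=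
    comp_preservesLimits _ _
  have : PreservesLimitsOfSize.{u, u}
      (Scheme.Modules.restrictFunctor f ⋙ Scheme.Modules.toPresheaf X) :=
    preservesLimits_of_natIso (restrictCompToPresheafIso f).symm
  exact preservesLimits_of_reflects_of_preserves _ (Scheme.Modules.toPresheaf X)

noncomputable instance restrictFunctor_preservesFiniteLimits :
    PreservesFiniteLimits (Scheme.Modules.restrictFunctor f) :=
  PreservesLimitsOfSize.preservesFiniteLimits _


end RestrictLimits

variable {X Y : Scheme.{u}}

theorem qc_of_iso {M N : X.Modules} (e : M ≅ N) (h : M.IsQuasicoherent) : N.IsQuasicoherent :=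
  (SheafOfModules.isQuasicoherent X.ringCatSheaf).prop_of_iso e h

theorem qc_iff_of_iso {M N : X.Modules} (e : M ≅ N) : M.IsQuasicoherent ↔ N.IsQuasicoherent :=
  ⟨qc_of_iso e, qc_of_iso e.symm⟩

/-- QC can be checked on the members of an open cover (by open immersions). -/
theorem qc_of_openCover (M : X.Modules) (𝒰 : Scheme.OpenCover.{u} X)
    (h : ∀ i, (M.restrict (𝒰.f i)).IsQuasicoherent) : M.IsQuasicoherent := by
  have hc : IsOpenCover (fun i : 𝒰.I₀ => (𝒰.f i).opensRange) := by
    rw [IsOpenCover, eq_top_iff]
    intro x _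
    obtain ⟨i, y, rfl⟩ := 𝒰.exists_eq x
    exact Opens.mem_iSup.mpr ⟨i, y, rfl⟩
  refine isQuasicoherent_of_isOpenCover M _ hc fun i => ?_
  have := h i
  exact qc_of_iso (restrictOpensRangeIso (𝒰.f i) M) inferInstance

section Spec
variable {R : CommRingCat.{u}}

theorem spec_qc_colimit {J : Type u} [SmallCategory J] (G : J ⥤ (Spec R).Modules)
    (hG : ∀ j, (G.obj j).IsQuasicoherent) : (colimit G).IsQuasicoherent := by
  have h := AlgebraicGeometry.essImage_tilde (R := R)
  have hF' : ∀ j, (tilde.functor R).essImage (G.obj j) := fun j => by rw [h]; exact hG j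
  have h2 := ObjectProperty.prop_colimit (P := (tilde.functor R).essImage) G hF'
  rw [h] at h2
  exact h2

theorem spec_qc_finColimit {J : Type} [SmallCategory J] [FinCategory J] (G : J ⥤ (Spec R).Modules)
    (hG : ∀ j, (G.obj j).IsQuasicoherent) : (colimit G).IsQuasicoherent := by
  have h := AlgebraicGeometry.essImage_tilde (R := R)
  have hF' : ∀ j, (tilde.functor R).essImage (G.obj j) := fun j => by rw [h]; exact hG j
  have h2 := ObjectProperty.prop_colimit (P := (tilde.functor R).essImage) G hF'
  rw [h] at h2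
  exact h2

theorem spec_qc_limit {J : Type} [SmallCategory J] [FinCategory J] (G : J ⥤ (Spec R).Modules)
    (hG : ∀ j, (G.obj j).IsQuasicoherent) : (limit G).IsQuasicoherent := by
  have h := AlgebraicGeometry.essImage_tilde (R := R)
  have hF' : ∀ j, (tilde.functor R).essImage (G.obj j) := fun j => by rw [h]; exact hG j
  have := Groth.Agent.H5.AG.tilde_preservesFiniteLimits R
  have h2 := ObjectProperty.prop_limit (P := (tilde.functor R).essImage) G hF'
  rw [h] at h2
  exact h2

end Spec

end Groth.Agent.LD.QC

namespace Groth.Agent.LD.QC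
variable {X : Scheme.{u}}

theorem qc_of_forall_affine (M : X.Modules)
    (h : ∀ U : X.affineOpens, (M.restrict U.2.fromSpec).IsQuasicoherent) :
    M.IsQuasicoherent := by
  have hc : IsOpenCover (fun U : X.affineOpens => (U.2.fromSpec).opensRange) := by
    rw [IsOpenCover]
    have : (fun U : X.affineOpens => (U.2.fromSpec).opensRange) = fun U : X.affineOpens => U.1 := by
      funext U; exact U.2.opensRange_fromSpec
    rw [this]
    exact iSup_affineOpens_eq_top X
  refine isQuasicoherent_of_isOpenCover M _ hc fun U => ?_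
  have := h U
  exact qc_of_iso (restrictOpensRangeIso U.2.fromSpec M) inferInstance

theorem qc_iff_forall_affine (M : X.Modules) :
    M.IsQuasicoherent ↔ ∀ U : X.affineOpens, (M.restrict U.2.fromSpec).IsQuasicoherent :=
  ⟨fun _ _ => inferInstance, qc_of_forall_affine M⟩

theorem qc_colimit {J : Type u} [SmallCategory J] (G : J ⥤ X.Modules)
    (hG : ∀ j, (G.obj j).IsQuasicoherent) : (colimit G).IsQuasicoherent := by
  refine qc_of_forall_affine _ fun U => ?_
  have : PreservesColimitsOfSize.{u, u} (Scheme.Modules.restrictFunctor U.2.fromSpec) :=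
    inferInstance
  refine qc_of_iso (preservesColimitIso (Scheme.Modules.restrictFunctor U.2.fromSpec) G).symm ?_
  exact spec_qc_colimit _ fun j => by
    have := hG j
    exact inferInstanceAs ((G.obj j).restrict U.2.fromSpec).IsQuasicoherent

theorem qc_finColimit {J : Type} [SmallCategory J] [FinCategory J] (G : J ⥤ X.Modules)
    (hG : ∀ j, (G.obj j).IsQuasicoherent) : (colimit G).IsQuasicoherent := by
  refine qc_of_forall_affine _ fun U => ?_
  refine qc_of_iso (preservesColimitIso (Scheme.Modules.restrictFunctor U.2.fromSpec) G).symm ?_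
  exact spec_qc_finColimit _ fun j => by
    have := hG j
    exact inferInstanceAs ((G.obj j).restrict U.2.fromSpec).IsQuasicoherent

theorem qc_limit {J : Type} [SmallCategory J] [FinCategory J] (G : J ⥤ X.Modules)
    (hG : ∀ j, (G.obj j).IsQuasicoherent) : (limit G).IsQuasicoherent := by
  refine qc_of_forall_affine _ fun U => ?_
  refine qc_of_iso (preservesLimitIso (Scheme.Modules.restrictFunctor U.2.fromSpec) G).symm ?_
  exact spec_qc_limit _ fun j => by
    have := hG j
    exact inferInstanceAs ((G.obj j).restrict U.2.fromSpec).IsQuasicoherent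

end Groth.Agent.LD.QC

namespace Groth.Agent.LD.QC
variable {X : Scheme.{u}}

theorem qc_kernel {M N : X.Modules} (φ : M ⟶ N) (hM : M.IsQuasicoherent)
    (hN : N.IsQuasicoherent) : (kernel φ).IsQuasicoherent :=
  qc_limit (parallelPair φ 0) (by rintro (_ | _) <;> assumption)

theorem qc_cokernel {M N : X.Modules} (φ : M ⟶ N) (hM : M.IsQuasicoherent)
    (hN : N.IsQuasicoherent) : (cokernel φ).IsQuasicoherent :=
  qc_finColimit (parallelPair φ 0) (by rintro (_ | _) <;> assumption)

end Groth.Agent.LD.QC
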