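import Groth.Agent.Lib.Lead.QC.FinPres
universe u
open CategoryTheory Limits AlgebraicGeometry TopologicalSpace Opposite

namespace Groth.Agent.LD.QC
variable {X : Scheme.{u}}

/-- `φ.app U` as a `Γ(X, U)`-linear map. -/
noncomputable def appLinear {M N : X.Modules} (φ : M ⟶ N) (U : X.Opens) :
    Γ(M, U) →ₗ[Γ(X, U)] Γ(N, U) where
  toFun := φ.app U
  map_add' := map_add _
  map_smul' r x := Scheme.Modules.Hom.app_smul φ r x

lemma appLinear_apply {M N : X.Modules} (φ : M ⟶ N) (U : X.Opens) (x : Γ(M, U)) :
    appLinear φ U x = φ.app U x := rfl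

theorem isFinitePresentation_of_qc_ft [IsLocallyNoetherian X] (M : X.Modules)
    (hqc : M.IsQuasicoherent) (hft : M.IsFiniteType) : M.IsFinitePresentation := by
  rw [isFinitePresentation_iff_sections]
  intro U hU
  have : IsNoetherianRing Γ(X, U) := IsLocallyNoetherian.component_noetherian ⟨U, hU⟩
  have : Module.Finite Γ(X, U) Γ(M, U) := finite_sections_of_isFiniteType M hft hU
  exact Module.finitePresentation_of_finite _ _

theorem isFiniteType_of_mono [IsLocallyNoetherian X] {N M : X.Modules} (i : N ⟶ M) [Mono i]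
    (hN : N.IsQuasicoherent) (hM : M.IsQuasicoherent) (hft : M.IsFiniteType) :
    N.IsFiniteType := by
  rw [isFiniteType_iff_finite_sections]
  intro U hU
  have : IsNoetherianRing Γ(X, U) := IsLocallyNoetherian.component_noetherian ⟨U, hU⟩
  have : Module.Finite Γ(X, U) Γ(M, U) := finite_sections_of_isFiniteType M hft hU
  exact Module.Finite.of_injective (appLinear i U) (mono_app i U)

theorem isFiniteType_of_epi {M N : X.Modules} (p : M ⟶ N) [Epi p]
    (hM : M.IsQuasicoherent) (hN : N.IsQuasicoherent) (hft : M.IsFiniteType) :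
    N.IsFiniteType := by
  rw [isFiniteType_iff_finite_sections]
  intro U hU
  have : Module.Finite Γ(X, U) Γ(M, U) := finite_sections_of_isFiniteType M hft hU
  exact Module.Finite.of_surjective (appLinear p U) (epi_app_affine hM hN p hU)

end Groth.Agent.LD.QC
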