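import Groth.Agent.Lib.Lead.QC.Push
universe u
open CategoryTheory Limits AlgebraicGeometry TopologicalSpace Opposite

namespace Groth.Agent.LD.QC
variable {X : Scheme.{u}}

/-- The stalk of an O_X-module at `x` is a module over the local ring `O_{X,x}`
(same definition as `FlatMod.moduleStalk`). -/
noncomputable instance stalkModule (M : X.Modules) (x : X) :
    Module (X.presheaf.stalk x) (M.presheaf.stalk x) :=
  inferInstanceAs (Module (X.presheaf.stalk x) ↑(TopCat.Presheaf.stalk (PresheafOfModules.presheaf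
    (R := X.presheaf ⋙ forget₂ CommRingCat RingCat)
    (show PresheafOfModules (X.presheaf ⋙ forget₂ CommRingCat RingCat) from M.val)) x))

lemma germ_smul (M : X.Modules) (x : X) (U : X.Opens) (hx : x ∈ U) (r : Γ(X, U)) (m : Γ(M, U)) :
    M.presheaf.germ U x hx (r • m) = X.presheaf.germ U x hx r • M.presheaf.germ U x hx m :=
  PresheafOfModules.germ_smul (R := X.presheaf)
    (show PresheafOfModules (X.presheaf ⋙ forget₂ CommRingCat RingCat) from M.val) x U hx r m

end Groth.Agent.LD.QC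

namespace Groth.Agent.LD.QC
variable {X : Scheme.{u}}

/-- `Γ(X,U)`-module structure on the stalk at `x ∈ U` (through the germ map). -/
noncomputable abbrev stalkΓModule (M : X.Modules) (x : X) (U : X.Opens) (hx : x ∈ U) :
    Module Γ(X, U) (M.presheaf.stalk x) :=
  Module.compHom (M.presheaf.stalk x) (X.presheaf.germ U x hx).hom

lemma stalkΓModule_smul (M : X.Modules) (x : X) (U : X.Opens) (hx : x ∈ U) (r : Γ(X, U))
    (m : M.presheaf.stalk x) :
    letI := stalkΓModule M x U hx
    r • m = X.presheaf.germ U x hx r • m := rfl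

/-- the germ map as a `Γ(X,U)`-linear map. -/
noncomputable def germLinear (M : X.Modules) (x : X) (U : X.Opens) (hx : x ∈ U) :
    letI := stalkΓModule M x U hx
    Γ(M, U) →ₗ[Γ(X, U)] M.presheaf.stalk x :=
  letI := stalkΓModule M x U hx
  { toFun := fun s => M.presheaf.germ U x hx s
    map_add' := fun a b => map_add _ a b
    map_smul' := fun r s => germ_smul M x U hx r s }

lemma germLinear_apply (M : X.Modules) (x : X) (U : X.Opens) (hx : x ∈ U) (s : Γ(M, U)) :
    germLinear M x U hx s = M.presheaf.germ U x hx s := rfl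

lemma germ_res (M : X.Modules) (x : X) {U V : X.Opens} (h : V ≤ U) (hx : x ∈ V) (s : Γ(M, U)) :
    M.presheaf.germ V x hx (M.presheaf.map (homOfLE h).op s) = M.presheaf.germ U x (h hx) s :=
  TopCat.Presheaf.germ_res_apply M.presheaf (homOfLE h) x hx s

lemma sgerm_res (x : X) {U V : X.Opens} (h : V ≤ U) (hx : x ∈ V) (s : Γ(X, U)) :
    X.presheaf.germ V x hx (X.presheaf.map (homOfLE h).op s) = X.presheaf.germ U x (h hx) s :=
  TopCat.Presheaf.germ_res_apply X.presheaf (homOfLE h) x hx s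

lemma isUnit_germ_of_notMem {U : X.Opens} (hU : IsAffineOpen U) (x : X) (hx : x ∈ U)
    (r : Γ(X, U)) (hr : r ∈ (hU.primeIdealOf ⟨x, hx⟩).asIdeal.primeCompl) :
    IsUnit (X.presheaf.germ U x hx r) := by
  letI : Algebra Γ(X, U) (X.presheaf.stalk x) :=
    TopCat.Presheaf.algebra_section_stalk X.presheaf ⟨x, hx⟩
  haveI := hU.isLocalization_stalk ⟨x, hx⟩
  exact IsLocalization.map_units (X.presheaf.stalk x)
    (⟨r, hr⟩ : (hU.primeIdealOf ⟨x, hx⟩).asIdeal.primeCompl)

lemma mem_primeCompl_of_mem_basicOpen {U : X.Opens} (hU : IsAffineOpen U) (x : X) (hx : x ∈ U)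
    (f : Γ(X, U)) (hf : x ∈ X.basicOpen f) :
    f ∈ (hU.primeIdealOf ⟨x, hx⟩).asIdeal.primeCompl := by
  letI : Algebra Γ(X, U) (X.presheaf.stalk x) :=
    TopCat.Presheaf.algebra_section_stalk X.presheaf ⟨x, hx⟩
  haveI := hU.isLocalization_stalk ⟨x, hx⟩
  have h1 : IsUnit (X.presheaf.germ U x hx f) := (X.mem_basicOpen f x hx).mp hf
  exact (IsLocalization.AtPrime.isUnit_to_map_iff (X.presheaf.stalk x)
    (hU.primeIdealOf ⟨x, hx⟩).asIdeal f).mp h1

/-- The stalk of a quasi-coherent module at a point of an affine open `U` is the localization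
of the module of sections over `U` at the corresponding prime ideal. -/
theorem isLocalizedModule_germ (M : X.Modules) [M.IsQuasicoherent] {U : X.Opens}
    (hU : IsAffineOpen U) (x : X) (hx : x ∈ U) :
    letI := stalkΓModule M x U hx
    IsLocalizedModule (hU.primeIdealOf ⟨x, hx⟩).asIdeal.primeCompl (germLinear M x U hx) := by
  letI := stalkΓModule M x U hx
  refine ⟨?_, ?_, ?_⟩
  · intro s
    obtain ⟨u, hu⟩ := isUnit_germ_of_notMem hU x hx s.1 s.2
    rw [Module.End.isUnit_iff]
    refine ⟨fun a b hab => ?_, fun b => ⟨(↑u⁻¹ : X.presheaf.stalk x) • b, ?_⟩⟩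
    · have h1 : (u : X.presheaf.stalk x) • a = (u : X.presheaf.stalk x) • b := by
        rw [hu]; exact hab
      have := congrArg (fun z => (↑u⁻¹ : X.presheaf.stalk x) • z) h1
      simpa [smul_smul] using this
    · change X.presheaf.germ U x hx s.1 • ((↑u⁻¹ : X.presheaf.stalk x) • b) = b
      rw [← hu, smul_smul, Units.mul_inv, one_smul]
  · intro y
    obtain ⟨W, hxW, m', rfl⟩ := TopCat.Presheaf.germ_exist M.presheaf y
    obtain ⟨f, hfW, hxf⟩ := hU.exists_basicOpen_le (V := W) ⟨x, hxW⟩ hx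
    obtain ⟨n, s, hs⟩ := affine_surj M hU f (M.presheaf.map (homOfLE hfW).op m')
    refine ⟨⟨s, ⟨f ^ n, ?_⟩⟩, ?_⟩
    · exact Submonoid.pow_mem _ (mem_primeCompl_of_mem_basicOpen hU x hx f hxf) n
    · change X.presheaf.germ U x hx (f ^ n) • M.presheaf.germ W x hxW m' =
        M.presheaf.germ U x hx s
      rw [← germ_res M x (X.basicOpen_le f) hxf s, hs, ← map_pow, germ_smul, sgerm_res,
        germ_res M x hfW hxf m']
  · intro m₁ m₂ h
    obtain ⟨W, hxW, iU, iV, e⟩ := TopCat.Presheaf.germ_eq M.presheaf x hx hx m₁ m₂ h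
    obtain ⟨f, hfW, hxf⟩ := hU.exists_basicOpen_le (V := W) ⟨x, hxW⟩ hx
    have h0 : M.presheaf.map (homOfLE (X.basicOpen_le f)).op (m₁ - m₂) = 0 := by
      have e' : M.presheaf.map (homOfLE iU.le).op m₁ = M.presheaf.map (homOfLE iU.le).op m₂ := e
      rw [map_sub, sub_eq_zero, ← res_res M iU.le hfW, ← res_res M iU.le hfW, e']
    obtain ⟨n, hn⟩ := affine_inj M hU f (m₁ - m₂) h0
    refine ⟨⟨f ^ n, Submonoid.pow_mem _ (mem_primeCompl_of_mem_basicOpen hU x hx f hxf) n⟩, ?_⟩
    change f ^ n • m₁ = f ^ n • m₂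
    rwa [smul_sub, sub_eq_zero] at hn

end Groth.Agent.LD.QC

namespace Groth.Agent.LD.QC
variable {X : Scheme.{u}}

theorem mem_support_iff_not_subsingleton_stalk (M : X.Modules) [M.IsQuasicoherent] {U : X.Opens}
    (hU : IsAffineOpen U) (x : X) (hx : x ∈ U) :
    hU.primeIdealOf ⟨x, hx⟩ ∈ Module.support Γ(X, U) Γ(M, U) ↔
      ¬ Subsingleton (M.presheaf.stalk x) := by
  letI := stalkΓModule M x U hx
  haveI := isLocalizedModule_germ M hU x hx
  rw [Module.mem_support_iff, not_subsingleton_iff_nontrivial]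
  exact (IsLocalizedModule.iso (hU.primeIdealOf ⟨x, hx⟩).asIdeal.primeCompl
    (germLinear M x U hx)).toEquiv.nontrivial_congr

end Groth.Agent.LD.QC
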