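import Groth.Agent.Lib.Lead.QC.Ext
import Groth.Agent.Lib.Lead.QC.Stalk
universe u
open CategoryTheory Limits AlgebraicGeometry TopologicalSpace Opposite

namespace Groth.Agent.LD.QC
variable {X : Scheme.{u}}

/-- a section all of whose germs vanish is zero. -/
lemma section_eq_zero_of_germ (M : X.Modules) {U : X.Opens} (s : Γ(M, U))
    (h : ∀ (x : X) (hx : x ∈ U), M.presheaf.germ U x hx s = 0) : s = 0 := by
  apply TopCat.Presheaf.section_ext ⟨_, M.isSheaf⟩ U s 0
  intro x hx
  rw [h x hx, map_zero]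

lemma isZero_of_forall_sections (M : X.Modules) (h : ∀ (U : X.Opens) (s : Γ(M, U)), s = 0) :
    IsZero M := by
  rw [IsZero.iff_id_eq_zero]
  apply Scheme.Modules.hom_ext
  intro U
  ext s
  exact (h U _).trans (h U _).symm

/-- a quasi-coherent module whose sections over the members of an affine cover vanish is zero. -/
theorem isZero_of_affine_cover (M : X.Modules) [M.IsQuasicoherent]
    (h : ∀ x : X, ∃ U : X.Opens, IsAffineOpen U ∧ x ∈ U ∧ ∀ s : Γ(M, U), s = 0) : IsZero M := by
  apply isZero_of_forall_sections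
  intro W s
  apply section_eq_zero_of_germ
  intro x hx
  obtain ⟨U, hU, hxU, hU0⟩ := h x
  letI := stalkΓModule M x U hxU
  haveI := isLocalizedModule_germ M hU x hxU
  obtain ⟨⟨m, c⟩, hmc⟩ := IsLocalizedModule.surj (hU.primeIdealOf ⟨x, hxU⟩).asIdeal.primeCompl
    (germLinear M x U hxU) (M.presheaf.germ W x hx s)
  rw [hU0 m, map_zero] at hmc
  have hu := IsLocalizedModule.map_units (germLinear M x U hxU) c
  have := (Module.End.isUnit_iff _).mp hu
  apply this.1
  rw [map_zero]
  exact hmc

end Groth.Agent.LD.QC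

namespace Groth.Agent.LD.QC
variable {X : Scheme.{u}}

theorem isIso_of_mono_of_surjective_affine_cover {A B : X.Modules} [hA : A.IsQuasicoherent]
    [hB : B.IsQuasicoherent] (ι : A ⟶ B) [Mono ι]
    (h : ∀ x : X, ∃ U : X.Opens, IsAffineOpen U ∧ x ∈ U ∧ Function.Surjective (ι.app U)) :
    IsIso ι := by
  haveI hC : (cokernel ι).IsQuasicoherent := qc_cokernel ι hA hB
  have hz : IsZero (cokernel ι) := by
    apply isZero_of_affine_cover
    intro x
    obtain ⟨U, hU, hxU, hs⟩ := h x
    refine ⟨U, hU, hxU, fun c => ?_⟩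
    obtain ⟨s, rfl⟩ := epi_app_affine hB hC (cokernel.π ι) hU c
    obtain ⟨t, rfl⟩ := hs s
    have h1 : (ι ≫ cokernel.π ι).app U t = 0 := by
      rw [cokernel.condition]; rfl
    exact h1
  haveI : Epi ι := Preadditive.epi_of_isZero_cokernel ι hz
  exact isIso_of_mono_of_epi ι

end Groth.Agent.LD.QC
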