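import Groth.Agent.Lib.Lead.QC.Push
import Mathlib.AlgebraicGeometry.Morphisms.Finite
universe u
open CategoryTheory Limits AlgebraicGeometry TopologicalSpace Opposite

namespace Groth.Agent.LD.QC

lemma finite_of_ringHom_finite {R A M : Type*} [CommRing R] [CommRing A] [AddCommGroup M]
    [Module R M] [Module A M] (φ : R →+* A) (hφ : φ.Finite)
    (h : ∀ (r : R) (m : M), r • m = φ r • m) [Module.Finite A M] : Module.Finite R M := by
  let _ := φ.toAlgebra
  have : IsScalarTower R A M := ⟨fun r a m => by
    rw [h r (a • m), ← mul_smul]; rfl⟩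
  have : Module.Finite R A := hφ
  exact Module.Finite.trans A M

/-- sections of `f_* F` over `V` as a module over `Γ(Y, V)` : finite if `Γ(F, f⁻¹V)` is finite over
`Γ(X, f⁻¹ V)` and `Γ(X, f⁻¹V)` is finite over `Γ(Y, V)`. -/
theorem pushforward_sections_finite {X Y : Scheme.{u}} (f : X ⟶ Y) (F : X.Modules) (V : Y.Opens)
    (h1 : (f.app V).hom.Finite) (h2 : Module.Finite Γ(X, f ⁻¹ᵁ V) Γ(F, f ⁻¹ᵁ V)) :
    Module.Finite Γ(Y, V) Γ((Scheme.Modules.pushforward f).obj F, V) :=
  @finite_of_ringHom_finite Γ(Y, V) Γ(X, f ⁻¹ᵁ V) Γ((Scheme.Modules.pushforward f).obj F, V) _ _ _ _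
    (inferInstanceAs (Module Γ(X, f ⁻¹ᵁ V) Γ(F, f ⁻¹ᵁ V))) (f.app V).hom h1 (fun _ _ => rfl) h2

theorem isFiniteType_pushforward_of_isFinite {X Y : Scheme.{u}} (f : X ⟶ Y) [IsFinite f]
    (F : X.Modules) [F.IsQuasicoherent] (hF : F.IsFiniteType) :
    ((Scheme.Modules.pushforward f).obj F).IsFiniteType := by
  have := qc_pushforward f F
  rw [isFiniteType_iff_finite_sections]
  intro V hV
  exact pushforward_sections_finite f F V (f.finite_app V hV)
    (finite_sections_of_isFiniteType F hF (hV.preimage f))

end Groth.Agent.LD.QC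

namespace Groth.Agent.LD.QC

/-- Stacks 0564. -/
lemma finitePresentation_iff_of_ringHom {R A M : Type*} [CommRing R] [CommRing A] [AddCommGroup M]
    [Module R M] [Module A M] (φ : R →+* A) (hφ : φ.Finite) (hφ' : φ.FinitePresentation)
    (h : ∀ (r : R) (m : M), r • m = φ r • m) :
    Module.FinitePresentation A M ↔ Module.FinitePresentation R M := by
  let _ := φ.toAlgebra
  have : IsScalarTower R A M := ⟨fun r a m => by
    rw [h r (a • m), ← mul_smul]; rfl⟩
  have : Module.Finite R A := hφ
  have : Algebra.FinitePresentation R A := hφ'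
  have : Module.FinitePresentation R A := Module.FinitePresentation.of_finite_of_finitePresentation R A
  constructor
  · intro _
    exact Module.FinitePresentation.trans R M A
  · intro _
    have : Module.Finite A M := Module.Finite.of_restrictScalars_finite R A M
    obtain ⟨n, g, hg⟩ := Module.Finite.exists_fin' A M
    have hker : (LinearMap.ker (g.restrictScalars R)).FG :=
      Module.FinitePresentation.fg_ker (g.restrictScalars R) hg
    have hker' : (LinearMap.ker g).FG := by
      apply Submodule.FG.of_restrictScalars R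
      rwa [LinearMap.ker_restrictScalars] at hker
    exact Module.finitePresentation_of_surjective g hg hker'

theorem pushforward_sections_finitePresentation_iff {X Y : Scheme.{u}} (f : X ⟶ Y) (F : X.Modules)
    (V : Y.Opens) (h1 : (f.app V).hom.Finite) (h1' : (f.app V).hom.FinitePresentation) :
    Module.FinitePresentation Γ(X, f ⁻¹ᵁ V) Γ(F, f ⁻¹ᵁ V) ↔
    Module.FinitePresentation Γ(Y, V) Γ((Scheme.Modules.pushforward f).obj F, V) := by
  have := @finitePresentation_iff_of_ringHom Γ(Y, V) Γ(X, f ⁻¹ᵁ V)
    Γ((Scheme.Modules.pushforward f).obj F, V) _ _ _ _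
    (inferInstanceAs (Module Γ(X, f ⁻¹ᵁ V) Γ(F, f ⁻¹ᵁ V))) (f.app V).hom h1 h1'
    (fun r m => rfl)
  exact this

end Groth.Agent.LD.QC

namespace Groth.Agent.LD.QC

theorem isFinitePresentation_pushforward_iff {X Y : Scheme.{u}} (f : X ⟶ Y) [IsFinite f]
    [LocallyOfFinitePresentation f] (F : X.Modules) [F.IsQuasicoherent] :
    F.IsFinitePresentation ↔ ((Scheme.Modules.pushforward f).obj F).IsFinitePresentation := by
  have := qc_pushforward f F
  have key : ∀ V : Y.Opens, IsAffineOpen V →
      (Module.FinitePresentation Γ(X, f ⁻¹ᵁ V) Γ(F, f ⁻¹ᵁ V) ↔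
      Module.FinitePresentation Γ(Y, V) Γ((Scheme.Modules.pushforward f).obj F, V)) := by
    intro V hV
    apply pushforward_sections_finitePresentation_iff f F V (f.finite_app V hV)
    rw [Scheme.Hom.app_eq_appLE]
    exact f.finitePresentation_appLE hV (hV.preimage f) le_rfl
  constructor
  · intro h
    rw [isFinitePresentation_iff_sections]
    intro V hV
    exact (key V hV).mp (finitePresentation_sections_of_isFinitePresentation F h (hV.preimage f))
  · intro h
    refine isFinitePresentation_of_sections F fun x => ?_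
    obtain ⟨V, hV, hxV, -⟩ := exists_isAffineOpen_mem_and_subset (x := f x) (U := ⊤) trivial
    exact ⟨f ⁻¹ᵁ V, hV.preimage f, hxV,
      (key V hV).mpr (finitePresentation_sections_of_isFinitePresentation _ h hV)⟩

end Groth.Agent.LD.QC
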