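import Groth.Agent.Lib.Lead.QC.Iso
import Groth.Agent.Lib.Lead.QC.Coh
import Groth.Agent.Lib.Lead.QC.PushFin
universe u
open CategoryTheory Limits AlgebraicGeometry TopologicalSpace Opposite

namespace Groth.Agent.LD.QC
variable {X : Scheme.{u}}

/-- a morphism of `O_X`-modules which is bijective on all sections is an isomorphism. -/
theorem isIso_of_bijective_app {A B : X.Modules} (φ : A ⟶ B)
    (h : ∀ W : X.Opens, Function.Bijective (φ.app W)) : IsIso φ := by
  have h1 : IsIso ((Scheme.Modules.toPresheaf X).map φ) := by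
    have : ∀ W, IsIso (((Scheme.Modules.toPresheaf X).map φ).app W) := fun W => by
      rw [ConcreteCategory.isIso_iff_bijective]
      exact h W.unop
    exact NatIso.isIso_of_isIso_app _
  exact isIso_of_reflects_iso φ (Scheme.Modules.toPresheaf X)

/-- a morphism injective on all sections is a monomorphism. -/
theorem mono_of_injective_app {A B : X.Modules} (φ : A ⟶ B)
    (h : ∀ W : X.Opens, Function.Injective (φ.app W)) : Mono φ := by
  have h1 : Mono ((Scheme.Modules.toPresheaf X).map φ) := by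
    have : ∀ W, Mono (((Scheme.Modules.toPresheaf X).map φ).app W) := fun W => by
      rw [AddCommGrpCat.mono_iff_injective]
      exact h W.unop
    exact NatTrans.mono_of_mono_app _
  exact (Scheme.Modules.toPresheaf X).mono_of_mono_map h1

/-- sections of a kernel. -/
lemma exists_kernel_section {G Q : X.Modules} (φ : G ⟶ Q) (W : X.Opens) (s : Γ(G, W))
    (hs : φ.app W s = 0) : ∃ t : Γ(kernel φ, W), (kernel.ι φ).app W t = s := by
  have i1 : PreservesFiniteLimits ((evaluation (Opens ↥X)ᵒᵖ Ab.{u}).obj (op W)) :=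
    ⟨fun J _ _ => inferInstance⟩
  have i2 : PreservesFiniteLimits
      (Scheme.Modules.toPresheaf X ⋙ (evaluation (Opens ↥X)ᵒᵖ Ab.{u}).obj (op W)) :=
    comp_preservesFiniteLimits _ _
  let S : ShortComplex X.Modules := ShortComplex.mk (kernel.ι φ) φ (kernel.condition φ)
  have hS : S.Exact := ShortComplex.exact_of_f_is_kernel S (kernelIsKernel φ)
  have hex := hS.map_of_mono_of_preservesKernel
    (Scheme.Modules.toPresheaf X ⋙ (evaluation (Opens ↥X)ᵒᵖ Ab.{u}).obj (op W))
    (inferInstanceAs (Mono (kernel.ι φ))) inferInstance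
  rw [ShortComplex.ab_exact_iff] at hex
  exact hex s hs

lemma kernel_ι_app_comp {G Q : X.Modules} (φ : G ⟶ Q) (W : X.Opens) (t : Γ(kernel φ, W)) :
    φ.app W ((kernel.ι φ).app W t) = 0 := by
  have h1 : (kernel.ι φ ≫ φ).app W t = 0 := by
    rw [kernel.condition]; rfl
  exact h1

lemma mem_range_kernel_ι_iff {G Q : X.Modules} (φ : G ⟶ Q) (W : X.Opens) (s : Γ(G, W)) :
    (∃ t : Γ(kernel φ, W), (kernel.ι φ).app W t = s) ↔ φ.app W s = 0 := by
  refine ⟨?_, exists_kernel_section φ W s⟩
  rintro ⟨t, rfl⟩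
  exact kernel_ι_app_comp φ W t

/-- sections of a mono = sections killed by the cokernel projection. -/
lemma mem_range_mono_iff {A B : X.Modules} (i : A ⟶ B) [Mono i] (W : X.Opens) (s : Γ(B, W)) :
    (∃ a : Γ(A, W), i.app W a = s) ↔ (cokernel.π i).app W s = 0 := by
  constructor
  · rintro ⟨a, rfl⟩
    have h1 : (i ≫ cokernel.π i).app W a = 0 := by
      rw [cokernel.condition]; rfl
    exact h1
  · intro hs
    obtain ⟨t, ht⟩ := exists_kernel_section (cokernel.π i) W s hs
    let l : kernel (cokernel.π i) ⟶ A :=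
      (Abelian.monoIsKernelOfCokernel _ (colimit.isColimit _)).lift
        (KernelFork.ofι (kernel.ι (cokernel.π i)) (kernel.condition _))
    have hl : l ≫ i = kernel.ι (cokernel.π i) :=
      (Abelian.monoIsKernelOfCokernel _ (colimit.isColimit _)).fac _ WalkingParallelPair.zero
    refine ⟨l.app W t, ?_⟩
    rw [← ht, ← hl]
    rfl

/-- two subobjects with the same sections are isomorphic (over the ambient object). -/
theorem exists_iso_of_range_eq {A B H : X.Modules} (i₁ : A ⟶ H) (i₂ : B ⟶ H) [Mono i₁] [Mono i₂]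
    (h : ∀ W : X.Opens, Set.range (i₁.app W) = Set.range (i₂.app W)) :
    ∃ e : A ≅ B, e.hom ≫ i₂ = i₁ := by
  have h0 : i₁ ≫ cokernel.π i₂ = 0 := by
    apply Scheme.Modules.hom_ext
    intro W
    ext a
    have ha : i₁.app W a ∈ Set.range (i₂.app W) := by rw [← h W]; exact ⟨a, rfl⟩
    obtain ⟨b, hb⟩ := ha
    have := (mem_range_mono_iff i₂ W (i₁.app W a)).mp ⟨b, hb⟩
    exact this
  let l : A ⟶ B := (Abelian.monoIsKernelOfCokernel _ (colimit.isColimit _)).lift
        (KernelFork.ofι i₁ h0)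
  have hl : l ≫ i₂ = i₁ :=
    (Abelian.monoIsKernelOfCokernel _ (colimit.isColimit _)).fac _ WalkingParallelPair.zero
  have hlW : ∀ (W : X.Opens) (a : Γ(A, W)), i₂.app W (l.app W a) = i₁.app W a := fun W a => by
    rw [← hl]; rfl
  have hiso : IsIso l := by
    apply isIso_of_bijective_app
    intro W
    constructor
    · intro a a' haa
      apply mono_app i₁ W
      rw [← hlW, ← hlW, haa]
    · intro b
      have hb : i₂.app W b ∈ Set.range (i₁.app W) := by rw [h W]; exact ⟨b, rfl⟩
      obtain ⟨a, ha⟩ := hb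
      refine ⟨a, mono_app i₂ W ?_⟩
      rw [hlW, ha]
  exact ⟨asIso l, hl⟩

end Groth.Agent.LD.QC

namespace Groth.Agent.LD.QC
variable {X Y : Scheme.{u}}

section SubExt
variable (j : Y ⟶ X) [IsOpenImmersion j] {G : X.Modules} {C : Y.Modules}
  (π : G.restrict j ⟶ C)

/-- the adjunct `G ⟶ j_* C` of `π : G|_Y ⟶ C`. -/
noncomputable def subExtHom : G ⟶ (Scheme.Modules.pushforward j).obj C :=
  (Scheme.Modules.restrictAdjunction j).homEquiv G C π

lemma subExtHom_app (W : X.Opens) (s : Γ(G, W)) :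
    (subExtHom j π).app W s =
      π.app (j ⁻¹ᵁ W) (G.presheaf.map (homOfLE (j.image_preimage_le W)).op s) := by
  unfold subExtHom
  rw [Adjunction.homEquiv_unit]
  rfl

/-- the largest submodule of `G` whose restriction to `Y` is the kernel of `π`. -/
noncomputable def subExt : X.Modules := kernel (subExtHom j π)

noncomputable def subExtι : subExt j π ⟶ G := kernel.ι (subExtHom j π)

instance : Mono (subExtι j π) := inferInstanceAs (Mono (kernel.ι (subExtHom j π)))

theorem subExt_qc [QuasiCompact j] [QuasiSeparated j] (hG : G.IsQuasicoherent)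
    (hC : C.IsQuasicoherent) : (subExt j π).IsQuasicoherent :=
  qc_kernel _ hG (qc_pushforward j C)

lemma mem_subExt_iff (W : X.Opens) (s : Γ(G, W)) :
    (∃ t : Γ(subExt j π, W), (subExtι j π).app W t = s) ↔
      π.app (j ⁻¹ᵁ W) (G.presheaf.map (homOfLE (j.image_preimage_le W)).op s) = 0 := by
  rw [← subExtHom_app]
  exact mem_range_kernel_ι_iff _ W s

lemma subExtι_injective (W : X.Opens) : Function.Injective ((subExtι j π).app W) :=
  mono_app _ W

end SubExt

end Groth.Agent.LD.QC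

namespace Groth.Agent.LD.QC

section Aff
variable {R : CommRingCat.{u}} (N : (Spec R).Modules) [N.IsQuasicoherent]

/-- global sections as an `R`-module. -/
noncomputable abbrev ΓM : ModuleCat.{u} R := (modulesSpecToSheaf.obj N).presheaf.obj (.op ⊤)

variable (N₀ : Submodule R (ΓM N))

/-- the quotient of a quasi-coherent module on `Spec R` by a submodule of its global sections. -/
noncomputable def affQuot : (Spec R).Modules :=
  tilde (ModuleCat.of R ((ΓM N) ⧸ N₀))

instance : (affQuot N N₀).IsQuasicoherent := by unfold affQuot; infer_instance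

noncomputable def affQ : ΓM N ⟶ ModuleCat.of R ((ΓM N) ⧸ N₀) :=
  ModuleCat.ofHom (X := ↑(ΓM N)) (Y := ↑(ΓM N) ⧸ N₀) N₀.mkQ

noncomputable def affQuotπ : N ⟶ affQuot N N₀ :=
  haveI : IsIso N.fromTildeΓ := inferInstance
  inv N.fromTildeΓ ≫ tilde.map (affQ N N₀)

lemma Γ_map_affQuotπ :
    moduleSpecΓFunctor.map (affQuotπ N N₀) =
      affQ N N₀ ≫ (tilde.toTildeΓNatIso (R := R)).hom.app _ := by
  haveI : IsIso N.fromTildeΓ := inferInstance
  have h1 : moduleSpecΓFunctor.map (inv N.fromTildeΓ) =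
      (tilde.adjunction (R := R)).unit.app (moduleSpecΓFunctor.obj N) := by
    have h3 : moduleSpecΓFunctor.map N.fromTildeΓ ≫ moduleSpecΓFunctor.map (inv N.fromTildeΓ) =
        𝟙 _ := by
      rw [← CategoryTheory.Functor.map_comp, IsIso.hom_inv_id, CategoryTheory.Functor.map_id]
    have h4 : (tilde.adjunction (R := R)).unit.app (moduleSpecΓFunctor.obj N) ≫
        moduleSpecΓFunctor.map N.fromTildeΓ = 𝟙 _ :=
      (tilde.adjunction (R := R)).right_triangle_components N
    calc moduleSpecΓFunctor.map (inv N.fromTildeΓ)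
        = 𝟙 _ ≫ moduleSpecΓFunctor.map (inv N.fromTildeΓ) := (Category.id_comp _).symm
      _ = ((tilde.adjunction (R := R)).unit.app (moduleSpecΓFunctor.obj N) ≫
            moduleSpecΓFunctor.map N.fromTildeΓ) ≫ moduleSpecΓFunctor.map (inv N.fromTildeΓ) :=
          congrArg (· ≫ moduleSpecΓFunctor.map (inv N.fromTildeΓ)) h4.symm
      _ = (tilde.adjunction (R := R)).unit.app (moduleSpecΓFunctor.obj N) ≫
            (moduleSpecΓFunctor.map N.fromTildeΓ ≫ moduleSpecΓFunctor.map (inv N.fromTildeΓ)) :=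
          Category.assoc _ _ _
      _ = (tilde.adjunction (R := R)).unit.app (moduleSpecΓFunctor.obj N) ≫ 𝟙 _ :=
          congrArg ((tilde.adjunction (R := R)).unit.app (moduleSpecΓFunctor.obj N) ≫ ·) h3
      _ = _ := Category.comp_id _
  unfold affQuotπ
  rw [CategoryTheory.Functor.map_comp, h1]
  exact ((tilde.adjunction (R := R)).unit.naturality (affQ N N₀)).symm

lemma affQuotπ_app_top_eq_zero_iff (s : Γ(N, ⊤)) :
    (affQuotπ N N₀).app ⊤ s = 0 ↔ s ∈ N₀ := by
  have h := Γ_map_affQuotπ N N₀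
  have h2 : (affQuotπ N N₀).app ⊤ s =
      ((tilde.toTildeΓNatIso (R := R)).hom.app (ModuleCat.of R ((ΓM N) ⧸ N₀))).hom
        (N₀.mkQ s) := by
    change (moduleSpecΓFunctor.map (affQuotπ N N₀)).hom s = _
    rw [h]
    unfold affQ
    rfl
  rw [h2]
  have hinj : Function.Injective ((tilde.toTildeΓNatIso (R := R)).hom.app
      (ModuleCat.of R ((ΓM N) ⧸ N₀))).hom :=
    (ConcreteCategory.bijective_of_isIso _).injective
  constructor
  · intro h0
    have : N₀.mkQ s = 0 := hinj (h0.trans (map_zero _).symm)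
    exact (Submodule.Quotient.mk_eq_zero N₀).mp this
  · intro hs
    have : N₀.mkQ s = 0 := (Submodule.Quotient.mk_eq_zero N₀).mpr hs
    rw [this]
    exact map_zero _

end Aff

end Groth.Agent.LD.QC

namespace Groth.Agent.LD.QC
variable {X Y : Scheme.{u}}

/-- a section of a quasi-coherent module vanishes as soon as every point of its domain has an
affine open neighbourhood (not necessarily inside the domain) without nonzero sections. -/
lemma section_eq_zero_of_affine_zero (M : X.Modules) [M.IsQuasicoherent] {W : X.Opens}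
    (s : Γ(M, W))
    (h : ∀ x ∈ W, ∃ U : X.Opens, IsAffineOpen U ∧ x ∈ U ∧ ∀ t : Γ(M, U), t = 0) : s = 0 := by
  apply section_eq_zero_of_germ
  intro x hx
  obtain ⟨U, hU, hxU, hU0⟩ := h x hx
  letI := stalkΓModule M x U hxU
  haveI := isLocalizedModule_germ M hU x hxU
  obtain ⟨⟨m, c⟩, hmc⟩ := IsLocalizedModule.surj (hU.primeIdealOf ⟨x, hxU⟩).asIdeal.primeCompl
    (germLinear M x U hxU) (M.presheaf.germ W x hx s)
  rw [hU0 m, map_zero] at hmc
  have hu := IsLocalizedModule.map_units (germLinear M x U hxU) c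
  have := (Module.End.isUnit_iff _).mp hu
  apply this.1
  rw [map_zero]
  exact hmc

section Aff
variable {R : CommRingCat.{u}} (N : (Spec R).Modules) [N.IsQuasicoherent]
  (N₀ : Submodule R (ΓM N))

lemma isAffineOpen_basicOpen_spec (f : R) :
    @IsAffineOpen (Spec R) (PrimeSpectrum.basicOpen f) := by
  have := (isAffineOpen_top (Spec R)).basicOpen ((Scheme.ΓSpecIso R).inv f)
  rwa [basicOpen_eq_of_affine] at this

lemma tilde_subsingleton_basicOpen (Q : ModuleCat.{u} R) (f : R)
    (h : ∀ q : Q, ∃ k : ℕ, f ^ k • q = 0) :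
    Subsingleton ((modulesSpecToSheaf.obj (tilde Q)).presheaf.obj
      (op (PrimeSpectrum.basicOpen f))) := by
  rw [IsLocalizedModule.subsingleton_iff (Submonoid.powers f)
    (tilde.toOpen Q (PrimeSpectrum.basicOpen f)).hom]
  intro q
  obtain ⟨k, hk⟩ := h q
  exact ⟨f ^ k, ⟨k, rfl⟩, hk⟩

lemma affQuot_section_eq_zero {W : (Spec R).Opens}
    (hW : ∀ x ∈ W, ∃ f : R, x ∈ (PrimeSpectrum.basicOpen f : (Spec R).Opens) ∧
      ∀ s : ΓM N, ∃ k : ℕ, f ^ k • s ∈ N₀) (c : Γ(affQuot N N₀, W)) : c = 0 := by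
  apply section_eq_zero_of_affine_zero
  intro x hx
  obtain ⟨f, hxf, hf⟩ := hW x hx
  have hsub := tilde_subsingleton_basicOpen (ModuleCat.of R ((ΓM N) ⧸ N₀)) f (fun q => by
    obtain ⟨s, rfl⟩ := N₀.mkQ_surjective q
    obtain ⟨k, hk⟩ := hf s
    refine ⟨k, ?_⟩
    rw [← map_smul]
    exact (Submodule.Quotient.mk_eq_zero N₀).mpr hk)
  refine ⟨PrimeSpectrum.basicOpen f, isAffineOpen_basicOpen_spec f, hxf, fun t => ?_⟩
  exact hsub.elim t 0

end Aff

section SubExt2
variable (j : Y ⟶ X) [IsOpenImmersion j] {G : X.Modules} {C : Y.Modules}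
  (π : G.restrict j ⟶ C)

lemma mem_subExt_iff' (W : X.Opens) (W' : Y.Opens) (h1 : j ''ᵁ W' ≤ W) (h2 : j ⁻¹ᵁ W ≤ W')
    (s : Γ(G, W)) :
    (∃ t : Γ(subExt j π, W), (subExtι j π).app W t = s) ↔
      π.app W' (G.presheaf.map (homOfLE h1).op s) = 0 := by
  rw [mem_subExt_iff]
  have h3 : W' ≤ j ⁻¹ᵁ W := by
    intro y hy
    exact h1 ⟨y, hy, rfl⟩
  have hnat := app_res π h2 (G.presheaf.map (homOfLE h1).op s)
  have hres : (G.restrict j).presheaf.map (homOfLE h2).op (G.presheaf.map (homOfLE h1).op s) =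
      G.presheaf.map (homOfLE (j.image_preimage_le W)).op s := by
    change G.presheaf.map _ (G.presheaf.map (homOfLE h1).op s) = _
    rw [← G.presheaf.map_comp_apply]
    rfl
  rw [hres] at hnat
  rw [hnat]
  constructor
  · intro h0
    apply res_injective_of_le_of_le C h2 h3
    rw [h0]
    exact (map_zero (C.presheaf.map _).hom).symm
  · intro h0
    rw [h0]
    exact map_zero (C.presheaf.map _).hom

end SubExt2

end Groth.Agent.LD.QC

namespace Groth.Agent.LD.QC

/-- if the localization `M_f` is a finite `R_f`-module, then finitely many elements of `M` generate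
`M` up to `f`-power torsion. -/
lemma exists_finset_pow_smul_mem {R M R' M' : Type*} [CommRing R] [AddCommGroup M] [Module R M]
    [CommRing R'] [Algebra R R'] [AddCommGroup M'] [Module R M'] [Module R' M']
    [IsScalarTower R R' M'] (f : R) [IsLocalization.Away f R'] (g : M →ₗ[R] M')
    [IsLocalizedModule.Away f g] [Module.Finite R' M'] :
    ∃ T : Finset M, ∀ m : M, ∃ k : ℕ, f ^ k • m ∈ Submodule.span R (T : Set M) := by
  classical
  obtain ⟨S', hS'⟩ := (Module.Finite.fg_top : (⊤ : Submodule R' M').FG)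
  have hch : ∀ s' : M', ∃ x : M × Submonoid.powers f, x.2 • s' = g x.1 :=
    fun s' => IsLocalizedModule.surj (Submonoid.powers f) g s'
  choose c hc using hch
  refine ⟨S'.image (fun s' => (c s').1), fun m => ?_⟩
  have hspan : Submodule.span R' (g '' ((S'.image (fun s' => (c s').1) : Finset M) : Set M)) = ⊤ := by
    rw [eq_top_iff, ← hS', Submodule.span_le]
    intro s' hs'
    have hu : IsUnit (algebraMap R R' ((c s').2 : R)) := IsLocalization.map_units R' (c s').2
    obtain ⟨v, hv⟩ := hu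
    have h1 : (v : R') • s' = g (c s').1 := by
      rw [hv, algebraMap_smul]
      exact hc s'
    have h2 : s' = (↑v⁻¹ : R') • g (c s').1 := by
      rw [← h1, smul_smul]; simp
    rw [SetLike.mem_coe, h2]
    apply Submodule.smul_mem
    apply Submodule.subset_span
    refine ⟨(c s').1, ?_, rfl⟩
    rw [Finset.coe_image]
    exact ⟨s', hs', rfl⟩
  have hm : g m ∈ Submodule.span R' (g '' ((S'.image (fun s' => (c s').1) : Finset M) : Set M)) := by
    rw [hspan]; trivial
  obtain ⟨t, ht⟩ := multiple_mem_span_of_mem_localization_span (Submonoid.powers f) R' _ _ hm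
  rw [← Submodule.map_span] at ht
  obtain ⟨n, hn, hgn⟩ := ht
  have h3 : g (t • m - n) = 0 := by
    rw [map_sub, hgn]
    have : g (t • m) = t • g m := by
      rw [Submonoid.smul_def, map_smul]
      rfl
    rw [this, sub_self]
  obtain ⟨d, hd⟩ := (IsLocalizedModule.eq_zero_iff (Submonoid.powers f) g).mp h3
  obtain ⟨a, ha⟩ := t.2
  obtain ⟨b, hb⟩ := d.2
  change f ^ a = (t : R) at ha
  change f ^ b = (d : R) at hb
  refine ⟨b + a, ?_⟩
  have h4 : f ^ (b + a) • m = (d : R) • n := by
    have h5 : (d : R) • ((t : R) • m - n) = 0 := hd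
    rw [smul_sub, sub_eq_zero] at h5
    rw [pow_add, ha, hb, mul_smul]
    exact h5
  rw [h4]
  exact Submodule.smul_mem _ _ hn

end Groth.Agent.LD.QC

namespace Groth.Agent.LD.QC
variable {X : Scheme.{u}}

/-- finitely many basic opens of an affine `V` inside `O` covering `O ⊓ V`. -/
lemma exists_finset_basicOpen_cover {V : X.Opens} (hV : IsAffineOpen V) (O : X.Opens)
    (hOV : IsCompact ((O ⊓ V : X.Opens) : Set X)) :
    ∃ t : Finset Γ(X, V), (∀ f ∈ t, X.basicOpen f ≤ O) ∧
      ∀ x ∈ O ⊓ V, ∃ f ∈ t, x ∈ X.basicOpen f := by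
  classical
  let ι := {f : Γ(X, V) // X.basicOpen f ≤ O}
  have hcov : ((O ⊓ V : X.Opens) : Set X) ⊆ ⋃ f : ι, ((X.basicOpen f.1 : X.Opens) : Set X) := by
    intro x hx
    obtain ⟨f, hfO, hxf⟩ := hV.exists_basicOpen_le ⟨x, hx.1⟩ hx.2
    exact Set.mem_iUnion.mpr ⟨⟨f, hfO⟩, hxf⟩
  obtain ⟨t, ht⟩ := hOV.elim_finite_subcover (fun f : ι => ((X.basicOpen f.1 : X.Opens) : Set X))
    (fun f => (X.basicOpen f.1).2) hcov
  refine ⟨t.image Subtype.val, ?_, ?_⟩
  · intro f hf
    obtain ⟨g, -, rfl⟩ := Finset.mem_image.mp hf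
    exact g.2
  · intro x hx
    obtain ⟨g, hg, hxg⟩ := Set.mem_iUnion₂.mp (ht hx)
    exact ⟨g.1, Finset.mem_image.mpr ⟨g, hg, rfl⟩, hxg⟩

/-- elements of `Γ(G, V)` generating `Γ(G, D(f))` up to `f`-torsion. -/
lemma exists_finset_pow_smul_mem_sections (G : X.Modules) [G.IsQuasicoherent] {V : X.Opens}
    (hV : IsAffineOpen V) (f : Γ(X, V))
    (hfin : Module.Finite Γ(X, X.basicOpen f) Γ(G, X.basicOpen f)) :
    ∃ T : Finset Γ(G, V), ∀ m : Γ(G, V), ∃ k : ℕ,
      f ^ k • m ∈ Submodule.span Γ(X, V) (T : Set Γ(G, V)) := by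
  letI : Algebra Γ(X, V) Γ(X, X.basicOpen f) := resAlgebra (X.basicOpen_le f)
  letI : Module Γ(X, V) Γ(G, X.basicOpen f) := resModule G (X.basicOpen_le f)
  haveI : IsScalarTower Γ(X, V) Γ(X, X.basicOpen f) Γ(G, X.basicOpen f) :=
    resModule_isScalarTower G (X.basicOpen_le f)
  haveI : IsLocalization.Away f Γ(X, X.basicOpen f) := hV.isLocalization_basicOpen f
  haveI : IsLocalizedModule.Away f (resLinear G (X.basicOpen_le f)) :=
    isLocalizedModule_basicOpen G hV f
  exact exists_finset_pow_smul_mem (R' := Γ(X, X.basicOpen f)) f (resLinear G (X.basicOpen_le f))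

end Groth.Agent.LD.QC

namespace Groth.Agent.LD.QC
variable {X : Scheme.{u}}

/-- a finitely generated submodule of `Γ(G, V)` generating `G` on `O ⊓ V` up to torsion. -/
lemma exists_fg_submodule_sections (G : X.Modules) [G.IsQuasicoherent] {V : X.Opens}
    (hV : IsAffineOpen V) (O : X.Opens) (hOV : IsCompact ((O ⊓ V : X.Opens) : Set X))
    (hfin : ∀ W : X.Opens, IsAffineOpen W → W ≤ O → Module.Finite Γ(X, W) Γ(G, W)) :
    ∃ N₁ : Submodule Γ(X, V) Γ(G, V), N₁.FG ∧ ∀ x ∈ O ⊓ V, ∃ f : Γ(X, V), x ∈ X.basicOpen f ∧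
      ∀ m : Γ(G, V), ∃ k : ℕ, f ^ k • m ∈ N₁ := by
  classical
  obtain ⟨t, htO, htc⟩ := exists_finset_basicOpen_cover hV O hOV
  have hT : ∀ f : Γ(X, V), ∃ T : Finset Γ(G, V), f ∈ t → ∀ m : Γ(G, V), ∃ k : ℕ,
      f ^ k • m ∈ Submodule.span Γ(X, V) (T : Set Γ(G, V)) := by
    intro f
    by_cases hf : f ∈ t
    · obtain ⟨T, hT⟩ := exists_finset_pow_smul_mem_sections G hV f
        (hfin _ (hV.basicOpen f) (htO f hf))
      exact ⟨T, fun _ => hT⟩
    · exact ⟨∅, fun h => absurd h hf⟩
  choose T hT using hT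
  refine ⟨Submodule.span Γ(X, V) ((t.biUnion T : Finset Γ(G, V)) : Set Γ(G, V)),
    ⟨t.biUnion T, rfl⟩, fun x hx => ?_⟩
  obtain ⟨f, hft, hxf⟩ := htc x hx
  refine ⟨f, hxf, fun m => ?_⟩
  obtain ⟨k, hk⟩ := hT f hft m
  refine ⟨k, Submodule.span_mono ?_ hk⟩
  intro y hy
  exact Finset.mem_biUnion.mpr ⟨f, hft, hy⟩

end Groth.Agent.LD.QC

namespace Groth.Agent.LD.QC
variable {X : Scheme.{u}}

section SubGen
variable (G : X.Modules) [G.IsQuasicoherent] {V : X.Opens} (hV : IsAffineOpen V)
  (N₁ : Submodule Γ(X, V) Γ(G, V))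

/-- the submodule of global sections of `G|_{Spec Γ(X, V)}` corresponding to `N₁`. -/
noncomputable def subGenN₀ : Submodule Γ(X, V) (ΓM (G.restrict hV.fromSpec)) :=
  N₁.comap (affineΓEquiv G hV).toLinearMap

/-- the largest submodule of `G` whose sections over the affine open `V` are `N₁`. -/
noncomputable def subGen : X.Modules :=
  subExt hV.fromSpec (affQuotπ (G.restrict hV.fromSpec) (subGenN₀ G hV N₁))

noncomputable def subGenι : subGen G hV N₁ ⟶ G :=
  subExtι hV.fromSpec (affQuotπ (G.restrict hV.fromSpec) (subGenN₀ G hV N₁))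

instance : Mono (subGenι G hV N₁) :=
  inferInstanceAs (Mono (subExtι hV.fromSpec
    (affQuotπ (G.restrict hV.fromSpec) (subGenN₀ G hV N₁))))

theorem subGen_qc [QuasiSeparatedSpace X] : (subGen G hV N₁).IsQuasicoherent :=
  subExt_qc hV.fromSpec _ inferInstance inferInstance

theorem range_subGenι : LinearMap.range (appLinear (subGenι G hV N₁) V) = N₁ := by
  let j := hV.fromSpec
  let L := affineΓEquiv G hV
  ext s
  rw [LinearMap.mem_range]
  have h1 : j ''ᵁ (⊤ : (Spec Γ(X, V)).Opens) ≤ V := (fromSpec_image_top hV).le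
  have h2 : j ⁻¹ᵁ V ≤ ⊤ := le_top
  have key := mem_subExt_iff' j (affQuotπ (G.restrict hV.fromSpec) (subGenN₀ G hV N₁)) V ⊤ h1 h2 s
  have key2 := affQuotπ_app_top_eq_zero_iff (G.restrict j) (subGenN₀ G hV N₁)
    (G.presheaf.map (homOfLE h1).op s)
  have h3 : L (G.presheaf.map (homOfLE h1).op s) = s := L.apply_symm_apply s
  constructor
  · rintro ⟨t, ht⟩
    have := key2.mp (key.mp ⟨t, ht⟩)
    change L (G.presheaf.map (homOfLE h1).op s) ∈ N₁ at this
    rwa [h3] at this
  · intro hs
    apply key.mpr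
    apply key2.mpr
    change L (G.presheaf.map (homOfLE h1).op s) ∈ N₁
    rwa [h3]

theorem mem_range_subGenι_iff (s : Γ(G, V)) :
    (∃ t : Γ(subGen G hV N₁, V), (subGenι G hV N₁).app V t = s) ↔ s ∈ N₁ := by
  have h : s ∈ LinearMap.range (appLinear (subGenι G hV N₁) V) ↔ s ∈ N₁ := by
    rw [range_subGenι]
  rw [← h, LinearMap.mem_range]
  rfl

theorem subGen_finite (hN₁ : N₁.FG) : Module.Finite Γ(X, V) Γ(subGen G hV N₁, V) := by
  have hinj : Function.Injective (appLinear (subGenι G hV N₁) V) := mono_app _ V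
  have e := LinearEquiv.ofInjective (appLinear (subGenι G hV N₁) V) hinj
  rw [range_subGenι] at e
  haveI : Module.Finite Γ(X, V) N₁ := Module.Finite.iff_fg.mpr hN₁
  exact Module.Finite.equiv e.symm

/-- `subGen` agrees with `G` over opens where `N₁` generates `G` up to torsion. -/
theorem subGenι_bijective {W : X.Opens}
    (hcov : ∀ x ∈ W ⊓ V, ∃ f : Γ(X, V), x ∈ X.basicOpen f ∧
      ∀ m : Γ(G, V), ∃ k : ℕ, f ^ k • m ∈ N₁) :
    Function.Bijective ((subGenι G hV N₁).app W) := by
  let j := hV.fromSpec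
  let L := affineΓEquiv G hV
  refine ⟨mono_app _ W, fun s => ?_⟩
  refine (mem_subExt_iff j (affQuotπ (G.restrict hV.fromSpec) (subGenN₀ G hV N₁)) W s).mpr ?_
  apply affQuot_section_eq_zero
  intro x hx
  have hxV : j x ∈ V := by
    have : hV.fromSpec x ∈ hV.fromSpec.opensRange := ⟨x, rfl⟩
    rwa [hV.opensRange_fromSpec] at this
  have hxO : j x ∈ W ⊓ V := ⟨hx, hxV⟩
  obtain ⟨f, hxf, hf⟩ := hcov _ hxO
  refine ⟨f, ?_, fun s => ?_⟩
  · rw [← hV.fromSpec_preimage_basicOpen]
    exact hxf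
  · obtain ⟨k, hk⟩ := hf (L s)
    refine ⟨k, ?_⟩
    have h : L (f ^ k • s) = f ^ k • L s := L.map_smul (f ^ k) s
    exact Eq.mpr (congrArg (fun z => z ∈ N₁) h) hk

end SubGen

/-- **Extension step.** Shrink a quasi-coherent module `G` to a quasi-coherent submodule which
agrees with `G` over an open `O` where `G` is of finite type and has finitely generated sections
over a given affine open `V`. -/
theorem exists_sub_finite_affine [QuasiSeparatedSpace X] (G : X.Modules) [G.IsQuasicoherent]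
    {V : X.Opens} (hV : IsAffineOpen V) (O : X.Opens)
    (hOV : IsCompact ((O ⊓ V : X.Opens) : Set X))
    (hfin : ∀ W : X.Opens, IsAffineOpen W → W ≤ O → Module.Finite Γ(X, W) Γ(G, W)) :
    ∃ (F : X.Modules) (u : F ⟶ G), Mono u ∧ F.IsQuasicoherent ∧
      (∀ W : X.Opens, W ≤ O → Function.Bijective (u.app W)) ∧
      Module.Finite Γ(X, V) Γ(F, V) := by
  obtain ⟨N₁, hN₁, hcov⟩ := exists_fg_submodule_sections G hV O hOV hfin
  refine ⟨subGen G hV N₁, subGenι G hV N₁, inferInstance, subGen_qc G hV N₁, fun W hW => ?_,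
    subGen_finite G hV N₁ hN₁⟩
  exact subGenι_bijective G hV N₁ fun x hx => hcov x ⟨hW hx.1, hx.2⟩

end Groth.Agent.LD.QC

namespace Groth.Agent.LD.QC
variable {X : Scheme.{u}}

/-- finiteness of sections of a quasi-coherent module over an affine open is local. -/
theorem finite_sections_of_locally (F : X.Modules) [F.IsQuasicoherent] {D : X.Opens}
    (hD : IsAffineOpen D)
    (h : ∀ x ∈ D, ∃ W : X.Opens, IsAffineOpen W ∧ x ∈ W ∧ Module.Finite Γ(X, W) Γ(F, W)) :
    Module.Finite Γ(X, D) Γ(F, D) := by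
  let t : Set Γ(X, D) := {f | Module.Finite Γ(X, X.basicOpen f) Γ(F, X.basicOpen f)}
  have ht : Ideal.span t = ⊤ := by
    rw [← hD.self_le_iSup_basicOpen_iff]
    intro x hx
    obtain ⟨W, hW, hxW, hfin⟩ := h x hx
    obtain ⟨f, g, hfg, hxf⟩ := exists_basicOpen_le_affine_inter hD hW x ⟨hx, hxW⟩
    have hg : Module.Finite Γ(X, X.basicOpen g) Γ(F, X.basicOpen g) := by
      letI : Algebra Γ(X, W) Γ(X, X.basicOpen g) := resAlgebra (X.basicOpen_le g)
      letI : Module Γ(X, W) Γ(F, X.basicOpen g) := resModule F (X.basicOpen_le g)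
      haveI : IsScalarTower Γ(X, W) Γ(X, X.basicOpen g) Γ(F, X.basicOpen g) :=
        resModule_isScalarTower F (X.basicOpen_le g)
      haveI : IsLocalization.Away g Γ(X, X.basicOpen g) := hW.isLocalization_basicOpen g
      haveI : IsLocalizedModule.Away g (resLinear F (X.basicOpen_le g)) :=
        isLocalizedModule_basicOpen F hW g
      exact Module.Finite.of_isLocalizedModule (Submonoid.powers g)
        (resLinear F (X.basicOpen_le g))
    have hft : f ∈ t := by
      have : ∀ D' : X.Opens, D' = X.basicOpen g → Module.Finite Γ(X, D') Γ(F, D') := by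
        rintro _ rfl; exact hg
      exact this _ hfg
    exact Opens.mem_iSup.mpr ⟨⟨f, hft⟩, hxf⟩
  exact finite_of_span_basicOpen F hD t ht fun g => g.2

end Groth.Agent.LD.QC

namespace Groth.Agent.LD.QC
variable {X : Scheme.{u}}

/-- **Main induction.** -/
theorem exists_sub_finite_finset [QuasiSeparatedSpace X] (G : X.Modules) [G.IsQuasicoherent]
    (O : X.Opens) (hO : IsCompact (O : Set X))
    (hfin : ∀ W : X.Opens, IsAffineOpen W → W ≤ O → Module.Finite Γ(X, W) Γ(G, W))
    (S : Finset X.affineOpens) :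
    ∃ (F : X.Modules) (u : F ⟶ G), Mono u ∧ F.IsQuasicoherent ∧
      (∀ W : X.Opens, W ≤ O → Function.Bijective (u.app W)) ∧
      ∀ W : X.Opens, IsAffineOpen W → (∀ x ∈ W, x ∈ O ∨ ∃ V ∈ S, x ∈ V.1) →
        Module.Finite Γ(X, W) Γ(F, W) := by
  classical
  induction S using Finset.induction_on with
  | empty =>
    refine ⟨G, 𝟙 G, inferInstance, inferInstance, fun W _ => ?_, fun W hW hx => ?_⟩
    · exact Function.bijective_id
    · refine hfin W hW fun x hxW => ?_
      rcases hx x hxW with h | ⟨V, hV, -⟩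
      · exact h
      · exact absurd hV (Finset.notMem_empty V)
  | insert V S hVS ih =>
    obtain ⟨F, u, hu, hF, hbij, hfinF⟩ := ih
    -- the open set where `F` is already finite
    let OS : X.Opens := O ⊔ ⨆ V' ∈ S, (V' : X.Opens)
    have hOS_mem : ∀ x, x ∈ OS ↔ x ∈ O ∨ ∃ V' ∈ S, x ∈ V'.1 := by
      intro x
      simp only [OS, Opens.mem_sup, Opens.mem_iSup, exists_prop]
    have hOS : IsCompact (OS : Set X) := by
      have : (OS : Set X) = (O : Set X) ∪ ⋃ V' ∈ S, ((V' : X.Opens) : Set X) := by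
        ext x
        rw [SetLike.mem_coe, hOS_mem]
        simp
      rw [this]
      exact hO.union (S.isCompact_biUnion fun V' _ => V'.2.isCompact)
    have hOSV : IsCompact ((OS ⊓ V.1 : X.Opens) : Set X) :=
      QuasiSeparatedSpace.inter_isCompact _ _ OS.2 hOS V.1.2 V.2.isCompact
    have hfinOS : ∀ W : X.Opens, IsAffineOpen W → W ≤ OS → Module.Finite Γ(X, W) Γ(F, W) :=
      fun W hW hWO => hfinF W hW fun x hx => (hOS_mem x).mp (hWO hx)
    obtain ⟨F', u', hu', hF', hbij', hfinV⟩ := exists_sub_finite_affine F V.2 OS hOSV hfinOS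
    refine ⟨F', u' ≫ u, mono_comp _ _, hF', fun W hW => ?_, fun W hW hx => ?_⟩
    · have hWOS : W ≤ OS := fun x hx => (hOS_mem x).mpr (Or.inl (hW hx))
      exact (hbij W hW).comp (hbij' W hWOS)
    · apply finite_sections_of_locally F' hW
      intro x hxW
      have hcase : x ∈ OS ∨ x ∈ V.1 := by
        rcases hx x hxW with h | ⟨V', hV', hxV'⟩
        · exact Or.inl ((hOS_mem x).mpr (Or.inl h))
        · rcases Finset.mem_insert.mp hV' with rfl | h
          · exact Or.inr hxV'
          · exact Or.inl ((hOS_mem x).mpr (Or.inr ⟨V', h, hxV'⟩))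
      rcases hcase with h | h
      · obtain ⟨W', hW', hxW', hW'O⟩ := exists_isAffineOpen_mem_and_subset (x := x) (U := OS) h
        refine ⟨W', hW', hxW', ?_⟩
        haveI := hfinOS W' hW' hW'O
        exact Module.Finite.equiv (LinearEquiv.ofBijective (appLinear u' W') (hbij' W' hW'O)).symm
      · exact ⟨V.1, V.2, h, hfinV⟩

end Groth.Agent.LD.QC

namespace Groth.Agent.LD.QC
variable {X : Scheme.{u}}

/-- **Extension of finite type submodules** (EGA I 9.4.7, Stacks 01PF): on a qcqs scheme, a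
quasi-coherent module which is of finite type over a quasi-compact open `O` contains a
quasi-coherent submodule of finite type which agrees with it over `O`. -/
theorem exists_sub_finiteType [CompactSpace X] [QuasiSeparatedSpace X] (G : X.Modules)
    [G.IsQuasicoherent] (O : X.Opens) (hO : IsCompact (O : Set X))
    (hfin : ∀ W : X.Opens, IsAffineOpen W → W ≤ O → Module.Finite Γ(X, W) Γ(G, W)) :
    ∃ (F : X.Modules) (u : F ⟶ G), Mono u ∧ F.IsQuasicoherent ∧ F.IsFiniteType ∧
      (∀ W : X.Opens, W ≤ O → Function.Bijective (u.app W)) := by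
  obtain ⟨s, hs, e⟩ := isCompact_and_isOpen_iff_finite_and_eq_biUnion_affineOpens.mp
    ⟨(isCompact_univ : IsCompact (Set.univ : Set X)), isOpen_univ⟩
  obtain ⟨F, u, hu, hF, hbij, hfinF⟩ := exists_sub_finite_finset G O hO hfin hs.toFinset
  refine ⟨F, u, hu, hF, ?_, hbij⟩
  rw [isFiniteType_iff_finite_sections]
  intro W hW
  refine hfinF W hW fun x _ => Or.inr ?_
  have hx : x ∈ ⋃ i ∈ s, ((i : X.Opens) : Set X) := e ▸ Set.mem_univ x
  obtain ⟨V, hV, hxV⟩ := Set.mem_iUnion₂.mp hx
  exact ⟨V, hs.mem_toFinset.mpr hV, hxV⟩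


/-- sections of a restriction along an open immersion: finiteness transfers. -/
theorem restrict_sections_finite {Y : Scheme.{u}} (j : Y ⟶ X) [IsOpenImmersion j] (F : X.Modules)
    (W' : Y.Opens)
    (h : Module.Finite Γ(Y, W') Γ(F.restrict j, W')) :
    Module.Finite Γ(X, j ''ᵁ W') Γ(F, j ''ᵁ W') := by
  have hfin : (j.appIso W').hom.hom.Finite :=
    RingHom.Finite.of_surjective _ (ConcreteCategory.bijective_of_isIso (j.appIso W').hom).surjective
  let inst : Module Γ(Y, W') Γ(F, j ''ᵁ W') :=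
    (inferInstance : Module Γ(Y, W') Γ(F.restrict j, W'))
  have h' : @Module.Finite Γ(Y, W') Γ(F, j ''ᵁ W') _ _ inst := h
  have hsm : ∀ (r : Γ(X, j ''ᵁ W')) (m : Γ(F, j ''ᵁ W')),
      r • m = @HSMul.hSMul _ _ _ (@instHSMul _ _ inst.toSMul) ((j.appIso W').hom.hom r) m := by
    intro r m
    change r • m = (show Γ(F, j ''ᵁ W') from ((j.appIso W').inv ((j.appIso W').hom r)) • m)
    have : (j.appIso W').inv ((j.appIso W').hom r) = r := by
      rw [← CommRingCat.comp_apply, Iso.hom_inv_id]; rfl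
    rw [this]
  exact @finite_of_ringHom_finite Γ(X, j ''ᵁ W') Γ(Y, W') Γ(F, j ''ᵁ W') _ _ _ _
    inst (j.appIso W').hom.hom hfin hsm h'


/-- finiteness of sections over affine opens inside `U` from finite type of the restriction. -/
theorem finite_sections_of_restrict_isFiniteType (F : X.Modules) [F.IsQuasicoherent] (U : X.Opens)
    (hft : (F.restrict U.ι).IsFiniteType) {W : X.Opens} (hW : IsAffineOpen W) (hWU : W ≤ U) :
    Module.Finite Γ(X, W) Γ(F, W) := by
  apply finite_sections_of_locally F hW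
  intro x hxW
  have hxU : x ∈ U := hWU hxW
  obtain ⟨W', hW', hxW', -⟩ := exists_isAffineOpen_mem_and_subset (X := (U : Scheme.{u}))
    (x := ⟨x, hxU⟩) (U := ⊤) trivial
  refine ⟨U.ι ''ᵁ W', hW'.image_of_isOpenImmersion U.ι, ⟨⟨x, hxU⟩, hxW', rfl⟩, ?_⟩
  exact restrict_sections_finite U.ι F W' (finite_sections_of_isFiniteType (F.restrict U.ι) hft hW')

end Groth.Agent.LD.QC

namespace Groth.Agent.LD.QC
variable {X Y : Scheme.{u}}

/-- converse of `restrict_sections_finite`. -/
theorem restrict_sections_finite' (j : Y ⟶ X) [IsOpenImmersion j] (F : X.Modules) (W' : Y.Opens)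
    (h : Module.Finite Γ(X, j ''ᵁ W') Γ(F, j ''ᵁ W')) :
    Module.Finite Γ(Y, W') Γ(F.restrict j, W') := by
  have hfin : (j.appIso W').inv.hom.Finite :=
    RingHom.Finite.of_surjective _ (ConcreteCategory.bijective_of_isIso (j.appIso W').inv).surjective
  let inst : Module Γ(X, j ''ᵁ W') Γ(F.restrict j, W') :=
    (inferInstance : Module Γ(X, j ''ᵁ W') Γ(F, j ''ᵁ W'))
  have h' : @Module.Finite Γ(X, j ''ᵁ W') Γ(F.restrict j, W') _ _ inst := h
  have hsm : ∀ (r : Γ(Y, W')) (m : Γ(F.restrict j, W')),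
      r • m = @HSMul.hSMul _ _ _ (@instHSMul _ _ inst.toSMul) ((j.appIso W').inv.hom r) m := by
    intro r m
    rfl
  exact @finite_of_ringHom_finite Γ(Y, W') Γ(X, j ''ᵁ W') Γ(F.restrict j, W') _ _ _ _
    inst (j.appIso W').inv.hom hfin hsm h'

/-- restriction along an open immersion preserves finite type (for quasi-coherent modules). -/
theorem isFiniteType_restrict (j : Y ⟶ X) [IsOpenImmersion j] (F : X.Modules) [F.IsQuasicoherent]
    (hF : F.IsFiniteType) : (F.restrict j).IsFiniteType := by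
  apply isFiniteType_of_finite_sections
  intro y
  obtain ⟨W', hW', hyW', -⟩ := exists_isAffineOpen_mem_and_subset (x := y) (U := ⊤) trivial
  refine ⟨W', hW', hyW', restrict_sections_finite' j F W' ?_⟩
  exact finite_sections_of_isFiniteType F hF (hW'.image_of_isOpenImmersion j)

/-- finite type is invariant under isomorphism (quasi-coherent case). -/
theorem isFiniteType_of_iso {M N : X.Modules} (e : M ≅ N) [hM : M.IsQuasicoherent]
    (h : M.IsFiniteType) : N.IsFiniteType :=
  isFiniteType_of_epi e.hom hM (qc_of_iso e hM) h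

end Groth.Agent.LD.QC
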