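import Groth.Agent.Lib.Lead.QC.Stalk
universe u
open CategoryTheory Limits AlgebraicGeometry TopologicalSpace Opposite

namespace Groth.Agent.LD.QC

/-- if the generating sections all vanish on `W`, then every section over `V` vanishes on `V ⊓ W`. -/
theorem res_eq_zero_of_generatingSections {Y : Scheme.{u}} (N : Y.Modules)
    (σ : N.GeneratingSections) (W : Y.Opens) (h0 : ∀ i, (σ.s i).1 (op W) = 0)
    (V : Y.Opens) (m : Γ(N, V)) :
    N.presheaf.map (homOfLE (inf_le_left : V ⊓ W ≤ V)).op m = 0 := by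
  let r : N ⟶ (Scheme.Modules.pushforward W.ι).obj (N.restrict W.ι) :=
    (Scheme.Modules.restrictAdjunction W.ι).unit.app N
  have hr : σ.π ≫ r = 0 := by
    apply (SheafOfModules.freeHomEquiv _).injective
    funext i
    rw [SheafOfModules.freeHomEquiv_comp_apply]
    have e1 : N.freeHomEquiv σ.π i = σ.s i := by
      change N.freeHomEquiv (N.freeHomEquiv.symm σ.s) i = σ.s i
      rw [Equiv.apply_symm_apply]
    rw [e1]
    apply PresheafOfModules.sections_ext
    intro Z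
    have hZ : W.ι ''ᵁ (W.ι ⁻¹ᵁ Z.unop) ≤ W := by
      intro y hy
      obtain ⟨z, _, rfl⟩ := hy
      exact z.2
    have e2 : (SheafOfModules.sectionsMap r (σ.s i)).1 Z =
        N.presheaf.map (homOfLE hZ).op ((σ.s i).1 (op W)) := by
      have p1 := PresheafOfModules.sections_property (σ.s i)
        (homOfLE (W.ι.image_preimage_le Z.unop)).op
      have p2 := PresheafOfModules.sections_property (σ.s i) (homOfLE hZ).op
      exact p1.trans p2.symm
    rw [e2, h0]
    refine Eq.trans (map_zero (N.presheaf.map (homOfLE hZ).op).hom) ?_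
    rw [SheafOfModules.freeHomEquiv_apply]
    rfl
  have hepi : @Epi Y.Modules _ _ _ σ.π := σ.epi
  have hr0 : r = 0 := hepi.left_cancellation _ _ (hr.trans comp_zero.symm)
  have e3 : r.app V m = 0 := by rw [hr0]; rfl
  have hle : V ⊓ W ≤ W.ι ''ᵁ (W.ι ⁻¹ᵁ V) := by
    intro y hy
    exact ⟨⟨y, hy.2⟩, hy.1, rfl⟩
  have e4 : r.app V m = N.presheaf.map (homOfLE (W.ι.image_preimage_le V)).op m := rfl
  rw [← res_res N (W.ι.image_preimage_le V) hle, ← e4, e3]
  exact map_zero (N.presheaf.map (homOfLE hle).op).hom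

end Groth.Agent.LD.QC

namespace Groth.Agent.LD.QC
variable {X : Scheme.{u}}

/-- the support of a module of finite type is closed. -/
theorem isClosed_support_of_isFiniteType (M : X.Modules) (hM : M.IsFiniteType) :
    IsClosed {x : X | ¬ Subsingleton (M.presheaf.stalk x)} := by
  rw [← isOpen_compl_iff, isOpen_iff_forall_mem_open]
  intro x hx
  have hx' : Subsingleton (M.presheaf.stalk x) := not_not.mp hx
  obtain ⟨U, hxU, σ, hσ⟩ := (isFiniteType_iff_forall_exists M).mp hM x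
  -- the generating sections vanish near `x`
  have hT : U.ι ''ᵁ (⊤ : (U : Scheme.{u}).Opens) ≤ U := by
    intro y hy
    obtain ⟨z, _, rfl⟩ := hy
    exact z.2
  have hxT : x ∈ U.ι ''ᵁ (⊤ : (U : Scheme.{u}).Opens) := ⟨⟨x, hxU⟩, trivial, rfl⟩
  have H : ∀ i : σ.I, ∃ W : X.Opens, x ∈ W ∧ ∃ hW : W ≤ U.ι ''ᵁ (⊤ : (U : Scheme.{u}).Opens),
      M.presheaf.map (homOfLE hW).op
        (show Γ(M, U.ι ''ᵁ (⊤ : (U : Scheme.{u}).Opens)) from (σ.s i).1 (op ⊤)) = 0 := by
    intro i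
    have := TopCat.Presheaf.germ_eq M.presheaf x hxT hxT
      (show Γ(M, U.ι ''ᵁ (⊤ : (U : Scheme.{u}).Opens)) from (σ.s i).1 (op ⊤)) 0
      (Subsingleton.elim _ _)
    obtain ⟨W, hxW, iU, iV, e⟩ := this
    refine ⟨W, hxW, iU.le, ?_⟩
    have e' : M.presheaf.map (homOfLE iU.le).op
        (show Γ(M, U.ι ''ᵁ (⊤ : (U : Scheme.{u}).Opens)) from (σ.s i).1 (op ⊤)) =
        M.presheaf.map (homOfLE iU.le).op 0 := e
    rw [e', map_zero]
  choose W hxW hWle hW0 using H
  have : Finite σ.I := hσ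
  let W₀ : X.Opens := U ⊓ ⨅ i, W i
  have hxW₀ : x ∈ W₀ := by
    refine ⟨hxU, ?_⟩
    rw [SetLike.mem_coe, ← SetLike.mem_coe, Opens.coe_iInf]
    exact Set.mem_iInter.mpr hxW
  have hW₀U : W₀ ≤ U := inf_le_left
  let W' : (U : Scheme.{u}).Opens := U.ι ⁻¹ᵁ W₀
  have h0 : ∀ i, (σ.s i).1 (op W') = 0 := by
    intro i
    have p1 := PresheafOfModules.sections_property (σ.s i) (homOfLE (le_top : W' ≤ ⊤)).op
    have hle : U.ι ''ᵁ W' ≤ W i :=
      (U.ι.image_preimage_le W₀).trans (inf_le_right.trans (iInf_le W i))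
    have p2 : (M.restrict U.ι).presheaf.map (homOfLE (le_top : W' ≤ ⊤)).op ((σ.s i).1 (op ⊤)) =
        M.presheaf.map (homOfLE hle).op (M.presheaf.map (homOfLE (hWle i)).op
          (show Γ(M, U.ι ''ᵁ (⊤ : (U : Scheme.{u}).Opens)) from (σ.s i).1 (op ⊤))) := by
      rw [res_res]
      rfl
    rw [hW0 i] at p2
    exact p1.symm.trans (p2.trans (map_zero (M.presheaf.map (homOfLE hle).op).hom))
  refine ⟨W₀.1, ?_, W₀.2, hxW₀⟩
  intro y hy
  change ¬ ¬ Subsingleton _
  rw [not_not]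
  suffices h : ∀ g : M.presheaf.stalk y, g = 0 from ⟨fun a b => by rw [h a, h b]⟩
  intro g
  obtain ⟨V, hyV, m, rfl⟩ := TopCat.Presheaf.germ_exist M.presheaf g
  let V' : (U : Scheme.{u}).Opens := U.ι ⁻¹ᵁ (V ⊓ W₀)
  have hV'V : U.ι ''ᵁ V' ≤ V := (U.ι.image_preimage_le _).trans inf_le_left
  let m' : Γ(M.restrict U.ι, V') := M.presheaf.map (homOfLE hV'V).op m
  have hz := res_eq_zero_of_generatingSections (M.restrict U.ι) σ W' h0 V' m'
  have hy' : y ∈ U.ι ''ᵁ (V' ⊓ W') := ⟨⟨y, hW₀U hy⟩, ⟨⟨hyV, hy⟩, hy⟩, rfl⟩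
  have hle : U.ι ''ᵁ (V' ⊓ W') ≤ V := (U.ι.image_mono inf_le_left).trans hV'V
  rw [← germ_res M y hle hy' m]
  have h2 : M.presheaf.map (homOfLE hle).op m = 0 := by
    rw [← res_res M hV'V (U.ι.image_mono inf_le_left)]
    exact hz
  rw [h2, map_zero]

end Groth.Agent.LD.QC
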