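import Mathlib
import Groth.Agent.Lib.Lead.QC.Support
import Groth.Agent.Lib.Lead.QC.Closure
import Groth.Agent.Lib.Lead.QC.Coh
import Groth.Agent.Lib.Lead.QC.Epi
import Groth.Agent.Lib.Lead.QC.Iso
import Groth.Agent.Lib.Lead.QC.SubExt
import Groth.Prelude.Def_Coh

/-! # Spreading out stalkwise vanishing / injectivity / bijectivity for coherent modules. -/

set_option autoImplicit false
universe u
open CategoryTheory Limits Opposite AlgebraicGeometry TopologicalSpace

namespace Groth.Agent.LD.QC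

variable {X : Scheme.{u}}

lemma section_eq_zero_of_stalks (M : X.Modules) (U : X.Opens)
    (h : ∀ y ∈ U, Subsingleton (M.presheaf.stalk y)) {V : X.Opens} (hV : V ≤ U) (s : Γ(M, V)) :
    s = 0 := by
  apply section_eq_zero_of_germ
  intro y hy
  haveI := h y (hV hy)
  exact Subsingleton.elim _ _

lemma isZero_restrict_of_stalks (M : X.Modules) (U : X.Opens)
    (h : ∀ y ∈ U, Subsingleton (M.presheaf.stalk y)) :
    IsZero ((Scheme.Modules.restrictFunctor U.ι).obj M) := by
  apply isZero_of_forall_sections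
  intro W s
  have hle : U.ι ''ᵁ W ≤ U := by
    rintro y ⟨z, _, rfl⟩
    exact z.2
  exact section_eq_zero_of_stalks M U h hle (show Γ(M, U.ι ''ᵁ W) from s)

theorem exists_nbhd_stalks_zero (M : X.Modules) (hM : M.IsFiniteType) (x : X)
    (hx : Subsingleton (M.presheaf.stalk x)) :
    ∃ U : X.Opens, x ∈ U ∧ ∀ y ∈ U, Subsingleton (M.presheaf.stalk y) := by
  have hc := isClosed_support_of_isFiniteType M hM
  refine ⟨⟨_, hc.isOpen_compl⟩, ?_, ?_⟩
  · exact not_not.mpr hx
  · intro y hy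
    exact not_not.mp hy

lemma subsingleton_of_forall_eq_zero {A : Type*} [Zero A] (h : ∀ a : A, a = 0) : Subsingleton A :=
  ⟨fun a b => by rw [h a, h b]⟩

lemma stalkMap_germ {G F : X.Modules} (φ : G ⟶ F) (x : X) (V : X.Opens) (hxV : x ∈ V)
    (s : Γ(G, V)) :
    ((TopCat.Presheaf.stalkFunctor _ x).map φ.mapPresheaf).hom (G.presheaf.germ V x hxV s) =
      F.presheaf.germ V x hxV (φ.app V s) :=
  TopCat.Presheaf.stalkFunctor_map_germ_apply V x hxV φ.mapPresheaf s

lemma exists_res_eq_zero_of_germ_eq_zero (M : X.Modules) {V : X.Opens} (x : X) (hxV : x ∈ V)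
    (s : Γ(M, V)) (h : M.presheaf.germ V x hxV s = 0) :
    ∃ (W : X.Opens) (hW : W ≤ V), x ∈ W ∧ M.presheaf.map (homOfLE hW).op s = 0 := by
  have h0 : M.presheaf.germ V x hxV s = M.presheaf.germ V x hxV 0 := by
    rw [h]; exact (map_zero (M.presheaf.germ V x hxV).hom).symm
  obtain ⟨W, hxW, iU, iV, hW⟩ := TopCat.Presheaf.germ_eq M.presheaf x hxV hxV s 0 h0
  refine ⟨W, iU.le, hxW, ?_⟩
  have h1 : M.presheaf.map iV.op (0 : Γ(M, V)) = 0 := map_zero (M.presheaf.map iV.op).hom
  rw [h1] at hW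
  exact hW

lemma subsingleton_stalk_kernel {G F : X.Modules} (φ : G ⟶ F) (x : X)
    (hinj : Function.Injective ((TopCat.Presheaf.stalkFunctor _ x).map φ.mapPresheaf).hom) :
    Subsingleton ((kernel φ).presheaf.stalk x) := by
  apply subsingleton_of_forall_eq_zero
  intro c
  obtain ⟨V, hxV, t, rfl⟩ := TopCat.Presheaf.exists_germ_eq (kernel φ).presheaf c
  have h1 : φ.app V ((kernel.ι φ).app V t) = 0 := kernel_ι_app_comp φ V t
  have h2 : G.presheaf.germ V x hxV ((kernel.ι φ).app V t) = 0 := by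
    apply hinj
    rw [stalkMap_germ, h1]
    exact (map_zero (F.presheaf.germ V x hxV).hom).trans
      (map_zero ((TopCat.Presheaf.stalkFunctor _ x).map φ.mapPresheaf).hom).symm
  obtain ⟨W, hWV, hxW, hW⟩ := exists_res_eq_zero_of_germ_eq_zero G x hxV _ h2
  have h3 := TopCat.Presheaf.germ_res_apply (kernel φ).presheaf (homOfLE hWV) x hxW t
  rw [← h3]
  have h4 : (kernel φ).presheaf.map (homOfLE hWV).op t = 0 := by
    apply mono_app (kernel.ι φ) W
    rw [app_res, hW]
    exact (map_zero ((kernel.ι φ).app W).hom).symm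
  rw [h4]
  exact map_zero ((kernel φ).presheaf.germ W x hxW).hom

lemma subsingleton_stalk_cokernel {G F : X.Modules} (φ : G ⟶ F) (x : X)
    (hsurj : Function.Surjective ((TopCat.Presheaf.stalkFunctor _ x).map φ.mapPresheaf).hom) :
    Subsingleton ((cokernel φ).presheaf.stalk x) := by
  apply subsingleton_of_forall_eq_zero
  intro c
  obtain ⟨V, hxV, q, rfl⟩ := TopCat.Presheaf.exists_germ_eq (cokernel φ).presheaf c
  obtain ⟨W, hWV, hxW, s, hs⟩ := exists_local_lift (cokernel.π φ) inferInstance V q x hxV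
  obtain ⟨d, hd⟩ := hsurj (F.presheaf.germ W x hxW s)
  obtain ⟨W', hxW', g, rfl⟩ := TopCat.Presheaf.exists_germ_eq G.presheaf d
  rw [stalkMap_germ] at hd
  obtain ⟨W'', hxW'', i1, i2, h12⟩ := TopCat.Presheaf.germ_eq F.presheaf x hxW' hxW _ _ hd
  -- on `W''`, `s = φ g`
  have hle : W'' ≤ V := i2.le.trans hWV
  have h1 := TopCat.Presheaf.germ_res_apply (cokernel φ).presheaf (homOfLE hle) x hxW'' q
  rw [← h1]
  have h2 : (cokernel φ).presheaf.map (homOfLE hle).op q =
      (cokernel.π φ).app W'' (F.presheaf.map (homOfLE i2.le).op s) := by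
    rw [app_res, hs, res_res]
  have h3 : F.presheaf.map (homOfLE i2.le).op s =
      φ.app W'' (G.presheaf.map (homOfLE i1.le).op g) := by
    rw [app_res]
    exact h12.symm
  have h5 : (φ ≫ cokernel.π φ).app W'' (G.presheaf.map (homOfLE i1.le).op g) = 0 := by
    rw [cokernel.condition]; rfl
  have h6 : (cokernel.π φ).app W'' (φ.app W'' (G.presheaf.map (homOfLE i1.le).op g)) = 0 := h5
  rw [h2, h3, h6]
  exact map_zero ((cokernel φ).presheaf.germ W'' x hxW'').hom

theorem spread_out [IsLocallyNoetherian X]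
    (F G : X.Modules) (hF : Coh.IsCoh F) (hG : Coh.IsCoh G) (φ : G ⟶ F) (x : X) :
    (Subsingleton ↑(F.presheaf.stalk x) →
      ∃ U : X.Opens, x ∈ U ∧ IsZero ((Scheme.Modules.restrictFunctor U.ι).obj F)) ∧
    (Function.Injective ((TopCat.Presheaf.stalkFunctor _ x).map φ.mapPresheaf).hom →
      ∃ U : X.Opens, x ∈ U ∧ Mono ((Scheme.Modules.restrictFunctor U.ι).map φ)) ∧
    (Function.Bijective ((TopCat.Presheaf.stalkFunctor _ x).map φ.mapPresheaf).hom →
      ∃ U : X.Opens, x ∈ U ∧ IsIso ((Scheme.Modules.restrictFunctor U.ι).map φ)) := by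
  obtain ⟨hFq, hFf⟩ := hF
  obtain ⟨hGq, hGf⟩ := hG
  have hKq : (kernel φ).IsQuasicoherent := qc_kernel φ hGq hFq
  have hKf : (kernel φ).IsFiniteType := isFiniteType_of_mono (kernel.ι φ) hKq hGq hGf
  have hCq : (cokernel φ).IsQuasicoherent := qc_cokernel φ hGq hFq
  have hCf : (cokernel φ).IsFiniteType := isFiniteType_of_epi (cokernel.π φ) hFq hCq hFf
  have mono_of (U : X.Opens) (hU : ∀ y ∈ U, Subsingleton ((kernel φ).presheaf.stalk y)) :
      Mono ((Scheme.Modules.restrictFunctor U.ι).map φ) := by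
    have hz := isZero_restrict_of_stalks (kernel φ) U hU
    have hz' : IsZero (kernel ((Scheme.Modules.restrictFunctor U.ι).map φ)) :=
      hz.of_iso (PreservesKernel.iso (Scheme.Modules.restrictFunctor U.ι) φ).symm
    exact Preadditive.mono_of_isZero_kernel _ hz'
  have epi_of (U : X.Opens) (hU : ∀ y ∈ U, Subsingleton ((cokernel φ).presheaf.stalk y)) :
      Epi ((Scheme.Modules.restrictFunctor U.ι).map φ) := by
    have hz := isZero_restrict_of_stalks (cokernel φ) U hU
    have hz' : IsZero (cokernel ((Scheme.Modules.restrictFunctor U.ι).map φ)) :=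
      hz.of_iso (PreservesCokernel.iso (Scheme.Modules.restrictFunctor U.ι) φ).symm
    exact Preadditive.epi_of_isZero_cokernel _ hz'
  refine ⟨?_, ?_, ?_⟩
  · intro hx
    obtain ⟨U, hxU, hU⟩ := exists_nbhd_stalks_zero F hFf x hx
    exact ⟨U, hxU, isZero_restrict_of_stalks F U hU⟩
  · intro hinj
    obtain ⟨U, hxU, hU⟩ := exists_nbhd_stalks_zero (kernel φ) hKf x
      (subsingleton_stalk_kernel φ x hinj)
    exact ⟨U, hxU, mono_of U hU⟩
  · intro hbij
    obtain ⟨U, hxU, hU⟩ := exists_nbhd_stalks_zero (kernel φ) hKf x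
      (subsingleton_stalk_kernel φ x hbij.1)
    obtain ⟨U', hxU', hU'⟩ := exists_nbhd_stalks_zero (cokernel φ) hCf x
      (subsingleton_stalk_cokernel φ x hbij.2)
    refine ⟨U ⊓ U', ⟨hxU, hxU'⟩, ?_⟩
    haveI := mono_of (U ⊓ U') (fun y hy => hU y hy.1)
    haveI := epi_of (U ⊓ U') (fun y hy => hU' y hy.2)
    exact isIso_of_mono_of_epi _

end Groth.Agent.LD.QC
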