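import Groth.Agent.Lib.Lead.QC.RankRed
import Mathlib.RingTheory.LocalRing.Module
universe u
open CategoryTheory Limits AlgebraicGeometry TopologicalSpace Opposite TensorProduct

namespace Groth.Agent.LD.QC

/-- the localization of a ring at the complement of a finite union of primes is semilocal. -/
theorem finite_maximalSpectrum_of_isLocalization {R : Type*} [CommRing R] {ι : Type*}
    (s : Finset ι) (p : ι → Ideal R) (hp : ∀ i ∈ s, (p i).IsPrime) (S : Submonoid R)
    (hS : ∀ a, a ∈ S ↔ ∀ i ∈ s, a ∉ p i) (R' : Type*) [CommRing R'] [Algebra R R']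
    [IsLocalization S R'] : Finite (MaximalSpectrum R') := by
  classical
  have key : ∀ P : MaximalSpectrum R', ∃ i : s, P.asIdeal = (p i).map (algebraMap R R') := by
    intro P
    have hPprime : P.asIdeal.IsPrime := P.isMaximal.isPrime
    have hsub : ((P.asIdeal.comap (algebraMap R R') : Ideal R) : Set R) ⊆
        ⋃ i ∈ (↑s : Set ι), (p i : Set R) := by
      intro a ha
      have haS : a ∉ S := fun h => by
        have hu : IsUnit (algebraMap R R' a) := IsLocalization.map_units R' ⟨a, h⟩
        exact hPprime.ne_top (Ideal.eq_top_of_isUnit_mem _ ha hu)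
      rw [hS] at haS
      push Not at haS
      obtain ⟨i, his, hai⟩ := haS
      exact Set.mem_biUnion his hai
    obtain ⟨i0, hi0, -⟩ := Set.mem_iUnion₂.mp (hsub (zero_mem _))
    obtain ⟨i, his, hi⟩ := (Ideal.subset_union_prime (f := p) i0 i0
      (fun i hi _ _ => hp i hi)).mp hsub
    refine ⟨⟨i, his⟩, ?_⟩
    haveI := hp i his
    have hdisj : Disjoint (S : Set R) (p i : Set R) := by
      rw [Set.disjoint_left]
      intro a haS hap
      exact (hS a).mp haS i his hap
    have hprime : ((p i).map (algebraMap R R')).IsPrime :=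
      IsLocalization.isPrime_of_isPrime_disjoint S R' (p i) (hp i his) hdisj
    have hle : P.asIdeal ≤ (p i).map (algebraMap R R') := by
      rw [← IsLocalization.map_comap S R' P.asIdeal]
      exact Ideal.map_mono hi
    exact P.isMaximal.eq_of_le hprime.ne_top hle
  choose F hF using key
  have hinj : Function.Injective F := by
    intro P P' h
    ext1
    rw [hF P, hF P', h]
  exact Finite.of_injective F hinj

/-- a finite projective module of constant rank `r` is free of rank `r` on a principal open
neighbourhood of any finite set of primes. -/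
theorem exists_free_away_of_finset_primes {R : Type u} [CommRing R] (N : Type u) [AddCommGroup N]
    [Module R N] [Module.FinitePresentation R N] [Module.Flat R N] (r : ℕ)
    (hr : ∀ q : PrimeSpectrum R, Module.rankAtStalk N q = r) {ι : Type*} (s : Finset ι)
    (p : ι → Ideal R) (hp : ∀ i ∈ s, (p i).IsPrime) :
    ∃ g : R, (∀ i ∈ s, g ∉ p i) ∧
      Nonempty (LocalizedModule.Away g N ≃ₗ[Localization.Away g] (Fin r → Localization.Away g)) := by
  classical
  let S : Submonoid R :=
    { carrier := {a | ∀ i ∈ s, a ∉ p i}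
      one_mem' := fun i hi => (hp i hi).one_notMem
      mul_mem' := fun {a b} ha hb i hi hab =>
        ((hp i hi).mem_or_mem hab).elim (ha i hi) (hb i hi) }
  let R' := Localization S
  let N' := LocalizedModule S N
  rcases subsingleton_or_nontrivial R' with hsub | hnt
  · -- degenerate case: `0 ∈ S`
    have h0 : (0 : R) ∈ S := (IsLocalization.subsingleton_iff (M := S) (S := R')).mp hsub
    refine ⟨0, h0, ?_⟩
    haveI : Subsingleton (Localization.Away (0 : R)) :=
      (IsLocalization.subsingleton_iff (M := Submonoid.powers (0 : R))).mpr ⟨1, by simp⟩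
    haveI : Subsingleton (LocalizedModule.Away (0 : R) N) :=
      Module.subsingleton (Localization.Away (0 : R)) _
    exact ⟨LinearEquiv.ofSubsingleton _ _⟩
  · haveI := finite_maximalSpectrum_of_isLocalization s p hp S (fun a => Iff.rfl) R'
    haveI : Module.Flat R' N' :=
      Module.Flat.of_isLocalizedModule R' S (LocalizedModule.mkLinearMap S N)
    have hbc : IsBaseChange R' (LocalizedModule.mkLinearMap S N) :=
      LocalizedModule.isBaseChange S N
    have rk : ∀ P : MaximalSpectrum R', Module.finrank (R' ⧸ P.asIdeal)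
        ((R' ⧸ P.asIdeal) ⊗[R'] N') = r := by
      intro P
      haveI := P.isMaximal
      let Pp : PrimeSpectrum R' := ⟨P.asIdeal, P.isMaximal.isPrime⟩
      have h1 : Module.rankAtStalk N' Pp = r := by
        rw [Module.rankAtStalk_isBaseChange hbc Pp, hr]
      rw [Module.rankAtStalk_eq Pp] at h1
      rw [← h1]
      let e : (R' ⧸ P.asIdeal) ≃ₐ[R'] P.asIdeal.ResidueField :=
        AlgEquiv.ofBijective (IsScalarTower.toAlgHom R' (R' ⧸ P.asIdeal) P.asIdeal.ResidueField)
          P.asIdeal.bijective_algebraMap_quotient_residueField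
      exact finrank_tensor_eq_of_algEquiv e N'
    obtain ⟨b⟩ := Module.nonempty_basis_of_flat_of_finrank_eq R' N' r rk
    haveI : Module.Free R' N' := Module.Free.of_basis b
    obtain ⟨g, hg, hfree, hrank⟩ :=
      Module.FinitePresentation.exists_free_localizedModule_powers S
        (LocalizedModule.mkLinearMap S N) R'
    refine ⟨g, hg, ?_⟩
    have hrank' : Module.finrank (Localization.Away g) (LocalizedModule.Away g N) = r := by
      rw [hrank, Module.finrank_eq_card_basis b, Fintype.card_fin]
    haveI := hfree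
    haveI : Nontrivial (Localization.Away g) :=
      (show Localization.Away g →+* R' from IsLocalization.map (M := .powers g) (T := S) _
        (RingHom.id _) (Submonoid.powers_le.mpr hg)).domain_nontrivial
    haveI : Module.Finite (Localization.Away g) (LocalizedModule.Away g N) := inferInstance
    exact ⟨(Module.finBasisOfFinrankEq _ _ hrank').equivFun⟩

/-- a basis transfers along a semilinear equivalence. -/
lemma nonempty_basis_of_semilinear_equiv {A A' N N' ι : Type*} [CommRing A] [CommRing A']
    [AddCommGroup N] [AddCommGroup N'] [Module A N] [Module A' N'] (e₁ : A ≃+* A') (e₂ : N ≃+ N')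
    (h : ∀ (a : A) (n : N), e₂ (a • n) = e₁ a • e₂ n) (b : Module.Basis ι A N) :
    Nonempty (Module.Basis ι A' N') := by
  letI : Module A' N := Module.compHom N e₁.symm.toRingHom
  have b' : Module.Basis ι A' N := b.mapCoeffs e₁ (by
    intro c x
    change e₁.symm (e₁ c) • x = c • x
    simp)
  let e₂' : N ≃ₗ[A'] N' :=
    { e₂ with
      map_smul' := fun a' n => by
        change e₂ (e₁.symm a' • n) = a' • e₂ n
        rw [h]; simp }
  exact ⟨b'.map e₂'⟩

variable {Y : Scheme.{u}}

/-- the stalks of a locally free module of rank `r` have rank `r`. -/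
lemma finrank_stalk_of_isFinLocFreeOfRank (r : ℕ) (E : Y.Modules) [E.IsQuasicoherent]
    (hE : FlatMod.IsFinLocFreeOfRank r E) (y : Y) :
    Module.finrank (Y.presheaf.stalk y) (E.presheaf.stalk y) = r := by
  obtain ⟨W, hyW, ⟨e⟩⟩ := hE y
  obtain ⟨U, hU, hyU, hUW⟩ := exists_isAffineOpen_mem_and_subset (x := y) (U := W) hyW
  have hr : Set.range hU.fromSpec ⊆ Set.range W.ι := by
    rw [hU.range_fromSpec, Scheme.Opens.range_ι]; exact hUW
  have h1 := freeMod_of_range_subset E W.ι hU.fromSpec hr r e
  obtain ⟨ℓ⟩ := (restrict_fromSpec_iso_freeMod_iff E hU r).mp h1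
  exact finrank_stalk_of_sections_equiv E hU r ℓ y hyU

/-- a locally free module of rank `r` is free of rank `r` on a neighbourhood of any finite subset of
an affine open. -/
theorem exists_free_nhds_of_finite (r : ℕ) (E : Y.Modules) (hE : FlatMod.IsFinLocFreeOfRank r E)
    (Z : Set Y) (hZ : Z.Finite) (V : Y.Opens) (hV : IsAffineOpen V) (hZV : Z ⊆ V) :
    ∃ U : Y.Opens, Z ⊆ U ∧ U ≤ V ∧ Nonempty (E.restrict U.ι ≅ freeMod (U : Scheme.{u}) r) := by
  classical
  have hE' : FlatMod.IsFinLocFree E := fun x => by
    obtain ⟨U, hx, e⟩ := hE x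
    exact ⟨U, r, hx, e⟩
  haveI := qc_of_isFinLocFree E hE'
  obtain ⟨hfp, hflat⟩ := (isFinLocFree_iff_sections E).mp hE' V hV
  have hrank : ∀ q : PrimeSpectrum Γ(Y, V), Module.rankAtStalk (R := Γ(Y, V)) Γ(E, V) q = r := by
    intro q
    have hy : hV.fromSpec q ∈ V := fromSpec_mem hV q
    have h1 := finrank_stalk_eq_rankAtStalk E hV (hV.fromSpec q) hy
    rw [primeIdealOf_fromSpec hV q hy] at h1
    rw [← h1]
    exact finrank_stalk_of_isFinLocFreeOfRank r E hE _
  let p : Y → Ideal Γ(Y, V) := fun z =>
    if hz : z ∈ V then (hV.primeIdealOf ⟨z, hz⟩).asIdeal else ⊤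
  have hp : ∀ z ∈ hZ.toFinset, (p z).IsPrime := by
    intro z hz
    have hzV : z ∈ V := hZV (hZ.mem_toFinset.mp hz)
    simp only [p, dif_pos hzV]
    exact (hV.primeIdealOf ⟨z, hzV⟩).isPrime
  obtain ⟨g, hg, ⟨ℓ⟩⟩ := exists_free_away_of_finset_primes Γ(E, V) r hrank hZ.toFinset p hp
  have hU : IsAffineOpen (Y.basicOpen g) := hV.basicOpen g
  refine ⟨Y.basicOpen g, ?_, Y.basicOpen_le g, ?_⟩
  · intro z hz
    have hzV : z ∈ V := hZV hz
    have := hg z (hZ.mem_toFinset.mpr hz)
    simp only [p, dif_pos hzV] at this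
    exact mem_basicOpen_of_mem_primeCompl hV z hzV g this
  · letI : Algebra Γ(Y, V) Γ(Y, Y.basicOpen g) := resAlgebra (Y.basicOpen_le g)
    letI : Module Γ(Y, V) Γ(E, Y.basicOpen g) := resModule E (Y.basicOpen_le g)
    haveI : IsScalarTower Γ(Y, V) Γ(Y, Y.basicOpen g) Γ(E, Y.basicOpen g) :=
      resModule_isScalarTower E (Y.basicOpen_le g)
    haveI : IsLocalization.Away g Γ(Y, Y.basicOpen g) := hV.isLocalization_basicOpen g
    haveI : IsLocalizedModule.Away g (resLinear E (Y.basicOpen_le g)) :=
      isLocalizedModule_basicOpen E hV g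
    obtain ⟨b⟩ := nonempty_basis_of_semilinear_equiv
      (IsLocalization.algEquiv (Submonoid.powers g) (Localization.Away g)
        Γ(Y, Y.basicOpen g)).toRingEquiv
      (IsLocalizedModule.linearEquiv (Submonoid.powers g)
        (LocalizedModule.mkLinearMap (Submonoid.powers g) Γ(E, V))
        (resLinear E (Y.basicOpen_le g))).toAddEquiv
      (fun a n => isLocalizedModule_equiv_semilinear (Submonoid.powers g) _ _ a n)
      (Module.Basis.ofEquivFun ℓ)
    obtain ⟨e⟩ := (restrict_fromSpec_iso_freeMod_iff E hU r).mpr ⟨b.equivFun⟩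
    exact freeMod_of_range_subset E hU.fromSpec (Y.basicOpen g).ι
      (range_ι_subset_range_fromSpec hU) r e

end Groth.Agent.LD.QC
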