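import Groth.Agent.Lib.Lead.QC.AmpleBasis2
import Groth.Agent.Lib.Lead.QC.SemiLocal
import Mathlib.AlgebraicGeometry.QuasiAffine
universe u
open CategoryTheory Limits AlgebraicGeometry TopologicalSpace Opposite TensorProduct

namespace Groth.Agent.LD.QC
variable {X : Scheme.{u}}

/-- the locus where a global function generates `O_X` is its non-vanishing locus. -/
lemma genLocus_homOfSection_unit (r : Γ(X, ⊤)) :
    CohB1.genLocus (unitMod X) (homOfSection (unitMod X) r) = X.basicOpen r := by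
  have hval : SecTwist.val (homOfSection (unitMod X) r) ⊤ = r • (1 : Γ(X, ⊤)) := by
    rw [val_homOfSection]
    refine (res_self (unitMod X) le_rfl r).trans ?_
    exact (mul_one r).symm
  have h := genLocus_inf_eq_basicOpen (homOfSection (unitMod X) r) (isBasisOver_one ⊤) r hval
  rwa [inf_top_eq] at h

/-- prime avoidance on a quasi-affine scheme: a finite subset of an open is contained in an affine
basic open of a global function contained in that open. -/
theorem exists_basicOpen_of_finite [X.IsQuasiAffine] (W : X.Opens) (E : Set X) (hE : E.Finite)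
    (hEW : E ⊆ W) :
    ∃ r : Γ(X, ⊤), IsAffineOpen (X.basicOpen r) ∧ E ⊆ X.basicOpen r ∧ X.basicOpen r ≤ W := by
  classical
  rcases E.eq_empty_or_nonempty with rfl | ⟨x0, hx0⟩
  · refine ⟨0, ?_, Set.empty_subset _, ?_⟩
    · rw [Scheme.basicOpen_zero]; exact isAffineOpen_bot X
    · rw [Scheme.basicOpen_zero]; exact bot_le
  obtain ⟨I, hI⟩ := (PrimeSpectrum.isClosed_iff_zeroLocus_ideal _).mp
    (X.toSpecΓ ''ᵁ W).2.isClosed_compl
  have hne : ∀ x ∈ E, ¬ I ≤ (X.toSpecΓ x).asIdeal := by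
    intro x hx hsub
    have h1 : X.toSpecΓ x ∈ PrimeSpectrum.zeroLocus (I : Set Γ(X, ⊤)) := hsub
    rw [← hI] at h1
    exact h1 ⟨x, hEW hx, rfl⟩
  have hav : ¬ ((I : Set Γ(X, ⊤)) ⊆ ⋃ x ∈ (hE.toFinset : Set X), ((X.toSpecΓ x).asIdeal : Set _)) := by
    rw [Ideal.subset_union_prime (f := fun x : X => (X.toSpecΓ x).asIdeal) x0 x0
      (fun x _ _ _ => (X.toSpecΓ x).isPrime)]
    rintro ⟨x, hx, hle⟩
    exact hne x (hE.mem_toFinset.mp hx) hle
  rw [Set.not_subset] at hav
  obtain ⟨r, hrI, hr⟩ := hav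
  have hrE : ∀ x ∈ E, r ∉ (X.toSpecΓ x).asIdeal := by
    intro x hx hmem
    exact hr (Set.mem_iUnion₂.mpr ⟨x, hE.mem_toFinset.mpr hx, hmem⟩)
  have hrU : (PrimeSpectrum.basicOpen r : Set (PrimeSpectrum Γ(X, ⊤))) ⊆ X.toSpecΓ '' W := by
    intro p hp
    by_contra hpW
    have h1 : p ∈ PrimeSpectrum.zeroLocus (I : Set Γ(X, ⊤)) := by
      rw [← hI]; exact hpW
    exact hp (h1 hrI)
  refine ⟨r, ?_, ?_, ?_⟩
  · rw [← Scheme.toSpecΓ_preimage_basicOpen,
      ← Scheme.Hom.isAffineOpen_iff_of_isOpenImmersion X.toSpecΓ]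
    convert! IsAffineOpen.Spec_basicOpen r
    exact SetLike.coe_injective (Set.image_preimage_eq_of_subset
      (hrU.trans (Set.image_subset_range _ _)))
  · intro x hx
    rw [← Scheme.toSpecΓ_preimage_basicOpen]
    exact hrE x hx
  · intro x hx
    rw [← Scheme.toSpecΓ_preimage_basicOpen] at hx
    obtain ⟨w, hw, hwx⟩ := hrU hx
    rwa [← X.toSpecΓ.isEmbedding.injective hwx]

end Groth.Agent.LD.QC

namespace Groth.Agent.LD.QC
variable {X : Scheme.{u}}

/-- on a quasi-compact quasi-separated scheme, if an invertible module `L` has a basis over an open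
containing `X_r` (`r` a global function), there is a global section of `L` generating `L` exactly
over `X_r`. -/
theorem exists_section_genLocus_eq_basicOpen [CompactSpace X] [QuasiSeparatedSpace X]
    (L : X.Modules) (hL : PicF.IsInvertible L)
    (r : Γ(X, ⊤)) {U : X.Opens} (e : Γ(L, U)) (he : IsBasisOver L U e) (hrU : X.basicOpen r ≤ U) :
    ∃ σ : unitMod X ⟶ L, CohB1.genLocus L σ = X.basicOpen r := by
  have hs := genLocus_homOfSection_unit r
  have hle : CohB1.genLocus (unitMod X) (homOfSection (unitMod X) r) ≤ U := hs.le.trans hrU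
  obtain ⟨n, T, hT⟩ := exists_genLocus_eq_basicOpen' (unitMod X) (isInvertible_unit X)
    (homOfSection (unitMod X) r) L hL _ (he.mono hle) 1
  rw [Scheme.basicOpen_of_isUnit _ isUnit_one, hs] at hT
  refine ⟨T ≫ (SecTwist.unitorR _ ≪≫ tensorIso' (Iso.refl L) (unitPowIso X n) ≪≫
    SecTwist.unitorR L).hom, ?_⟩
  rw [genLocus_comp_iso, hT]

end Groth.Agent.LD.QC
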