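import Groth.Agent.Lib.Lead.QC.InvBasis
universe u
open CategoryTheory Limits AlgebraicGeometry TopologicalSpace Opposite

namespace Groth.Agent.LD.QC
variable {X : Scheme.{u}}

lemma image_preimage_le (W U : X.Opens) : W.ι ''ᵁ (W.ι ⁻¹ᵁ U) ≤ U := by
  simp [Scheme.Hom.image_preimage_eq_opensRange_inf]

/-- a basis of `L` over `U` restricts to a basis of `L|_W` over `U ∩ W`. -/
theorem isBasisOver_restrict (L : X.Modules) (W U : X.Opens) (e : Γ(L, U))
    (he : IsBasisOver L U e) :
    IsBasisOver (L.restrict W.ι) (W.ι ⁻¹ᵁ U)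
      (show Γ(L.restrict W.ι, W.ι ⁻¹ᵁ U) from
        L.presheaf.map (homOfLE (image_preimage_le W U)).op e) := by
  intro V hV
  have hVU : W.ι ''ᵁ V ≤ U :=
    ((Scheme.Hom.image_mono W.ι hV)).trans (image_preimage_le W U)
  have h1 := he (W.ι ''ᵁ V) hVU
  have h2 : Function.Bijective (W.ι.appIso V).inv.hom :=
    (ConcreteCategory.isIso_iff_bijective (W.ι.appIso V).inv).mp inferInstance
  have h3 : (fun a : Γ(W, V) => a • (L.restrict W.ι).presheaf.map (homOfLE hV).op
      (show Γ(L.restrict W.ι, W.ι ⁻¹ᵁ U) from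
        L.presheaf.map (homOfLE (image_preimage_le W U)).op e)) =
      fun a => (fun a' : Γ(X, W.ι ''ᵁ V) => a' • L.presheaf.map (homOfLE hVU).op e)
        ((W.ι.appIso V).inv.hom a) := by
    funext a
    change ((W.ι.appIso V).inv.hom a) • (show Γ(L, W.ι ''ᵁ V) from
      L.presheaf.map (homOfLE (Scheme.Hom.image_mono W.ι hV)).op
        (L.presheaf.map (homOfLE (image_preimage_le W U)).op e)) = _
    rw [res_res]
  rw [h3]
  exact h1.comp h2

/-- a module which is trivial near every point of `W` restricts to an invertible module on `W`. -/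
theorem isInvertible_restrict_of_forall (L : X.Modules) (W : X.Opens)
    (h : ∀ x ∈ W, ∃ U : X.Opens, x ∈ U ∧ Nonempty (L.restrict U.ι ≅ unitMod U)) :
    PicF.IsInvertible (L.restrict W.ι) := by
  rw [isInvertible_iff_exists_isBasisOver]
  intro x
  obtain ⟨U, hxU, ⟨φ⟩⟩ := h x.1 x.2
  exact ⟨W.ι ⁻¹ᵁ U, _, hxU, isBasisOver_restrict L W U _ (isBasisOver_basisOfIso L U φ.symm)⟩

end Groth.Agent.LD.QC
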