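import Groth.Prelude.Def_CohB1
universe u
open CategoryTheory Limits AlgebraicGeometry TopologicalSpace Opposite

namespace Groth.Agent.LD.QC
variable {X : Scheme.{u}}

/-- the morphism from the sheafification induced by a morphism to a sheaf, evaluated on the image
of the unit. -/
theorem sheafify_desc_unit (P : X.PresheafOfModules) (F : X.Modules)
    (θ : P ⟶ (PresheafOfModules.restrictScalars (𝟙 X.ringCatSheaf.obj)).obj F.val)
    (U : X.Opens) (z : P.obj (op U)) :
    ((((PresheafOfModules.sheafificationAdjunction
      (𝟙 X.ringCatSheaf.obj)).homEquiv P F).symm θ).val.app (op U)).hom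
      ((((PresheafOfModules.sheafificationAdjunction
        (𝟙 X.ringCatSheaf.obj)).unit.app P).app (op U)).hom z) = (θ.app (op U)).hom z := by
  set adj := PresheafOfModules.sheafificationAdjunction (𝟙 X.ringCatSheaf.obj) with hadj
  set ψ := (adj.homEquiv P F).symm θ with hψ
  have fac : adj.unit.app P ≫ (SheafOfModules.forget _ ⋙
      PresheafOfModules.restrictScalars (𝟙 X.ringCatSheaf.obj)).map ψ = θ := by
    exact (adj.homEquiv_unit ..).symm.trans (Equiv.apply_symm_apply _ _)
  rw [← fac]
  rfl

/-- A morphism from a presheaf of modules to a sheaf of modules which is locally injective and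
locally surjective induces an isomorphism from the sheafification. -/
theorem isIso_sheafify_desc (P : X.PresheafOfModules) (F : X.Modules)
    (θ : P ⟶ (PresheafOfModules.restrictScalars (𝟙 X.ringCatSheaf.obj)).obj F.val)
    (hinj : ∀ (U : X.Opens) (z : P.obj (op U)), (θ.app (op U)).hom z = 0 → ∀ x ∈ U,
      ∃ (V : X.Opens) (h : V ≤ U), x ∈ V ∧ (P.map (homOfLE h).op).hom z = 0)
    (hsurj : ∀ (U : X.Opens) (t : F.val.obj (op U)), ∀ x ∈ U,
      ∃ (V : X.Opens) (h : V ≤ U), x ∈ V ∧ ∃ z : P.obj (op V),
        (θ.app (op V)).hom z = (F.val.map (homOfLE h).op).hom t) :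
    IsIso (((PresheafOfModules.sheafificationAdjunction
      (𝟙 X.ringCatSheaf.obj)).homEquiv P F).symm θ) := by
  set adj := PresheafOfModules.sheafificationAdjunction (𝟙 X.ringCatSheaf.obj) with hadj
  set ψ := (adj.homEquiv P F).symm θ with hψ
  have fac : adj.unit.app P ≫ (SheafOfModules.forget _ ⋙
      PresheafOfModules.restrictScalars (𝟙 X.ringCatSheaf.obj)).map ψ = θ := by
    exact (adj.homEquiv_unit ..).symm.trans (Equiv.apply_symm_apply _ _)
  have fac3 : ∀ (U : X.Opens) (z : P.obj (op U)),
      (θ.app (op U)).hom z = (ψ.val.app (op U)).hom (((adj.unit.app P).app (op U)).hom z) := by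
    intro U z
    rw [← fac]
    rfl
  let f₁ := (PresheafOfModules.toPresheaf X.ringCatSheaf.obj).map (adj.unit.app P)
  let f₂ := (PresheafOfModules.toPresheaf X.ringCatSheaf.obj).map ((SheafOfModules.forget _ ⋙
      PresheafOfModules.restrictScalars (𝟙 X.ringCatSheaf.obj)).map ψ)
  haveI hθinj : Presheaf.IsLocallyInjective (Opens.grothendieckTopology X) (f₁ ≫ f₂) := by
    constructor
    intro U a b hab
    intro x hx
    obtain ⟨U⟩ := U
    let a' : P.obj (op U) := a
    let b' : P.obj (op U) := b
    have h0 : (θ.app (op U)).hom (a' - b') = 0 := by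
      rw [map_sub, sub_eq_zero, fac3, fac3]
      exact hab
    obtain ⟨V, h, hxV, hV⟩ := hinj U (a' - b') h0 x hx
    refine ⟨V, homOfLE h, ?_, hxV⟩
    rw [map_sub, sub_eq_zero] at hV
    exact hV
  haveI hθsurj : Presheaf.IsLocallySurjective (Opens.grothendieckTopology X) (f₁ ≫ f₂) := by
    constructor
    intro U t
    intro x hx
    obtain ⟨V, h, hxV, z, hz⟩ := hsurj U t x hx
    refine ⟨V, homOfLE h, ⟨z, ?_⟩, hxV⟩
    rw [fac3] at hz
    exact hz
  haveI h1s : Presheaf.IsLocallySurjective (Opens.grothendieckTopology X) f₁ :=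
    inferInstanceAs (Presheaf.IsLocallySurjective (Opens.grothendieckTopology X)
      (CategoryTheory.toSheafify (Opens.grothendieckTopology X) P.presheaf))
  haveI : IsIso ((SheafOfModules.toSheaf _).map ψ) := by
    rw [← Sheaf.isLocallyBijective_iff_isIso (A := AddCommGrpCat.{u})
      (J := Opens.grothendieckTopology X)]
    constructor
    · exact Presheaf.isLocallyInjective_of_isLocallyInjective_of_isLocallySurjective
        (Opens.grothendieckTopology X) f₁ f₂
    · exact Presheaf.isLocallySurjective_of_isLocallySurjective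
        (Opens.grothendieckTopology X) f₁ f₂
  exact isIso_of_reflects_iso ψ (SheafOfModules.toSheaf _)

end Groth.Agent.LD.QC
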