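import Groth.Agent.Lib.Lead.QC.TensorTilde
import Groth.Agent.Lib.Lead.QC.SheafifyIso
universe u
open CategoryTheory Limits AlgebraicGeometry TopologicalSpace Opposite TensorProduct

namespace Groth.Agent.LD.QC

/-- tensor products over `A` and over a quotient `R'` of `A` agree (semilinear version), as a
definition. -/
noncomputable def tensorEquivOfSurjective {A R' : Type*} [CommRing A] [CommRing R'] (φ : A →+* R')
    (hφ : Function.Surjective φ)
    {M N M' N' : Type*} [AddCommGroup M] [Module A M] [AddCommGroup N] [Module A N]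
    [AddCommGroup M'] [Module R' M'] [AddCommGroup N'] [Module R' N']
    (eM : M ≃+ M') (heM : ∀ a m, eM (a • m) = φ a • eM m)
    (eN : N ≃+ N') (heN : ∀ a n, eN (a • n) = φ a • eN n) : M ⊗[A] N ≃+ M' ⊗[R'] N' :=
  (exists_tensor_equiv_of_surjective φ hφ eM heM eN heN).choose

lemma tensorEquivOfSurjective_tmul {A R' : Type*} [CommRing A] [CommRing R'] (φ : A →+* R')
    (hφ : Function.Surjective φ)
    {M N M' N' : Type*} [AddCommGroup M] [Module A M] [AddCommGroup N] [Module A N]
    [AddCommGroup M'] [Module R' M'] [AddCommGroup N'] [Module R' N']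
    (eM : M ≃+ M') (heM : ∀ a m, eM (a • m) = φ a • eM m)
    (eN : N ≃+ N') (heN : ∀ a n, eN (a • n) = φ a • eN n) (m : M) (n : N) :
    tensorEquivOfSurjective φ hφ eM heM eN heN (m ⊗ₜ n) = eM m ⊗ₜ eN n :=
  (exists_tensor_equiv_of_surjective φ hφ eM heM eN heN).choose_spec.1 m n

lemma tensorEquivOfSurjective_smul {A R' : Type*} [CommRing A] [CommRing R'] (φ : A →+* R')
    (hφ : Function.Surjective φ)
    {M N M' N' : Type*} [AddCommGroup M] [Module A M] [AddCommGroup N] [Module A N]
    [AddCommGroup M'] [Module R' M'] [AddCommGroup N'] [Module R' N']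
    (eM : M ≃+ M') (heM : ∀ a m, eM (a • m) = φ a • eM m)
    (eN : N ≃+ N') (heN : ∀ a n, eN (a • n) = φ a • eN n) (a : A) (z : M ⊗[A] N) :
    tensorEquivOfSurjective φ hφ eM heM eN heN (a • z) =
      φ a • tensorEquivOfSurjective φ hφ eM heM eN heN z :=
  (exists_tensor_equiv_of_surjective φ hφ eM heM eN heN).choose_spec.2 a z

variable {X Y : Scheme.{u}} (f : X ⟶ Y) [IsOpenImmersion f] (M N : Y.Modules)

lemma appIso_inv_surjective (U : X.Opens) : Function.Surjective (f.appIso U).inv.hom :=
  ((ConcreteCategory.isIso_iff_bijective (f.appIso U).inv).mp inferInstance).2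

/-- comparison of the tensor products of sections of the restrictions and of the sections. -/
noncomputable def restrictTensorEquiv (U : X.Opens) :
    Γ(M.restrict f, U) ⊗[Γ(X, U)] Γ(N.restrict f, U) ≃+
      Γ(M, f ''ᵁ U) ⊗[Γ(Y, f ''ᵁ U)] Γ(N, f ''ᵁ U) :=
  tensorEquivOfSurjective (f.appIso U).inv.hom (appIso_inv_surjective f U)
    (AddEquiv.refl _) (fun _ _ => rfl) (AddEquiv.refl _) (fun _ _ => rfl)

lemma restrictTensorEquiv_tmul (U : X.Opens) (m : Γ(M.restrict f, U)) (n : Γ(N.restrict f, U)) :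
    restrictTensorEquiv f M N U (m ⊗ₜ n) = (show Γ(M, f ''ᵁ U) from m) ⊗ₜ (show Γ(N, f ''ᵁ U) from n) :=
  tensorEquivOfSurjective_tmul ..

lemma restrictTensorEquiv_smul (U : X.Opens) (a : Γ(X, U))
    (z : Γ(M.restrict f, U) ⊗[Γ(X, U)] Γ(N.restrict f, U)) :
    restrictTensorEquiv f M N U (a • z) = (f.appIso U).inv.hom a • restrictTensorEquiv f M N U z :=
  tensorEquivOfSurjective_smul ..

lemma restrictTensorEquiv_res {U V : X.Opens} (h : V ≤ U)
    (z : Γ(M.restrict f, U) ⊗[Γ(X, U)] Γ(N.restrict f, U)) :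
    restrictTensorEquiv f M N V (tensorRes (M.restrict f) (N.restrict f) h z) =
      tensorRes M N (f.image_mono h) (restrictTensorEquiv f M N U z) := by
  induction z using TensorProduct.induction_on with
  | zero => simp
  | tmul m n =>
    rw [tensorRes_tmul, restrictTensorEquiv_tmul, restrictTensorEquiv_tmul, tensorRes_tmul]
    rfl
  | add a b ha hb => rw [map_add, map_add, map_add, map_add, ha, hb]

/-- the comparison map on sections. -/
noncomputable def restrictTensorLin (U : X.Opens) :
    Γ(M.restrict f, U) ⊗[Γ(X, U)] Γ(N.restrict f, U) →ₗ[Γ(X, U)]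
      Γ((CohB1.tensorMod M N).restrict f, U) :=
  { toFun := fun z => tensorSec M N (f ''ᵁ U) (restrictTensorEquiv f M N U z)
    map_add' := fun a b => by rw [map_add, map_add]; rfl
    map_smul' := fun r z => by
      rw [RingHom.id_apply, restrictTensorEquiv_smul, map_smul]
      rfl }

lemma restrictTensorLin_res {U V : X.Opens} (h : V ≤ U)
    (z : Γ(M.restrict f, U) ⊗[Γ(X, U)] Γ(N.restrict f, U)) :
    ((CohB1.tensorMod M N).restrict f).presheaf.map (homOfLE h).op (restrictTensorLin f M N U z) =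
      restrictTensorLin f M N V (tensorRes (M.restrict f) (N.restrict f) h z) := by
  change (CohB1.tensorMod M N).presheaf.map (homOfLE (f.image_mono h)).op
    (tensorSec M N (f ''ᵁ U) (restrictTensorEquiv f M N U z)) =
    tensorSec M N (f ''ᵁ V) (restrictTensorEquiv f M N V _)
  rw [tensorSec_res, restrictTensorEquiv_res]

/-- the sectionwise tensor product, as a presheaf of modules on `X`. -/
noncomputable abbrev tensorPre' {X : Scheme.{u}} (M N : X.Modules) : X.PresheafOfModules :=
  CohB1.tensorPre M N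

/-- the comparison morphism of presheaves of modules. -/
noncomputable def restrictTensorPre :
    tensorPre' (M.restrict f) (N.restrict f) ⟶
      (PresheafOfModules.restrictScalars (𝟙 X.ringCatSheaf.obj)).obj
        ((CohB1.tensorMod M N).restrict f).val where
  app U := ModuleCat.ofHom (R := ↑(X.ringCatSheaf.obj.obj U))
    (X := ↑((tensorPre' (M.restrict f) (N.restrict f)).obj U))
    (Y := ↑(((PresheafOfModules.restrictScalars (𝟙 X.ringCatSheaf.obj)).obj
        ((CohB1.tensorMod M N).restrict f).val).obj U))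
    (restrictTensorLin f M N U.unop)
  naturality := by
    intro U V g
    ext z
    obtain ⟨U⟩ := U
    obtain ⟨V⟩ := V
    have hg : g = (homOfLE g.unop.le).op := rfl
    exact (restrictTensorLin_res f M N g.unop.le z).symm

/-- the comparison morphism `M|_X ⊗ N|_X ⟶ (M ⊗ N)|_X`. -/
noncomputable def restrictTensorHom :
    CohB1.tensorMod (M.restrict f) (N.restrict f) ⟶ (CohB1.tensorMod M N).restrict f :=
  ((PresheafOfModules.sheafificationAdjunction (𝟙 X.ringCatSheaf.obj)).homEquiv _ _).symm
    (restrictTensorPre f M N)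

instance isIso_restrictTensorHom : IsIso (restrictTensorHom f M N) := by
  apply isIso_sheafify_desc
  · intro U z hz x hx
    have hz' : tensorSec M N (f ''ᵁ U) (restrictTensorEquiv f M N U z) = 0 := hz
    obtain ⟨W, hW, hxW, h0⟩ := tensorSec_locally_injective M N (f ''ᵁ U)
      (restrictTensorEquiv f M N U z) hz' (f x) ⟨x, hx, rfl⟩
    have hVU : f ⁻¹ᵁ W ≤ U := by
      intro y hy
      obtain ⟨y', hy', hyy⟩ := hW hy
      rwa [← f.isOpenEmbedding.injective hyy]
    have hfV : f ''ᵁ (f ⁻¹ᵁ W) ≤ W := by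
      rintro _ ⟨y, hy, rfl⟩
      exact hy
    refine ⟨f ⁻¹ᵁ W, hVU, hxW, ?_⟩
    apply (restrictTensorEquiv f M N (f ⁻¹ᵁ W)).injective
    have := restrictTensorEquiv_res f M N hVU z
    refine this.trans ?_
    rw [← tensorRes_comp M N hW hfV, h0, map_zero]
    exact (map_zero _).symm
  · intro U t x hx
    obtain ⟨W, hW, hxW, w, hw⟩ := tensorSec_locally_surjective M N (f ''ᵁ U) t (f x) ⟨x, hx, rfl⟩
    have hVU : f ⁻¹ᵁ W ≤ U := by
      intro y hy
      obtain ⟨y', hy', hyy⟩ := hW hy
      rwa [← f.isOpenEmbedding.injective hyy]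
    have hfV : f ''ᵁ (f ⁻¹ᵁ W) ≤ W := by
      rintro _ ⟨y, hy, rfl⟩
      exact hy
    refine ⟨f ⁻¹ᵁ W, hVU, hxW,
      (restrictTensorEquiv f M N (f ⁻¹ᵁ W)).symm (tensorRes M N hfV w), ?_⟩
    change tensorSec M N (f ''ᵁ (f ⁻¹ᵁ W)) (restrictTensorEquiv f M N (f ⁻¹ᵁ W) _) =
      (CohB1.tensorMod M N).presheaf.map (homOfLE (f.image_mono hVU)).op t
    rw [AddEquiv.apply_symm_apply, ← tensorSec_res, hw, res_res]

/-- restriction to an open subscheme commutes with tensor products. -/
noncomputable def restrictTensorIso :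
    CohB1.tensorMod (M.restrict f) (N.restrict f) ≅ (CohB1.tensorMod M N).restrict f :=
  asIso (restrictTensorHom f M N)

end Groth.Agent.LD.QC
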