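import Groth.Agent.Lib.Lead.QC.AmpleFinite2
import Groth.Agent.Lib.Lead.QC.TensorRestrict
import Groth.Agent.Lib.Lead.QC.InvRestrict
universe u
open CategoryTheory Limits AlgebraicGeometry TopologicalSpace Opposite

namespace Groth.Agent.LD.QC
variable {X Y : Scheme.{u}} (j : Y ⟶ X) [IsOpenImmersion j]

/-- bases of `M|_Y` over `V` are bases of `M` over `j(V)`. -/
theorem isBasisOver_restrict_iff (M : X.Modules) (V : Y.Opens) (e : Γ(M, j ''ᵁ V)) :
    IsBasisOver (M.restrict j) V (show Γ(M.restrict j, V) from e) ↔ IsBasisOver M (j ''ᵁ V) e := by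
  have key : ∀ (V' : Y.Opens) (hV' : V' ≤ V),
      (fun a : Γ(Y, V') => a • (M.restrict j).presheaf.map (homOfLE hV').op
        (show Γ(M.restrict j, V) from e)) =
      fun a => (fun a' : Γ(X, j ''ᵁ V') =>
        a' • M.presheaf.map (homOfLE (Scheme.Hom.image_mono j hV')).op e)
        ((j.appIso V').inv.hom a) := by
    intro V' hV'
    funext a
    rfl
  have hbij : ∀ V' : Y.Opens, Function.Bijective (j.appIso V').inv.hom := fun V' =>
    (ConcreteCategory.isIso_iff_bijective (j.appIso V').inv).mp inferInstance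
  constructor
  · intro h U hU
    have hUr : U ≤ j.opensRange := hU.trans (by
      rintro _ ⟨y, -, rfl⟩; exact ⟨y, rfl⟩)
    have hU' : j ''ᵁ (j ⁻¹ᵁ U) = U := by
      rw [Scheme.Hom.image_preimage_eq_opensRange_inf]; exact inf_eq_right.mpr hUr
    have hV' : j ⁻¹ᵁ U ≤ V := by
      intro y hy
      obtain ⟨y', hy', hyy⟩ := hU hy
      rwa [← j.isOpenEmbedding.injective hyy]
    have h1 := h (j ⁻¹ᵁ U) hV'
    rw [key _ hV'] at h1
    have h2 := (Function.Bijective.of_comp_iff (fun a' : Γ(X, j ''ᵁ (j ⁻¹ᵁ U)) =>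
        a' • M.presheaf.map (homOfLE (Scheme.Hom.image_mono j hV')).op e)
      (hbij (j ⁻¹ᵁ U))).mp h1
    have key2 : ∀ (U₁ : X.Opens) (hh : U₁ = U) (h₁ : U₁ ≤ j ''ᵁ V),
        Function.Bijective (fun a' : Γ(X, U₁) => a' • M.presheaf.map (homOfLE h₁).op e) →
        Function.Bijective (fun a' : Γ(X, U) => a' • M.presheaf.map (homOfLE hU).op e) := by
      rintro U₁ rfl h₁ hb; exact hb
    exact key2 _ hU' _ h2
  · intro h V' hV'
    rw [key V' hV']
    exact (h (j ''ᵁ V') (Scheme.Hom.image_mono j hV')).comp (hbij V')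

/-- restriction of a section to an open subscheme. -/
noncomputable def resSec {M : X.Modules} (s : unitMod X ⟶ M) : unitMod Y ⟶ M.restrict j :=
  homOfSection (M.restrict j) (show Γ(M.restrict j, ⊤) from SecTwist.val s (j ''ᵁ ⊤))

lemma val_resSec {M : X.Modules} (s : unitMod X ⟶ M) (V : Y.Opens) :
    SecTwist.val (resSec j s) V = (show Γ(M.restrict j, V) from SecTwist.val s (j ''ᵁ V)) := by
  rw [resSec, val_homOfSection]
  exact SecTwist.map_val s (homOfLE (Scheme.Hom.image_mono j (le_top : V ≤ ⊤)))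

theorem genLocus_resSec {M : X.Modules} (s : unitMod X ⟶ M) :
    CohB1.genLocus (M.restrict j) (resSec j s) = j ⁻¹ᵁ CohB1.genLocus M s := by
  ext y
  change y ∈ CohB1.genLocus (M.restrict j) (resSec j s) ↔ j y ∈ CohB1.genLocus M s
  rw [mem_genLocus_iff, mem_genLocus_iff]
  constructor
  · rintro ⟨V, hyV, hV⟩
    rw [val_resSec, isBasisOver_restrict_iff] at hV
    exact ⟨j ''ᵁ V, ⟨y, hyV, rfl⟩, hV⟩
  · rintro ⟨U, hyU, hU⟩
    refine ⟨j ⁻¹ᵁ U, hyU, ?_⟩
    rw [val_resSec, isBasisOver_restrict_iff]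
    have hle : j ''ᵁ (j ⁻¹ᵁ U) ≤ U := by
      rintro _ ⟨y', hy', rfl⟩; exact hy'
    have := hU.mono hle
    rwa [val_res] at this

theorem isInvertible_restrict {L : X.Modules} (hL : PicF.IsInvertible L) :
    PicF.IsInvertible (L.restrict j) := by
  rw [isInvertible_iff_exists_isBasisOver] at hL ⊢
  intro y
  obtain ⟨U, e, hyU, he⟩ := hL (j y)
  have hle : j ''ᵁ (j ⁻¹ᵁ U) ≤ U := by
    rintro _ ⟨y', hy', rfl⟩; exact hy'
  refine ⟨j ⁻¹ᵁ U, (show Γ(L.restrict j, j ⁻¹ᵁ U) from L.presheaf.map (homOfLE hle).op e), hyU, ?_⟩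
  rw [isBasisOver_restrict_iff]
  exact he.mono hle

/-- tensor powers commute with restriction to an open subscheme. -/
noncomputable def restrictTensorPowIso (L : X.Modules) :
    (n : ℕ) → (CohB1.tensorPow (L.restrict j) n ≅ (CohB1.tensorPow L n).restrict j)
  | 0 => (Scheme.Modules.restrictUnitIso j).symm
  | n + 1 => tensorIso' (restrictTensorPowIso L n) (Iso.refl _) ≪≫
      restrictTensorIso j (CohB1.tensorPow L n) L

/-- **restriction of an ample module to a quasi-compact open subscheme is ample.** -/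
theorem isAmple_restrict [CompactSpace X] [X.IsSeparated] [CompactSpace Y] (L : X.Modules)
    (hL : CohB1.IsAmple L) : CohB1.IsAmple (L.restrict j) := by
  refine ⟨isInvertible_restrict j hL.1, inferInstance, fun y => ?_⟩
  obtain ⟨n, s, h1, h2, h3⟩ := exists_affine_genLocus_le L hL (j y) j.opensRange ⟨y, rfl⟩
  refine ⟨n, resSec j s ≫ (restrictTensorPowIso j L (n + 1)).symm.hom, ?_, ?_⟩
  · rw [genLocus_comp_iso (resSec j s) (restrictTensorPowIso j L (n + 1)).symm, genLocus_resSec]
    exact h1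
  · rw [genLocus_comp_iso (resSec j s) (restrictTensorPowIso j L (n + 1)).symm, genLocus_resSec]
    rw [← Scheme.Hom.isAffineOpen_iff_of_isOpenImmersion j,
      Scheme.Hom.image_preimage_eq_opensRange_inf, inf_eq_right.mpr h2]
    exact h3

end Groth.Agent.LD.QC

namespace Groth.Agent.LD.QC
variable {X Y : Scheme.{u}} (j : Y ⟶ X) [IsOpenImmersion j]

/-- morphisms out of `O` are determined by their global sections. -/
lemma unitHom_ext {M : X.Modules} {σ τ : unitMod X ⟶ M} (h : sectionOfHom σ = sectionOfHom τ) :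
    σ = τ := by
  rw [← homOfSection_sectionOfHom σ, ← homOfSection_sectionOfHom τ, h]

/-- **ampleness descends along a surjective open immersion.** -/
theorem isAmple_of_restrict_of_opensRange_eq_top (hj : j.opensRange = ⊤) [CompactSpace Y]
    (L : X.Modules) (hL : CohB1.IsAmple (L.restrict j)) : CohB1.IsAmple L := by
  have hsurj : ∀ x : X, ∃ y : Y, j y = x := by
    intro x
    have : x ∈ j.opensRange := by rw [hj]; trivial
    exact this
  have himg : j ''ᵁ (⊤ : Y.Opens) = ⊤ := by
    rw [Scheme.Hom.image_top_eq_opensRange, hj]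
  refine ⟨?_, ?_, fun x => ?_⟩
  · rw [isInvertible_iff_exists_isBasisOver]
    intro x
    obtain ⟨y, rfl⟩ := hsurj x
    obtain ⟨V, e, hyV, he⟩ := (isInvertible_iff_exists_isBasisOver _).mp hL.1 y
    exact ⟨j ''ᵁ V, e, ⟨y, hyV, rfl⟩, (isBasisOver_restrict_iff j L V e).mp he⟩
  · constructor
    have h1 : IsCompact (Set.range j) := isCompact_range j.continuous
    have h2 : Set.range j = Set.univ := by
      ext x; simp only [Set.mem_range, Set.mem_univ, iff_true]; exact hsurj x
    rwa [h2] at h1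
  · obtain ⟨y, rfl⟩ := hsurj x
    obtain ⟨n, s', hy, haff⟩ := hL.2.2 y
    let M := CohB1.tensorPow L (n + 1)
    let s'' : unitMod Y ⟶ M.restrict j := s' ≫ (restrictTensorPowIso j L (n + 1)).hom
    have hg : CohB1.genLocus _ s'' = CohB1.genLocus _ s' :=
      genLocus_comp_iso s' (restrictTensorPowIso j L (n + 1))
    let t' : Γ(M, j ''ᵁ ⊤) := sectionOfHom s''
    let t : Γ(M, ⊤) := M.presheaf.map (homOfLE himg.ge).op t'
    let s : unitMod X ⟶ M := homOfSection M t
    have hres : resSec j s = s'' := by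
      apply unitHom_ext
      have e1 : sectionOfHom (resSec j s) = SecTwist.val (resSec j s) ⊤ := rfl
      rw [e1, val_resSec, val_homOfSection]
      change M.presheaf.map _ (M.presheaf.map _ t') = t'
      rw [res_res, res_self]
    have hloc : CohB1.genLocus M s = j ''ᵁ CohB1.genLocus _ s' := by
      have h1 := genLocus_resSec j s
      rw [hres, hg] at h1
      rw [h1, Scheme.Hom.image_preimage_eq_opensRange_inf, hj, top_inf_eq]
    refine ⟨n, s, ?_, ?_⟩
    · rw [hloc]; exact ⟨y, hy, rfl⟩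
    · rw [hloc]; exact haff.image_of_isOpenImmersion j

end Groth.Agent.LD.QC
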