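import Groth.Agent.Lib.Lead.QC.AmpleFinite
universe u
open CategoryTheory Limits AlgebraicGeometry TopologicalSpace Opposite

namespace Groth.Agent.LD.QC
variable {X : Scheme.{u}}

/-- **EGA II 4.5.4**: for an ample `L` on a quasi-compact separated scheme, every finite set of
points contained in an open `U` lies in an affine `X_s ⊆ U`. -/
theorem exists_affine_genLocus_finset [CompactSpace X] [X.IsSeparated] (L : X.Modules)
    (hL : CohB1.IsAmple L) :
    ∀ (N : ℕ) (Z : Finset X), Z.card = N → ∀ (U : X.Opens), (∀ z ∈ Z, z ∈ U) →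
    ∃ (n : ℕ) (s : unitMod X ⟶ CohB1.tensorPow L (n + 1)),
      (∀ z ∈ Z, z ∈ CohB1.genLocus _ s) ∧ CohB1.genLocus _ s ≤ U ∧
        IsAffineOpen (CohB1.genLocus _ s) := by
  classical
  haveI : L.IsQuasicoherent := qc_of_isInvertible L hL.1
  intro N
  induction N using Nat.strong_induction_on with
  | _ N ih =>
  intro Z hZN U hZU
  by_cases hZ0 : Z = ∅
  · subst hZ0
    have h0 := genLocus_zero (CohB1.tensorPow L (0 + 1)) (isInvertible_tensorPow hL.1 1)
    refine ⟨0, 0, by simp, ?_, ?_⟩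
    · rw [h0]; exact bot_le
    · rw [h0]; exact isAffineOpen_bot X
  by_cases hrel : ∃ a ∈ Z, ∃ b ∈ Z, a ≠ b ∧ a ⤳ b
  · obtain ⟨a, ha, b, hb, hab, hspec⟩ := hrel
    have hcard : (Z.erase a).card < N := by rw [← hZN]; exact Finset.card_erase_lt_of_mem ha
    obtain ⟨n, s, h1, h2, h3⟩ := ih _ hcard (Z.erase a) rfl U
      (fun z hz => hZU z (Finset.mem_of_mem_erase hz))
    refine ⟨n, s, ?_, h2, h3⟩
    intro z hz
    by_cases hza : z = a
    · subst hza
      exact hspec.mem_open (CohB1.genLocus _ s).2 (h1 b (Finset.mem_erase.mpr ⟨hab.symm, hb⟩))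
    · exact h1 z (Finset.mem_erase.mpr ⟨hza, hz⟩)
  · push Not at hrel
    obtain ⟨z, hz⟩ := Finset.nonempty_iff_ne_empty.mpr hZ0
    have hcard : (Z.erase z).card < N := by rw [← hZN]; exact Finset.card_erase_lt_of_mem hz
    obtain ⟨n₁, s₁, h1, h2, h3⟩ := ih _ hcard (Z.erase z) rfl U
      (fun w hw => hZU w (Finset.mem_of_mem_erase hw))
    by_cases hz1 : z ∈ CohB1.genLocus _ s₁
    · refine ⟨n₁, s₁, ?_, h2, h3⟩
      intro w hw
      by_cases hwz : w = z
      · subst hwz; exact hz1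
      · exact h1 w (Finset.mem_erase.mpr ⟨hwz, hw⟩)
    · let C : Set X := ⋃ w ∈ Z.erase z, closure {w}
      have hC : IsClosed C :=
        Set.Finite.isClosed_biUnion (Finset.finite_toSet _) (fun _ _ => isClosed_closure)
      let V₂ : X.Opens := U ⊓ ⟨Cᶜ, hC.isOpen_compl⟩
      have hzV₂ : z ∈ V₂ := by
        refine ⟨hZU z hz, fun hzC => ?_⟩
        obtain ⟨w, hw, hzw⟩ := Set.mem_iUnion₂.mp hzC
        have hw' := Finset.mem_erase.mp hw
        exact hrel w hw'.2 z hz hw'.1 (specializes_iff_mem_closure.mpr hzw)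
      obtain ⟨n₂, s₂, k1, k2, k3⟩ := exists_affine_genLocus_le L hL z V₂ hzV₂
      have hpos : 0 < (n₁ + 1) * (n₂ + 1) := by positivity
      have hidx1 : powIdx (n₁ + 1) (n₂ + 1) = (n₁ + 1) * (n₂ + 1) - 1 + 1 := by
        rw [powIdx_eq]; omega
      have hidx2 : powIdx (n₂ + 1) (n₁ + 1) = (n₁ + 1) * (n₂ + 1) - 1 + 1 := by
        rw [powIdx_eq, mul_comm]; omega
      let t₁ : unitMod X ⟶ CohB1.tensorPow L ((n₁ + 1) * (n₂ + 1) - 1 + 1) :=
        castSec L hidx1 (secMulPow L s₁ (n₂ + 1))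
      let t₂ : unitMod X ⟶ CohB1.tensorPow L ((n₁ + 1) * (n₂ + 1) - 1 + 1) :=
        castSec L hidx2 (secMulPow L s₂ (n₁ + 1))
      have g1 : CohB1.genLocus _ t₁ = CohB1.genLocus _ s₁ :=
        (genLocus_castSec L hidx1 _).trans (genLocus_secMulPow hL.1 s₁ n₂)
      have g2 : CohB1.genLocus _ t₂ = CohB1.genLocus _ s₂ :=
        (genLocus_castSec L hidx2 _).trans (genLocus_secMulPow hL.1 s₂ n₁)
      have hMinv := isInvertible_tensorPow hL.1 ((n₁ + 1) * (n₂ + 1) - 1 + 1)
      refine ⟨(n₁ + 1) * (n₂ + 1) - 1, t₁ + t₂, ?_, ?_, ?_⟩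
      · intro w hw
        by_cases hwz : w = z
        · subst hwz
          rw [add_comm t₁ t₂]
          apply mem_genLocus_add _ hMinv
          · rw [g2]; exact k1
          · rw [g1]; exact hz1
        · have hw' : w ∈ Z.erase z := Finset.mem_erase.mpr ⟨hwz, hw⟩
          apply mem_genLocus_add _ hMinv
          · rw [g1]; exact h1 w hw'
          · rw [g2]
            intro hw2
            have h4 : w ∈ V₂ := k2 hw2
            exact h4.2 (Set.mem_biUnion hw' (subset_closure rfl))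
      · refine (genLocus_add_le _ hMinv t₁ t₂).trans (sup_le ?_ ?_)
        · rw [g1]; exact h2
        · rw [g2]; exact k2.trans inf_le_left
      · apply isAffineOpen_genLocus_add _ hMinv
        · rw [g1]; exact h3
        · rw [g2]; exact k3

end Groth.Agent.LD.QC
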