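import Groth.Agent.Lib.Lead.QC.AmpleGen
import Groth.Prelude.Def_Curv2
universe u
open CategoryTheory Limits AlgebraicGeometry TopologicalSpace Opposite

namespace Groth.Agent.LD.QC
variable {X : Scheme.{u}}

/-- a quotient of a finite free module is globally generated. -/
theorem isGloballyGenerated_of_epi_freeMod {G : X.Modules} {K : ℕ} (p : FlatMod.freeMod X K ⟶ G)
    (hp : Epi p) : Curv2.IsGloballyGenerated G := by
  let e : ULift.{u} (Fin K) ≃ Fin K := Equiv.ulift
  let φ : (SheafOfModules.free (R := X.ringCatSheaf) (ULift.{u} (Fin K)) : X.Modules) ≅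
      FlatMod.freeMod X K := Sigma.reindex e (fun _ : Fin K => Coh.structureModule X)
  refine ⟨ULift.{u} (Fin K), φ.hom ≫ p, ?_⟩
  exact @epi_comp _ _ _ _ _ φ.hom inferInstance p hp

/-- the linear map `t ↦ t ⊗ e`. -/
noncomputable def tmulRightₗ (F L : X.Modules) (U : X.Opens) (e : Γ(L, U)) :
    Γ(F, U) →ₗ[Γ(X, U)] Γ(CohB1.tensorMod F L, U) where
  toFun t := SecTwist.tmul F L U t e
  map_add' a b := tmul_add_left F L U a b e
  map_smul' r a := tmul_smul_left F L U r a e

/-- tensoring with an invertible module preserves finite type. -/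
theorem isFiniteType_tensorMod_of_isInvertible (F : X.Modules) [F.IsQuasicoherent]
    (hFT : F.IsFiniteType) (L : X.Modules) (hL : PicF.IsInvertible L) :
    (CohB1.tensorMod F L).IsFiniteType := by
  haveI : L.IsQuasicoherent := qc_of_isInvertible L hL
  haveI := tensorMod_isQuasicoherent F L
  apply isFiniteType_of_finite_sections
  intro x
  obtain ⟨U, e, hU, hxU, -, he⟩ := exists_affine_basis L hL x ⊤ trivial
  refine ⟨U, hU, hxU, ?_⟩
  haveI := finite_sections_of_isFiniteType F hFT hU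
  have hsurj : Function.Surjective (tmulRightₗ F L U e) := by
    have h := (bijective_tmul_of_isBasisOver F L he U le_rfl).2
    intro g
    obtain ⟨t, ht⟩ := h g
    refine ⟨t, ?_⟩
    rw [← ht]
    change SecTwist.tmul F L U t e = SecTwist.tmul F L U t (L.presheaf.map (homOfLE (le_refl U)).op e)
    rw [res_self]
  exact Module.Finite.of_surjective (tmulRightₗ F L U e) hsurj

end Groth.Agent.LD.QC

namespace Groth.Agent.LD.QC
variable {X : Scheme.{u}}

/-- transport of tensor powers along an equality of exponents. -/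
noncomputable def castPow (L : X.Modules) {a b : ℕ} (h : a = b) :
    CohB1.tensorPow L a ≅ CohB1.tensorPow L b := eqToIso (by rw [h])

/-- for an ample module, some single power has finitely many sections with affine loci covering
`X`. -/
theorem exists_common_power (L : X.Modules) (hL : CohB1.IsAmple L) :
    ∃ (m : ℕ) (_ : 0 < m) (r : ℕ) (s : Fin r → (unitMod X ⟶ CohB1.tensorPow L m)),
      (∀ i, IsAffineOpen (CohB1.genLocus _ (s i))) ∧ ∀ x : X, ∃ i, x ∈ CohB1.genLocus _ (s i) := by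
  classical
  obtain ⟨hinv, hcpt, hcov⟩ := hL
  haveI := hcpt
  haveI : L.IsQuasicoherent := qc_of_isInvertible L hinv
  choose n s hxs haff using hcov
  obtain ⟨t0, ht0⟩ := isCompact_univ.elim_finite_subcover
    (fun x : X => (CohB1.genLocus _ (s x) : Set X)) (fun x => (CohB1.genLocus _ (s x)).2)
    (fun x _ => Set.mem_iUnion.mpr ⟨x, hxs x⟩)
  let m := ∏ y ∈ t0, (n y + 1)
  have hm : 0 < m := Finset.prod_pos fun y _ => Nat.succ_pos _
  have hdvd : ∀ y ∈ t0, ∃ q : ℕ, m = (n y + 1) * (q + 1) := by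
    intro y hy
    obtain ⟨c, hc⟩ := Finset.dvd_prod_of_mem (fun y => n y + 1) hy
    have hc0 : c ≠ 0 := by
      rintro rfl
      rw [mul_zero] at hc
      exact hm.ne' hc
    obtain ⟨q, rfl⟩ := Nat.exists_eq_succ_of_ne_zero hc0
    exact ⟨q, hc⟩
  let e := t0.equivFin
  choose q hq using fun i : Fin t0.card => hdvd (e.symm i).1 (e.symm i).2
  have hidx : ∀ i : Fin t0.card, powIdx (n (e.symm i).1 + 1) (q i + 1) = m := fun i => by
    rw [powIdx_eq, hq i]
  refine ⟨m, hm, t0.card,
    fun i => secMulPow L (s (e.symm i).1) (q i + 1) ≫ (castPow L (hidx i)).hom, ?_, ?_⟩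
  · intro i
    rw [genLocus_comp_iso, genLocus_secMulPow hinv]
    exact haff _
  · intro x
    obtain ⟨y, hy, hxy⟩ := Set.mem_iUnion₂.mp (ht0 (Set.mem_univ x))
    refine ⟨e ⟨y, hy⟩, ?_⟩
    rw [genLocus_comp_iso, genLocus_secMulPow hinv, e.symm_apply_apply]
    exact hxy

end Groth.Agent.LD.QC

namespace Groth.Agent.LD.QC
variable {X : Scheme.{u}}

/-- `(F ⊗ L^ρ) ⊗ (L^m)^N ≅ F ⊗ L^n` for `n = ρ + m N`. -/
noncomputable def twistPowIso (F L : X.Modules) [F.IsQuasicoherent] [L.IsQuasicoherent]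
    (m ρ N n : ℕ) (h : ρ + powIdx m N = n) :
    CohB1.tensorMod (CohB1.tensorMod F (CohB1.tensorPow L ρ))
      (CohB1.tensorPow (CohB1.tensorPow L m) N) ≅ CohB1.tensorMod F (CohB1.tensorPow L n) :=
  tensorAssoc F (CohB1.tensorPow L ρ) (CohB1.tensorPow (CohB1.tensorPow L m) N) ≪≫
    tensorIso' (Iso.refl F)
      (tensorIso' (Iso.refl _) (powPowIso L m N) ≪≫ powAddIso L ρ (powIdx m N) ≪≫ castPow L h)

/-- **Serre**: for an ample `L` on a quasi-compact quasi-separated scheme and `F` quasi-coherent of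
finite type, `F ⊗ L^n` is a quotient of a finite free module for all `n ≫ 0`. -/
theorem exists_epi_free_of_isAmple [QuasiSeparatedSpace X] (L : X.Modules) (hL : CohB1.IsAmple L)
    (F : X.Modules) [F.IsQuasicoherent] (hFT : F.IsFiniteType) :
    ∃ n₀ : ℕ, ∀ n : ℕ, n₀ ≤ n →
      ∃ (K : ℕ) (p : FlatMod.freeMod X K ⟶ CohB1.tensorMod F (CohB1.tensorPow L n)), Epi p := by
  classical
  have hinv := hL.1
  haveI := hL.2.1
  haveI : L.IsQuasicoherent := qc_of_isInvertible L hinv
  obtain ⟨m, hm, r, s, haff, hcov⟩ := exists_common_power L hL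
  have hM := isInvertible_tensorPow hinv m
  have key : ∀ ρ : Fin m, ∃ N₀ : ℕ, ∀ N : ℕ, N₀ ≤ N →
      ∃ (K : ℕ) (p : FlatMod.freeMod X K ⟶ CohB1.tensorMod
        (CohB1.tensorMod F (CohB1.tensorPow L ρ)) (CohB1.tensorPow (CohB1.tensorPow L m) N)),
        Epi p := by
    intro ρ
    haveI := tensorMod_isQuasicoherent F (CohB1.tensorPow L ρ)
    exact exists_epi_free_twist (CohB1.tensorPow L m) hM s haff hcov _
      (isFiniteType_tensorMod_of_isInvertible F hFT _ (isInvertible_tensorPow hinv ρ))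
  choose N₀ hN₀ using key
  refine ⟨m * Finset.univ.sup N₀, fun n hn => ?_⟩
  have hρ : n % m < m := Nat.mod_lt n hm
  have hN : N₀ ⟨n % m, hρ⟩ ≤ n / m := by
    have h1 : N₀ ⟨n % m, hρ⟩ ≤ Finset.univ.sup N₀ := Finset.le_sup (Finset.mem_univ _)
    have h2 : Finset.univ.sup N₀ ≤ n / m := by
      rw [Nat.le_div_iff_mul_le hm, mul_comm]; exact hn
    exact h1.trans h2
  obtain ⟨K, p, hp⟩ := hN₀ ⟨n % m, hρ⟩ (n / m) hN
  have hidx : n % m + powIdx m (n / m) = n := by
    rw [powIdx_eq]; exact Nat.mod_add_div n m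
  exact ⟨K, p ≫ (twistPowIso F L m (n % m) (n / m) n hidx).hom,
    @epi_comp _ _ _ _ _ p hp _ inferInstance⟩

end Groth.Agent.LD.QC
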