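import Mathlib
universe u
open CategoryTheory Limits AlgebraicGeometry TopologicalSpace Opposite

namespace Groth.Agent.LD.QC
variable {X : Scheme.{u}}

/-- surjectivity of `f.app W` from generators. -/
lemma app_surjective_of_closure {X P : Scheme.{u}} (Δ : X ⟶ P) (W : P.Opens)
    (S : Set Γ(X, Δ ⁻¹ᵁ W)) (hS : Subring.closure S = ⊤)
    (h : ∀ a ∈ S, ∃ b : Γ(P, W), Δ.app W b = a) : Function.Surjective (Δ.app W) := by
  have : (Δ.app W).hom.range = ⊤ := by
    rw [eq_top_iff, ← hS, Subring.closure_le]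
    intro a ha
    obtain ⟨b, hb⟩ := h a ha
    exact ⟨b, hb⟩
  intro a
  have ha : a ∈ (Δ.app W).hom.range := this ▸ Subring.mem_top a
  exact ha

lemma appLE_surjective_of_closure {X P : Scheme.{u}} (Δ : X ⟶ P) (W : P.Opens) (V : X.Opens)
    (e : V ≤ Δ ⁻¹ᵁ W) (S : Set Γ(X, V)) (hS : Subring.closure S = ⊤)
    (h : ∀ a ∈ S, ∃ b : Γ(P, W), Δ.appLE W V e b = a) : Function.Surjective (Δ.appLE W V e) := by
  have : (Δ.appLE W V e).hom.range = ⊤ := by
    rw [eq_top_iff, ← hS, Subring.closure_le]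
    intro a ha
    obtain ⟨b, hb⟩ := h a ha
    exact ⟨b, hb⟩
  intro a
  have ha : a ∈ (Δ.appLE W V e).hom.range := this ▸ Subring.mem_top a
  exact ha

lemma id_appLE (X : Scheme.{u}) (U V : X.Opens) (e : V ≤ (𝟙 X) ⁻¹ᵁ U) :
    (𝟙 X : X ⟶ X).appLE U V e = X.presheaf.map (homOfLE (show V ≤ U from e)).op := by
  simp [Scheme.Hom.appLE]
  rfl

lemma appLE_of_eq_id {X : Scheme.{u}} (f : X ⟶ X) (h : f = 𝟙 X) (U V : X.Opens)
    (e : V ≤ f ⁻¹ᵁ U) (e' : V ≤ U) : f.appLE U V e = X.presheaf.map (homOfLE e').op := by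
  subst h
  exact id_appLE X U V e

lemma app_surjective_of_appLE {X P : Scheme.{u}} (Δ : X ⟶ P) (W : P.Opens) (V : X.Opens)
    (hV : V = Δ ⁻¹ᵁ W) (h : Function.Surjective (Δ.appLE W V hV.le)) :
    Function.Surjective (Δ.app W) := by
  subst hV
  rwa [Scheme.Hom.appLE_eq_app] at h

/-- **separatedness criterion** (EGA I 5.5.6): a scheme covered by affine opens whose pairwise
intersections are affine, with coordinate rings generated by those of the two opens, is
separated. -/
theorem isSeparated_of_affine_cover {ι : Type*} (U : ι → X.Opens) (hU : ∀ i, IsAffineOpen (U i))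
    (hcov : ∀ x : X, ∃ i, x ∈ U i) (hinf : ∀ i j, IsAffineOpen (U i ⊓ U j))
    (hgen : ∀ i j, Subring.closure
      (Set.range (X.presheaf.map (homOfLE (inf_le_left : U i ⊓ U j ≤ U i)).op).hom ∪
        Set.range (X.presheaf.map (homOfLE (inf_le_right : U i ⊓ U j ≤ U j)).op).hom) = ⊤) :
    X.IsSeparated := by
  let t := terminal.from X
  let Δ : X ⟶ pullback t t := pullback.diagonal t
  let W : ι × ι → (pullback t t).Opens := fun p =>
    (pullback.fst t t) ⁻¹ᵁ (U p.1) ⊓ (pullback.snd t t) ⁻¹ᵁ (U p.2)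
  have hW : ∀ p, IsAffineOpen (W p) := by
    intro p
    haveI : IsAffine (U p.1 : Scheme.{u}) := hU p.1
    haveI : IsAffine (U p.2 : Scheme.{u}) := hU p.2
    let m := pullback.map ((U p.1).ι ≫ t) ((U p.2).ι ≫ t) t t (U p.1).ι (U p.2).ι (𝟙 _)
      (by simp) (by simp)
    have hm : W p = m.opensRange := by
      ext z
      change z ∈ (W p : Set _) ↔ z ∈ Set.range m
      rw [Scheme.Pullback.range_map]
      simp [W]
    rw [hm]
    exact isAffineOpen_opensRange m
  have hWcov : ⨆ p, ((⟨W p, hW p⟩ : (pullback t t).affineOpens) : (pullback t t).Opens) = ⊤ := by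
    rw [eq_top_iff]
    intro z _
    obtain ⟨i, hi⟩ := hcov (pullback.fst t t z)
    obtain ⟨j, hj⟩ := hcov (pullback.snd t t z)
    exact Opens.mem_iSup.mpr ⟨(i, j), hi, hj⟩
  have hpre : ∀ p, Δ ⁻¹ᵁ W p = U p.1 ⊓ U p.2 := by
    intro p
    ext x
    simp only [W, Scheme.Hom.preimage_inf, ← Scheme.Hom.comp_preimage]
    simp [Δ]
  have hΔ : IsClosedImmersion Δ := by
    rw [HasAffineProperty.iff_of_iSup_eq_top (P := @IsClosedImmersion)
      (fun p : ι × ι => (⟨W p, hW p⟩ : (pullback t t).affineOpens)) hWcov]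
    intro p
    constructor
    · change IsAffineOpen (Δ ⁻¹ᵁ W p)
      rw [hpre p]
      exact hinf _ _
    · rw [morphismRestrict_appTop]
      have hiso : Function.Bijective (X.presheaf.map (eqToHom (image_morphismRestrict_preimage Δ
          (W p) ⊤)).op).hom :=
        (ConcreteCategory.isIso_iff_bijective _).mp inferInstance
      have gen : ∀ W' : (pullback t t).Opens, W' = W p → Function.Surjective (Δ.app W') := by
        intro W' hW'
        subst hW'
        apply app_surjective_of_appLE Δ _ (U p.1 ⊓ U p.2) (hpre p).symm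
        apply appLE_surjective_of_closure Δ _ _ _ _ (hgen p.1 p.2)
        rintro a (⟨a', rfl⟩ | ⟨a', rfl⟩)
        · refine ⟨(pullback.fst t t).appLE (U p.1) (W p) inf_le_left a', ?_⟩
          rw [← CommRingCat.comp_apply, Scheme.Hom.appLE_comp_appLE,
            appLE_of_eq_id _ (pullback.diagonal_fst t) _ _ _ inf_le_left]
        · refine ⟨(pullback.snd t t).appLE (U p.2) (W p) inf_le_right a', ?_⟩
          rw [← CommRingCat.comp_apply, Scheme.Hom.appLE_comp_appLE,
            appLE_of_eq_id _ (pullback.diagonal_snd t) _ _ _ inf_le_right]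
      have h5 := gen _ (W p).ι_image_top
      intro a
      obtain ⟨a1, ha1⟩ := hiso.2 a
      obtain ⟨a2, ha2⟩ := h5 a1
      refine ⟨a2, ?_⟩
      rw [← ha1, ← ha2]
      rfl
  exact ⟨⟨hΔ⟩⟩

/-- a scheme covered by affine opens with affine pairwise intersections has affine diagonal. -/
theorem isAffineHom_diagonal_of_affine_cover {ι : Type*} (U : ι → X.Opens)
    (hU : ∀ i, IsAffineOpen (U i)) (hcov : ∀ x : X, ∃ i, x ∈ U i)
    (hinf : ∀ i j, IsAffineOpen (U i ⊓ U j)) :
    IsAffineHom (pullback.diagonal (terminal.from X)) := by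
  let t := terminal.from X
  let Δ : X ⟶ pullback t t := pullback.diagonal t
  let W : ι × ι → (pullback t t).Opens := fun p =>
    (pullback.fst t t) ⁻¹ᵁ (U p.1) ⊓ (pullback.snd t t) ⁻¹ᵁ (U p.2)
  have hW : ∀ p, IsAffineOpen (W p) := by
    intro p
    haveI : IsAffine (U p.1 : Scheme.{u}) := hU p.1
    haveI : IsAffine (U p.2 : Scheme.{u}) := hU p.2
    let m := pullback.map ((U p.1).ι ≫ t) ((U p.2).ι ≫ t) t t (U p.1).ι (U p.2).ι (𝟙 _)
      (by simp) (by simp)
    have hm : W p = m.opensRange := by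
      ext z
      change z ∈ (W p : Set _) ↔ z ∈ Set.range m
      rw [Scheme.Pullback.range_map]
      simp [W]
    rw [hm]
    exact isAffineOpen_opensRange m
  have hWcov : ⨆ p, ((⟨W p, hW p⟩ : (pullback t t).affineOpens) : (pullback t t).Opens) = ⊤ := by
    rw [eq_top_iff]
    intro z _
    obtain ⟨i, hi⟩ := hcov (pullback.fst t t z)
    obtain ⟨j, hj⟩ := hcov (pullback.snd t t z)
    exact Opens.mem_iSup.mpr ⟨(i, j), hi, hj⟩
  have hpre : ∀ p, Δ ⁻¹ᵁ W p = U p.1 ⊓ U p.2 := by
    intro p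
    ext x
    simp only [W, Scheme.Hom.preimage_inf, ← Scheme.Hom.comp_preimage]
    simp [Δ]
  change IsAffineHom Δ
  rw [HasAffineProperty.iff_of_iSup_eq_top (P := @IsAffineHom)
    (fun p : ι × ι => (⟨W p, hW p⟩ : (pullback t t).affineOpens)) hWcov]
  intro p
  change IsAffineOpen (Δ ⁻¹ᵁ W p)
  rw [hpre p]
  exact hinf _ _

end Groth.Agent.LD.QC
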