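import Groth.Agent.Lib.Lead.QC.AmpleExt
import Groth.Agent.Lib.Lead.QC.SepCrit
universe u
open CategoryTheory Limits AlgebraicGeometry TopologicalSpace Opposite TensorProduct

namespace Groth.Agent.LD.QC
variable {X : Scheme.{u}}

/-- the inclusion of `X_s` is an affine morphism. -/
theorem isAffineHom_genLocus_ι (L : X.Modules) (hL : PicF.IsInvertible L) (s : unitMod X ⟶ L) :
    IsAffineHom (CohB1.genLocus L s).ι := by
  apply isAffineHom_of_forall_exists_isAffineOpen
  intro x
  obtain ⟨U, e, hU, hxU, -, he⟩ := exists_affine_basis L hL x ⊤ trivial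
  obtain ⟨f, hf⟩ := he.exists_coord (SecTwist.val s U)
  have hG := genLocus_inf_eq_basicOpen s he f hf
  refine ⟨U, hxU, hU, ?_⟩
  rw [← Scheme.Hom.isAffineOpen_iff_of_isOpenImmersion (CohB1.genLocus L s).ι,
    Scheme.Hom.image_preimage_eq_opensRange_inf, Scheme.Opens.opensRange_ι, hG]
  exact hU.basicOpen f

/-- `X_s ∩ U` is affine for `U` affine. -/
theorem isAffineOpen_genLocus_inf (L : X.Modules) (hL : PicF.IsInvertible L) (s : unitMod X ⟶ L)
    {U : X.Opens} (hU : IsAffineOpen U) : IsAffineOpen (CohB1.genLocus L s ⊓ U) := by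
  haveI := isAffineHom_genLocus_ι L hL s
  have h1 : IsAffineOpen ((CohB1.genLocus L s).ι ⁻¹ᵁ U) := hU.preimage _
  have h2 := h1.image_of_isOpenImmersion (CohB1.genLocus L s).ι
  rwa [Scheme.Hom.image_preimage_eq_opensRange_inf, Scheme.Opens.opensRange_ι] at h2

/-- generation of the coordinate ring of a basic open by the two restrictions. -/
theorem closure_range_res_eq_top {U U' V : X.Opens} (hU : IsAffineOpen U) (hVU : V ≤ U)
    (hVU' : V ≤ U') (h : Γ(X, U)) (g : Γ(X, U')) (hV : V = X.basicOpen h)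
    (hgh : X.presheaf.map (homOfLE hVU).op h * X.presheaf.map (homOfLE hVU').op g = 1) :
    Subring.closure (Set.range (X.presheaf.map (homOfLE hVU).op).hom ∪
      Set.range (X.presheaf.map (homOfLE hVU').op).hom) = ⊤ := by
  subst hV
  haveI := hU.isLocalization_basicOpen h
  rw [eq_top_iff]
  intro z _
  obtain ⟨⟨a, ⟨_, k, rfl⟩⟩, hz⟩ := IsLocalization.surj (Submonoid.powers h) z
  have hz' : z * (X.presheaf.map (homOfLE hVU).op h) ^ k = X.presheaf.map (homOfLE hVU).op a := by
    rw [← map_pow]; exact hz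
  have hz2 : z = X.presheaf.map (homOfLE hVU).op a * (X.presheaf.map (homOfLE hVU').op g) ^ k := by
    rw [← hz', mul_assoc, ← mul_pow, hgh, one_pow, mul_one]
  rw [hz2]
  apply Subring.mul_mem
  · exact Subring.subset_closure (Or.inl ⟨a, rfl⟩)
  · apply Subring.pow_mem
    exact Subring.subset_closure (Or.inr ⟨g, rfl⟩)

/-- transport of a section of a tensor power along an equality of exponents. -/
noncomputable def castSec (L : X.Modules) {k k' : ℕ} (h : k = k')
    (σ : unitMod X ⟶ CohB1.tensorPow L k) : unitMod X ⟶ CohB1.tensorPow L k' := h ▸ σ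

lemma genLocus_castSec (L : X.Modules) {k k' : ℕ} (h : k = k')
    (σ : unitMod X ⟶ CohB1.tensorPow L k) :
    CohB1.genLocus _ (castSec L h σ) = CohB1.genLocus _ σ := by
  subst h; rfl

lemma val_res {L : X.Modules} (s : unitMod X ⟶ L) {U V : X.Opens} (h : V ≤ U) :
    L.presheaf.map (homOfLE h).op (SecTwist.val s U) = SecTwist.val s V :=
  SecTwist.map_val s (homOfLE h)

lemma isBasisOver_val_of_le {L : X.Modules} (s : unitMod X ⟶ L) {V : X.Opens}
    (h : V ≤ CohB1.genLocus L s) : IsBasisOver L V (SecTwist.val s V) :=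
  (le_genLocus_iff_isBasisOver L s V).mp h

/-- for two sections of the same tensor power, the intersection of their loci is a basic open of
either, and its coordinate ring is generated by the two restrictions. -/
theorem closure_range_res_genLocus {M : X.Modules} (τ ρ : unitMod X ⟶ M)
    (hτ : IsAffineOpen (CohB1.genLocus M τ)) :
    Subring.closure
      (Set.range (X.presheaf.map (homOfLE (inf_le_left :
        CohB1.genLocus M τ ⊓ CohB1.genLocus M ρ ≤ CohB1.genLocus M τ)).op).hom ∪
      Set.range (X.presheaf.map (homOfLE (inf_le_right :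
        CohB1.genLocus M τ ⊓ CohB1.genLocus M ρ ≤ CohB1.genLocus M ρ)).op).hom) = ⊤ := by
  set U := CohB1.genLocus M τ with hU
  set U' := CohB1.genLocus M ρ with hU'
  have bτ : IsBasisOver M U (SecTwist.val τ U) := isBasisOver_val_of_le τ le_rfl
  have bρ : IsBasisOver M U' (SecTwist.val ρ U') := isBasisOver_val_of_le ρ le_rfl
  obtain ⟨h, hh⟩ := bτ.exists_coord (SecTwist.val ρ U)
  obtain ⟨g, hg⟩ := bρ.exists_coord (SecTwist.val τ U')
  have hV : U ⊓ U' = X.basicOpen h := by
    rw [inf_comm]; exact genLocus_inf_eq_basicOpen ρ bτ h hh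
  have h1 : SecTwist.val ρ (U ⊓ U') =
      X.presheaf.map (homOfLE (inf_le_left : U ⊓ U' ≤ U)).op h • SecTwist.val τ (U ⊓ U') := by
    rw [← val_res ρ (inf_le_left : U ⊓ U' ≤ U), hh, ← val_res τ (inf_le_left : U ⊓ U' ≤ U)]
    exact Scheme.Modules.map_smul M _ _ _
  have h2 : SecTwist.val τ (U ⊓ U') =
      X.presheaf.map (homOfLE (inf_le_right : U ⊓ U' ≤ U')).op g • SecTwist.val ρ (U ⊓ U') := by
    rw [← val_res τ (inf_le_right : U ⊓ U' ≤ U'), hg, ← val_res ρ (inf_le_right : U ⊓ U' ≤ U')]
    exact Scheme.Modules.map_smul M _ _ _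
  have bV : IsBasisOver M (U ⊓ U') (SecTwist.val τ (U ⊓ U')) :=
    isBasisOver_val_of_le τ inf_le_left
  have hgh : X.presheaf.map (homOfLE (inf_le_left : U ⊓ U' ≤ U)).op h *
      X.presheaf.map (homOfLE (inf_le_right : U ⊓ U' ≤ U')).op g = 1 := by
    apply bV.coord_injective
    rw [one_smul, mul_comm, mul_smul]
    exact ((congrArg (fun z => X.presheaf.map (homOfLE (inf_le_right : U ⊓ U' ≤ U')).op g • z)
      h1.symm).trans h2.symm)
  exact closure_range_res_eq_top hτ inf_le_left inf_le_right h g hV hgh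

/-- a scheme covered by affine opens `X_s`, `s` a section of a positive power of an invertible
module, is separated. -/
theorem isSeparated_of_affine_genLocus (L : X.Modules) (hL : PicF.IsInvertible L)
    (h : ∀ x : X, ∃ (n : ℕ) (s : unitMod X ⟶ CohB1.tensorPow L (n + 1)),
      x ∈ CohB1.genLocus _ s ∧ IsAffineOpen (CohB1.genLocus _ s)) : X.IsSeparated := by
  haveI : L.IsQuasicoherent := qc_of_isInvertible L hL
  choose n s hx hAff using h
  apply isSeparated_of_affine_cover (fun x => CohB1.genLocus _ (s x)) hAff (fun x => ⟨x, hx x⟩)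
  · intro x y
    rw [inf_comm]
    exact isAffineOpen_genLocus_inf _ (isInvertible_tensorPow hL _) (s y) (hAff x)
  · intro x y
    let τ := secMulPow L (s x) (n y + 1)
    let ρ := castSec L (show powIdx (n y + 1) (n x + 1) = powIdx (n x + 1) (n y + 1) by
      rw [powIdx_eq, powIdx_eq, mul_comm]) (secMulPow L (s y) (n x + 1))
    have hτ : CohB1.genLocus _ τ = CohB1.genLocus _ (s x) := genLocus_secMulPow hL (s x) (n y)
    have hρ : CohB1.genLocus _ ρ = CohB1.genLocus _ (s y) :=
      (genLocus_castSec L _ _).trans (genLocus_secMulPow hL (s y) (n x))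
    have key : ∀ (A B : X.Opens), CohB1.genLocus _ τ = A → CohB1.genLocus _ ρ = B →
        IsAffineOpen A → Subring.closure
          (Set.range (X.presheaf.map (homOfLE (inf_le_left : A ⊓ B ≤ A)).op).hom ∪
            Set.range (X.presheaf.map (homOfLE (inf_le_right : A ⊓ B ≤ B)).op).hom) = ⊤ := by
      intro A B hA hB hAaff
      subst hA; subst hB
      exact closure_range_res_genLocus τ ρ hAaff
    exact key _ _ hτ hρ (hAff x)

end Groth.Agent.LD.QC
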