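import Groth.Agent.Lib.Lead.QC.AmpleExt
import Groth.Agent.Lib.Lead.QC.SepAmple
universe u
open CategoryTheory Limits AlgebraicGeometry TopologicalSpace Opposite TensorProduct

namespace Groth.Agent.LD.QC
variable {X : Scheme.{u}}

lemma val_homOfSection (M : X.Modules) (t : Γ(M, ⊤)) (U : X.Opens) :
    SecTwist.val (homOfSection M t) U = M.presheaf.map (homOfLE (le_top : U ≤ ⊤)).op t := by
  have h := Equiv.apply_symm_apply (SheafOfModules.unitHomEquiv M) (secOfTop M t)
  have h1 : ((SheafOfModules.unitHomEquiv M) (homOfSection M t)).val (op U) =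
      SecTwist.val (homOfSection M t) U := rfl
  rw [← h1]
  change ((SheafOfModules.unitHomEquiv M) ((SheafOfModules.unitHomEquiv M).symm (secOfTop M t))).val
    (op U) = _
  rw [h]
  rfl

/-- `(L^a)^m ≅ L^(a m)`. -/
noncomputable def powPowIso (L : X.Modules) [L.IsQuasicoherent] (a : ℕ) :
    (m : ℕ) → (CohB1.tensorPow (CohB1.tensorPow L a) m ≅ CohB1.tensorPow L (powIdx a m))
  | 0 => Iso.refl _
  | m + 1 => tensorIso' (powPowIso L a m) (Iso.refl _) ≪≫ powAddIso L (powIdx a m) a

/-- on a quasi-compact quasi-separated scheme, for `s` a section of `L^a` and `g` a function on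
`X_s`, the non-vanishing locus of `g` is of the form `X_t` for a section `t` of a power of `L`
(with exponent a positive multiple of `a`). -/
theorem exists_genLocus_eq_basicOpen [CompactSpace X] [QuasiSeparatedSpace X] (L : X.Modules)
    (hL : PicF.IsInvertible L) {a : ℕ} (s : unitMod X ⟶ CohB1.tensorPow L a)
    (g : Γ(X, CohB1.genLocus _ s)) :
    ∃ (m : ℕ) (t : unitMod X ⟶ CohB1.tensorPow L (powIdx a (m + 1))),
      CohB1.genLocus _ t = X.basicOpen g := by
  haveI : L.IsQuasicoherent := qc_of_isInvertible L hL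
  have hM : PicF.IsInvertible (CohB1.tensorPow L a) := isInvertible_tensorPow hL a
  obtain ⟨n, -, t', ht'⟩ := exists_extension_twist (CohB1.tensorPow L a) hM s (unitMod X) g
  -- the section of `O ⊗ M^n`
  let T : unitMod X ⟶ CohB1.tensorMod (unitMod X) (CohB1.tensorPow (CohB1.tensorPow L a) n) :=
    homOfSection _ t'
  have hbasis : IsBasisOver (CohB1.tensorPow L a) (CohB1.genLocus _ s)
      (SecTwist.val s (CohB1.genLocus _ s)) := isBasisOver_val_of_le s le_rfl
  have hbasis2 := (isBasisOver_one (CohB1.genLocus _ s)).tmul (hbasis.secPow n)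
  have hval : SecTwist.val T (CohB1.genLocus _ s) =
      g • SecTwist.tmul (unitMod X) (CohB1.tensorPow (CohB1.tensorPow L a) n) (CohB1.genLocus _ s)
        (1 : Γ(X, CohB1.genLocus _ s)) (secPow (SecTwist.val s (CohB1.genLocus _ s)) n) := by
    rw [val_homOfSection]
    refine ht'.trans ?_
    rw [← tmul_smul_left]
    change SecTwist.tmul (unitMod X) (CohB1.tensorPow (CohB1.tensorPow L a) n) (CohB1.genLocus _ s)
      g (SecTwist.pow s n _) = _
    rw [pow_eq_secPow]
    congr 1
    exact (mul_one g).symm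
  have hG := genLocus_inf_eq_basicOpen T hbasis2 g hval
  -- multiply by `s`
  let T1 := SecTwist.tmulHom T s
  have hT1 : CohB1.genLocus _ T1 = X.basicOpen g := by
    rw [genLocus_tmulHom (isInvertible_tensorMod (isInvertible_unit X) (isInvertible_tensorPow hM n))
      hM, hG]
  let φ : CohB1.tensorMod (CohB1.tensorMod (unitMod X) (CohB1.tensorPow (CohB1.tensorPow L a) n))
      (CohB1.tensorPow L a) ≅ CohB1.tensorPow (CohB1.tensorPow L a) ((0 + n) + 1) :=
    tensorIso' (powAddIso (CohB1.tensorPow L a) 0 n) (Iso.refl _)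
  refine ⟨0 + n, T1 ≫ φ.hom ≫ (powPowIso L a ((0 + n) + 1)).hom, ?_⟩
  rw [← Category.assoc, genLocus_comp_iso, genLocus_comp_iso, hT1]

end Groth.Agent.LD.QC
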