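import Groth.Agent.Lib.Lead.QC.TensorComm
import Groth.Agent.Lib.Lead.QC.AmpleBasis
universe u
open CategoryTheory Limits AlgebraicGeometry TopologicalSpace Opposite

namespace Groth.Agent.LD.QC
variable {X : Scheme.{u}}

section PowHom

theorem genLocus_powHom_succ {L : X.Modules} (hL : PicF.IsInvertible L) (s : unitMod X ⟶ L)
    (n : ℕ) : CohB1.genLocus _ (SecTwist.powHom s (n + 1)) = CohB1.genLocus L s := by
  induction n with
  | zero =>
    change CohB1.genLocus _ (SecTwist.tmulHom (SecTwist.powHom s 0) s) = _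
    rw [genLocus_tmulHom (isInvertible_tensorPow hL 0) hL]
    have : CohB1.genLocus (CohB1.tensorPow L 0) (SecTwist.powHom s 0) = ⊤ := genLocus_id X
    rw [this, top_inf_eq]
  | succ n ih =>
    change CohB1.genLocus _ (SecTwist.tmulHom (SecTwist.powHom s (n + 1)) s) = _
    rw [genLocus_tmulHom (isInvertible_tensorPow hL (n + 1)) hL, ih, inf_idem]

theorem le_genLocus_powHom {L : X.Modules} (hL : PicF.IsInvertible L) (s : unitMod X ⟶ L)
    (n : ℕ) : CohB1.genLocus L s ≤ CohB1.genLocus _ (SecTwist.powHom s n) := by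
  cases n with
  | zero =>
    have : CohB1.genLocus (CohB1.tensorPow L 0) (SecTwist.powHom s 0) = ⊤ := genLocus_id X
    rw [this]; exact le_top
  | succ n => rw [genLocus_powHom_succ hL]

end PowHom

section Mon
variable (L M : X.Modules) [L.IsQuasicoherent] [M.IsQuasicoherent]

/-- `A` is isomorphic to `L^a ⊗ M^b`. -/
def IsMon (A : X.Modules) (a b : ℕ) : Prop :=
  Nonempty (A ≅ CohB1.tensorMod (CohB1.tensorPow L a) (CohB1.tensorPow M b))

variable {L M}

lemma IsMon.cast {A : X.Modules} {a b a' b' : ℕ} (h : IsMon L M A a b) (ha : a = a')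
    (hb : b = b') : IsMon L M A a' b' := by
  subst ha hb; exact h

lemma IsMon.of_iso {A A' : X.Modules} {a b : ℕ} (h : IsMon L M A a b) (e : A ≅ A') :
    IsMon L M A' a b :=
  ⟨e.symm ≪≫ h.some⟩

lemma IsMon.iso {A A' : X.Modules} {a b : ℕ} (h : IsMon L M A a b) (h' : IsMon L M A' a b) :
    Nonempty (A ≅ A') :=
  ⟨h.some ≪≫ h'.some.symm⟩

variable (L M)

lemma isMon_powLeft (a : ℕ) : IsMon L M (CohB1.tensorPow L a) a 0 :=
  ⟨(SecTwist.unitorR _).symm⟩

lemma isMon_powRight (b : ℕ) : IsMon L M (CohB1.tensorPow M b) 0 b :=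
  ⟨(unitorL _).symm⟩

lemma isMon_unit : IsMon L M (unitMod X) 0 0 :=
  ⟨(SecTwist.unitorR _).symm⟩

lemma isMon_left : IsMon L M L 1 0 :=
  ⟨(unitorL L).symm ≪≫ (SecTwist.unitorR _).symm⟩

lemma isMon_right : IsMon L M M 0 1 :=
  ⟨(unitorL M).symm ≪≫ (unitorL _).symm⟩

variable {L M}

lemma IsMon.tensor {A A' : X.Modules} {a b a' b' : ℕ} (h : IsMon L M A a b)
    (h' : IsMon L M A' a' b') : IsMon L M (CohB1.tensorMod A A') (a + a') (b + b') :=
  ⟨tensorIso' h.some h'.some ≪≫
    tensorMiddleFour (CohB1.tensorPow L a) (CohB1.tensorPow M b) (CohB1.tensorPow L a')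
      (CohB1.tensorPow M b') ≪≫
    tensorIso' (powAddIso L a a') (powAddIso M b b')⟩

lemma IsMon.pow {A : X.Modules} {a b : ℕ} (h : IsMon L M A a b) (n : ℕ) :
    IsMon L M (CohB1.tensorPow A n) (n * a) (n * b) := by
  induction n with
  | zero => exact (isMon_unit L M).cast (Nat.zero_mul a).symm (Nat.zero_mul b).symm
  | succ n ih =>
    exact (ih.tensor h).cast (Nat.succ_mul n a).symm (Nat.succ_mul n b).symm

end Mon

end Groth.Agent.LD.QC
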