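import Groth.Agent.Lib.Lead.QC.LocalBase2
import Groth.Agent.S2336
import Groth.Prelude.Def_Mor2
universe u
open CategoryTheory Limits AlgebraicGeometry TopologicalSpace Opposite

namespace Groth.Agent.LD.QC
variable {X Y : Scheme.{u}}

/-- `O` is ample on a quasi-affine open subscheme presented by any open immersion. -/
lemma isAmple_unit_restrict_of_isQuasiAffine {X Y : Scheme.{u}} (j : Y ⟶ X) [IsOpenImmersion j]
    [Y.IsQuasiAffine] : CohB1.IsAmple ((unitMod X).restrict j) :=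
  isAmple_of_iso (Scheme.Modules.restrictUnitIso j).symm
    ((Groth.Agent.S2336.result Y).mp inferInstance)

lemma isQuasiAffine_of_isAmple_unit_restrict {X Y : Scheme.{u}} (j : Y ⟶ X) [IsOpenImmersion j]
    (h : CohB1.IsAmple ((unitMod X).restrict j)) : Y.IsQuasiAffine := by
  have hA' := isAmple_of_iso (Scheme.Modules.restrictUnitIso j) h
  haveI : CompactSpace Y := hA'.2.1
  haveI : Y.IsSeparated := isSeparated_of_affine_genLocus _ hA'.1 hA'.2.2
  exact (Groth.Agent.S2336.result Y).mpr hA'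

/-- quasi-affineness only depends on the underlying open. -/
lemma isQuasiAffine_of_opensRange_eq {X Y Y' : Scheme.{u}} (j : Y ⟶ X) (j' : Y' ⟶ X)
    [IsOpenImmersion j] [IsOpenImmersion j'] (he : j.opensRange = j'.opensRange)
    [Y'.IsQuasiAffine] : Y.IsQuasiAffine :=
  isQuasiAffine_of_isAmple_unit_restrict j
    (isAmple_restrict_of_opensRange_eq j j' he _ (isAmple_unit_restrict_of_isQuasiAffine j'))

/-- **a scheme quasi-affine over a quasi-affine scheme is quasi-affine.** -/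
theorem isQuasiAffine_of_isQuasiAffine_hom (f : X ⟶ Y) (hf : Mor2.IsQuasiAffine f)
    [Y.IsQuasiAffine] : X.IsQuasiAffine := by
  haveI := hf.1
  haveI : CompactSpace X := QuasiCompact.compactSpace_of_compactSpace f
  let ι' := { r : Γ(Y, ⊤) // IsAffineOpen (Y.basicOpen r) }
  have hA : CohB1.IsAmple (unitMod X) := by
    apply isAmple_of_basicOpen_cover (unitMod X) (fun i : ι' => f.appTop i.1)
    · rw [eq_top_iff]
      intro x _
      obtain ⟨_, ⟨_, ⟨r, hr, rfl⟩, rfl⟩, hxr, -⟩ := (Scheme.IsQuasiAffine.isBasis_basicOpen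
        Y).exists_subset_of_mem_open (Set.mem_univ (f x)) isOpen_univ
      refine Opens.mem_iSup.mpr ⟨⟨r, hr⟩, ?_⟩
      rw [← Scheme.preimage_basicOpen_top]
      exact hxr
    · intro i
      haveI := hf.2 (Y.basicOpen i.1) i.2
      apply isAmple_restrict_of_opensRange_eq _ (f ⁻¹ᵁ Y.basicOpen i.1).ι _ _
        (isAmple_unit_restrict_of_isQuasiAffine _)
      rw [Scheme.Opens.opensRange_ι, Scheme.Opens.opensRange_ι, Scheme.preimage_basicOpen_top]
  haveI : X.IsSeparated := isSeparated_of_affine_genLocus _ hA.1 hA.2.2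
  exact (Groth.Agent.S2336.result X).mpr hA

/-- restrictions of quasi-affine morphisms over opens of the base are quasi-affine. -/
theorem isQuasiAffine_morphismRestrict (f : X ⟶ Y) (hf : Mor2.IsQuasiAffine f) (U : Y.Opens) :
    Mor2.IsQuasiAffine (f ∣_ U) := by
  haveI := hf.1
  refine ⟨inferInstance, fun V' hV' => ?_⟩
  haveI := hf.2 (U.ι ''ᵁ V') (hV'.image_of_isOpenImmersion U.ι)
  apply isQuasiAffine_of_opensRange_eq (((f ∣_ U) ⁻¹ᵁ V').ι ≫ (f ⁻¹ᵁ U).ι) (f ⁻¹ᵁ (U.ι ''ᵁ V')).ι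
  rw [Scheme.Hom.opensRange_comp, Scheme.Opens.opensRange_ι, Scheme.Opens.opensRange_ι,
    image_morphismRestrict_preimage]

theorem isQuasiAffine_comp {Z : Scheme.{u}} (f : X ⟶ Y) (g : Y ⟶ Z) (hf : Mor2.IsQuasiAffine f)
    (hg : Mor2.IsQuasiAffine g) : Mor2.IsQuasiAffine (f ≫ g) := by
  haveI := hf.1
  haveI := hg.1
  refine ⟨inferInstance, fun W hW => ?_⟩
  haveI := hg.2 W hW
  exact isQuasiAffine_of_isQuasiAffine_hom (f ∣_ (g ⁻¹ᵁ W)) (isQuasiAffine_morphismRestrict f hf _)

end Groth.Agent.LD.QC
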