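import Groth.Agent.Lib.Lead.QC.PullInv
import Groth.Agent.Lib.Lead.QC.QAffHom
import Groth.Agent.S2337
import Groth.Agent.S9691
universe u
open CategoryTheory Limits AlgebraicGeometry TopologicalSpace Opposite TensorProduct

namespace Groth.Agent.LD.QC
variable {X X' : Scheme.{u}} (g : X' ⟶ X)

/-- the pullback of a section of `L^{⊗ n}`, as a section of `(g^* L)^{⊗ n}`. -/
noncomputable def pbPowHom (L : X.Modules) (hL : PicF.IsInvertible L) {n : ℕ}
    (s : unitMod X ⟶ CohB1.tensorPow L n) :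
    unitMod X' ⟶ CohB1.tensorPow ((Scheme.Modules.pullback g).obj L) n :=
  pbHom g s ≫ (pbTensorPowIso g L hL n).hom

theorem genLocus_pbPowHom (L : X.Modules) (hL : PicF.IsInvertible L) {n : ℕ}
    (s : unitMod X ⟶ CohB1.tensorPow L n) :
    CohB1.genLocus _ (pbPowHom g L hL s) = g ⁻¹ᵁ CohB1.genLocus _ s := by
  rw [pbPowHom, genLocus_comp_iso, genLocus_pbHom g (isInvertible_tensorPow hL n)]

/-- **pullback of an ample module along a morphism with enough affine neighbourhoods**: this covers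
affine morphisms and quasi-compact embeddings. -/
theorem isAmple_pullback_of_affine_nhds [CompactSpace X'] (L : X.Modules)
    (hL : CohB1.IsAmple L)
    (H : ∀ x' : X', ∃ (W : X.Opens) (W' : X'.Opens), g x' ∈ W ∧ IsAffineOpen W' ∧ g ⁻¹ᵁ W ≤ W') :
    CohB1.IsAmple ((Scheme.Modules.pullback g).obj L) := by
  haveI : CompactSpace X := hL.2.1
  haveI : X.IsSeparated := isSeparated_of_affine_genLocus _ hL.1 hL.2.2
  have hL' := isInvertible_pullback g hL.1
  refine ⟨hL', inferInstance, fun x' => ?_⟩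
  obtain ⟨W, W', hxW, hW', hWW'⟩ := H x'
  obtain ⟨n, s, hxs, hsW, -⟩ := exists_affine_genLocus_le L hL (g x') W hxW
  refine ⟨n, pbPowHom g L hL.1 s, ?_, ?_⟩
  · rw [genLocus_pbPowHom]; exact hxs
  · have h1 := isAffineOpen_genLocus_inf _ (isInvertible_tensorPow hL' (n + 1))
      (pbPowHom g L hL.1 s) hW'
    have h2 : CohB1.genLocus _ (pbPowHom g L hL.1 s) ≤ W' := by
      rw [genLocus_pbPowHom]
      exact (fun y hy => hWW' (hsW hy))
    rwa [inf_eq_left.mpr h2] at h1

/-- **pullback of an ample module along a quasi-affine morphism is ample** (EGA II 5.1.12). -/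
theorem isAmple_pullback_of_isQuasiAffine (L : X.Modules) (hL : CohB1.IsAmple L)
    (hg : Mor2.IsQuasiAffine g) : CohB1.IsAmple ((Scheme.Modules.pullback g).obj L) := by
  haveI : CompactSpace X := hL.2.1
  haveI : X.IsSeparated := isSeparated_of_affine_genLocus _ hL.1 hL.2.2
  haveI := hg.1
  haveI : CompactSpace X' := QuasiCompact.compactSpace_of_compactSpace g
  haveI : IsSeparated g := Groth.Agent.S9691.result g _ ((Groth.Agent.S2337.result g).mp hg)
  haveI : X'.IsSeparated := ⟨by rw [← terminal.comp_from g]; infer_instance⟩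
  haveI : QuasiSeparatedSpace X' := inferInstance
  have hL' := isInvertible_pullback g hL.1
  refine ⟨hL', inferInstance, fun x' => ?_⟩
  obtain ⟨n, s, hxs, haff⟩ := hL.2.2 (g x')
  have hs' := genLocus_pbPowHom g L hL.1 s
  haveI := hg.2 _ haff
  haveI : (CohB1.genLocus _ (pbPowHom g L hL.1 s)).toScheme.IsQuasiAffine :=
    isQuasiAffine_of_opensRange_eq (CohB1.genLocus _ (pbPowHom g L hL.1 s)).ι
      (g ⁻¹ᵁ CohB1.genLocus _ s).ι
      (by rw [Scheme.Opens.opensRange_ι, Scheme.Opens.opensRange_ι, hs'])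
  have hx'U : x' ∈ CohB1.genLocus _ (pbPowHom g L hL.1 s) := by rw [hs']; exact hxs
  obtain ⟨_, ⟨_, ⟨r₀, hr₀, rfl⟩, rfl⟩, hxr, -⟩ := (Scheme.IsQuasiAffine.isBasis_basicOpen
    (CohB1.genLocus _ (pbPowHom g L hL.1 s)).toScheme).exists_subset_of_mem_open
      (Set.mem_univ (⟨x', hx'U⟩ : (CohB1.genLocus _ (pbPowHom g L hL.1 s)).toScheme)) isOpen_univ
  let r : Γ(X', CohB1.genLocus _ (pbPowHom g L hL.1 s)) :=
    (CohB1.genLocus _ (pbPowHom g L hL.1 s)).topIso.hom r₀
  have hr : (CohB1.genLocus _ (pbPowHom g L hL.1 s)).ι ''ᵁ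
      (CohB1.genLocus _ (pbPowHom g L hL.1 s)).toScheme.basicOpen r₀ = X'.basicOpen r := by
    have h1 := Scheme.Opens.ι_image_basicOpen_topIso_inv
      (U := CohB1.genLocus _ (pbPowHom g L hL.1 s)) r
    have h2 : (CohB1.genLocus _ (pbPowHom g L hL.1 s)).topIso.inv r = r₀ := by
      change ((CohB1.genLocus _ (pbPowHom g L hL.1 s)).topIso.hom ≫
        (CohB1.genLocus _ (pbPowHom g L hL.1 s)).topIso.inv) r₀ = r₀
      rw [Iso.hom_inv_id]; rfl
    rwa [h2] at h1
  obtain ⟨m, t, ht⟩ := exists_genLocus_eq_basicOpen _ hL' (pbPowHom g L hL.1 s) r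
  obtain ⟨k, hk⟩ : ∃ k, powIdx (n + 1) (m + 1) = k + 1 :=
    Nat.exists_eq_succ_of_ne_zero (powIdx_pos (Nat.succ_pos n) m).ne'
  refine ⟨k, castSec _ hk t, ?_, ?_⟩
  · rw [genLocus_castSec, ht, ← hr]
    exact ⟨⟨x', hx'U⟩, hxr, rfl⟩
  · rw [genLocus_castSec, ht, ← hr]
    exact hr₀.image_of_isOpenImmersion _

end Groth.Agent.LD.QC
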