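import Groth.Agent.Lib.Lead.QC.ClaimA
import Groth.Agent.Lib.Lead.QC.PullAmple
universe u
open CategoryTheory Limits AlgebraicGeometry TopologicalSpace Opposite

namespace Groth.Agent.LD.QC
variable {X : Scheme.{u}}

/-- a scheme covered by affine opens of the form `X_s`, `s` sections of invertible modules, is
quasi-separated. -/
theorem quasiSeparatedSpace_of_genLocus_cover
    (h : ∀ x : X, ∃ (L : X.Modules) (s : unitMod X ⟶ L), PicF.IsInvertible L ∧
      x ∈ CohB1.genLocus L s ∧ IsAffineOpen (CohB1.genLocus L s)) : QuasiSeparatedSpace X := by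
  choose L s hL hxs haff using h
  rw [quasiSeparatedSpace_iff_forall_affineOpens]
  intro U V
  have hpiece : ∀ x, IsCompact ((U.1 ⊓ V.1 ⊓ CohB1.genLocus _ (s x) : X.Opens) : Set X) := by
    intro x
    haveI : IsAffine (CohB1.genLocus _ (s x)).toScheme := haff x
    let j := (CohB1.genLocus _ (s x)).ι
    have hA : ∀ W : X.affineOpens, IsAffineOpen (j ⁻¹ᵁ W.1) := by
      intro W
      rw [← Scheme.Hom.isAffineOpen_iff_of_isOpenImmersion j,
        Scheme.Hom.image_preimage_eq_opensRange_inf, Scheme.Opens.opensRange_ι]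
      exact isAffineOpen_genLocus_inf _ (hL x) (s x) W.2
    have hc : IsCompact ((j ⁻¹ᵁ U.1 ⊓ j ⁻¹ᵁ V.1 : (CohB1.genLocus _ (s x)).toScheme.Opens) :
        Set (CohB1.genLocus _ (s x)).toScheme) :=
      ((hA U).inf (hA V)).isCompact
    have := hc.image j.continuous
    convert this using 1
    ext z
    constructor
    · rintro ⟨⟨hxU, hxV⟩, hxr⟩
      exact ⟨⟨z, hxr⟩, ⟨hxU, hxV⟩, rfl⟩
    · rintro ⟨y, ⟨hyU, hyV⟩, rfl⟩
      exact ⟨⟨hyU, hyV⟩, y.2⟩
  have hUc : IsCompact (U.1 : Set X) := U.2.isCompact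
  obtain ⟨F, hF⟩ := hUc.elim_finite_subcover (fun x => (CohB1.genLocus _ (s x) : Set X))
    (fun x => (CohB1.genLocus _ (s x)).2) (fun x _ => Set.mem_iUnion.mpr ⟨x, hxs x⟩)
  have heq : (U.1 ∩ V.1 : Set X) =
      ⋃ x ∈ F, ((U.1 ⊓ V.1 ⊓ CohB1.genLocus _ (s x) : X.Opens) : Set X) := by
    ext z
    simp only [Set.mem_inter_iff, Set.mem_iUnion, SetLike.mem_coe, Opens.coe_inf, exists_prop]
    constructor
    · rintro ⟨hxU, hxV⟩
      obtain ⟨i, hi, hx⟩ := Set.mem_iUnion₂.mp (hF hxU)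
      exact ⟨i, hi, ⟨hxU, hxV⟩, hx⟩
    · rintro ⟨i, hi, ⟨hxU, hxV⟩, hx⟩
      exact ⟨hxU, hxV⟩
  rw [heq]
  exact F.isCompact_biUnion (fun i _ => hpiece i)

/-- **Claim A**: if `L` is ample on `X_s`, every point of `X_s` has an affine neighbourhood of the
form `X_T ⊆ X_s` with `T` a section of `L^{k+1} ⊗ M^n ⊗ M`. -/
theorem exists_affine_genLocus_of_isAmple_restrict [CompactSpace X] [QuasiSeparatedSpace X]
    (M : X.Modules) (hM : PicF.IsInvertible M) (s : unitMod X ⟶ M) (L : X.Modules)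
    (hL : PicF.IsInvertible L) (hamp : CohB1.IsAmple (L.restrict (CohB1.genLocus M s).ι))
    (x : X) (hx : x ∈ CohB1.genLocus M s) :
    ∃ (k n : ℕ) (T : unitMod X ⟶ CohB1.tensorMod (CohB1.tensorMod (CohB1.tensorPow L (k + 1))
        (CohB1.tensorPow M n)) M),
      x ∈ CohB1.genLocus _ T ∧ IsAffineOpen (CohB1.genLocus _ T) ∧
        CohB1.genLocus _ T ≤ CohB1.genLocus M s := by
  let U := CohB1.genLocus M s
  let x' : U.toScheme := ⟨x, hx⟩
  obtain ⟨k, σ, hxσ, haff⟩ := hamp.2.2 x'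
  let σ' : unitMod U.toScheme ⟶ (CohB1.tensorPow L (k + 1)).restrict U.ι :=
    σ ≫ (restrictTensorPowIso U.ι L (k + 1)).hom
  have hσ' : CohB1.genLocus _ σ' = CohB1.genLocus _ σ := genLocus_comp_iso σ _
  obtain ⟨n, T, hT⟩ := exists_genLocus_eq_image_twist M hM s (CohB1.tensorPow L (k + 1))
    (isInvertible_tensorPow hL (k + 1)) σ'
  refine ⟨k, n, T, ?_, ?_, ?_⟩
  · rw [hT, hσ']
    exact ⟨x', hxσ, rfl⟩
  · rw [hT, hσ']
    exact haff.image_of_isOpenImmersion U.ι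
  · rw [hT]
    exact U.ι_image_le _

/-- invertibility is local. -/
theorem isInvertible_of_local (L : X.Modules)
    (h : ∀ x : X, ∃ U : X.Opens, x ∈ U ∧ PicF.IsInvertible (L.restrict U.ι)) :
    PicF.IsInvertible L := by
  rw [isInvertible_iff_exists_isBasisOver]
  intro x
  obtain ⟨U, hxU, hU⟩ := h x
  rw [isInvertible_iff_exists_isBasisOver] at hU
  let x' : U.toScheme := ⟨x, hxU⟩
  obtain ⟨U', e', hxU', he'⟩ := hU x'
  exact ⟨U.ι ''ᵁ U', e', ⟨x', hxU', rfl⟩, (isBasisOver_restrict_iff U.ι L U' e').mp he'⟩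

/-- a relatively ample module is invertible. -/
theorem isInvertible_of_isRelAmple {Y : Scheme.{u}} (f : X ⟶ Y) (L : X.Modules)
    (hL : RelAmple.IsRelAmple f L) : PicF.IsInvertible L := by
  apply isInvertible_of_local
  intro x
  obtain ⟨V, hV, hxV, -⟩ :=
    exists_isAffineOpen_mem_and_subset (X := Y) (x := f x) (U := ⊤) trivial
  exact ⟨f ⁻¹ᵁ V, hxV, (hL.2 ⟨V, hV⟩).1⟩

end Groth.Agent.LD.QC
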