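import Groth.Agent.Lib.Lead.QC.Mon
import Groth.Agent.Lib.Lead.QC.AmpleFamily
import Groth.Agent.Lib.Lead.QC.AmpleGG
import Groth.Agent.S9691
universe u
open CategoryTheory Limits AlgebraicGeometry TopologicalSpace Opposite

namespace Groth.Agent.LD.QC

set_option maxHeartbeats 1000000 in
/-- **EGA II 4.6.13 (ii), over an affine base**: if `K` is ample on `Y` and `L` is ample relative
to `f : X ⟶ Y`, then `L ⊗ f^*(K^j)` is ample for all large `j`. -/
theorem exists_isAmple_twist_pullback {X Y : Scheme.{u}} (f : X ⟶ Y) (K : Y.Modules)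
    (hK : CohB1.IsAmple K) (L : X.Modules) (hL : RelAmple.IsRelAmple f L) :
    ∃ n₀ : ℕ, ∀ j, n₀ ≤ j → CohB1.IsAmple
      (CohB1.tensorMod L ((Scheme.Modules.pullback f).obj (CohB1.tensorPow K j))) := by
  classical
  haveI : CompactSpace Y := hK.2.1
  haveI : Y.IsSeparated := isSeparated_of_affine_genLocus _ hK.1 hK.2.2
  haveI : QuasiCompact f := hL.1
  haveI : CompactSpace X := QuasiCompact.compactSpace_of_compactSpace f
  haveI : IsSeparated f := Groth.Agent.S9691.result f L hL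
  haveI : X.IsSeparated := ⟨by rw [← terminal.comp_from f]; infer_instance⟩
  haveI : QuasiSeparatedSpace X := inferInstance
  have hLinv := isInvertible_of_isRelAmple f L hL
  let M := (Scheme.Modules.pullback f).obj K
  have hM : PicF.IsInvertible M := isInvertible_pullback f hK.1
  haveI : L.IsQuasicoherent := qc_of_isInvertible L hLinv
  haveI : M.IsQuasicoherent := qc_of_isInvertible M hM
  obtain ⟨m, hm, r, t, htaff, htcov⟩ := exists_common_power K hK
  let Mm := CohB1.tensorPow M m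
  have hMm : PicF.IsInvertible Mm := isInvertible_tensorPow hM m
  let t' : Fin r → (unitMod X ⟶ Mm) := fun i => pbPowHom f K hK.1 (t i)
  have ht' : ∀ i, CohB1.genLocus Mm (t' i) = f ⁻¹ᵁ CohB1.genLocus _ (t i) := fun i =>
    genLocus_pbPowHom f K hK.1 (t i)
  have hamp : ∀ i, CohB1.IsAmple (L.restrict (CohB1.genLocus Mm (t' i)).ι) := fun i =>
    (isAmple_restrict_iff (CohB1.genLocus Mm (t' i)).ι (f ⁻¹ᵁ CohB1.genLocus _ (t i))
      (by rw [Scheme.Opens.opensRange_ι, ht']) L).mpr (hL.2 ⟨_, htaff i⟩)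
  have hpt : ∀ x : X, ∃ (i : Fin r) (k n : ℕ)
      (T : unitMod X ⟶ CohB1.tensorMod (CohB1.tensorMod (CohB1.tensorPow L (k + 1))
        (CohB1.tensorPow Mm n)) Mm),
      x ∈ CohB1.genLocus _ T ∧ IsAffineOpen (CohB1.genLocus _ T) ∧
        CohB1.genLocus _ T ≤ CohB1.genLocus Mm (t' i) := by
    intro x
    obtain ⟨i, hi⟩ := htcov (f x)
    have hx : x ∈ CohB1.genLocus Mm (t' i) := by rw [ht']; exact hi
    obtain ⟨k, n, T, h1, h2, h3⟩ :=
      exists_affine_genLocus_of_isAmple_restrict Mm hMm (t' i) L hLinv (hamp i) x hx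
    exact ⟨i, k, n, T, h1, h2, h3⟩
  choose i k n T hxT hTaff hTle using hpt
  obtain ⟨F, hF⟩ := isCompact_univ.elim_finite_subcover
    (fun x : X => (CohB1.genLocus _ (T x) : Set X)) (fun x => (CohB1.genLocus _ (T x)).2)
    (fun x _ => Set.mem_iUnion.mpr ⟨x, hxT x⟩)
  refine ⟨F.sup (fun x => (n x + 1) * m), fun j hj => ?_⟩
  apply isAmple_of_iso (tensorIso' (Iso.refl L) (pbTensorPowIso f K hK.1 j).symm)
  refine ⟨isInvertible_tensorMod hLinv (isInvertible_tensorPow hM j), inferInstance, fun z => ?_⟩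
  obtain ⟨x, hxF, hzx⟩ := Set.mem_iUnion₂.mp (hF (Set.mem_univ z))
  have hjx : (n x + 1) * m ≤ j :=
    le_trans (Finset.le_sup (f := fun x => (n x + 1) * m) hxF) hj
  have hjx' : (n x + 1) * m ≤ j * (k x + 1) :=
    hjx.trans (Nat.le_mul_of_pos_right j (Nat.succ_pos _))
  obtain ⟨d, hd⟩ := Nat.exists_eq_add_of_le hjx'
  obtain ⟨e', he'⟩ := Nat.exists_eq_succ_of_ne_zero
    (Nat.mul_pos (Nat.succ_pos (k x)) hm).ne'
  have he'' : (k x + 1) * m = e' + 1 := he'
  let A4 := CohB1.tensorMod (CohB1.tensorMod (CohB1.tensorPow L (k x + 1))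
    (CohB1.tensorPow Mm (n x))) Mm
  have hA4inv : PicF.IsInvertible A4 :=
    isInvertible_tensorMod (isInvertible_tensorMod (isInvertible_tensorPow hLinv _)
      (isInvertible_tensorPow hMm _)) hMm
  let B := CohB1.tensorMod (CohB1.tensorPow A4 m) (CohB1.tensorPow Mm d)
  let S : unitMod X ⟶ B :=
    SecTwist.tmulHom (SecTwist.powHom (T x) m) (SecTwist.powHom (t' (i x)) d)
  have hS : CohB1.genLocus B S = CohB1.genLocus _ (T x) := by
    rw [genLocus_tmulHom (isInvertible_tensorPow hA4inv m) (isInvertible_tensorPow hMm d)]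
    obtain ⟨m', rfl⟩ := Nat.exists_eq_succ_of_ne_zero hm.ne'
    rw [genLocus_powHom_succ hA4inv]
    exact inf_eq_left.mpr ((hTle x).trans (le_genLocus_powHom hMm _ d))
  have hMmMon : IsMon L M Mm 0 m := isMon_powRight L M m
  have hA4 : IsMon L M A4 ((k x + 1) + n x * 0 + 0) (0 + n x * m + m) :=
    ((isMon_powLeft L M (k x + 1)).tensor (hMmMon.pow (n x))).tensor hMmMon
  have hB : IsMon L M B (m * ((k x + 1) + n x * 0 + 0) + d * 0)
      (m * (0 + n x * m + m) + d * m) := (hA4.pow m).tensor (hMmMon.pow d)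
  have hC : IsMon L M (CohB1.tensorPow (CohB1.tensorMod L (CohB1.tensorPow M j)) (e' + 1))
      ((e' + 1) * (1 + 0)) ((e' + 1) * (0 + j)) :=
    ((isMon_left L M).tensor (isMon_powRight L M j)).pow (e' + 1)
  have ha1 : m * ((k x + 1) + n x * 0 + 0) + d * 0 = (e' + 1) * (1 + 0) := by
    rw [← he'']; ring
  have ha2 : m * (0 + n x * m + m) + d * m = (e' + 1) * (0 + j) := by
    rw [← he'']
    have h1 : (k x + 1) * m * (0 + j) = m * (j * (k x + 1)) := by ring
    rw [h1, hd]; ring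
  obtain ⟨φ⟩ := (hB.cast ha1 ha2).iso hC
  refine ⟨e', S ≫ φ.hom, ?_, ?_⟩
  · rw [genLocus_comp_iso, hS]; exact hzx
  · rw [genLocus_comp_iso, hS]; exact hTaff x

/-- relative ampleness restricts to opens of the base. -/
theorem isRelAmple_morphismRestrict {X Y : Scheme.{u}} (f : X ⟶ Y) (L : X.Modules)
    (hL : RelAmple.IsRelAmple f L) (U : Y.Opens) :
    RelAmple.IsRelAmple (f ∣_ U) (L.restrict (f ⁻¹ᵁ U).ι) := by
  haveI := hL.1
  refine ⟨inferInstance, fun V => ?_⟩
  rw [isAmple_restrict_restrict_iff' (f ⁻¹ᵁ U).ι ((f ∣_ U) ⁻¹ᵁ V.1).ι L (f ⁻¹ᵁ (U.ι ''ᵁ V.1))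
    (by rw [Scheme.Opens.opensRange_ι, image_morphismRestrict_preimage])]
  exact hL.2 ⟨U.ι ''ᵁ V.1, V.2.image_of_isOpenImmersion U.ι⟩

end Groth.Agent.LD.QC
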