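import Groth.Agent.Lib.Lead.QC.IdealComap
universe u
open CategoryTheory Limits AlgebraicGeometry TopologicalSpace Opposite TensorProduct

namespace Groth.Agent.LD.QC

section Chart
variable {X S X' S' : Scheme.{u}} {f : X ⟶ S} {f' : X' ⟶ S'} {g' : X' ⟶ X} {g : S' ⟶ S}

/-- affine charts around a point of a fibre product, inside a given open of `X`. -/
theorem exists_affine_pushout_chart_le (hc : IsPullback g' f' f g) (x' : X') (O : X.Opens)
    (hO : g' x' ∈ O) :
    ∃ (W : S.Opens) (W' : S'.Opens) (U : X.Opens) (U' : X'.Opens) (hW'W : W' ≤ g ⁻¹ᵁ W)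
      (hUW : U ≤ f ⁻¹ᵁ W) (e1 : U' ≤ g' ⁻¹ᵁ U) (e2 : U' ≤ f' ⁻¹ᵁ W'),
      IsAffineOpen W ∧ IsAffineOpen W' ∧ IsAffineOpen U ∧ IsAffineOpen U' ∧ U ≤ O ∧ x' ∈ U' ∧
      IsPushout (f.appLE W U hUW) (g.appLE W W' hW'W) (g'.appLE U U' e1) (f'.appLE W' U' e2) := by
  have hpt : g (f' x') = f (g' x') := by
    have := congr($(hc.w) x')
    simpa using this.symm
  obtain ⟨W, hW, hsW, -⟩ := exists_isAffineOpen_mem_and_subset (x := f (g' x')) (U := ⊤) trivial
  obtain ⟨W', hW', hs'W', hW'W⟩ := exists_isAffineOpen_mem_and_subset (x := f' x') (U := g ⁻¹ᵁ W)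
    (by change g (f' x') ∈ W; rw [hpt]; exact hsW)
  obtain ⟨U, hU, hxU, hUWO⟩ := exists_isAffineOpen_mem_and_subset (x := g' x')
    (U := f ⁻¹ᵁ W ⊓ O) ⟨hsW, hO⟩
  have hUW : U ≤ f ⁻¹ᵁ W := fun z hz => (hUWO hz).1
  have hUO : U ≤ O := fun z hz => (hUWO hz).2
  have hx' : x' ∈ g' ⁻¹ᵁ U ⊓ f' ⁻¹ᵁ W' := ⟨hxU, hs'W'⟩
  have hU' : IsAffineOpen (g' ⁻¹ᵁ U ⊓ f' ⁻¹ᵁ W') := by
    haveI : IsAffine _ := hW
    haveI : IsAffine _ := hW'
    haveI : IsAffine _ := hU
    exact .of_isIso (Scheme.Hom.isPullback_resLE hc hW'W hUW rfl).isoPullback.hom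
  have hpo := (isIso_pushoutSection_iff hc hW'W hUW rfl).mp
    (isIso_pushoutSection_of_isAffineOpen hc hW'W hUW rfl hW hW' hU)
  exact ⟨W, W', U, _, hW'W, hUW, inf_le_left, inf_le_right, hW, hW', hU, hU', hUO, hx', hpo⟩

end Chart

section Principal
variable {X : Scheme.{u}}

/-- restriction maps between affine opens are flat. -/
theorem flat_res_of_isAffineOpen {U V : X.Opens} (hU : IsAffineOpen U) (hV : IsAffineOpen V)
    (h : U ≤ V) : (X.presheaf.map (homOfLE h).op).hom.Flat := by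
  have h1 : ((𝟙 X : X ⟶ X).appLE V U h).hom.Flat :=
    HasRingHomProperty.appLE (P := @Flat) (𝟙 X) inferInstance ⟨V, hV⟩ ⟨U, hU⟩ h
  have h2 : (𝟙 X : X ⟶ X).appLE V U h = X.presheaf.map (homOfLE h).op := by
    simp only [Scheme.Hom.appLE, Scheme.Hom.id_app]
    exact Category.id_comp _
  rwa [h2] at h1

/-- a principal nonzerodivisor generator restricts to one on smaller affine opens. -/
theorem principal_res (D : X.IdealSheafData) {U₀ U : X.affineOpens} (h : U.1 ≤ U₀.1)
    (a₀ : Γ(X, U₀.1)) (ha₀ : a₀ ∈ nonZeroDivisors Γ(X, U₀.1)) (hI : D.ideal U₀ = Ideal.span {a₀}) :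
    X.presheaf.map (homOfLE h).op a₀ ∈ nonZeroDivisors Γ(X, U.1) ∧
      D.ideal U = Ideal.span {(X.presheaf.map (homOfLE h).op a₀ : Γ(X, U.1))} := by
  constructor
  · letI : Algebra Γ(X, U₀.1) Γ(X, U.1) := (X.presheaf.map (homOfLE h).op).hom.toAlgebra
    haveI : Module.Flat Γ(X, U₀.1) Γ(X, U.1) := flat_res_of_isAffineOpen U.2 U₀.2 h
    exact map_mem_nonZeroDivisors_of_flat (A := Γ(X, U₀.1)) (B := Γ(X, U.1)) ha₀
  · have := D.map_ideal (U := U) (V := U₀) h
    rw [← this, hI, Ideal.map_span, Set.image_singleton]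
    rfl

/-- an effective Cartier divisor has a principal nonzerodivisor generator on arbitrarily small
affine neighbourhoods. -/
theorem exists_affine_principal_le (D : X.IdealSheafData) (hD : BlowUp.IsEffCartierIdeal D)
    (x : X) (O : X.Opens) (hx : x ∈ O) :
    ∃ U : X.affineOpens, x ∈ U.1 ∧ U.1 ≤ O ∧
      ∃ a : Γ(X, U.1), a ∈ nonZeroDivisors Γ(X, U.1) ∧ D.ideal U = Ideal.span {a} := by
  obtain ⟨U₀, hxU₀, a₀, ha₀, hI⟩ := hD x
  obtain ⟨U, hU, hxU, hUle⟩ := exists_isAffineOpen_mem_and_subset (x := x) (U := U₀.1 ⊓ O)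
    ⟨hxU₀, hx⟩
  have hUU₀ : U ≤ U₀.1 := fun z hz => (hUle hz).1
  have hUO : U ≤ O := fun z hz => (hUle hz).2
  refine ⟨⟨U, hU⟩, hxU, hUO, X.presheaf.map (homOfLE hUU₀).op a₀, ?_, ?_⟩
  · letI : Algebra Γ(X, U₀.1) Γ(X, U) := (X.presheaf.map (homOfLE hUU₀).op).hom.toAlgebra
    haveI : Module.Flat Γ(X, U₀.1) Γ(X, U) := flat_res_of_isAffineOpen hU U₀.2 hUU₀
    exact map_mem_nonZeroDivisors_of_flat (A := Γ(X, U₀.1)) (B := Γ(X, U)) ha₀
  · have := D.map_ideal (U := ⟨U, hU⟩) (V := U₀) hUU₀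
    rw [← this, hI, Ideal.map_span, Set.image_singleton]
    rfl

end Principal

section AlgNZD
variable {A A' B B' : Type*} [CommRing A] [CommRing A'] [CommRing B] [CommRing B']
  [Algebra A A'] [Algebra A B] [Algebra A' B'] [Algebra B B'] [Algebra A B']
  [IsScalarTower A A' B'] [IsScalarTower A B B'] [Algebra.IsPushout A A' B B']

include A A' in
/-- a nonzerodivisor `a` of `B` whose quotient `C = B/(a)` is `A`-flat stays a nonzerodivisor after
any base change `A → A'`. -/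
theorem map_mem_nonZeroDivisors_of_flat_quotient (a : B) (ha : a ∈ nonZeroDivisors B)
    (C : Type*) [CommRing C] [Algebra A C] [Algebra B C] [IsScalarTower A B C]
    (hsurj : Function.Surjective (algebraMap B C))
    (hker : RingHom.ker (algebraMap B C) = Ideal.span {a}) [Module.Flat A C] :
    algebraMap B B' a ∈ nonZeroDivisors B' := by
  let μ : B →ₗ[A] B := LinearMap.mulLeft A a
  let π : B →ₗ[A] C := (IsScalarTower.toAlgHom A B C).toLinearMap
  have hπ : Function.Surjective π := hsurj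
  have hμ : Function.Injective μ := by
    intro x y hxy
    have h2 : (x - y) * a = 0 := by
      have : a * x = a * y := hxy
      rw [sub_mul, mul_comm x a, mul_comm y a, this, sub_self]
    exact sub_eq_zero.mp ((mem_nonZeroDivisors_iff_right.mp ha) _ h2)
  have hex : Function.Exact μ π := by
    intro x
    constructor
    · intro hx
      have : x ∈ RingHom.ker (algebraMap B C) := hx
      rw [hker] at this
      obtain ⟨c, rfl⟩ := Ideal.mem_span_singleton'.mp this
      exact ⟨c, mul_comm a c⟩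
    · rintro ⟨c, rfl⟩
      change a * c ∈ RingHom.ker (algebraMap B C)
      rw [hker]
      exact Ideal.mul_mem_right _ _ (Ideal.mem_span_singleton_self a)
  have hinj := LinearMap.lTensor_injective_of_exact_of_flat π hπ μ hμ hex A'
  let e := Algebra.IsPushout.equiv A A' B B'
  have key : ∀ z : A' ⊗[A] B, e ((μ.lTensor A') z) = algebraMap B B' a * e z := by
    intro z
    induction z using TensorProduct.induction_on with
    | zero => simp
    | tmul s b =>
      rw [LinearMap.lTensor_tmul]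
      change e (s ⊗ₜ[A] (a * b)) = _
      rw [Algebra.IsPushout.equiv_tmul, Algebra.IsPushout.equiv_tmul, map_mul]
      ring
    | add x y hx hy => rw [map_add, map_add, map_add, hx, hy, mul_add]
  rw [mem_nonZeroDivisors_iff_right]
  intro y hy
  obtain ⟨z, rfl⟩ := e.surjective y
  have h1 : e ((μ.lTensor A') z) = 0 := by rw [key, mul_comm, hy]
  have h2 : (μ.lTensor A') z = 0 := by
    have := e.injective (h1.trans (map_zero e).symm)
    exact this
  have h3 : z = 0 := hinj (h2.trans (map_zero _).symm)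
  rw [h3, map_zero]

end AlgNZD

section CartierBaseChange
variable {X S S' : Scheme.{u}}

set_option maxHeartbeats 1600000 in
/-- **a relative effective Cartier divisor pulls back to an effective Cartier divisor under any
base change.** -/
theorem isEffCartierIdeal_comap_fst_of_flat (f : X ⟶ S) (D : X.IdealSheafData)
    (hD : BlowUp.IsEffCartierIdeal D) [Flat (D.subschemeι ≫ f)] (g : S' ⟶ S) :
    BlowUp.IsEffCartierIdeal (D.comap (pullback.fst f g)) := by
  intro z
  have hc : IsPullback (pullback.fst f g) (pullback.snd f g) f g := IsPullback.of_hasPullback f g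
  obtain ⟨U₀, hxU₀, a₀, ha₀, hI₀⟩ := hD ((pullback.fst f g) z)
  obtain ⟨W, W', U, U', hW'W, hUW, e1, e2, hW, hW', hU, hU', hUO, hz, hpo⟩ :=
    exists_affine_pushout_chart_le hc z U₀.1 hxU₀
  obtain ⟨ha, hI⟩ := principal_res D (U₀ := U₀) (U := ⟨U, hU⟩) hUO a₀ ha₀ hI₀
  set a : Γ(X, U) := X.presheaf.map (homOfLE hUO).op a₀ with hadef
  refine ⟨⟨U', hU'⟩, hz, (pullback.fst f g).appLE U U' e1 a, ?_, ?_⟩
  · -- ring structure
    letI aRR' : Algebra Γ(S, W) Γ(S', W') := (g.appLE W W' hW'W).hom.toAlgebra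
    letI aRT : Algebra Γ(S, W) Γ(X, U) := (f.appLE W U hUW).hom.toAlgebra
    letI aR'T' : Algebra Γ(S', W') Γ(pullback f g, U') :=
      ((pullback.snd f g).appLE W' U' e2).hom.toAlgebra
    letI aTT' : Algebra Γ(X, U) Γ(pullback f g, U') :=
      ((pullback.fst f g).appLE U U' e1).hom.toAlgebra
    letI aRT' : Algebra Γ(S, W) Γ(pullback f g, U') :=
      (((pullback.fst f g).appLE U U' e1).hom.comp (f.appLE W U hUW).hom).toAlgebra
    haveI t1 : IsScalarTower Γ(S, W) Γ(X, U) Γ(pullback f g, U') :=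
      IsScalarTower.of_algebraMap_eq fun _ => rfl
    haveI t2 : IsScalarTower Γ(S, W) Γ(S', W') Γ(pullback f g, U') :=
      IsScalarTower.of_algebraMap_eq fun r => by
        have := congr($(hpo.w) r)
        exact this
    haveI hPO : Algebra.IsPushout Γ(S, W) Γ(S', W') Γ(X, U) Γ(pullback f g, U') :=
      CommRingCat.isPushout_iff_isPushout.mp hpo.flip
    -- the quotient
    have eC : D.subschemeι ⁻¹ᵁ U ≤ (D.subschemeι ≫ f) ⁻¹ᵁ W := fun y hy => hUW hy
    letI aTC : Algebra Γ(X, U) Γ(D.subscheme, D.subschemeι ⁻¹ᵁ U) :=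
      (D.subschemeι.app U).hom.toAlgebra
    letI aRC : Algebra Γ(S, W) Γ(D.subscheme, D.subschemeι ⁻¹ᵁ U) :=
      ((D.subschemeι ≫ f).appLE W _ eC).hom.toAlgebra
    haveI t3 : IsScalarTower Γ(S, W) Γ(X, U) Γ(D.subscheme, D.subschemeι ⁻¹ᵁ U) :=
      IsScalarTower.of_algebraMap_eq fun r => by
        change ((D.subschemeι ≫ f).appLE W _ eC) r = (D.subschemeι.app U) ((f.appLE W U hUW) r)
        rw [← Scheme.Hom.appLE_eq_app, ← Scheme.Hom.appLE_comp_appLE D.subschemeι f W U _ hUW le_rfl]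
        rfl
    haveI flC : Module.Flat Γ(S, W) Γ(D.subscheme, D.subschemeι ⁻¹ᵁ U) :=
      HasRingHomProperty.appLE (P := @Flat) (D.subschemeι ≫ f) inferInstance ⟨W, hW⟩
        ⟨_, hU.preimage D.subschemeι⟩ eC
    have hsurj : Function.Surjective (algebraMap Γ(X, U) Γ(D.subscheme, D.subschemeι ⁻¹ᵁ U)) :=
      D.subschemeι_app_surjective ⟨U, hU⟩
    have hker : RingHom.ker (algebraMap Γ(X, U) Γ(D.subscheme, D.subschemeι ⁻¹ᵁ U)) =
        Ideal.span {a} := by
      rw [← hI]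
      exact D.ker_subschemeι_app ⟨U, hU⟩
    exact map_mem_nonZeroDivisors_of_flat_quotient (A := Γ(S, W)) (A' := Γ(S', W'))
      (B := Γ(X, U)) (B' := Γ(pullback f g, U')) a ha
      Γ(D.subscheme, D.subschemeι ⁻¹ᵁ U) hsurj hker
  · rw [ideal_comap_of_le D (pullback.fst f g) ⟨U, hU⟩ ⟨U', hU'⟩ e1, hI, Ideal.map_span,
      Set.image_singleton]

end CartierBaseChange

end Groth.Agent.LD.QC
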