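import Groth.Agent.Lib.Lead.QC.FlatBC
import Groth.Prelude.Def_BlowUp2
universe u
open CategoryTheory Limits AlgebraicGeometry TopologicalSpace Opposite TensorProduct

namespace Groth.Agent.LD.QC

section AnnFlat
variable {A B M N : Type*} [CommRing A] [CommRing B] [Algebra A B] [Module.Flat A B]
  [AddCommGroup M] [Module A M] [Module.Finite A M] [AddCommGroup N] [Module A N] [Module B N]
  [IsScalarTower A B N] {g : M →ₗ[A] N}

/-- **annihilators of finite modules commute with flat base change.** -/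
theorem annihilator_map_of_isBaseChange_of_flat (hg : IsBaseChange B g) :
    (Module.annihilator A M).map (algebraMap A B) = Module.annihilator B N := by
  apply le_antisymm
  · rw [Ideal.map_le_iff_le_comap]
    intro a ha
    rw [Ideal.mem_comap, Module.mem_annihilator]
    intro n
    refine hg.inductionOn n (fun n => algebraMap A B a • n = 0) (smul_zero _) ?_ ?_ ?_
    · intro m
      rw [algebraMap_smul, ← map_smul, Module.mem_annihilator.mp ha m, map_zero]
    · intro b n hn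
      rw [smul_comm, hn, smul_zero]
    · intro n₁ n₂ h₁ h₂
      rw [smul_add, h₁, h₂, add_zero]
  · intro b hb
    obtain ⟨n, s, hs⟩ := Module.Finite.exists_fin (R := A) (M := M)
    let γ : A →ₗ[A] (Fin n → M) := LinearMap.pi fun i => LinearMap.toSpanSingleton A M (s i)
    have hker : (LinearMap.ker γ : Ideal A) = Module.annihilator A M := by
      ext a
      rw [LinearMap.mem_ker, Module.mem_annihilator]
      constructor
      · intro h m
        have hm : m ∈ Submodule.span A (Set.range s) := by rw [hs]; trivial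
        refine Submodule.span_induction (p := fun m _ => a • m = 0) ?_ (smul_zero _) ?_ ?_ hm
        · rintro _ ⟨i, rfl⟩
          exact congrFun h i
        · intro x y _ _ hx hy
          rw [smul_add, hx, hy, add_zero]
        · intro c x _ hx
          rw [smul_comm, hx, smul_zero]
      · intro h
        funext i
        exact h (s i)
    have hex : Function.Exact (LinearMap.ker γ).subtype γ := LinearMap.exact_subtype_ker_map γ
    have he := Module.Flat.lTensor_exact B hex
    have hz : (γ.lTensor B) (b ⊗ₜ[A] (1 : A)) = 0 := by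
      rw [LinearMap.lTensor_tmul]
      have hγ1 : γ 1 = s := by
        funext i
        change (1 : A) • s i = s i
        rw [one_smul]
      rw [hγ1, ← Finset.univ_sum_single s, TensorProduct.tmul_sum]
      refine Finset.sum_eq_zero fun i _ => ?_
      have h0 : b ⊗ₜ[A] (s i) = (0 : B ⊗[A] M) := by
        apply hg.equiv.injective
        rw [map_zero, IsBaseChange.equiv_tmul, Module.mem_annihilator.mp hb]
      have : b ⊗ₜ[A] (Pi.single i (s i) : Fin n → M) =
          (LinearMap.lTensor B (LinearMap.single A (fun _ : Fin n => M) i)) (b ⊗ₜ[A] (s i)) := by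
        rw [LinearMap.lTensor_tmul]; rfl
      rw [this, h0, map_zero]
    obtain ⟨z, hz'⟩ := (he (b ⊗ₜ[A] (1 : A))).mp hz
    let μ : B ⊗[A] A →ₗ[A] B := (TensorProduct.rid A B).toLinearMap
    have hμ : μ (b ⊗ₜ[A] (1 : A)) = b := by
      change (TensorProduct.rid A B) (b ⊗ₜ[A] (1 : A)) = b
      rw [TensorProduct.rid_tmul, one_smul]
    have hall : ∀ z : B ⊗[A] (LinearMap.ker γ),
        μ ((LinearMap.lTensor B (LinearMap.ker γ).subtype) z) ∈
          Ideal.map (algebraMap A B) (LinearMap.ker γ : Ideal A) := by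
      intro z
      induction z using TensorProduct.induction_on with
      | zero => simp
      | tmul c k =>
        rw [LinearMap.lTensor_tmul]
        change (TensorProduct.rid A B) (c ⊗ₜ[A] (k : A)) ∈ _
        rw [TensorProduct.rid_tmul, Algebra.smul_def]
        exact Ideal.mul_mem_right _ _ (Ideal.mem_map_of_mem _ k.2)
      | add x y hx hy =>
        rw [map_add, map_add]
        exact Ideal.add_mem _ hx hy
    rw [← hμ, ← hz', ← hker]
    exact hall z

end AnnFlat

section Comap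
variable {X Y : Scheme.{u}}

set_option maxHeartbeats 1600000 in
/-- **the inverse image ideal sheaf on affine charts**: for affine opens `V ⊆ f⁻¹ U`, the ideal of
`I.comap f` on `V` is the extension of the ideal of `I` on `U`. -/
theorem ideal_comap_of_le (I : Y.IdealSheafData) (f : X ⟶ Y) (U : Y.affineOpens)
    (V : X.affineOpens) (e : V.1 ≤ f ⁻¹ᵁ U.1) :
    (I.comap f).ideal V = (I.ideal U).map (f.appLE U.1 V.1 e).hom := by
  have hc : IsPullback (pullback.fst f I.subschemeι) (pullback.snd f I.subschemeι) f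
      I.subschemeι := IsPullback.of_hasPullback f I.subschemeι
  have hUT : I.subschemeι ⁻¹ᵁ U.1 ≤ I.subschemeι ⁻¹ᵁ U.1 := le_rfl
  have hUY : (pullback.fst f I.subschemeι) ⁻¹ᵁ V.1 =
      (pullback.fst f I.subschemeι) ⁻¹ᵁ V.1 ⊓
        (pullback.snd f I.subschemeι) ⁻¹ᵁ (I.subschemeι ⁻¹ᵁ U.1) := by
    refine (inf_eq_left.mpr ?_).symm
    intro z hz
    change I.subschemeι ((pullback.snd f I.subschemeι) z) ∈ U.1
    have hw := congr($(hc.w) z)
    have hw' : I.subschemeι ((pullback.snd f I.subschemeι) z) =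
        f ((pullback.fst f I.subschemeι) z) := by simpa using hw.symm
    rw [hw']
    exact e hz
  have hUTaff : IsAffineOpen (I.subschemeι ⁻¹ᵁ U.1) := U.2.preimage I.subschemeι
  have hpo := (isIso_pushoutSection_iff hc hUT e hUY).mp
    (isIso_pushoutSection_of_isAffineOpen hc hUT e hUY U.2 hUTaff V.2)
  have e1 : (pullback.fst f I.subschemeι) ⁻¹ᵁ V.1 ≤ (pullback.fst f I.subschemeι) ⁻¹ᵁ V.1 := le_rfl
  have e2 : (pullback.fst f I.subschemeι) ⁻¹ᵁ V.1 ≤
      (pullback.snd f I.subschemeι) ⁻¹ᵁ (I.subschemeι ⁻¹ᵁ U.1) := by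
    rw [hUY]; exact inf_le_right
  letI aAB : Algebra Γ(Y, U.1) Γ(I.subscheme, I.subschemeι ⁻¹ᵁ U.1) :=
    (I.subschemeι.appLE U.1 _ hUT).hom.toAlgebra
  letI aAM : Algebra Γ(Y, U.1) Γ(X, V.1) := (f.appLE U.1 V.1 e).hom.toAlgebra
  letI aMN : Algebra Γ(X, V.1) Γ(pullback f I.subschemeι, (pullback.fst f I.subschemeι) ⁻¹ᵁ V.1) :=
    ((pullback.fst f I.subschemeι).appLE V.1 _ e1).hom.toAlgebra
  letI aBN : Algebra Γ(I.subscheme, I.subschemeι ⁻¹ᵁ U.1)
      Γ(pullback f I.subschemeι, (pullback.fst f I.subschemeι) ⁻¹ᵁ V.1) :=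
    ((pullback.snd f I.subschemeι).appLE _ _ e2).hom.toAlgebra
  letI aAN : Algebra Γ(Y, U.1)
      Γ(pullback f I.subschemeι, (pullback.fst f I.subschemeι) ⁻¹ᵁ V.1) :=
    (((pullback.fst f I.subschemeι).appLE V.1 _ e1).hom.comp (f.appLE U.1 V.1 e).hom).toAlgebra
  haveI t1 : IsScalarTower Γ(Y, U.1) Γ(X, V.1)
      Γ(pullback f I.subschemeι, (pullback.fst f I.subschemeι) ⁻¹ᵁ V.1) :=
    IsScalarTower.of_algebraMap_eq fun _ => rfl
  haveI t2 : IsScalarTower Γ(Y, U.1) Γ(I.subscheme, I.subschemeι ⁻¹ᵁ U.1)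
      Γ(pullback f I.subschemeι, (pullback.fst f I.subschemeι) ⁻¹ᵁ V.1) :=
    IsScalarTower.of_algebraMap_eq fun r => by
      have := congr($(hpo.w) r)
      exact this
  haveI hPO : Algebra.IsPushout Γ(Y, U.1) Γ(I.subscheme, I.subschemeι ⁻¹ᵁ U.1) Γ(X, V.1)
      Γ(pullback f I.subschemeι, (pullback.fst f I.subschemeι) ⁻¹ᵁ V.1) :=
    CommRingCat.isPushout_iff_isPushout.mp hpo.flip
  have hbc := hPO.out
  have hsurj : Function.Surjective (algebraMap Γ(Y, U.1) Γ(I.subscheme, I.subschemeι ⁻¹ᵁ U.1)) := by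
    change Function.Surjective (I.subschemeι.appLE U.1 _ hUT)
    rw [Scheme.Hom.appLE_eq_app]
    exact I.subschemeι_app_surjective U
  have hker : RingHom.ker (algebraMap Γ(Y, U.1) Γ(I.subscheme, I.subschemeι ⁻¹ᵁ U.1)) =
      I.ideal U := by
    change RingHom.ker (I.subschemeι.appLE U.1 _ hUT).hom = _
    rw [Scheme.Hom.appLE_eq_app]
    exact I.ker_subschemeι_app U
  have hk := isBaseChange_ker_of_surjective hbc hsurj
  rw [hker, Ideal.smul_top_eq_map] at hk
  change (pullback.fst f I.subschemeι).ker.ideal V = _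
  rw [Scheme.Hom.ker_apply]
  ext x
  have hx : x ∈ LinearMap.ker (IsScalarTower.toAlgHom Γ(Y, U.1) Γ(X, V.1)
      Γ(pullback f I.subschemeι, (pullback.fst f I.subschemeι) ⁻¹ᵁ V.1)).toLinearMap ↔
      x ∈ Ideal.map (algebraMap Γ(Y, U.1) Γ(X, V.1)) (I.ideal U) := by
    rw [hk]; rfl
  rw [← Scheme.Hom.appLE_eq_app]
  exact hx

/-- flat ring maps preserve nonzerodivisors. -/
theorem map_mem_nonZeroDivisors_of_flat {A B : Type*} [CommRing A] [CommRing B] [Algebra A B]
    [Module.Flat A B] {a : A} (ha : a ∈ nonZeroDivisors A) :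
    algebraMap A B a ∈ nonZeroDivisors B := by
  have h1 : IsSMulRegular A a := by
    intro x y hxy
    have h2 : (x - y) * a = 0 := by
      have : a * x = a * y := hxy
      rw [sub_mul, mul_comm x a, mul_comm y a, this, sub_self]
    exact sub_eq_zero.mp ((mem_nonZeroDivisors_iff_right.mp ha) _ h2)
  have h3 : IsSMulRegular B (algebraMap A B a) := h1.of_flat
  rw [mem_nonZeroDivisors_iff_right]
  intro x hx
  apply h3
  change algebraMap A B a * x = algebraMap A B a * 0
  rw [mul_zero, mul_comm, hx]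

/-- descent of ideal membership along a flat ring map, one prime at a time: if `φ a ∈ I B` then
the colon ideal `(I : a)` is not contained in the contraction of any prime of `B`. -/
theorem exists_notMem_comap_mul_mem_of_flat {A B : Type*} [CommRing A] [CommRing B] [Algebra A B]
    [Module.Flat A B] (I : Ideal A) (a : A) (ha : algebraMap A B a ∈ I.map (algebraMap A B))
    (q : Ideal B) [q.IsPrime] : ∃ r : A, r ∉ q.comap (algebraMap A B) ∧ r * a ∈ I := by
  set g : A →ₗ[A] A ⧸ I := (Submodule.mkQ I) ∘ₗ (LinearMap.toSpanSingleton A A a) with hg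
  have hgr : ∀ r : A, g r = Ideal.Quotient.mk I (r * a) := fun r => rfl
  set 𝔞 : Ideal A := LinearMap.ker g with h𝔞
  let ψ : A ⧸ 𝔞 →ₗ[A] A ⧸ I := Submodule.liftQ 𝔞 g le_rfl
  have hψ : Function.Injective ψ := by
    rw [← LinearMap.ker_eq_bot]
    exact Submodule.ker_liftQ_eq_bot _ _ _ le_rfl
  have hinj := Module.Flat.lTensor_preserves_injective_linearMap (M := B) ψ hψ
  have hψ1 : ψ (Ideal.Quotient.mk 𝔞 1) = Ideal.Quotient.mk I a := by
    change g 1 = _
    rw [hgr, one_mul]
  have h0 : (ψ.lTensor B) ((1 : B) ⊗ₜ (Ideal.Quotient.mk 𝔞 1)) = 0 := by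
    rw [LinearMap.lTensor_tmul, hψ1]
    apply (TensorProduct.tensorQuotEquivQuotSMul B I).injective
    rw [map_zero, TensorProduct.tensorQuotEquivQuotSMul_tmul_mk, Submodule.Quotient.mk_eq_zero,
      Ideal.smul_top_eq_map]
    change a • (1 : B) ∈ I.map (algebraMap A B)
    rwa [Algebra.smul_def, mul_one]
  have h1 : (1 : B) ⊗ₜ[A] (Ideal.Quotient.mk 𝔞 1) = 0 := hinj (by rw [h0, map_zero])
  have h2 : (1 : B) ∈ 𝔞.map (algebraMap A B) := by
    have := congrArg (TensorProduct.tensorQuotEquivQuotSMul B 𝔞) h1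
    rw [map_zero, TensorProduct.tensorQuotEquivQuotSMul_tmul_mk, Submodule.Quotient.mk_eq_zero,
      Ideal.smul_top_eq_map, one_smul] at this
    exact this
  by_contra hcon
  push Not at hcon
  have hle : 𝔞 ≤ q.comap (algebraMap A B) := by
    intro r hr
    by_contra hrq
    apply hcon r hrq
    have : g r = 0 := hr
    rw [hgr] at this
    exact Ideal.Quotient.eq_zero_iff_mem.mp this
  have hq : 𝔞.map (algebraMap A B) ≤ q := Ideal.map_le_iff_le_comap.mpr hle
  exact (Ideal.IsPrime.ne_top ‹_›) ((Ideal.eq_top_iff_one q).mpr (hq h2))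

/-- **the inverse image of an effective Cartier divisor along a flat morphism is an effective
Cartier divisor.** -/
theorem isEffCartierIdeal_comap_of_flat (f : X ⟶ Y) [Flat f] (I : Y.IdealSheafData)
    (hD : BlowUp.IsEffCartierIdeal I) : BlowUp.IsEffCartierIdeal (I.comap f) := by
  intro x
  obtain ⟨U, hxU, a, ha, hI⟩ := hD (f x)
  obtain ⟨V, hV, hxV, e⟩ := exists_isAffineOpen_mem_and_subset (x := x) (U := f ⁻¹ᵁ U.1) hxU
  refine ⟨⟨V, hV⟩, hxV, f.appLE U.1 V e a, ?_, ?_⟩
  · letI : Algebra Γ(Y, U.1) Γ(X, V) := (f.appLE U.1 V e).hom.toAlgebra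
    haveI : Module.Flat Γ(Y, U.1) Γ(X, V) :=
      HasRingHomProperty.appLE (P := @Flat) f inferInstance U ⟨V, hV⟩ e
    exact map_mem_nonZeroDivisors_of_flat (A := Γ(Y, U.1)) (B := Γ(X, V)) ha
  · rw [ideal_comap_of_le I f U ⟨V, hV⟩ e, hI, Ideal.map_span, Set.image_singleton]

/-- **inverse image of ideal sheaves along a flat surjective morphism reflects the order.** -/
theorem le_of_comap_le_comap_of_flat_surjective (f : X ⟶ Y) [Flat f] [Surjective f]
    {J₁ J₂ : Y.IdealSheafData} (h : J₁.comap f ≤ J₂.comap f) : J₁ ≤ J₂ := by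
  intro U a ha
  by_contra hcon
  -- the colon ideal
  set 𝔞 : Ideal Γ(Y, U.1) := Submodule.comap
    (LinearMap.toSpanSingleton Γ(Y, U.1) Γ(Y, U.1) a : Γ(Y, U.1) →ₗ[Γ(Y, U.1)] Γ(Y, U.1))
    (J₂.ideal U) with h𝔞
  have hmem : ∀ r, r ∈ 𝔞 ↔ r * a ∈ J₂.ideal U := fun r => Iff.rfl
  have hne : 𝔞 ≠ ⊤ := by
    intro htop
    apply hcon
    have : (1 : Γ(Y, U.1)) ∈ 𝔞 := htop ▸ Submodule.mem_top
    rw [hmem, one_mul] at this
    exact this
  obtain ⟨m, hm, hle⟩ := Ideal.exists_le_maximal 𝔞 hne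
  haveI := hm.isPrime
  set y : Y := U.2.fromSpec ⟨m, inferInstance⟩ with hy
  have hyU : y ∈ U.1 := fromSpec_mem U.2 _
  obtain ⟨x, hx⟩ := f.surjective y
  have hxU : x ∈ f ⁻¹ᵁ U.1 := by
    change f x ∈ U.1
    rw [hx]; exact hyU
  obtain ⟨V, hV, hxV, e⟩ := exists_isAffineOpen_mem_and_subset (x := x) (U := f ⁻¹ᵁ U.1) hxU
  letI : Algebra Γ(Y, U.1) Γ(X, V) := (f.appLE U.1 V e).hom.toAlgebra
  haveI : Module.Flat Γ(Y, U.1) Γ(X, V) :=
    HasRingHomProperty.appLE (P := @Flat) f inferInstance U ⟨V, hV⟩ e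
  have h1 : algebraMap Γ(Y, U.1) Γ(X, V) a ∈ (J₂.ideal U).map (algebraMap Γ(Y, U.1) Γ(X, V)) := by
    have h2 := h ⟨V, hV⟩
    rw [ideal_comap_of_le J₁ f U ⟨V, hV⟩ e, ideal_comap_of_le J₂ f U ⟨V, hV⟩ e] at h2
    exact h2 (Ideal.mem_map_of_mem _ ha)
  obtain ⟨r, hr, hra⟩ := exists_notMem_comap_mul_mem_of_flat (J₂.ideal U) a h1
    (hV.primeIdealOf ⟨x, hxV⟩).asIdeal
  apply hr
  have hc' := IsAffineOpen.comap_primeIdealOf_appLE (f := f) U.1 U.2 V hV e hxV
  have hm' : U.2.primeIdealOf ⟨f x, e hxV⟩ = ⟨m, inferInstance⟩ := by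
    have := primeIdealOf_fromSpec U.2 ⟨m, inferInstance⟩ hyU
    rw [← this]
    congr 1
    exact Subtype.ext hx
  have hc'' : (hV.primeIdealOf ⟨x, hxV⟩).asIdeal.comap (algebraMap Γ(Y, U.1) Γ(X, V)) = m := by
    have := congrArg PrimeSpectrum.asIdeal hc'
    rw [hm'] at this
    exact this
  rw [hc'']
  exact hle ((hmem r).mpr hra)

set_option maxHeartbeats 1600000 in
/-- **the annihilator ideal sheaf commutes with flat pullback.** -/
theorem comap_eq_annIdeal_pullback_of_flat (f : X ⟶ Y) [Flat f] (F : Y.Modules)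
    [F.IsQuasicoherent] (hF : F.IsFiniteType) (J : Y.IdealSheafData)
    (hJ : ∀ U : Y.affineOpens, J.ideal U = Module.annihilator Γ(Y, U.1) Γ(F, U.1)) :
    haveI := qc_pullback f F
    J.comap f = annIdeal ((Scheme.Modules.pullback f).obj F) (isFiniteType_pullback f F hF) := by
  haveI := qc_pullback f F
  let ι := {V : X.affineOpens // ∃ U : Y.affineOpens, V.1 ≤ f ⁻¹ᵁ U.1}
  refine Scheme.IdealSheafData.ext_of_iSup_eq_top (ι := ι) (fun V => V.1) ?_ ?_
  · rw [eq_top_iff]
    intro x _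
    obtain ⟨V, U, hV, hU, hxV, e⟩ := exists_affine_nhds_le_preimage f x
    exact Opens.mem_iSup.mpr ⟨⟨⟨V, hV⟩, ⟨U, hU⟩, e⟩, hxV⟩
  · rintro ⟨V, U, e⟩
    change (J.comap f).ideal V = Module.annihilator Γ(X, V.1) Γ((Scheme.Modules.pullback f).obj F, V.1)
    rw [ideal_comap_of_le J f U V e, hJ U]
    letI : Algebra Γ(Y, U.1) Γ(X, V.1) := (f.appLE U.1 V.1 e).hom.toAlgebra
    haveI : Module.Flat Γ(Y, U.1) Γ(X, V.1) :=
      HasRingHomProperty.appLE (P := @Flat) f inferInstance U V e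
    letI := pbModule f F e
    haveI := pbModule_isScalarTower f F e
    haveI : Module.Finite Γ(Y, U.1) Γ(F, U.1) := finite_sections_of_isFiniteType F hF U.2
    exact annihilator_map_of_isBaseChange_of_flat (isBaseChange_pbSec f V.2 U.2 e F)

end Comap

end Groth.Agent.LD.QC
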