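import Groth.Agent.Lib.Lead.QC.BlowUpProps
import Groth.Prelude.Def_W4c6modpairsegaMP
universe u
open CategoryTheory Limits AlgebraicGeometry TopologicalSpace Opposite

namespace Groth.Agent.LD.QC

section CD
variable {X X' : Scheme.{u}}

/-- the inverse image of a locally principal ideal sheaf is locally principal. -/
theorem locPrincipal_comap (I : X.IdealSheafData) (hI : BlowUp.IsEffCartierIdeal I) (f : X' ⟶ X)
    (x' : X') : ∃ (U : X.affineOpens) (V : X'.affineOpens) (e : V.1 ≤ f ⁻¹ᵁ U.1)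
      (d : Γ(X, U.1)), x' ∈ V.1 ∧ d ∈ nonZeroDivisors Γ(X, U.1) ∧ I.ideal U = Ideal.span {d} ∧
        (I.comap f).ideal V = Ideal.span {f.appLE U.1 V.1 e d} := by
  obtain ⟨U, hfxU, -, d, hd, hIU⟩ := exists_affine_principal_le I hI (f x') ⊤ (Set.mem_univ _)
  obtain ⟨V, hV, hxV, e⟩ := exists_isAffineOpen_mem_and_subset (x := x') (U := f ⁻¹ᵁ U.1) hfxU
  refine ⟨U, ⟨V, hV⟩, e, d, hxV, hd, hIU, ?_⟩
  rw [ideal_comap_of_le I f U ⟨V, hV⟩ e, hIU, Ideal.map_span, Set.image_singleton]

/-- the preimage of the complement of an effective Cartier divisor is affine over the source. -/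
theorem isAffineHom_preimage_compl (I : X.IdealSheafData) (hI : BlowUp.IsEffCartierIdeal I)
    (f : X' ⟶ X) : IsAffineHom (f ⁻¹ᵁ I.support.compl).ι := by
  rw [← comap_support_compl_eq]
  exact isAffineHom_compl_of_locPrincipal _ (fun x' _ => by
    obtain ⟨U, V, e, d, hxV, -, -, h⟩ := locPrincipal_comap I hI f x'
    exact ⟨V, hxV, _, h⟩)

set_option maxHeartbeats 800000 in
/-- **if the preimage of the complement of an effective Cartier divisor is schematically dense,
the inverse image is an effective Cartier divisor.** -/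
theorem isEffCartierIdeal_comap_of_dense (I : X.IdealSheafData) (hI : BlowUp.IsEffCartierIdeal I)
    (f : X' ⟶ X) [IsSchemeTheoreticallyDominant (f ⁻¹ᵁ I.support.compl).ι] :
    BlowUp.IsEffCartierIdeal (I.comap f) := by
  haveI := isAffineHom_preimage_compl I hI f
  intro x'
  obtain ⟨U, V, e, d, hxV, hd, hIU, h⟩ := locPrincipal_comap I hI f x'
  obtain ⟨c, hc⟩ : ∃ c, c = f.appLE U.1 V.1 e d := ⟨_, rfl⟩
  rw [← hc] at h
  refine ⟨V, hxV, c, ?_, h⟩
  set W : X'.Opens := f ⁻¹ᵁ I.support.compl with hW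
  have hinj := Scheme.Hom.app_injective W.ι V.1
  -- `W ⊓ V = D(c)`
  have hWV : W ⊓ V.1 = X'.basicOpen c := by
    rw [hW, ← comap_support_compl_eq]
    exact compl_support_inf_eq_basicOpen (I.comap f) V c h
  rw [mem_nonZeroDivisors_iff_right]
  intro z hz
  apply hinj
  rw [map_zero, Scheme.Opens.ι_app]
  -- the restriction of `c` to `W ⊓ V` is a unit
  have hle : W.ι ''ᵁ (W.ι ⁻¹ᵁ V.1) ≤ X'.basicOpen c := by
    rw [Scheme.Hom.image_preimage_eq_opensRange_inf, Scheme.Opens.opensRange_ι, hWV]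
  have hleV : W.ι ''ᵁ (W.ι ⁻¹ᵁ V.1) ≤ V.1 :=
    (Scheme.Hom.image_preimage_eq_opensRange_inf W.ι V.1).trans_le inf_le_right
  have hunit : IsUnit (X'.presheaf.map (homOfLE hleV).op c) := by
    have h1 : IsUnit (X'.presheaf.map (homOfLE (X'.basicOpen_le c)).op c) :=
      RingedSpace.isUnit_res_basicOpen _ c
    have h2 : X'.presheaf.map (homOfLE hleV).op c =
        X'.presheaf.map (homOfLE hle).op (X'.presheaf.map (homOfLE (X'.basicOpen_le c)).op c) := by
      rw [← CommRingCat.comp_apply, ← Functor.map_comp]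
      rfl
    rw [h2]
    exact h1.map _
  have h0 : X'.presheaf.map (homOfLE hleV).op z * X'.presheaf.map (homOfLE hleV).op c = 0 := by
    rw [← map_mul, hz, map_zero]
  exact (hunit.mul_left_eq_zero).mp h0

end CD

end Groth.Agent.LD.QC
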