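import Groth.Agent.Lib.Lead.QC.CartierCompl
import Groth.Agent.Lib.Lead.QC.IdealComap
universe u
open CategoryTheory Limits AlgebraicGeometry TopologicalSpace Opposite

namespace Groth.Agent.LD.QC

section BU
variable {X X' : Scheme.{u}}

theorem isEffCartierIdeal_top : BlowUp.IsEffCartierIdeal (⊤ : X.IdealSheafData) := by
  intro x
  obtain ⟨U, hU, hxU, -⟩ := exists_isAffineOpen_mem_and_subset (x := x) (U := (⊤ : X.Opens))
    (Set.mem_univ _)
  refine ⟨⟨U, hU⟩, hxU, 1, one_mem _, ?_⟩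
  rw [Scheme.IdealSheafData.ideal_top]
  simp [Ideal.span_singleton_one]

/-- the inverse image of an ideal sheaf on the complement of its support is the unit ideal. -/
theorem comap_compl_support_eq_top (𝓘 : X.IdealSheafData) :
    𝓘.comap (Scheme.Opens.ι (X := X) 𝓘.support.compl) = ⊤ := by
  rw [← Scheme.IdealSheafData.support_eq_bot_iff, Scheme.IdealSheafData.support_comap]
  ext y
  simp only [Closeds.coe_preimage, Set.mem_preimage, SetLike.mem_coe, Closeds.coe_bot,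
    Set.mem_empty_iff_false, iff_false]
  exact y.2

variable {𝓘 : X.IdealSheafData} {b : X' ⟶ X}

theorem IsBlowUp.hom_ext (hb : BlowUp.IsBlowUp b 𝓘) {Y : Scheme.{u}} (h₁ h₂ : Y ⟶ X')
    (hC : BlowUp.IsEffCartierIdeal (𝓘.comap (h₁ ≫ b))) (e : h₁ ≫ b = h₂ ≫ b) : h₁ = h₂ := by
  obtain ⟨h, -, huniq⟩ := hb.2 Y (h₁ ≫ b) hC
  rw [huniq h₁ rfl, huniq h₂ e.symm]

/-- maps out of a flat `X'`-scheme into a blow-up are determined by their composite to `X`. -/
theorem IsBlowUp.hom_ext_of_flat (hb : BlowUp.IsBlowUp b 𝓘) {Y : Scheme.{u}} (h₁ h₂ : Y ⟶ X')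
    [Flat h₁] (e : h₁ ≫ b = h₂ ≫ b) : h₁ = h₂ := by
  apply IsBlowUp.hom_ext hb h₁ h₂ _ e
  rw [Scheme.IdealSheafData.comap_comp]
  exact isEffCartierIdeal_comap_of_flat h₁ _ hb.1

/-- **a blowing up is an isomorphism away from its centre.** -/
theorem IsBlowUp.isIso_restrict_compl (hb : BlowUp.IsBlowUp b 𝓘) :
    IsIso (b ∣_ 𝓘.support.compl) := by
  set U : X.Opens := 𝓘.support.compl with hU
  obtain ⟨h, hh, -⟩ := hb.2 U U.ι (by
    rw [comap_compl_support_eq_top]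
    exact isEffCartierIdeal_top)
  have hrange : Set.range h ⊆ Set.range (b ⁻¹ᵁ U).ι := by
    rintro _ ⟨y, rfl⟩
    rw [Scheme.Opens.range_ι]
    change b (h y) ∈ U
    have : b (h y) = (h ≫ b) y := rfl
    rw [this, hh]
    exact y.2
  let h' : (U : Scheme) ⟶ (b ⁻¹ᵁ U : Scheme) := IsOpenImmersion.lift (b ⁻¹ᵁ U).ι h hrange
  have hh' : h' ≫ (b ⁻¹ᵁ U).ι = h := IsOpenImmersion.lift_fac _ _ _
  refine ⟨h', ?_, ?_⟩
  · rw [← cancel_mono (b ⁻¹ᵁ U).ι, Category.assoc, hh', Category.id_comp]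
    apply (IsBlowUp.hom_ext_of_flat hb (b ⁻¹ᵁ U).ι ((b ∣_ U) ≫ h) ?_).symm
    rw [Category.assoc, hh, morphismRestrict_ι]
  · rw [← cancel_mono U.ι, Category.assoc, morphismRestrict_ι, ← Category.assoc, hh', hh,
      Category.id_comp]

end BU

end Groth.Agent.LD.QC
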