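import Groth.Agent.Lib.Lead.QC.BlowUpProps
universe u
open CategoryTheory Limits AlgebraicGeometry TopologicalSpace Opposite

namespace Groth.Agent.LD.QC

section BC
variable {X₁ X₂ X₂' : Scheme.{u}}

/-- **S1680**: blowing up commutes with flat base change. -/
theorem IsBlowUp.flat_baseChange (g : X₁ ⟶ X₂) [Flat g] (𝓘 : X₂.IdealSheafData) (b : X₂' ⟶ X₂)
    (hb : BlowUp.IsBlowUp b 𝓘) : BlowUp.IsBlowUp (pullback.fst g b) (𝓘.comap g) := by
  refine ⟨?_, ?_⟩
  · rw [← Scheme.IdealSheafData.comap_comp, pullback.condition,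
      Scheme.IdealSheafData.comap_comp]
    exact isEffCartierIdeal_comap_of_flat (pullback.snd g b) _ hb.1
  · intro Y h hh
    rw [← Scheme.IdealSheafData.comap_comp] at hh
    obtain ⟨k, hk, hu⟩ := hb.2 Y (h ≫ g) hh
    refine ⟨pullback.lift h k hk.symm, pullback.lift_fst _ _ _, ?_⟩
    intro m hm
    apply pullback.hom_ext
    · rw [hm, pullback.lift_fst]
    · rw [pullback.lift_snd]
      apply hu
      rw [Category.assoc, ← pullback.condition, ← Category.assoc, hm]

end BC

end Groth.Agent.LD.QC
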