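import Groth.Agent.Lib.Lead.QC.TensorExact

/-! # Sections of biproducts and zero objects; local criterion for exactness; the short exact
sequences of cycles of an exact sequence. -/

universe u
open CategoryTheory Limits AlgebraicGeometry TopologicalSpace Opposite

namespace Groth.Agent.LD.QC
variable {X : Scheme.{u}}

lemma add_app' {M N : X.Modules} (φ ψ : M ⟶ N) (U : X.Opens) (x : Γ(M, U)) :
    (φ + ψ).app U x = φ.app U x + ψ.app U x := rfl

lemma neg_app' {M N : X.Modules} (φ : M ⟶ N) (U : X.Opens) (x : Γ(M, U)) :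
    (-φ).app U x = -(φ.app U x) := rfl

lemma zero_app' {M N : X.Modules} (U : X.Opens) (x : Γ(M, U)) :
    (0 : M ⟶ N).app U x = 0 := rfl

lemma comp_app' {M N P : X.Modules} (φ : M ⟶ N) (ψ : N ⟶ P) (U : X.Opens) (x : Γ(M, U)) :
    (φ ≫ ψ).app U x = ψ.app U (φ.app U x) := rfl

lemma id_app' {M : X.Modules} (U : X.Opens) (x : Γ(M, U)) : (𝟙 M : M ⟶ M).app U x = x := rfl

section Biprod
variable (A B : X.Modules) (U : X.Opens)

/-- a section of `A ⊞ B` from its two components. -/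
noncomputable def bmk (a : Γ(A, U)) (b : Γ(B, U)) : Γ(A ⊞ B, U) :=
  (biprod.inl : A ⟶ A ⊞ B).app U a + (biprod.inr : B ⟶ A ⊞ B).app U b

lemma bfst_bmk (a : Γ(A, U)) (b : Γ(B, U)) :
    (biprod.fst : A ⊞ B ⟶ A).app U (bmk A B U a b) = a := by
  rw [bmk, map_add, ← comp_app', ← comp_app', biprod.inl_fst, biprod.inr_fst, id_app', zero_app',
    add_zero]

lemma bsnd_bmk (a : Γ(A, U)) (b : Γ(B, U)) :
    (biprod.snd : A ⊞ B ⟶ B).app U (bmk A B U a b) = b := by
  rw [bmk, map_add, ← comp_app', ← comp_app', biprod.inl_snd, biprod.inr_snd, id_app', zero_app',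
    zero_add]

lemma bmk_eta (t : Γ(A ⊞ B, U)) :
    bmk A B U ((biprod.fst : A ⊞ B ⟶ A).app U t) ((biprod.snd : A ⊞ B ⟶ B).app U t) = t := by
  have h := congrArg (fun φ : A ⊞ B ⟶ A ⊞ B => φ.app U t) (biprod.total (X := A) (Y := B))
  exact h

lemma bext {t t' : Γ(A ⊞ B, U)}
    (h1 : (biprod.fst : A ⊞ B ⟶ A).app U t = (biprod.fst : A ⊞ B ⟶ A).app U t')
    (h2 : (biprod.snd : A ⊞ B ⟶ B).app U t = (biprod.snd : A ⊞ B ⟶ B).app U t') : t = t' := by
  rw [← bmk_eta A B U t, ← bmk_eta A B U t', h1, h2]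

end Biprod

/-- **local criterion for exactness** of a complex of modules. -/
theorem exact_of_local {S : ShortComplex X.Modules}
    (h : ∀ (U : X.Opens) (t : Γ(S.X₂, U)), S.g.app U t = 0 → ∀ x : X, x ∈ U →
      ∃ (W : X.Opens) (hW : W ≤ U), x ∈ W ∧ ∃ s : Γ(S.X₁, W),
        S.f.app W s = S.X₂.presheaf.map (homOfLE hW).op t) : S.Exact := by
  rw [ShortComplex.exact_iff_epi_kernel_lift]
  apply epi_of_local_lift
  intro U t x hx
  have hz0 : S.g.app U ((kernel.ι S.g).app U t) = 0 := kernel_ι_app_comp _ U t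
  obtain ⟨W, hW, hxW, s, hs⟩ := h U _ hz0 x hx
  refine ⟨W, hW, hxW, s, ?_⟩
  apply mono_app (kernel.ι S.g) W
  rw [← comp_app', kernel.lift_ι, hs, app_res]

/-- the converse: sections of an exact sequence lift locally. -/
theorem local_of_exact {S : ShortComplex X.Modules} (hS : S.Exact)
    (U : X.Opens) (t : Γ(S.X₂, U)) (ht : S.g.app U t = 0) (x : X) (hx : x ∈ U) :
    ∃ (W : X.Opens) (hW : W ≤ U), x ∈ W ∧ ∃ s : Γ(S.X₁, W),
      S.f.app W s = S.X₂.presheaf.map (homOfLE hW).op t := by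
  obtain ⟨t', ht'⟩ := exists_kernel_section S.g U t ht
  have hepi : Epi (kernel.lift S.g S.f S.zero) := hS.epi_kernelLift
  obtain ⟨W, hW, hxW, k, hk⟩ := exists_local_lift (kernel.lift S.g S.f S.zero) hepi U t' x hx
  refine ⟨W, hW, hxW, k, ?_⟩
  have h5 : (kernel.lift S.g S.f S.zero ≫ kernel.ι S.g).app W k = S.f.app W k := by
    rw [kernel.lift_ι]
  rw [← h5, comp_app', hk, app_res, ht']

end Groth.Agent.LD.QC

namespace Groth.Agent.LD.QC

open CategoryTheory Limits

variable {𝒞 : Type*} [Category 𝒞] [Abelian 𝒞]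

/-- for an exact sequence `A → B → C`, the sequence `0 → ker f → A → ker g → 0` is short
exact. -/
theorem shortExact_kernel_lift {A B C : 𝒞} (f : A ⟶ B) (g : B ⟶ C) (w : f ≫ g = 0)
    (hex : (ShortComplex.mk f g w).Exact) :
    (ShortComplex.mk (kernel.ι f) (kernel.lift g f w)
      (by apply (cancel_mono (kernel.ι g)).1; simp)).ShortExact := by
  haveI : Epi (kernel.lift g f w) := hex.epi_kernelLift
  refine { exact := ?_, mono_f := inferInstanceAs (Mono (kernel.ι f)), epi_g := inferInstance }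
  apply ShortComplex.exact_of_f_is_kernel
  refine KernelFork.IsLimit.ofι _ _ (fun {T} h hh => kernel.lift f h ?_) ?_ ?_
  · have h1 : (h ≫ kernel.lift g f w) ≫ kernel.ι g = 0 := by rw [hh, zero_comp]
    have h2 : (h ≫ kernel.lift g f w) ≫ kernel.ι g = h ≫ f :=
      (Category.assoc _ _ _).trans (congrArg (fun t => h ≫ t) (kernel.lift_ι g f w))
    exact h2.symm.trans h1
  · intro T h hh
    exact kernel.lift_ι _ _ _
  · intro T h hh m hm
    apply (cancel_mono (kernel.ι f)).1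
    rw [kernel.lift_ι]
    exact hm

end Groth.Agent.LD.QC
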