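import Groth.Agent.Lib.Lead.QC.Coh
universe u
open CategoryTheory Limits AlgebraicGeometry TopologicalSpace Opposite

namespace Groth.Agent.LD.QC
variable {X : Scheme.{u}}

/-- sections of an `𝒪_X`-module vanish if they vanish on an open cover. -/
lemma section_eq_zero_of_cover (M : X.Modules) {ι : Type*} {U : X.Opens} (V : ι → X.Opens)
    (hV : ∀ i, V i ≤ U) (hcov : U ≤ ⨆ i, V i) (s : Γ(M, U))
    (h : ∀ i, M.presheaf.map (homOfLE (hV i)).op s = 0) : s = 0 := by
  apply TopCat.Sheaf.eq_of_locally_eq' ⟨_, M.isSheaf⟩ V U (fun i => homOfLE (hV i)) hcov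
  intro i
  rw [map_zero]
  exact h i

lemma smul_res (M : X.Modules) {U V : X.Opens} (h : V ≤ U) (r : Γ(X, U)) (s : Γ(M, U)) :
    M.presheaf.map (homOfLE h).op (r • s) =
      X.presheaf.map (homOfLE h).op r • M.presheaf.map (homOfLE h).op s :=
  Scheme.Modules.map_smul M (homOfLE h) r s

theorem compact_inj (M : X.Modules) [M.IsQuasicoherent] {U : X.Opens} (hU : IsCompact U.1)
    (a : Γ(X, U)) (s : Γ(M, U))
    (hs : M.presheaf.map (homOfLE (X.basicOpen_le a)).op s = 0) :
    ∃ n : ℕ, a ^ n • s = 0 := by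
  obtain ⟨t, ht, e⟩ := isCompact_and_isOpen_iff_finite_and_eq_biUnion_affineOpens.mp ⟨hU, U.2⟩
  replace e : U = iSup fun i : t => (i : X.Opens) := by
    ext1; simpa using e
  have h₁ (i : t) : i.1.1 ≤ U := by
    rw [e]
    exact le_iSup (fun (i : t) => (i : Opens (X.toPresheafedSpace))) _
  have H' : ∀ i : t, ∃ n : ℕ, (X.presheaf.map (homOfLE (h₁ i)).op a) ^ n •
      M.presheaf.map (homOfLE (h₁ i)).op s = 0 := by
    intro i
    apply affine_inj M i.1.2
    have hle : X.basicOpen (X.presheaf.map (homOfLE (h₁ i)).op a) ≤ X.basicOpen a := by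
      rw [Scheme.basicOpen_res]; exact inf_le_right
    rw [res_res, ← res_res M (X.basicOpen_le a) hle, hs, map_zero]
  choose n hn using H'
  have := ht.to_subtype
  cases nonempty_fintype t
  refine ⟨Finset.univ.sup n, ?_⟩
  apply section_eq_zero_of_cover M (fun i : t => (i : X.Opens)) h₁ (le_of_eq e)
  intro i
  rw [smul_res, map_pow]
  have hle : n i ≤ Finset.univ.sup n := Finset.le_sup (Finset.mem_univ i)
  rw [← tsub_add_cancel_of_le hle, pow_add, mul_smul, hn i, smul_zero]

end Groth.Agent.LD.QC
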