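import Groth.Agent.Lib.Lead.QC.Extend
universe u
open CategoryTheory Limits AlgebraicGeometry TopologicalSpace Opposite

namespace Groth.Agent.LD.QC

section Spec
variable {R : CommRingCat.{u}}

/-- elementary criterion (EGA I 1.4.1 d1, d2) for quasi-coherence on `Spec R`. -/
theorem spec_qc_of_surj_inj (N : (Spec R).Modules)
    (hsurj : ∀ (f : R) (t : Γ(N, PrimeSpectrum.basicOpen f)), ∃ (n : ℕ) (s : Γ(N, ⊤)),
      N.presheaf.map (homOfLE (le_top : PrimeSpectrum.basicOpen f ≤ ⊤)).op s = f ^ n • t)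
    (hinj : ∀ (f : R) (s : Γ(N, ⊤)),
      N.presheaf.map (homOfLE (le_top : PrimeSpectrum.basicOpen f ≤ ⊤)).op s = 0 →
        ∃ n : ℕ, f ^ n • s = 0) :
    N.IsQuasicoherent := by
  rw [isQuasicoherent_iff_isIso_fromTildeΓ, isIso_fromTildeΓ_iff_isLocalizing]
  intro f
  refine IsLocalizedModule.Away.mk_of_addCommGroup ?_ ?_ ?_
  · exact Scheme.Modules.isUnit_algebraMap_end_of_le_basicOpen f le_rfl
  · intro x
    obtain ⟨n, t, ht⟩ := hsurj f x
    exact ⟨n, t, ht.symm⟩
  · intro x hx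
    exact hinj f x hx

end Spec

variable {X : Scheme.{u}}

/-- elementary criterion for quasi-coherence: sections over basic opens of affine opens are
localizations. -/
theorem qc_of_surj_inj (M : X.Modules)
    (hsurj : ∀ (U : X.Opens) (_ : IsAffineOpen U) (f : Γ(X, U)) (t : Γ(M, X.basicOpen f)),
      ∃ (n : ℕ) (s : Γ(M, U)), M.presheaf.map (homOfLE (X.basicOpen_le f)).op s =
        (X.presheaf.map (homOfLE (X.basicOpen_le f)).op f) ^ n • t)
    (hinj : ∀ (U : X.Opens) (_ : IsAffineOpen U) (f : Γ(X, U)) (s : Γ(M, U)),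
      M.presheaf.map (homOfLE (X.basicOpen_le f)).op s = 0 → ∃ n : ℕ, f ^ n • s = 0) :
    M.IsQuasicoherent := by
  refine qc_of_forall_affine M fun U => ?_
  have hU : IsAffineOpen U.1 := U.2
  refine spec_qc_of_surj_inj _ ?_ ?_
  · intro f t
    have hD : hU.fromSpec ''ᵁ PrimeSpectrum.basicOpen f = X.basicOpen f :=
      hU.fromSpec_image_basicOpen f
    have hT : hU.fromSpec ''ᵁ ⊤ = U.1 :=
      (Scheme.Hom.image_top_eq_opensRange _).trans hU.opensRange_fromSpec
    obtain ⟨n, s, hs⟩ := hsurj U.1 hU f (M.presheaf.map (homOfLE hD.ge).op t)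
    refine ⟨n, M.presheaf.map (homOfLE hT.le).op s, ?_⟩
    rw [fromSpec_smul, map_pow]
    change M.presheaf.map (homOfLE _).op (M.presheaf.map (homOfLE hT.le).op s) = _
    rw [res_res, ← res_res M (X.basicOpen_le f) hD.le, hs, Scheme.Modules.map_smul, map_pow,
      sres_res, res_res, res_self]
  · intro f s hs
    have hD : hU.fromSpec ''ᵁ PrimeSpectrum.basicOpen f = X.basicOpen f :=
      hU.fromSpec_image_basicOpen f
    have hT : hU.fromSpec ''ᵁ ⊤ = U.1 :=
      (Scheme.Hom.image_top_eq_opensRange _).trans hU.opensRange_fromSpec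
    obtain ⟨n, hn⟩ := hinj U.1 hU f (M.presheaf.map (homOfLE hT.ge).op s) (by
      apply res_injective_of_le_of_le M hD.le hD.ge
      rw [res_res, res_res, map_zero]
      exact hs)
    refine ⟨n, ?_⟩
    rw [fromSpec_smul]
    apply res_injective_of_le_of_le M hT.ge hT.le
    change M.presheaf.map (homOfLE hT.ge).op
      (X.presheaf.map (homOfLE _).op (f ^ n) • (show Γ(M, hU.fromSpec ''ᵁ ⊤) from s)) =
      M.presheaf.map (homOfLE hT.ge).op (0 : Γ(M, hU.fromSpec ''ᵁ ⊤))
    rw [Scheme.Modules.map_smul, sres_res, map_zero]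
    have : X.presheaf.map (homOfLE ((hT.ge).trans (fromSpec_image_le hU ⊤))).op (f ^ n) = f ^ n := by
      change X.presheaf.map (𝟙 _) _ = _
      rw [X.presheaf.map_id]; rfl
    rw [this]
    exact hn

theorem qc_iff_surj_inj (M : X.Modules) :
    M.IsQuasicoherent ↔
    (∀ (U : X.Opens) (_ : IsAffineOpen U) (f : Γ(X, U)) (t : Γ(M, X.basicOpen f)),
      ∃ (n : ℕ) (s : Γ(M, U)), M.presheaf.map (homOfLE (X.basicOpen_le f)).op s =
        (X.presheaf.map (homOfLE (X.basicOpen_le f)).op f) ^ n • t) ∧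
    (∀ (U : X.Opens) (_ : IsAffineOpen U) (f : Γ(X, U)) (s : Γ(M, U)),
      M.presheaf.map (homOfLE (X.basicOpen_le f)).op s = 0 → ∃ n : ℕ, f ^ n • s = 0) :=
  ⟨fun _ => ⟨fun _ hU f t => affine_surj M hU f t, fun _ hU f s hs => affine_inj M hU f s hs⟩,
    fun h => qc_of_surj_inj M h.1 h.2⟩

end Groth.Agent.LD.QC

namespace Groth.Agent.LD.QC

lemma pushforward_smul {X Y : Scheme.{u}} (f : X ⟶ Y) (F : X.Modules) (W : Y.Opens) (r : Γ(Y, W))
    (x : Γ((Scheme.Modules.pushforward f).obj F, W)) :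
    r • x = (show Γ((Scheme.Modules.pushforward f).obj F, W) from
      (f.app W r) • (show Γ(F, f ⁻¹ᵁ W) from x)) := rfl

/-- the direct image of a quasi-coherent module along a quasi-compact quasi-separated morphism
is quasi-coherent. -/
theorem qc_pushforward {X Y : Scheme.{u}} (f : X ⟶ Y) [QuasiCompact f] [QuasiSeparated f]
    (F : X.Modules) [F.IsQuasicoherent] :
    ((Scheme.Modules.pushforward f).obj F).IsQuasicoherent := by
  refine qc_of_surj_inj _ ?_ ?_
  · intro V hV g t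
    have hc : IsCompact (f ⁻¹ᵁ V).1 := f.isCompact_preimage hV.isCompact
    have hq : IsQuasiSeparated (f ⁻¹ᵁ V).1 := f.isQuasiSeparated_preimage hV.isQuasiSeparated
    have hD : X.basicOpen (f.app V g) = f ⁻¹ᵁ Y.basicOpen g := (Scheme.preimage_basicOpen f g).symm
    obtain ⟨n, s, hs⟩ := compact_qs_surj F hc hq (f.app V g)
      (F.presheaf.map (homOfLE hD.le).op (show Γ(F, f ⁻¹ᵁ Y.basicOpen g) from t))
    refine ⟨n, s, ?_⟩
    rw [← map_pow, pushforward_smul]
    apply res_injective_of_le_of_le F hD.le hD.ge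
    change F.presheaf.map (homOfLE hD.le).op (F.presheaf.map (homOfLE _).op s) =
      F.presheaf.map (homOfLE hD.le).op (_ • (show Γ(F, f ⁻¹ᵁ Y.basicOpen g) from t))
    rw [res_res, hs, smul_res]
    congr 1
    rw [← map_pow, ← map_pow]
    have := f.naturality (homOfLE (Y.basicOpen_le g)).op
    have h2 := congr($this (g ^ n))
    simp only [CommRingCat.comp_apply] at h2
    rw [h2]
    exact (sres_res (X := X) (f.preimage_mono (Y.basicOpen_le g)) hD.le _).symm
  · intro V hV g s hs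
    have hc : IsCompact (f ⁻¹ᵁ V).1 := f.isCompact_preimage hV.isCompact
    have hD : X.basicOpen (f.app V g) = f ⁻¹ᵁ Y.basicOpen g := (Scheme.preimage_basicOpen f g).symm
    obtain ⟨n, hn⟩ := compact_inj F hc (f.app V g) (show Γ(F, f ⁻¹ᵁ V) from s) (by
      have h1 : F.presheaf.map (homOfLE (f.preimage_mono (Y.basicOpen_le g))).op
          (show Γ(F, f ⁻¹ᵁ V) from s) = 0 := hs
      rw [← res_res F (f.preimage_mono (Y.basicOpen_le g)) hD.le, h1, map_zero])
    refine ⟨n, ?_⟩
    rw [pushforward_smul, map_pow]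
    exact hn

end Groth.Agent.LD.QC
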