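import Groth.Agent.Lib.Lead.QC.InvBasis
universe u
open CategoryTheory Limits AlgebraicGeometry TopologicalSpace Opposite

namespace Groth.Agent.LD.QC
variable {X : Scheme.{u}}

/-- dividing a section by a power of a function on an open where the function is invertible. -/
lemma exists_smul_pow_eq (M : X.Modules) {U V : X.Opens} (f : Γ(X, U)) (hVU : V ≤ U)
    (hV : V ≤ X.basicOpen f) (n : ℕ) (y : Γ(M, V)) :
    ∃ α : Γ(M, V), (X.presheaf.map (homOfLE hVU).op f) ^ n • α = y := by
  have hu := (isUnit_res_of_le_basicOpen f hVU hV).pow n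
  refine ⟨(↑hu.unit⁻¹ : Γ(X, V)) • y, ?_⟩
  rw [smul_smul]
  have : (X.presheaf.map (homOfLE hVU).op f) ^ n * (↑hu.unit⁻¹ : Γ(X, V)) = 1 := hu.mul_val_inv
  rw [this, one_smul]

/-- for a quasi-coherent module on an affine open `U` and functions `g + h = 1`, every section
over `D(gh)` is a difference of sections over `D(g)` and `D(h)`. -/
theorem exists_sub_eq_of_add_eq_one (M : X.Modules) [M.IsQuasicoherent] {U : X.Opens}
    (hU : IsAffineOpen U) (g h : Γ(X, U)) (hgh : g + h = 1) {W : X.Opens}
    (hW : W = X.basicOpen (g * h)) (hWg : W ≤ X.basicOpen g) (hWh : W ≤ X.basicOpen h)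
    (s : Γ(M, W)) :
    ∃ (α : Γ(M, X.basicOpen g)) (β : Γ(M, X.basicOpen h)),
      M.presheaf.map (homOfLE hWg).op α - M.presheaf.map (homOfLE hWh).op β = s := by
  subst hW
  obtain ⟨n, m, hm⟩ := affine_surj M hU (g * h) s
  have hcop : IsCoprime (g ^ n) (h ^ n) := IsCoprime.pow ⟨1, 1, by simpa using hgh⟩
  obtain ⟨u, v, huv⟩ := hcop
  have hWU : X.basicOpen (g * h) ≤ U := X.basicOpen_le _
  obtain ⟨α, hα⟩ := exists_smul_pow_eq M g (X.basicOpen_le g) le_rfl n
    (M.presheaf.map (homOfLE (X.basicOpen_le g)).op (v • m))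
  obtain ⟨β, hβ⟩ := exists_smul_pow_eq M h (X.basicOpen_le h) le_rfl n
    (M.presheaf.map (homOfLE (X.basicOpen_le h)).op (u • m))
  refine ⟨α, -β, ?_⟩
  -- notation on `W`
  set a := X.presheaf.map (homOfLE hWU).op g with ha
  set b := X.presheaf.map (homOfLE hWU).op h with hb
  set m' := M.presheaf.map (homOfLE hWU).op m with hm'
  have hab : X.presheaf.map (homOfLE hWU).op (g * h) = a * b := map_mul _ _ _
  have hm2 : m' = (a * b) ^ n • s := by rw [← hab]; exact hm
  have hα' : a ^ n • M.presheaf.map (homOfLE hWg).op α =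
      X.presheaf.map (homOfLE hWU).op v • m' := by
    have h1 := congrArg (M.presheaf.map (homOfLE hWg).op) hα
    rw [res_res] at h1
    have h2 : M.presheaf.map (homOfLE hWg).op
        (X.presheaf.map (homOfLE (X.basicOpen_le g)).op g ^ n • α) =
        X.presheaf.map (homOfLE hWg).op (X.presheaf.map (homOfLE (X.basicOpen_le g)).op g ^ n) •
          M.presheaf.map (homOfLE hWg).op α := Scheme.Modules.map_smul M _ _ _
    rw [h2, map_pow, sres_res] at h1
    rw [h1]
    exact Scheme.Modules.map_smul M _ _ _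
  have hβ' : b ^ n • M.presheaf.map (homOfLE hWh).op β =
      X.presheaf.map (homOfLE hWU).op u • m' := by
    have h1 := congrArg (M.presheaf.map (homOfLE hWh).op) hβ
    rw [res_res] at h1
    have h2 : M.presheaf.map (homOfLE hWh).op
        (X.presheaf.map (homOfLE (X.basicOpen_le h)).op h ^ n • β) =
        X.presheaf.map (homOfLE hWh).op (X.presheaf.map (homOfLE (X.basicOpen_le h)).op h ^ n) •
          M.presheaf.map (homOfLE hWh).op β := Scheme.Modules.map_smul M _ _ _
    rw [h2, map_pow, sres_res] at h1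
    rw [h1]
    exact Scheme.Modules.map_smul M _ _ _
  have huv' : X.presheaf.map (homOfLE hWU).op u * a ^ n +
      X.presheaf.map (homOfLE hWU).op v * b ^ n = 1 := by
    have := congrArg (X.presheaf.map (homOfLE hWU).op).hom huv
    simpa [map_add, map_mul, map_pow] using this
  have hunit : IsUnit ((a * b) ^ n) := by
    rw [← hab]
    exact (isUnit_res_of_le_basicOpen (g * h) hWU le_rfl).pow n
  have key : (a * b) ^ n • (M.presheaf.map (homOfLE hWg).op α -
      M.presheaf.map (homOfLE hWh).op (-β)) = (a * b) ^ n • s := by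
    rw [map_neg, sub_neg_eq_add, smul_add, ← hm2, mul_pow]
    rw [mul_comm (a ^ n) (b ^ n), mul_smul, hα', mul_comm (b ^ n) (a ^ n), mul_smul, hβ',
      smul_smul, smul_smul, ← add_smul]
    have : b ^ n * X.presheaf.map (homOfLE hWU).op v + a ^ n * X.presheaf.map (homOfLE hWU).op u
        = 1 := by rw [← huv']; ring
    rw [this, one_smul]
  exact hunit.smul_left_cancel.mp key

end Groth.Agent.LD.QC
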