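import Groth.Agent.Lib.Lead.QC.SubExt
import Groth.Agent.Lib.Lead.QC.BiprodSec
import Groth.Agent.Lib.Lead.QC.Coh
import Groth.Agent.Lib.Lead.SC.Efface

/-! # Finite type quasi-coherent submodules containing finitely many local sections. -/

universe u
open CategoryTheory Limits AlgebraicGeometry TopologicalSpace Opposite

namespace Groth.Agent.LD.QC
variable {X : Scheme.{u}}

/-- on a qcqs scheme a local section over an affine open of a quasi-coherent module lies in a
quasi-coherent submodule of finite type. -/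
theorem exists_sub_finiteType_of_section [CompactSpace X] [QuasiSeparatedSpace X]
    (F : X.Modules) [F.IsQuasicoherent] {U : X.Opens} (hU : IsAffineOpen U) (s : Γ(F, U)) :
    ∃ (G : X.Modules) (i : G ⟶ F), Mono i ∧ G.IsQuasicoherent ∧ G.IsFiniteType ∧
      ∃ g : Γ(G, U), i.app U g = s := by
  classical
  let N₁ : Submodule Γ(X, U) Γ(F, U) := Submodule.span _ {s}
  have hN₁ : N₁.FG := ⟨{s}, by simp [N₁]⟩
  let G₀ : X.Modules := subGen F hU N₁
  let ι₀ : G₀ ⟶ F := subGenι F hU N₁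
  haveI hG₀ : G₀.IsQuasicoherent := subGen_qc F hU N₁
  have hfinU : Module.Finite Γ(X, U) Γ(G₀, U) := subGen_finite F hU N₁ hN₁
  have hfin : ∀ W : X.Opens, IsAffineOpen W → W ≤ U → Module.Finite Γ(X, W) Γ(G₀, W) := by
    intro W hW hWU
    apply finite_sections_of_locally G₀ hW
    intro x hx
    exact ⟨U, hU, hWU hx, hfinU⟩
  obtain ⟨G, u, hu, hG, hFT, hbij⟩ := exists_sub_finiteType G₀ U hU.isCompact hfin
  refine ⟨G, u ≫ ι₀, mono_comp _ _, hG, hFT, ?_⟩
  obtain ⟨t, ht⟩ := (mem_range_subGenι_iff F hU N₁ s).mpr (Submodule.subset_span rfl)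
  obtain ⟨g, hg⟩ := (hbij U le_rfl).2 t
  refine ⟨g, ?_⟩
  change ι₀.app U (u.app U g) = s
  rw [hg]
  exact ht

/-- the biproduct of two quasi-coherent modules of finite type is of finite type. -/
theorem isFiniteType_biprod (A B : X.Modules) [hA : A.IsQuasicoherent] [hB : B.IsQuasicoherent]
    (fA : A.IsFiniteType) (fB : B.IsFiniteType) : (A ⊞ B).IsFiniteType := by
  haveI : (A ⊞ B).IsQuasicoherent := SC.qc_biprod A B hA hB
  rw [isFiniteType_iff_finite_sections]
  intro U hU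
  haveI := finite_sections_of_isFiniteType A fA hU
  haveI := finite_sections_of_isFiniteType B fB hU
  let f : (Γ(A, U) × Γ(B, U)) →ₗ[Γ(X, U)] Γ(A ⊞ B, U) :=
    (appLinear (biprod.inl : A ⟶ A ⊞ B) U).coprod (appLinear (biprod.inr : B ⟶ A ⊞ B) U)
  refine Module.Finite.of_surjective f ?_
  intro t
  refine ⟨((biprod.fst : A ⊞ B ⟶ A).app U t, (biprod.snd : A ⊞ B ⟶ B).app U t), ?_⟩
  exact bmk_eta A B U t

/-- the sum of two quasi-coherent submodules of finite type. -/
theorem exists_sub_sup (G : X.Modules) [hG : G.IsQuasicoherent] {F₁ F₂ : X.Modules}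
    (u₁ : F₁ ⟶ G) (u₂ : F₂ ⟶ G) [h₁ : F₁.IsQuasicoherent] [h₂ : F₂.IsQuasicoherent]
    (f₁ : F₁.IsFiniteType) (f₂ : F₂.IsFiniteType) :
    ∃ (F : X.Modules) (u : F ⟶ G) (a₁ : F₁ ⟶ F) (a₂ : F₂ ⟶ F), Mono u ∧ F.IsQuasicoherent ∧
      F.IsFiniteType ∧ a₁ ≫ u = u₁ ∧ a₂ ≫ u = u₂ := by
  let p : F₁ ⊞ F₂ ⟶ G := biprod.desc u₁ u₂
  have hB : (F₁ ⊞ F₂).IsQuasicoherent := SC.qc_biprod F₁ F₂ h₁ h₂
  have hI : (Abelian.image p).IsQuasicoherent :=
    qc_kernel _ hG (qc_cokernel p hB hG)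
  refine ⟨Abelian.image p, Abelian.image.ι p, biprod.inl ≫ Abelian.factorThruImage p,
    biprod.inr ≫ Abelian.factorThruImage p, inferInstance, hI, ?_, ?_, ?_⟩
  · exact isFiniteType_of_epi (Abelian.factorThruImage p) hB hI (isFiniteType_biprod F₁ F₂ f₁ f₂)
  · rw [Category.assoc, Abelian.image.fac]; exact biprod.inl_desc _ _
  · rw [Category.assoc, Abelian.image.fac]; exact biprod.inr_desc _ _

/-- **finitely many local sections lie in a common quasi-coherent submodule of finite type.** -/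
theorem exists_sub_finiteType_of_sections [CompactSpace X] [QuasiSeparatedSpace X]
    (G : X.Modules) [G.IsQuasicoherent] {ι : Type*} (s : Finset ι) (W : ι → X.affineOpens)
    (t : ∀ a, Γ(G, (W a).1)) :
    ∃ (F : X.Modules) (u : F ⟶ G), Mono u ∧ F.IsQuasicoherent ∧ F.IsFiniteType ∧
      ∀ a ∈ s, ∃ g : Γ(F, (W a).1), u.app (W a).1 g = t a := by
  classical
  induction s using Finset.induction_on with
  | empty =>
    have hq : (kernel (𝟙 G)).IsQuasicoherent := qc_kernel (𝟙 G) inferInstance inferInstance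
    refine ⟨kernel (𝟙 G), kernel.ι (𝟙 G), inferInstance, hq, ?_,
      fun a ha => absurd ha (Finset.notMem_empty a)⟩
    rw [isFiniteType_iff_finite_sections]
    intro U hU
    haveI : Subsingleton Γ(kernel (𝟙 G), U) := by
      refine ⟨fun a b => ?_⟩
      apply mono_app (kernel.ι (𝟙 G)) U
      have h0 : kernel.ι (𝟙 G) = 0 := by
        have := kernel.condition (𝟙 G)
        rwa [Category.comp_id] at this
      rw [h0]
      rfl
    infer_instance
  | insert a s ha ih =>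
    obtain ⟨F₁, u₁, hu₁, hq₁, hf₁, hs₁⟩ := ih
    obtain ⟨F₂, u₂, hu₂, hq₂, hf₂, g₂, hg₂⟩ := exists_sub_finiteType_of_section G (W a).2 (t a)
    obtain ⟨F, u, a₁, a₂, hu, hq, hf, e₁, e₂⟩ := exists_sub_sup G u₁ u₂ hf₁ hf₂
    refine ⟨F, u, hu, hq, hf, fun b hb => ?_⟩
    rcases Finset.mem_insert.mp hb with rfl | hb
    · refine ⟨a₂.app _ g₂, ?_⟩
      rw [← hg₂, ← e₂]; rfl
    · obtain ⟨g, hg⟩ := hs₁ b hb
      refine ⟨a₁.app _ g, ?_⟩
      rw [← hg, ← e₁]; rfl

end Groth.Agent.LD.QC
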