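import Groth.Agent.Lib.Lead.QC.SheafIso
universe u
open CategoryTheory Limits AlgebraicGeometry TopologicalSpace Opposite

namespace Groth.Agent.LD.QC
variable {X : Scheme.{u}}

/-- every open is covered by the affine opens it contains. -/
lemma le_iSup_affineOpens (U : X.Opens) :
    U ≤ ⨆ V : {V : X.affineOpens // V.1 ≤ U}, V.1.1 := by
  intro x hx
  obtain ⟨V, hV, hxV, hVU⟩ := exists_isAffineOpen_mem_and_subset (x := x) (U := U) hx
  exact Opens.mem_iSup.mpr ⟨⟨⟨V, hV⟩, hVU⟩, hxV⟩

/-- the natural transformation on the basis of affine opens attached to a compatible family of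
linear maps. -/
noncomputable def affineNatTrans (F G : X.Modules)
    (φ : ∀ U : X.affineOpens, Γ(F, U.1) →ₗ[Γ(X, U.1)] Γ(G, U.1))
    (nat : ∀ (U V : X.affineOpens) (h : V.1 ≤ U.1) (s : Γ(F, U.1)),
      G.presheaf.map (homOfLE h).op (φ U s) = φ V (F.presheaf.map (homOfLE h).op s)) :
    (inducedFunctor (Subtype.val : X.affineOpens → X.Opens)).op ⋙ F.presheaf ⟶
      (inducedFunctor (Subtype.val : X.affineOpens → X.Opens)).op ⋙ G.presheaf where
  app U := AddCommGrpCat.ofHom (φ U.unop).toAddMonoidHom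
  naturality U V g := by
    ext s
    exact (nat U.unop V.unop
      (leOfHom ((inducedFunctor (Subtype.val : X.affineOpens → X.Opens)).map g.unop)) s).symm

/-- the morphism of abelian presheaves attached to a compatible family of linear maps on affine
opens. -/
noncomputable def homOfAffinePre (F G : X.Modules)
    (φ : ∀ U : X.affineOpens, Γ(F, U.1) →ₗ[Γ(X, U.1)] Γ(G, U.1))
    (nat : ∀ (U V : X.affineOpens) (h : V.1 ≤ U.1) (s : Γ(F, U.1)),
      G.presheaf.map (homOfLE h).op (φ U s) = φ V (F.presheaf.map (homOfLE h).op s)) :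
    F.presheaf ⟶ G.presheaf :=
  TopCat.Sheaf.restrictHomEquivHom F.presheaf ⟨G.presheaf, G.isSheaf⟩
    (B := (Subtype.val : X.affineOpens → X.Opens))
    (by rw [Subtype.range_coe]; exact X.isBasis_affineOpens) (affineNatTrans F G φ nat)

lemma homOfAffinePre_app (F G : X.Modules)
    (φ : ∀ U : X.affineOpens, Γ(F, U.1) →ₗ[Γ(X, U.1)] Γ(G, U.1))
    (nat : ∀ (U V : X.affineOpens) (h : V.1 ≤ U.1) (s : Γ(F, U.1)),
      G.presheaf.map (homOfLE h).op (φ U s) = φ V (F.presheaf.map (homOfLE h).op s))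
    (U : X.affineOpens) (s : Γ(F, U.1)) :
    (homOfAffinePre F G φ nat).app (op U.1) s = φ U s := by
  have h := TopCat.Sheaf.extend_hom_app F.presheaf ⟨G.presheaf, G.isSheaf⟩
    (B := (Subtype.val : X.affineOpens → X.Opens))
    (by rw [Subtype.range_coe]; exact X.isBasis_affineOpens) (affineNatTrans F G φ nat) U
  exact congr($h s)

lemma homOfAffinePre_res (F G : X.Modules) (β : F.presheaf ⟶ G.presheaf) {U V : X.Opens}
    (h : V ≤ U) (s : Γ(F, U)) :
    G.presheaf.map (homOfLE h).op (β.app (op U) s) =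
      β.app (op V) (F.presheaf.map (homOfLE h).op s) :=
  (congr($(β.naturality (homOfLE h).op) s)).symm

lemma homOfAffinePre_smul (F G : X.Modules)
    (φ : ∀ U : X.affineOpens, Γ(F, U.1) →ₗ[Γ(X, U.1)] Γ(G, U.1))
    (nat : ∀ (U V : X.affineOpens) (h : V.1 ≤ U.1) (s : Γ(F, U.1)),
      G.presheaf.map (homOfLE h).op (φ U s) = φ V (F.presheaf.map (homOfLE h).op s))
    (U : X.Opens) (r : Γ(X, U)) (m : Γ(F, U)) :
    (homOfAffinePre F G φ nat).app (op U) (r • m) =
      r • (homOfAffinePre F G φ nat).app (op U) m := by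
  apply section_ext_of_cover G (fun V : {V : X.affineOpens // V.1 ≤ U} => V.1.1)
    (fun V => V.2) (le_iSup_affineOpens U)
  intro V
  rw [homOfAffinePre_res, Scheme.Modules.map_smul, Scheme.Modules.map_smul, homOfAffinePre_res,
    homOfAffinePre_app, homOfAffinePre_app, map_smul]

/-- **gluing morphisms**: a compatible family of linear maps on affine opens defines a morphism of
modules. -/
noncomputable def homOfAffine (F G : X.Modules)
    (φ : ∀ U : X.affineOpens, Γ(F, U.1) →ₗ[Γ(X, U.1)] Γ(G, U.1))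
    (nat : ∀ (U V : X.affineOpens) (h : V.1 ≤ U.1) (s : Γ(F, U.1)),
      G.presheaf.map (homOfLE h).op (φ U s) = φ V (F.presheaf.map (homOfLE h).op s)) :
    F ⟶ G :=
  ⟨PresheafOfModules.homMk (homOfAffinePre F G φ nat)
    (fun U r m => homOfAffinePre_smul F G φ nat U.unop r m)⟩

lemma homOfAffine_app (F G : X.Modules)
    (φ : ∀ U : X.affineOpens, Γ(F, U.1) →ₗ[Γ(X, U.1)] Γ(G, U.1))
    (nat : ∀ (U V : X.affineOpens) (h : V.1 ≤ U.1) (s : Γ(F, U.1)),
      G.presheaf.map (homOfLE h).op (φ U s) = φ V (F.presheaf.map (homOfLE h).op s))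
    (U : X.affineOpens) (s : Γ(F, U.1)) :
    (homOfAffine F G φ nat).app U.1 s = φ U s :=
  homOfAffinePre_app F G φ nat U s

/-- a morphism of modules which is bijective on sections over affine opens is an isomorphism. -/
theorem isIso_of_bijective_affine {F G : X.Modules} (ψ : F ⟶ G)
    (h : ∀ U : X.affineOpens, Function.Bijective (ψ.app U.1)) : IsIso ψ := by
  apply isIso_of_local_bijective
  intro x W hx
  obtain ⟨V, hV, hxV, hVW⟩ := exists_isAffineOpen_mem_and_subset (x := x) (U := W) hx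
  exact ⟨V, hxV, hVW, h ⟨V, hV⟩⟩

/-- two morphisms of modules agreeing on affine opens are equal. -/
theorem hom_ext_affine {F G : X.Modules} (ψ ψ' : F ⟶ G)
    (h : ∀ (U : X.affineOpens) (s : Γ(F, U.1)), ψ.app U.1 s = ψ'.app U.1 s) : ψ = ψ' := by
  apply Scheme.Modules.hom_ext
  intro U
  ext s
  apply section_ext_of_cover G (fun V : {V : X.affineOpens // V.1 ≤ U} => V.1.1)
    (fun V => V.2) (le_iSup_affineOpens U)
  intro V
  rw [← app_res, ← app_res, h]

end Groth.Agent.LD.QC
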