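import Groth.Agent.Lib.Lead.QC.Pullback
import Groth.Prelude.Def_FlatMod2
universe u
open CategoryTheory Limits AlgebraicGeometry TopologicalSpace Opposite

namespace Groth.Agent.LD.QC

/-- the inverse image functor on opens is final. -/
instance opensMap_final {X Y : TopCat.{u}} (f : X ⟶ Y) : (Opens.map f).Final := by
  haveI : IsFiltered (Opens Y) := inferInstance
  apply Functor.final_of_exists_of_isFiltered
  · intro d
    exact ⟨⊤, ⟨homOfLE (fun _ _ => trivial)⟩⟩
  · intro d c s s'
    exact ⟨c, 𝟙 c, Subsingleton.elim _ _⟩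

section Free
variable (X : Scheme.{u})

/-- the free module of rank `n`, as a coproduct indexed by `Fin n`. -/
noncomputable abbrev freeMod (n : ℕ) : X.Modules :=
  ∐ fun _ : Fin n => SheafOfModules.unit X.ringCatSheaf

/-- comparison with Mathlib's free sheaf of modules. -/
noncomputable def freeModIso (n : ℕ) :
    freeMod X n ≅ SheafOfModules.free (R := X.ringCatSheaf) (ULift.{u} (Fin n)) :=
  (Sigma.whiskerEquiv (f := fun _ : Fin n => SheafOfModules.unit X.ringCatSheaf)
    (g := fun _ : ULift.{u} (Fin n) => SheafOfModules.unit X.ringCatSheaf)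
    Equiv.ulift.symm (fun _ => Iso.refl _))

variable {X}

/-- the pullback of a free module is free. -/
noncomputable def pullbackFreeIso {Y : Scheme.{u}} (f : X ⟶ Y) (I : Type u) :
    (Scheme.Modules.pullback f).obj (SheafOfModules.free (R := Y.ringCatSheaf) I) ≅
      SheafOfModules.free (R := X.ringCatSheaf) I :=
  SheafOfModules.pullbackObjFreeIso _ I

noncomputable def pullbackFreeModIso {Y : Scheme.{u}} (f : X ⟶ Y) (n : ℕ) :
    (Scheme.Modules.pullback f).obj (freeMod Y n) ≅ freeMod X n :=
  (Scheme.Modules.pullback f).mapIso (freeModIso Y n) ≪≫ pullbackFreeIso f _ ≪≫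
    (freeModIso X n).symm

/-- the restriction of a free module is free. -/
noncomputable def restrictFreeModIso {Y : Scheme.{u}} (j : Y ⟶ X) [IsOpenImmersion j] (n : ℕ) :
    (freeMod X n).restrict j ≅ freeMod Y n :=
  (Scheme.Modules.restrictFunctorIsoPullback j).app _ ≪≫ pullbackFreeModIso j n

/-- on an affine scheme, the free module of rank `n` is the sheaf associated with `R^n`. -/
noncomputable def freeModTildeIso (R : CommRingCat.{u}) (n : ℕ) :
    freeMod (Spec R) n ≅ tilde (ModuleCat.of R (ULift.{u} (Fin n) →₀ R)) :=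
  freeModIso (Spec R) n ≪≫ (tildeFinsupp (ULift.{u} (Fin n))).symm

instance (n : ℕ) : (freeMod X n).IsQuasicoherent :=
  qc_of_iso (freeModIso X n).symm inferInstance

end Free

end Groth.Agent.LD.QC

namespace Groth.Agent.LD.QC
variable {X : Scheme.{u}}

/-- transport of local freeness to a smaller open. -/
theorem freeMod_of_range_subset {Y Z : Scheme.{u}} (M : X.Modules) (j : Y ⟶ X) [IsOpenImmersion j]
    (k : Z ⟶ X) [IsOpenImmersion k] (h : Set.range k ⊆ Set.range j) (n : ℕ)
    (e : M.restrict j ≅ freeMod Y n) : Nonempty (M.restrict k ≅ freeMod Z n) :=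
  ⟨(restrictLiftIso M j k h).symm ≪≫
    (Scheme.Modules.restrictFunctor (IsOpenImmersion.lift j k h)).mapIso e ≪≫
    restrictFreeModIso _ n⟩

/-- `R^n` in two forms. -/
noncomputable def finsuppULiftEquiv (R : Type u) [CommRing R] (n : ℕ) :
    (ULift.{u} (Fin n) →₀ R) ≃ₗ[R] (Fin n → R) :=
  (Finsupp.domLCongr Equiv.ulift) ≪≫ₗ (Finsupp.linearEquivFunOnFinite R R (Fin n))

/-- on an affine open, freeness of the restriction is freeness of the module of sections. -/
theorem restrict_fromSpec_iso_freeMod_iff (M : X.Modules) [M.IsQuasicoherent] {U : X.Opens}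
    (hU : IsAffineOpen U) (n : ℕ) :
    Nonempty (M.restrict hU.fromSpec ≅ freeMod (Spec Γ(X, U)) n) ↔
      Nonempty (Γ(M, U) ≃ₗ[Γ(X, U)] (Fin n → Γ(X, U))) := by
  constructor
  · rintro ⟨e⟩
    let e1 := e ≪≫ freeModTildeIso Γ(X, U) n
    let i2 : ΓM (M.restrict hU.fromSpec) ≅ ModuleCat.of Γ(X, U) (ULift.{u} (Fin n) →₀ Γ(X, U)) :=
      moduleSpecΓFunctor.mapIso e1 ≪≫
        ((tilde.toTildeΓNatIso (R := Γ(X, U))).app _).symm
    exact ⟨(affineΓEquiv M hU).symm ≪≫ₗ i2.toLinearEquiv ≪≫ₗ finsuppULiftEquiv _ n⟩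
  · rintro ⟨ℓ⟩
    let ℓ' : ΓM (M.restrict hU.fromSpec) ≃ₗ[Γ(X, U)] (ULift.{u} (Fin n) →₀ Γ(X, U)) :=
      (affineΓEquiv M hU) ≪≫ₗ ℓ ≪≫ₗ (finsuppULiftEquiv _ n).symm
    haveI : IsIso (M.restrict hU.fromSpec).fromTildeΓ := inferInstance
    exact ⟨(asIso (M.restrict hU.fromSpec).fromTildeΓ).symm ≪≫
      (tilde.functor Γ(X, U)).mapIso ℓ'.toModuleIso ≪≫ (freeModTildeIso Γ(X, U) n).symm⟩

end Groth.Agent.LD.QC

namespace Groth.Agent.LD.QC
variable {X : Scheme.{u}}

/-- finite locally free modules are quasi-coherent. -/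
theorem qc_of_isFinLocFree (M : X.Modules) (h : FlatMod.IsFinLocFree M) : M.IsQuasicoherent := by
  choose U n hxU he using h
  have hc : IsOpenCover U := by
    rw [IsOpenCover, eq_top_iff]
    intro x _
    exact Opens.mem_iSup.mpr ⟨x, hxU x⟩
  refine isQuasicoherent_of_isOpenCover M U hc fun x => ?_
  obtain ⟨e⟩ := he x
  exact qc_of_iso e.symm (inferInstanceAs (freeMod (↑(U x)) (n x)).IsQuasicoherent)

/-- characterization of finite locally free modules by sections over affine opens. -/
theorem isFinLocFree_iff (M : X.Modules) [M.IsQuasicoherent] :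
    FlatMod.IsFinLocFree M ↔ ∀ x : X, ∃ (U : X.Opens) (n : ℕ), IsAffineOpen U ∧ x ∈ U ∧
      Nonempty (Γ(M, U) ≃ₗ[Γ(X, U)] (Fin n → Γ(X, U))) := by
  constructor
  · intro h x
    obtain ⟨W, n, hxW, ⟨e⟩⟩ := h x
    obtain ⟨U, hU, hxU, hUW⟩ := exists_isAffineOpen_mem_and_subset (x := x) (U := W) hxW
    have hr : Set.range hU.fromSpec ⊆ Set.range W.ι := by
      rw [hU.range_fromSpec, Scheme.Opens.range_ι]; exact hUW
    have h1 := freeMod_of_range_subset M W.ι hU.fromSpec hr n e
    exact ⟨U, n, hU, hxU, (restrict_fromSpec_iso_freeMod_iff M hU n).mp h1⟩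
  · intro h x
    obtain ⟨U, n, hU, hxU, hℓ⟩ := h x
    obtain ⟨e⟩ := (restrict_fromSpec_iso_freeMod_iff M hU n).mpr hℓ
    exact ⟨U, n, hxU, freeMod_of_range_subset M hU.fromSpec U.ι
      (range_ι_subset_range_fromSpec hU) n e⟩

end Groth.Agent.LD.QC

namespace Groth.Agent.LD.QC

/-- freeness transfers along a semilinear equivalence. -/
lemma free_of_semilinear_equiv {A A' N N' : Type*} [CommRing A] [CommRing A'] [AddCommGroup N]
    [AddCommGroup N'] [Module A N] [Module A' N'] (e₁ : A ≃+* A') (e₂ : N ≃+ N')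
    (h : ∀ (a : A) (n : N), e₂ (a • n) = e₁ a • e₂ n) [Module.Free A N] : Module.Free A' N' := by
  letI : Module A' N := Module.compHom N e₁.symm.toRingHom
  let b := Module.Free.chooseBasis A N
  have b' : Module.Basis (Module.Free.ChooseBasisIndex A N) A' N := b.mapCoeffs e₁ (by
    intro c x
    change e₁.symm (e₁ c) • x = c • x
    simp)
  haveI : Module.Free A' N := Module.Free.of_basis b'
  let e₂' : N ≃ₗ[A'] N' :=
    { e₂ with
      map_smul' := fun a' n => by
        change e₂ (e₁.symm a' • n) = a' • e₂ n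
        rw [h]; simp }
  exact Module.Free.of_equiv e₂'

/-- two localizations of a module away from `r`: freeness over one localized ring implies freeness
over the other. -/
lemma free_of_isLocalizedModule_away {R : Type*} [CommRing R] (r : R) {A A' M N N' : Type*}
    [CommRing A] [CommRing A'] [Algebra R A] [Algebra R A'] [IsLocalization.Away r A]
    [IsLocalization.Away r A'] [AddCommGroup M] [Module R M] [AddCommGroup N] [AddCommGroup N']
    [Module R N] [Module R N'] [Module A N] [Module A' N'] [IsScalarTower R A N]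
    [IsScalarTower R A' N'] (f : M →ₗ[R] N) (f' : M →ₗ[R] N') [IsLocalizedModule.Away r f]
    [IsLocalizedModule.Away r f'] [Module.Free A N] : Module.Free A' N' := by
  let e₁ : A ≃ₐ[R] A' := IsLocalization.algEquiv (Submonoid.powers r) A A'
  let e₂ : N ≃ₗ[R] N' := IsLocalizedModule.linearEquiv (Submonoid.powers r) f f'
  refine free_of_semilinear_equiv e₁.toRingEquiv e₂.toAddEquiv fun a n => ?_
  obtain ⟨⟨x, s⟩, hxs⟩ := IsLocalization.surj (Submonoid.powers r) a
  have hs : (s : R) • a = algebraMap R A x := by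
    rw [Algebra.smul_def, mul_comm]; exact hxs
  have hinj : Function.Injective (fun y : N' => (s : R) • y) := by
    have hu := IsLocalizedModule.map_units f' s
    exact ((Module.End.isUnit_iff _).mp hu).1
  apply hinj
  change (s : R) • e₂ (a • n) = (s : R) • (e₁ a • e₂ n)
  rw [← map_smul, ← smul_assoc, hs, algebraMap_smul, map_smul, ← smul_assoc]
  congr 1
  have : (s : R) • e₁ a = e₁ ((s : R) • a) := (map_smul e₁ _ _).symm
  rw [this, hs, AlgEquiv.commutes, algebraMap_smul]

end Groth.Agent.LD.QC

namespace Groth.Agent.LD.QC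
variable {X : Scheme.{u}}

lemma mem_basicOpen_of_mem_primeCompl {U : X.Opens} (hU : IsAffineOpen U) (x : X) (hx : x ∈ U)
    (r : Γ(X, U)) (hr : r ∈ (hU.primeIdealOf ⟨x, hx⟩).asIdeal.primeCompl) :
    x ∈ X.basicOpen r :=
  (X.mem_basicOpen r x hx).mpr (isUnit_germ_of_notMem hU x hx r hr)

/-- a finitely presented quasi-coherent module whose stalk at `x` is free is free on a basic open
neighbourhood of `x`. -/
theorem exists_free_basicOpen (F : X.Modules) [F.IsQuasicoherent] {U : X.Opens}
    (hU : IsAffineOpen U) (hfp : Module.FinitePresentation Γ(X, U) Γ(F, U)) (x : X) (hx : x ∈ U)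
    (hfree : Module.Free (X.presheaf.stalk x) (F.presheaf.stalk x)) :
    ∃ r : Γ(X, U), x ∈ X.basicOpen r ∧
      Module.Free Γ(X, X.basicOpen r) Γ(F, X.basicOpen r) := by
  letI := stalkΓModule F x U hx
  haveI := isLocalizedModule_germ F hU x hx
  letI : Algebra Γ(X, U) (X.presheaf.stalk x) :=
    TopCat.Presheaf.algebra_section_stalk X.presheaf ⟨x, hx⟩
  haveI := hU.isLocalization_stalk ⟨x, hx⟩
  haveI : IsScalarTower Γ(X, U) (X.presheaf.stalk x) (F.presheaf.stalk x) :=
    IsScalarTower.of_algebraMap_smul fun r m => rfl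
  obtain ⟨r, hr, hfr, -⟩ := Module.FinitePresentation.exists_free_localizedModule_powers
    (hU.primeIdealOf ⟨x, hx⟩).asIdeal.primeCompl (germLinear F x U hx) (X.presheaf.stalk x)
  refine ⟨r, mem_basicOpen_of_mem_primeCompl hU x hx r hr, ?_⟩
  letI : Algebra Γ(X, U) Γ(X, X.basicOpen r) := resAlgebra (X.basicOpen_le r)
  letI : Module Γ(X, U) Γ(F, X.basicOpen r) := resModule F (X.basicOpen_le r)
  haveI : IsScalarTower Γ(X, U) Γ(X, X.basicOpen r) Γ(F, X.basicOpen r) :=
    resModule_isScalarTower F (X.basicOpen_le r)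
  haveI : IsLocalization.Away r Γ(X, X.basicOpen r) := hU.isLocalization_basicOpen r
  haveI : IsLocalizedModule.Away r (resLinear F (X.basicOpen_le r)) :=
    isLocalizedModule_basicOpen F hU r
  exact free_of_isLocalizedModule_away r (A := Localization (Submonoid.powers r))
    (LocalizedModule.mkLinearMap (Submonoid.powers r) Γ(F, U)) (resLinear F (X.basicOpen_le r))

end Groth.Agent.LD.QC

namespace Groth.Agent.LD.QC
variable {X : Scheme.{u}}

lemma exists_equiv_fin_fun_of_free_of_finite (R M : Type*) [CommRing R] [AddCommGroup M]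
    [Module R M] [Module.Free R M] [Module.Finite R M] :
    ∃ n : ℕ, Nonempty (M ≃ₗ[R] (Fin n → R)) := by
  rcases subsingleton_or_nontrivial R with h | h
  · haveI : Subsingleton M := Module.subsingleton R M
    exact ⟨0, ⟨LinearEquiv.ofSubsingleton M (Fin 0 → R)⟩⟩
  · let b := Module.Free.chooseBasis R M
    haveI : Finite (Module.Free.ChooseBasisIndex R M) := Module.Finite.finite_basis b
    haveI := Fintype.ofFinite (Module.Free.ChooseBasisIndex R M)
    let e := Fintype.equivFin (Module.Free.ChooseBasisIndex R M)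
    exact ⟨_, ⟨(b.reindex e).equivFun⟩⟩

/-- the stalks of a quasi-coherent module with free sections over an affine open are free. -/
lemma free_stalk_of_free_sections (F : X.Modules) [F.IsQuasicoherent] {U : X.Opens}
    (hU : IsAffineOpen U) (x : X) (hx : x ∈ U) (hfree : Module.Free Γ(X, U) Γ(F, U)) :
    Module.Free (X.presheaf.stalk x) (F.presheaf.stalk x) := by
  letI := stalkΓModule F x U hx
  haveI := isLocalizedModule_germ F hU x hx
  letI : Algebra Γ(X, U) (X.presheaf.stalk x) :=
    TopCat.Presheaf.algebra_section_stalk X.presheaf ⟨x, hx⟩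
  haveI := hU.isLocalization_stalk ⟨x, hx⟩
  haveI : IsScalarTower Γ(X, U) (X.presheaf.stalk x) (F.presheaf.stalk x) :=
    IsScalarTower.of_algebraMap_smul fun r m => rfl
  exact Module.free_of_isLocalizedModule (hU.primeIdealOf ⟨x, hx⟩).asIdeal.primeCompl
    (germLinear F x U hx)

/-- finite locally free modules have free stalks. -/
theorem free_stalk_of_isFinLocFree (F : X.Modules) (h : FlatMod.IsFinLocFree F) (x : X) :
    Module.Free (X.presheaf.stalk x) (F.presheaf.stalk x) := by
  haveI := qc_of_isFinLocFree F h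
  obtain ⟨U, n, hU, hxU, ⟨ℓ⟩⟩ := (isFinLocFree_iff F).mp h x
  exact free_stalk_of_free_sections F hU x hxU (Module.Free.of_equiv ℓ.symm)

/-- finite locally free modules are of finite presentation. -/
theorem isFinitePresentation_of_isFinLocFree (F : X.Modules) (h : FlatMod.IsFinLocFree F) :
    F.IsFinitePresentation := by
  haveI := qc_of_isFinLocFree F h
  apply isFinitePresentation_of_sections
  intro x
  obtain ⟨U, n, hU, hxU, ⟨ℓ⟩⟩ := (isFinLocFree_iff F).mp h x
  exact ⟨U, hU, hxU, Module.FinitePresentation.of_equiv ℓ.symm⟩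

/-- a finitely presented module with free stalks is finite locally free. -/
theorem isFinLocFree_of_free_stalks (F : X.Modules) (hfp : F.IsFinitePresentation)
    (hfree : ∀ x : X, Module.Free (X.presheaf.stalk x) (F.presheaf.stalk x)) :
    FlatMod.IsFinLocFree F := by
  haveI : F.IsQuasicoherent := inferInstance
  rw [isFinLocFree_iff]
  intro x
  obtain ⟨U, hU, hxU, -⟩ := exists_isAffineOpen_mem_and_subset (x := x) (U := ⊤) trivial
  have hfpU := finitePresentation_sections_of_isFinitePresentation F hfp hU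
  obtain ⟨r, hxr, hfr⟩ := exists_free_basicOpen F hU hfpU x hxU (hfree x)
  haveI := hfr
  haveI : Module.FinitePresentation Γ(X, X.basicOpen r) Γ(F, X.basicOpen r) :=
    finitePresentation_sections_of_isFinitePresentation F hfp (hU.basicOpen r)
  obtain ⟨n, hn⟩ := exists_equiv_fin_fun_of_free_of_finite Γ(X, X.basicOpen r) Γ(F, X.basicOpen r)
  exact ⟨X.basicOpen r, n, hU.basicOpen r, hxr, hn⟩

end Groth.Agent.LD.QC

namespace Groth.Agent.LD.QC
variable {X : Scheme.{u}}

/-- a retract of a quasi-coherent module is quasi-coherent. -/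
theorem qc_of_retract {M P : X.Modules} [P.IsQuasicoherent] (i : M ⟶ P) (p : P ⟶ M)
    (h : i ≫ p = 𝟙 M) : M.IsQuasicoherent := by
  have hpi : ∀ (W : X.Opens) (t : Γ(M, W)), p.app W (i.app W t) = t := fun W t => by
    have : (i ≫ p).app W t = t := by rw [h]; rfl
    exact this
  apply qc_of_surj_inj
  · intro U hU f t
    obtain ⟨n, s', hs'⟩ := affine_surj P hU f (i.app _ t)
    refine ⟨n, p.app U s', ?_⟩
    rw [← app_res, hs', Scheme.Modules.Hom.app_smul, hpi]
  · intro U hU f s hs
    have h0 : P.presheaf.map (homOfLE (X.basicOpen_le f)).op (i.app U s) = 0 := by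
      rw [← app_res, hs]
      exact map_zero _
    obtain ⟨n, hn⟩ := affine_inj P hU f (i.app U s) h0
    refine ⟨n, ?_⟩
    have h1 : i.app U (f ^ n • s) = 0 := by
      rw [Scheme.Modules.Hom.app_smul]; exact hn
    have := congrArg (p.app U) h1
    rw [hpi] at this
    rw [this]
    exact map_zero _

/-- the stalks of a quasi-coherent module with finite sections over an affine open are finite. -/
lemma finite_stalk_of_finite_sections (F : X.Modules) [F.IsQuasicoherent] {U : X.Opens}
    (hU : IsAffineOpen U) (x : X) (hx : x ∈ U) (hfin : Module.Finite Γ(X, U) Γ(F, U)) :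
    Module.Finite (X.presheaf.stalk x) (F.presheaf.stalk x) := by
  letI := stalkΓModule F x U hx
  haveI := isLocalizedModule_germ F hU x hx
  letI : Algebra Γ(X, U) (X.presheaf.stalk x) :=
    TopCat.Presheaf.algebra_section_stalk X.presheaf ⟨x, hx⟩
  haveI := hU.isLocalization_stalk ⟨x, hx⟩
  haveI : IsScalarTower Γ(X, U) (X.presheaf.stalk x) (F.presheaf.stalk x) :=
    IsScalarTower.of_algebraMap_smul fun r m => rfl
  exact Module.Finite.of_isLocalizedModule (hU.primeIdealOf ⟨x, hx⟩).asIdeal.primeCompl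
    (germLinear F x U hx)

/-- the stalks of a quasi-coherent module with flat sections over an affine open are flat. -/
lemma flat_stalk_of_flat_sections (F : X.Modules) [F.IsQuasicoherent] {U : X.Opens}
    (hU : IsAffineOpen U) (x : X) (hx : x ∈ U) (hflat : Module.Flat Γ(X, U) Γ(F, U)) :
    Module.Flat (X.presheaf.stalk x) (F.presheaf.stalk x) := by
  letI := stalkΓModule F x U hx
  haveI := isLocalizedModule_germ F hU x hx
  letI : Algebra Γ(X, U) (X.presheaf.stalk x) :=
    TopCat.Presheaf.algebra_section_stalk X.presheaf ⟨x, hx⟩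
  haveI := hU.isLocalization_stalk ⟨x, hx⟩
  haveI : IsScalarTower Γ(X, U) (X.presheaf.stalk x) (F.presheaf.stalk x) :=
    IsScalarTower.of_algebraMap_smul fun r m => rfl
  exact Module.Flat.of_isLocalizedModule (X.presheaf.stalk x)
    (hU.primeIdealOf ⟨x, hx⟩).asIdeal.primeCompl (germLinear F x U hx)

/-- a finite type quasi-coherent module with flat stalk at `x` has a free stalk at `x`. -/
lemma free_stalk_of_flat_stalk (F : X.Modules) [F.IsQuasicoherent] (hft : F.IsFiniteType) (x : X)
    (hflat : Module.Flat (X.presheaf.stalk x) (F.presheaf.stalk x)) :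
    Module.Free (X.presheaf.stalk x) (F.presheaf.stalk x) := by
  obtain ⟨U, hU, hxU, -⟩ := exists_isAffineOpen_mem_and_subset (x := x) (U := ⊤) trivial
  haveI := finite_stalk_of_finite_sections F hU x hxU (finite_sections_of_isFiniteType F hft hU)
  exact Module.free_of_flat_of_isLocalRing

end Groth.Agent.LD.QC
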