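import Groth.Agent.Lib.Lead.QC.SepAmple
universe u
open CategoryTheory Limits AlgebraicGeometry TopologicalSpace Opposite TensorProduct

namespace Groth.Agent.LD.QC
variable {X : Scheme.{u}}

section Comm
variable (M N : X.Modules) [M.IsQuasicoherent] [N.IsQuasicoherent]

/-- the symmetry on sections over an affine open. -/
noncomputable def commAffine {U : X.Opens} (hU : IsAffineOpen U) :
    Γ(CohB1.tensorMod M N, U) ≃ₗ[Γ(X, U)] Γ(CohB1.tensorMod N M, U) :=
  (tensorSecEquiv M N hU).symm ≪≫ₗ (TensorProduct.comm Γ(X, U) Γ(M, U) Γ(N, U)) ≪≫ₗ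
    (tensorSecEquiv N M hU)

lemma commAffine_tmul {U : X.Opens} (hU : IsAffineOpen U) (m : Γ(M, U)) (n : Γ(N, U)) :
    commAffine M N hU (SecTwist.tmul M N U m n) = SecTwist.tmul N M U n m := by
  simp only [commAffine, LinearEquiv.trans_apply, tensorSecEquiv_symm_tmul,
    TensorProduct.comm_tmul]
  rfl

/-- the symmetry `M ⊗ N ⟶ N ⊗ M` for quasi-coherent modules. -/
noncomputable def tensorCommHom : CohB1.tensorMod M N ⟶ CohB1.tensorMod N M :=
  homOfAffine _ _ (fun U => (commAffine M N U.2).toLinearMap) (by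
    intro U V h s
    induction s using tmul_induction M N U.2 with
    | h0 => simp
    | htmul m n =>
      rw [LinearEquiv.coe_coe, LinearEquiv.coe_coe, commAffine_tmul, tmul_res, tmul_res,
        commAffine_tmul]
    | hadd a b ha hb => rw [map_add, map_add, map_add, map_add, ha, hb])

instance : IsIso (tensorCommHom M N) := by
  apply isIso_of_bijective_affine
  intro U
  have : ⇑(ConcreteCategory.hom ((tensorCommHom M N).app U.1)) = commAffine M N U.2 := by
    funext s
    rw [tensorCommHom, homOfAffine_app]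
    rfl
  rw [this]
  exact (commAffine M N U.2).bijective

/-- the symmetry for quasi-coherent modules. -/
noncomputable def tensorComm : CohB1.tensorMod M N ≅ CohB1.tensorMod N M :=
  asIso (tensorCommHom M N)

lemma tensorComm_hom_app_tmul (U : X.Opens) (m : Γ(M, U)) (n : Γ(N, U)) :
    (tensorComm M N).hom.app U (SecTwist.tmul M N U m n) = SecTwist.tmul N M U n m := by
  apply section_ext_of_cover _ (fun V : {V : X.affineOpens // V.1 ≤ U} => V.1.1)
    (fun V => V.2) (le_iSup_affineOpens U)
  intro V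
  rw [← app_res, tmul_res, tmul_res]
  change (tensorCommHom M N).app V.1.1 _ = _
  rw [tensorCommHom, homOfAffine_app, LinearEquiv.coe_coe, commAffine_tmul]

end Comm

/-- the left unitor `O ⊗ F ≅ F` for quasi-coherent `F`. -/
noncomputable def unitorL (F : X.Modules) [F.IsQuasicoherent] :
    CohB1.tensorMod (unitMod X) F ≅ F :=
  tensorComm (unitMod X) F ≪≫ SecTwist.unitorR F

lemma unitorL_hom_app_tmul (F : X.Modules) [F.IsQuasicoherent] (U : X.Opens) (r : Γ(X, U))
    (t : Γ(F, U)) :
    (unitorL F).hom.app U (SecTwist.tmul (unitMod X) F U r t) = r • t := by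
  change (SecTwist.unitorR F).hom.app U ((tensorComm (unitMod X) F).hom.app U _) = _
  rw [tensorComm_hom_app_tmul]
  exact SecTwist.unitorR_tmul F U t r

end Groth.Agent.LD.QC

namespace Groth.Agent.LD.QC
variable {X : Scheme.{u}}

/-- `(A ⊗ B) ⊗ (C ⊗ D) ≅ (A ⊗ C) ⊗ (B ⊗ D)`. -/
noncomputable def tensorMiddleFour (A B C D : X.Modules) [A.IsQuasicoherent] [B.IsQuasicoherent]
    [C.IsQuasicoherent] [D.IsQuasicoherent] :
    CohB1.tensorMod (CohB1.tensorMod A B) (CohB1.tensorMod C D) ≅
      CohB1.tensorMod (CohB1.tensorMod A C) (CohB1.tensorMod B D) :=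
  tensorAssoc A B (CohB1.tensorMod C D) ≪≫
    tensorIso' (Iso.refl A) ((tensorAssoc B C D).symm ≪≫
      tensorIso' (tensorComm B C) (Iso.refl D) ≪≫ tensorAssoc C B D) ≪≫
    (tensorAssoc A C (CohB1.tensorMod B D)).symm

/-- `L^m ⊗ L'^m ≅ (L ⊗ L')^m`. -/
noncomputable def tensorPowTensor (L L' : X.Modules) [L.IsQuasicoherent] [L'.IsQuasicoherent] :
    (m : ℕ) → (CohB1.tensorMod (CohB1.tensorPow L m) (CohB1.tensorPow L' m) ≅
      CohB1.tensorPow (CohB1.tensorMod L L') m)
  | 0 => SecTwist.unitorR _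
  | m + 1 => tensorMiddleFour (CohB1.tensorPow L m) L (CohB1.tensorPow L' m) L' ≪≫
      tensorIso' (tensorPowTensor L L' m) (Iso.refl _)

/-- isomorphic modules have isomorphic tensor powers. -/
noncomputable def tensorPowCongr {L M : X.Modules} (φ : L ≅ M) :
    (n : ℕ) → (CohB1.tensorPow L n ≅ CohB1.tensorPow M n)
  | 0 => Iso.refl _
  | n + 1 => tensorIso' (tensorPowCongr φ n) φ

/-- products of sections of powers of two invertible modules: a section of a positive power of
`L ⊗ L'` generating exactly where both given sections generate. -/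
theorem exists_tmul_section {L L' : X.Modules} (hL : PicF.IsInvertible L)
    (hL' : PicF.IsInvertible L') {a b : ℕ} (s : unitMod X ⟶ CohB1.tensorPow L (a + 1))
    (s' : unitMod X ⟶ CohB1.tensorPow L' (b + 1)) :
    ∃ (N : ℕ) (T : unitMod X ⟶ CohB1.tensorPow (CohB1.tensorMod L L') (N + 1)),
      CohB1.genLocus _ T = CohB1.genLocus _ s ⊓ CohB1.genLocus _ s' := by
  haveI : L.IsQuasicoherent := qc_of_isInvertible L hL
  haveI : L'.IsQuasicoherent := qc_of_isInvertible L' hL'
  have hidx : powIdx (b + 1) (a + 1) = powIdx (a + 1) (b + 1) := by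
    rw [powIdx_eq, powIdx_eq, mul_comm]
  let σ := secMulPow L s (b + 1)
  let σ' := castSec L' hidx (secMulPow L' s' (a + 1))
  have hσ : CohB1.genLocus _ σ = CohB1.genLocus _ s := genLocus_secMulPow hL s b
  have hσ' : CohB1.genLocus _ σ' = CohB1.genLocus _ s' :=
    (genLocus_castSec L' hidx _).trans (genLocus_secMulPow hL' s' a)
  refine ⟨powIdx (a + 1) b + a, SecTwist.tmulHom σ σ' ≫
    (tensorPowTensor L L' (powIdx (a + 1) (b + 1))).hom, ?_⟩
  refine (genLocus_comp_iso _ _).trans ?_
  rw [genLocus_tmulHom (isInvertible_tensorPow hL _) (isInvertible_tensorPow hL' _), hσ, hσ']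

end Groth.Agent.LD.QC
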