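import Groth.Agent.Lib.Lead.QC.ProjFormula
import Groth.Agent.Lib.Lead.QC.TensorComm
import Groth.Agent.Lib.Lead.QC.LocFree
import Groth.Agent.Lib.Lead.MS.Flat2

/-! # Finite free decompositions of modules and twisting by them. -/

universe u
open CategoryTheory Limits AlgebraicGeometry TopologicalSpace Opposite TensorProduct

namespace Groth.Agent.LD.QC

variable {X : Scheme.{u}}

/-- morphisms out of a tensor product are determined by their values on pure tensors. -/
theorem hom_ext_tmul {G M H : X.Modules} (ψ ψ' : CohB1.tensorMod G M ⟶ H)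
    (h : ∀ (U : X.Opens) (g : Γ(G, U)) (m : Γ(M, U)),
      ψ.app U (SecTwist.tmul G M U g m) = ψ'.app U (SecTwist.tmul G M U g m)) : ψ = ψ' := by
  apply Scheme.Modules.hom_ext
  intro U
  ext z
  choose V hV hxV w hw using fun x : U => tensorSec_locally_surjective G M U z x.1 x.2
  apply section_ext_of_cover H V hV
  · intro x hx
    exact Opens.mem_iSup.2 ⟨⟨x, hx⟩, hxV ⟨x, hx⟩⟩
  · intro x
    rw [← app_res, ← app_res, ← hw x]
    generalize w x = q
    induction q using TensorProduct.induction_on with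
    | zero => rw [map_zero]; exact (map_zero (ψ.app (V x)).hom).trans (map_zero (ψ'.app (V x)).hom).symm
    | tmul m n => exact h _ m n
    | add a b ha hb =>
      rw [map_add]
      exact ((map_add (ψ.app (V x)).hom _ _).trans (by rw [ha, hb])).trans
        (map_add (ψ'.app (V x)).hom _ _).symm

lemma finset_sum_app {M N : X.Modules} {ι : Type*} (s : Finset ι) (φ : ι → (M ⟶ N)) (U : X.Opens)
    (x : Γ(M, U)) : (∑ i ∈ s, φ i).app U x = ∑ i ∈ s, (φ i).app U x := by
  classical
  induction s using Finset.induction_on with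
  | empty =>
    rw [Finset.sum_empty, Finset.sum_empty]
    rfl
  | insert a s ha ih =>
    rw [Finset.sum_insert ha, Finset.sum_insert ha, ← ih]
    rfl

section CommAll
variable (M N : X.Modules)

/-- the bilinear maps `(m, n) ↦ n ⊗ m`. -/
noncomputable def commB (U : X.Opens) :
    Γ(M, U) →ₗ[Γ(X, U)] Γ(N, U) →ₗ[Γ(X, U)] Γ(CohB1.tensorMod N M, U) :=
  LinearMap.mk₂ Γ(X, U) (fun m n => SecTwist.tmul N M U n m)
    (fun m m' n => tmul_add_right N M U n m m')
    (fun c m n => tmul_smul_right N M U c n m)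
    (fun m n n' => tmul_add_left N M U n n' m)
    (fun c m n => tmul_smul_left N M U c n m)

/-- the symmetry `M ⊗ N ⟶ N ⊗ M`, for arbitrary modules. -/
noncomputable def tensorCommAllHom : CohB1.tensorMod M N ⟶ CohB1.tensorMod N M :=
  tensorDescAll M N _ (fun U => commB M N U) (by
    intro U V h m n
    change (CohB1.tensorMod N M).presheaf.map (homOfLE h).op (SecTwist.tmul N M U n m) =
      SecTwist.tmul N M V _ _
    rw [tmul_res])

lemma tensorCommAllHom_app_tmul (U : X.Opens) (m : Γ(M, U)) (n : Γ(N, U)) :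
    (tensorCommAllHom M N).app U (SecTwist.tmul M N U m n) = SecTwist.tmul N M U n m := by
  rw [tensorCommAllHom, tensorDescAll_app_tmul]
  rfl

/-- the symmetry of the tensor product, for arbitrary modules. -/
noncomputable def tensorCommAll : CohB1.tensorMod M N ≅ CohB1.tensorMod N M where
  hom := tensorCommAllHom M N
  inv := tensorCommAllHom N M
  hom_inv_id := by
    apply hom_ext_tmul
    intro U m n
    rw [Scheme.Modules.Hom.comp_app, ConcreteCategory.comp_apply, tensorCommAllHom_app_tmul,
      tensorCommAllHom_app_tmul]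
    rfl
  inv_hom_id := by
    apply hom_ext_tmul
    intro U m n
    rw [Scheme.Modules.Hom.comp_app, ConcreteCategory.comp_apply, tensorCommAllHom_app_tmul,
      tensorCommAllHom_app_tmul]
    rfl

lemma tensorCommAll_hom_app_tmul (U : X.Opens) (m : Γ(M, U)) (n : Γ(N, U)) :
    (tensorCommAll M N).hom.app U (SecTwist.tmul M N U m n) = SecTwist.tmul N M U n m :=
  tensorCommAllHom_app_tmul M N U m n

lemma tensorCommAll_inv_app_tmul (U : X.Opens) (m : Γ(M, U)) (n : Γ(N, U)) :
    (tensorCommAll M N).inv.app U (SecTwist.tmul N M U n m) = SecTwist.tmul M N U m n :=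
  tensorCommAllHom_app_tmul N M U n m

end CommAll

/-- `O ⊗ L ≅ L`, for an arbitrary module. -/
noncomputable def unitorL' (L : X.Modules) : CohB1.tensorMod (unitMod X) L ≅ L :=
  tensorCommAll (unitMod X) L ≪≫ SecTwist.unitorR L

lemma unitorL'_hom_app_tmul (L : X.Modules) (V : X.Opens) (a : Γ(X, V)) (e : Γ(L, V)) :
    (unitorL' L).hom.app V (SecTwist.tmul (unitMod X) L V a e) = a • e := by
  unfold unitorL'
  rw [Iso.trans_hom, Scheme.Modules.Hom.comp_app, ConcreteCategory.comp_apply,
    tensorCommAll_hom_app_tmul]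
  exact SecTwist.unitorR_tmul L V e a

/-- a finite free decomposition of a module. -/
structure FreeData (Q : X.Modules) (n : ℕ) where
  ι : Fin n → (unitMod X ⟶ Q)
  π : Fin n → (Q ⟶ unitMod X)
  ι_π : ∀ i j, ι i ≫ π j = if i = j then 𝟙 _ else 0
  total : ∑ i, π i ≫ ι i = 𝟙 Q

/-- the coordinate projections of a free module. -/
noncomputable def freeπ (X : Scheme.{u}) (n : ℕ) (j : Fin n) : FlatMod.freeMod X n ⟶ unitMod X :=
  Sigma.desc (fun i => if i = j then 𝟙 _ else 0)

/-- the canonical decomposition of a free module. -/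
noncomputable def FreeData.free (X : Scheme.{u}) (n : ℕ) : FreeData (FlatMod.freeMod X n) n where
  ι i := Sigma.ι (fun _ : Fin n => unitMod X) i
  π j := freeπ X n j
  ι_π i j := by
    unfold freeπ
    rw [Sigma.ι_desc]
  total := by
    apply Sigma.hom_ext
    intro i
    rw [Preadditive.comp_sum, Category.comp_id]
    have : ∀ j : Fin n, Sigma.ι (fun _ : Fin n => unitMod X) i ≫ freeπ X n j ≫
        Sigma.ι (fun _ : Fin n => unitMod X) j =
        if i = j then Sigma.ι (fun _ : Fin n => unitMod X) j else 0 := by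
      intro j
      unfold freeπ
      rw [Sigma.ι_desc_assoc]
      split_ifs with hij
      · rw [Category.id_comp]
      · rw [zero_comp]
    rw [Finset.sum_congr rfl (fun j _ => this j), Finset.sum_ite_eq]
    simp

/-- transport of a decomposition along an isomorphism. -/
noncomputable def FreeData.ofIso {Q Q' : X.Modules} {n : ℕ} (D : FreeData Q n) (φ : Q ≅ Q') :
    FreeData Q' n where
  ι i := D.ι i ≫ φ.hom
  π j := φ.inv ≫ D.π j
  ι_π i j := by
    rw [Category.assoc, Iso.hom_inv_id_assoc, D.ι_π]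
  total := by
    have : ∀ i : Fin n, (φ.inv ≫ D.π i) ≫ D.ι i ≫ φ.hom = φ.inv ≫ (D.π i ≫ D.ι i) ≫ φ.hom := by
      intro i
      simp only [Category.assoc]
    rw [Finset.sum_congr rfl (fun i _ => this i), ← Preadditive.comp_sum, ← Preadditive.sum_comp,
      D.total, Category.id_comp, Iso.inv_hom_id]

/-- the sections of a decomposition. -/
noncomputable def FreeData.sec {Q : X.Modules} {n : ℕ} (D : FreeData Q n) (i : Fin n)
    (W : X.Opens) : Γ(Q, W) := (D.ι i).app W (1 : Γ(X, W))

lemma FreeData.π_sec {Q : X.Modules} {n : ℕ} (D : FreeData Q n) (i j : Fin n) (W : X.Opens) :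
    (D.π j).app W (D.sec i W) = if i = j then (1 : Γ(X, W)) else 0 := by
  unfold FreeData.sec
  rw [← ConcreteCategory.comp_apply, ← Scheme.Modules.Hom.comp_app, D.ι_π]
  split_ifs
  · rfl
  · rfl

/-- the coordinates of a section of `F ⊗ Q`. -/
noncomputable def FreeData.coord {Q : X.Modules} {n : ℕ} (D : FreeData Q n) (F : X.Modules)
    (j : Fin n) (W : X.Opens) (z : Γ(CohB1.tensorMod F Q, W)) : Γ(F, W) :=
  (SecTwist.unitorR F).hom.app W ((KoszTw.tensorMap (𝟙 F) (D.π j)).app W z)

lemma FreeData.coord_add {Q : X.Modules} {n : ℕ} (D : FreeData Q n) (F : X.Modules)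
    (j : Fin n) (W : X.Opens) (z z' : Γ(CohB1.tensorMod F Q, W)) :
    D.coord F j W (z + z') = D.coord F j W z + D.coord F j W z' := by
  unfold FreeData.coord
  rw [map_add, map_add]

lemma FreeData.coord_sum {Q : X.Modules} {n : ℕ} (D : FreeData Q n) (F : X.Modules)
    (j : Fin n) (W : X.Opens) {ι : Type*} (s : Finset ι) (z : ι → Γ(CohB1.tensorMod F Q, W)) :
    D.coord F j W (∑ i ∈ s, z i) = ∑ i ∈ s, D.coord F j W (z i) := by
  unfold FreeData.coord
  rw [map_sum, map_sum]

lemma FreeData.coord_tmul {Q : X.Modules} {n : ℕ} (D : FreeData Q n) (F : X.Modules)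
    (i j : Fin n) (W : X.Opens) (t : Γ(F, W)) :
    D.coord F j W (SecTwist.tmul F Q W t (D.sec i W)) = if i = j then t else 0 := by
  unfold FreeData.coord
  rw [KoszTw.tensorMap_tmul, D.π_sec]
  split_ifs
  · exact (SecTwist.unitorR_tmul F W t (1 : Γ(X, W))).trans (one_smul Γ(X, W) t)
  · exact (SecTwist.unitorR_tmul F W t (0 : Γ(X, W))).trans (zero_smul Γ(X, W) t)

/-- **twisting by a free module**: sections of `F ⊗ Q` are uniquely sums `∑ tᵢ ⊗ eᵢ`. -/
theorem FreeData.bijective_tmul {Q : X.Modules} {n : ℕ} (D : FreeData Q n) (F : X.Modules)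
    (W : X.Opens) :
    Function.Bijective (fun t : Fin n → Γ(F, W) =>
      ∑ i, SecTwist.tmul F Q W (t i) (D.sec i W)) := by
  constructor
  · intro t t' htt
    funext j
    have key : ∀ t : Fin n → Γ(F, W),
        D.coord F j W (∑ i, SecTwist.tmul F Q W (t i) (D.sec i W)) = t j := by
      intro t
      refine (D.coord_sum F j W Finset.univ (fun i => SecTwist.tmul F Q W (t i) (D.sec i W))).trans ?_
      simp only [D.coord_tmul, Finset.sum_ite_eq', Finset.mem_univ, if_true]
    rw [← key t, ← key t']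
    exact congrArg (D.coord F j W) htt
  · intro z
    refine ⟨fun j => D.coord F j W z, ?_⟩
    have h1 : z = (KoszTw.tensorMap (𝟙 F) (∑ j, D.π j ≫ D.ι j)).app W z := by
      rw [D.total, KoszTw.tensorMap_id]
      rfl
    have h2 : KoszTw.tensorMap (𝟙 F) (∑ j, D.π j ≫ D.ι j) =
        ∑ j, KoszTw.tensorMap (𝟙 F) (D.π j) ≫ KoszTw.tensorMap (𝟙 F) (D.ι j) := by
      rw [← KoszTw.tensorBi_obj_map]
      haveI : ((DCoh.tensorBi (X := X)).obj F).Additive :=
        inferInstanceAs (((ModSite.tensorBi X.sheaf).obj F).Additive)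
      rw [Functor.map_sum]
      refine Finset.sum_congr rfl (fun j _ => ?_)
      rw [Functor.map_comp, KoszTw.tensorBi_obj_map, KoszTw.tensorBi_obj_map]
      rfl
    conv_rhs => rw [h1, h2, finset_sum_app]
    refine Finset.sum_congr rfl (fun j _ => ?_)
    rw [Scheme.Modules.Hom.comp_app, ConcreteCategory.comp_apply]
    have h3 : (KoszTw.tensorMap (𝟙 F) (D.π j)).app W z =
        SecTwist.tmul F (unitMod X) W (D.coord F j W z) (1 : Γ(X, W)) := by
      rw [← unitorR_inv_app]
      unfold FreeData.coord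
      exact (iso_inv_hom_app (SecTwist.unitorR F) W _).symm
    rw [h3, KoszTw.tensorMap_tmul]
    rfl

/-- sections of a module with a finite free decomposition are uniquely `∑ ιᵢ(aᵢ)`. -/
theorem FreeData.bijective_sum {Q : X.Modules} {n : ℕ} (D : FreeData Q n) (W : X.Opens) :
    Function.Bijective (fun a : Fin n → Γ(X, W) => ∑ i, (D.ι i).app W (a i)) := by
  have hπ : ∀ (i j : Fin n) (b : Γ(X, W)),
      (D.π j).app W ((D.ι i).app W b) = if i = j then b else 0 := by
    intro i j b
    rw [← ConcreteCategory.comp_apply, ← Scheme.Modules.Hom.comp_app, D.ι_π]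
    split_ifs
    · rfl
    · rfl
  constructor
  · intro a a' haa
    funext j
    have key : ∀ a : Fin n → Γ(X, W), (D.π j).app W (∑ i, (D.ι i).app W (a i)) = a j := by
      intro a
      refine (map_sum ((D.π j).app W).hom _ _).trans ?_
      simp only [hπ]
      exact (Finset.sum_eq_single j (fun i _ hij => if_neg hij)
        (fun h => absurd (Finset.mem_univ j) h)).trans (if_pos rfl)
    rw [← key a, ← key a']
    exact congrArg ((D.π j).app W) haa
  · intro z
    refine ⟨fun j => (D.π j).app W z, ?_⟩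
    have h1 : z = (∑ j, D.π j ≫ D.ι j).app W z := by
      rw [D.total]
      rfl
    conv_rhs => rw [h1, finset_sum_app]
    rfl

end Groth.Agent.LD.QC
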