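import Groth.Agent.Lib.Lead.QC.Compact
universe u
open CategoryTheory Limits AlgebraicGeometry TopologicalSpace Opposite

namespace Groth.Agent.LD.QC
variable {X : Scheme.{u}}

/-- glue two sections agreeing on the intersection. -/
lemma glue2 (M : X.Modules) {S V : X.Opens} (y₁ : Γ(M, S)) (y₂ : Γ(M, V))
    (h : M.presheaf.map (homOfLE (inf_le_left : S ⊓ V ≤ S)).op y₁ =
      M.presheaf.map (homOfLE (inf_le_right : S ⊓ V ≤ V)).op y₂) :
    ∃ z : Γ(M, S ⊔ V), M.presheaf.map (homOfLE (le_sup_left : S ≤ S ⊔ V)).op z = y₁ ∧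
      M.presheaf.map (homOfLE (le_sup_right : V ≤ S ⊔ V)).op z = y₂ := by
  let U : Bool → X.Opens := fun b => if b then S else V
  let sf : ∀ b : Bool, Γ(M, U b) := fun b =>
    match b with
    | true => y₁
    | false => y₂
  have hle : ∀ b, U b ≤ S ⊔ V := fun b => by
    cases b
    · exact le_sup_right
    · exact le_sup_left
  have hcov : S ⊔ V ≤ iSup U := by
    apply sup_le
    · exact le_iSup U true
    · exact le_iSup U false
  have hcompat : TopCat.Presheaf.IsCompatible M.presheaf U sf := by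
    intro i j
    cases i <;> cases j
    · rfl
    · have e : V ⊓ S ≤ S ⊓ V := by rw [inf_comm]
      change M.presheaf.map (homOfLE (inf_le_left : V ⊓ S ≤ V)).op y₂ =
        M.presheaf.map (homOfLE (inf_le_right : V ⊓ S ≤ S)).op y₁
      rw [← res_res M inf_le_right e, ← res_res M inf_le_left e, h]
    · exact h
    · rfl
  obtain ⟨z, hz, -⟩ := TopCat.Sheaf.existsUnique_gluing' ⟨_, M.isSheaf⟩ U (S ⊔ V)
    (fun b => homOfLE (hle b)) hcov sf hcompat
  exact ⟨z, hz true, hz false⟩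

lemma section_ext_of_cover (M : X.Modules) {ι : Type*} {U : X.Opens} (V : ι → X.Opens)
    (hV : ∀ i, V i ≤ U) (hcov : U ≤ ⨆ i, V i) (s s' : Γ(M, U))
    (h : ∀ i, M.presheaf.map (homOfLE (hV i)).op s = M.presheaf.map (homOfLE (hV i)).op s') :
    s = s' :=
  TopCat.Sheaf.eq_of_locally_eq' ⟨_, M.isSheaf⟩ V U (fun i => homOfLE (hV i)) hcov s s' h

lemma section_ext_of_cover2 (M : X.Modules) {U V₁ V₂ : X.Opens}
    (h₁ : V₁ ≤ U) (h₂ : V₂ ≤ U) (hcov : U ≤ V₁ ⊔ V₂) (s s' : Γ(M, U))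
    (e₁ : M.presheaf.map (homOfLE h₁).op s = M.presheaf.map (homOfLE h₁).op s')
    (e₂ : M.presheaf.map (homOfLE h₂).op s = M.presheaf.map (homOfLE h₂).op s') :
    s = s' := by
  apply section_ext_of_cover M (fun b : Bool => if b then V₁ else V₂)
    (fun b => by cases b; exacts [h₂, h₁]) ?_ s s' ?_
  · refine hcov.trans (sup_le ?_ ?_)
    · exact le_iSup (fun b : Bool => if b then V₁ else V₂) true
    · exact le_iSup (fun b : Bool => if b then V₁ else V₂) false
  · intro b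
    cases b
    · exact e₂
    · exact e₁

lemma section_eq_zero_of_le_bot (M : X.Modules) {U : X.Opens} (hU : U ≤ ⊥) (s : Γ(M, U)) :
    s = 0 := by
  apply section_eq_zero_of_cover M (fun i : PEmpty.{1} => (i.elim : X.Opens)) (fun i => i.elim)
    ?_ s (fun i => i.elim)
  refine hU.trans bot_le

/-- agreement on `W ⊓ D` is preserved by multiplying by restrictions of a function on `T`. -/
lemma agree_smul (M : X.Modules) {T W D : X.Opens} (hW : W ≤ T) (hD : D ≤ T) (r : Γ(X, T))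
    (s : Γ(M, W)) (τ : Γ(M, D))
    (h : M.presheaf.map (homOfLE (inf_le_left : W ⊓ D ≤ W)).op s =
      M.presheaf.map (homOfLE (inf_le_right : W ⊓ D ≤ D)).op τ) :
    M.presheaf.map (homOfLE (inf_le_left : W ⊓ D ≤ W)).op
        (X.presheaf.map (homOfLE hW).op r • s) =
      M.presheaf.map (homOfLE (inf_le_right : W ⊓ D ≤ D)).op
        (X.presheaf.map (homOfLE hD).op r • τ) := by
  rw [smul_res, smul_res, sres_res, sres_res, h]

lemma surj_convert (M : X.Modules) {W T : X.Opens} (hWT : W ≤ T)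
    (H : ∀ (b : Γ(X, W)) (t' : Γ(M, X.basicOpen b)), ∃ (n : ℕ) (s : Γ(M, W)),
      M.presheaf.map (homOfLE (X.basicOpen_le b)).op s =
      (X.presheaf.map (homOfLE (X.basicOpen_le b)).op b) ^ n • t')
    (a : Γ(X, T)) (t : Γ(M, X.basicOpen a)) :
    ∃ (n : ℕ) (s : Γ(M, W)),
      M.presheaf.map (homOfLE (inf_le_left : W ⊓ X.basicOpen a ≤ W)).op s =
      M.presheaf.map (homOfLE (inf_le_right : W ⊓ X.basicOpen a ≤ X.basicOpen a)).op
        ((X.presheaf.map (homOfLE (X.basicOpen_le a)).op (a ^ n)) • t) := by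
  have hb : X.basicOpen (X.presheaf.map (homOfLE hWT).op a) = W ⊓ X.basicOpen a :=
    Scheme.basicOpen_res _ _ _
  obtain ⟨n, s, hs⟩ := H (X.presheaf.map (homOfLE hWT).op a)
    (M.presheaf.map (homOfLE (hb.le.trans inf_le_right)).op t)
  refine ⟨n, s, ?_⟩
  apply res_injective_of_le_of_le M hb.le hb.ge
  rw [res_res, res_res, smul_res, hs, sres_res, sres_res, map_pow]

end Groth.Agent.LD.QC

namespace Groth.Agent.LD.QC
variable {X : Scheme.{u}}

/-- EGA I 9.3.1 / Hartshorne II.5.14(b)-type extension: on a quasi-compact quasi-separated open,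
a section over `D(a)` extends after multiplying by a power of `a`. -/
theorem compact_qs_surj' (M : X.Modules) [M.IsQuasicoherent] (U : X.Opens) (hU : IsCompact U.1) :
    IsQuasiSeparated U.1 → ∀ (a : Γ(X, U)) (t : Γ(M, X.basicOpen a)),
    ∃ (n : ℕ) (s : Γ(M, U)), M.presheaf.map (homOfLE (X.basicOpen_le a)).op s =
      (X.presheaf.map (homOfLE (X.basicOpen_le a)).op a) ^ n • t := by
  refine compact_open_induction_on (P := fun U => IsQuasiSeparated U.1 →
    ∀ (a : Γ(X, U)) (t : Γ(M, X.basicOpen a)),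
    ∃ (n : ℕ) (s : Γ(M, U)), M.presheaf.map (homOfLE (X.basicOpen_le a)).op s =
      (X.presheaf.map (homOfLE (X.basicOpen_le a)).op a) ^ n • t) U hU ?_ ?_
  · intro _ a t
    refine ⟨0, 0, ?_⟩
    rw [section_eq_zero_of_le_bot M (X.basicOpen_le a) t, map_zero, smul_zero]
  · intro S hS V IH hqs a t
    have hST : S ≤ S ⊔ V.1 := le_sup_left
    have hVT : V.1 ≤ S ⊔ V.1 := le_sup_right
    have hqsS : IsQuasiSeparated S.1 := hqs.of_subset (by exact hST)
    have hW : IsCompact (S ⊓ V.1).1 :=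
      hqs S.1 V.1.1 hST S.2 hS hVT V.1.2 V.2.isCompact
    have hDT : X.basicOpen a ≤ S ⊔ V.1 := X.basicOpen_le a
    obtain ⟨n₁, s₁, h₁⟩ := surj_convert M hST (IH hqsS) a t
    obtain ⟨n₂, s₂, h₂⟩ := surj_convert M hVT (fun b t' => affine_surj M V.2 b t') a t
    -- uniformize
    obtain ⟨τ, hτ⟩ : ∃ τ : Γ(M, X.basicOpen a),
      τ = X.presheaf.map (homOfLE hDT).op (a ^ (n₁ + n₂)) • t := ⟨_, rfl⟩
    have e₁ : X.presheaf.map (homOfLE hDT).op (a ^ n₂) •
        (X.presheaf.map (homOfLE hDT).op (a ^ n₁) • t) = τ := by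
      rw [hτ, smul_smul, ← map_mul, ← pow_add, add_comm]
    have e₂ : X.presheaf.map (homOfLE hDT).op (a ^ n₁) •
        (X.presheaf.map (homOfLE hDT).op (a ^ n₂) • t) = τ := by
      rw [hτ, smul_smul, ← map_mul, ← pow_add]
    have h₁' := agree_smul M hST hDT (a ^ n₂) s₁ _ h₁
    have h₂' := agree_smul M hVT hDT (a ^ n₁) s₂ _ h₂
    rw [e₁] at h₁'
    rw [e₂] at h₂'
    generalize X.presheaf.map (homOfLE hST).op (a ^ n₂) • s₁ = s₁' at h₁'
    generalize X.presheaf.map (homOfLE hVT).op (a ^ n₁) • s₂ = s₂' at h₂'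
    -- difference on the intersection
    have hWT : S ⊓ V.1 ≤ S ⊔ V.1 := inf_le_left.trans hST
    obtain ⟨a₃, ha₃⟩ : ∃ a₃, a₃ = X.presheaf.map (homOfLE hWT).op a := ⟨_, rfl⟩
    have hb : X.basicOpen a₃ = (S ⊓ V.1) ⊓ X.basicOpen a := by
      rw [ha₃]; exact Scheme.basicOpen_res _ _ _
    obtain ⟨d, hd⟩ : ∃ d : Γ(M, S ⊓ V.1),
      d = M.presheaf.map (homOfLE (inf_le_left : S ⊓ V.1 ≤ S)).op s₁' -
      M.presheaf.map (homOfLE (inf_le_right : S ⊓ V.1 ≤ V.1)).op s₂' := ⟨_, rfl⟩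
    have hd0 : M.presheaf.map (homOfLE (X.basicOpen_le a₃)).op d = 0 := by
      have l₁ : X.basicOpen a₃ ≤ S ⊓ X.basicOpen a := by
        rw [hb]; exact le_inf (inf_le_left.trans inf_le_left) inf_le_right
      have l₂ : X.basicOpen a₃ ≤ V.1 ⊓ X.basicOpen a := by
        rw [hb]; exact le_inf (inf_le_left.trans inf_le_right) inf_le_right
      rw [hd, map_sub, res_res, res_res, ← res_res M inf_le_left l₁,
        ← res_res M inf_le_left l₂, h₁', h₂', res_res, res_res, sub_self]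
    obtain ⟨m, hm⟩ := compact_inj M hW a₃ d hd0
    have g₁ := agree_smul M hST hDT (a ^ m) s₁' τ h₁'
    have g₂ := agree_smul M hVT hDT (a ^ m) s₂' τ h₂'
    have q₁ : M.presheaf.map (homOfLE (inf_le_left : S ⊓ V.1 ≤ S)).op
        (X.presheaf.map (homOfLE hST).op (a ^ m) • s₁') =
        a₃ ^ m • M.presheaf.map (homOfLE (inf_le_left : S ⊓ V.1 ≤ S)).op s₁' := by
      rw [smul_res, sres_res, map_pow, ha₃]
    have q₂ : M.presheaf.map (homOfLE (inf_le_right : S ⊓ V.1 ≤ V.1)).op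
        (X.presheaf.map (homOfLE hVT).op (a ^ m) • s₂') =
        a₃ ^ m • M.presheaf.map (homOfLE (inf_le_right : S ⊓ V.1 ≤ V.1)).op s₂' := by
      rw [smul_res, sres_res, map_pow, ha₃]
    generalize X.presheaf.map (homOfLE hST).op (a ^ m) • s₁' = y₁ at g₁ q₁
    generalize X.presheaf.map (homOfLE hVT).op (a ^ m) • s₂' = y₂ at g₂ q₂
    have hy : M.presheaf.map (homOfLE (inf_le_left : S ⊓ V.1 ≤ S)).op y₁ =
        M.presheaf.map (homOfLE (inf_le_right : S ⊓ V.1 ≤ V.1)).op y₂ := by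
      rw [← sub_eq_zero, q₁, q₂, ← smul_sub, ← hd, hm]
    obtain ⟨z, hz₁, hz₂⟩ := glue2 M y₁ y₂ hy
    refine ⟨m + (n₁ + n₂), z, ?_⟩
    have key : M.presheaf.map (homOfLE hDT).op z =
        X.presheaf.map (homOfLE hDT).op (a ^ m) • τ := by
      apply section_ext_of_cover2 M (inf_le_right : S ⊓ X.basicOpen a ≤ X.basicOpen a)
        (inf_le_right : V.1 ⊓ X.basicOpen a ≤ X.basicOpen a)
      · rw [← inf_sup_right]; exact le_inf hDT le_rfl
      · rw [← g₁, res_res, ← hz₁, res_res]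
      · rw [← g₂, res_res, ← hz₂, res_res]
    rw [key, hτ, smul_smul, ← map_mul, ← pow_add, map_pow]

theorem compact_qs_surj (M : X.Modules) [M.IsQuasicoherent] {U : X.Opens} (hU : IsCompact U.1)
    (hqs : IsQuasiSeparated U.1) (a : Γ(X, U)) (t : Γ(M, X.basicOpen a)) :
    ∃ (n : ℕ) (s : Γ(M, U)), M.presheaf.map (homOfLE (X.basicOpen_le a)).op s =
      (X.presheaf.map (homOfLE (X.basicOpen_le a)).op a) ^ n • t :=
  compact_qs_surj' M U hU hqs a t

end Groth.Agent.LD.QC
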