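import Groth.Agent.Lib.Lead.QC.Epi
import Groth.Agent.Lib.Lead.QC.InvBasis
universe u
open CategoryTheory Limits AlgebraicGeometry TopologicalSpace Opposite

namespace Groth.Agent.LD.QC

/-- a morphism of `O_X`-modules which is locally surjective on sections is an epimorphism. -/
theorem epi_of_local_lift {X : Scheme.{u}} {G H : X.Modules} (p : G ⟶ H)
    (h : ∀ (U : X.Opens) (t : Γ(H, U)) (x : X), x ∈ U →
      ∃ (W : X.Opens) (hW : W ≤ U), x ∈ W ∧ ∃ g : Γ(G, W),
        p.app W g = H.presheaf.map (homOfLE hW).op t) : Epi p := by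
  have h3 : TopCat.Presheaf.IsLocallySurjective
      ((SheafOfModules.toSheaf X.ringCatSheaf).map p).hom := by
    rw [TopCat.Presheaf.isLocallySurjective_iff]
    intro U t x hx
    obtain ⟨W, hW, hxW, g, hg⟩ := h U t x hx
    exact ⟨W, hW, ⟨g, hg⟩, hxW⟩
  have h1 : Epi ((SheafOfModules.toSheaf X.ringCatSheaf).map p) :=
    (Sheaf.isLocallySurjective_iff_epi'
      (φ := (SheafOfModules.toSheaf X.ringCatSheaf).map p)).mp h3
  exact (SheafOfModules.toSheaf X.ringCatSheaf).epi_of_epi_map h1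

/-- a family of global sections, one of which is a basis near each point, generates. -/
theorem epi_homOfSections_of_isBasisOver {X : Scheme.{u}} (L : X.Modules) {n : ℕ}
    (t : Fin n → Γ(L, ⊤))
    (h : ∀ x : X, ∃ (i : Fin n) (U : X.Opens), x ∈ U ∧
      IsBasisOver L U (L.presheaf.map (homOfLE le_top).op (t i))) :
    Epi (homOfSections L t) := by
  apply epi_of_local_lift
  intro U s x hx
  obtain ⟨i, V, hxV, hb⟩ := h x
  obtain ⟨a, ha⟩ := (hb (U ⊓ V) inf_le_right).2 (L.presheaf.map (homOfLE inf_le_left).op s)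
  refine ⟨U ⊓ V, inf_le_left, ⟨hx, hxV⟩,
    (Sigma.ι (fun _ : Fin n => unitMod X) i).app (U ⊓ V) a, ?_⟩
  have h1 : (homOfSections L t).app (U ⊓ V) ((Sigma.ι (fun _ : Fin n => unitMod X) i).app (U ⊓ V) a) =
      (homOfSection L (t i)).app (U ⊓ V) a := by
    rw [← ConcreteCategory.comp_apply, ← Scheme.Modules.Hom.comp_app, homOfSections, Sigma.ι_desc]
  rw [h1, unitHom_app, homOfSection_app_one, ← ha]
  simp only [res_res]

end Groth.Agent.LD.QC
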