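import Groth.Agent.Lib.Lead.QC.PullbackUnit
import Groth.Agent.Lib.Lead.QC.Push
import Groth.Agent.Lib.Lead.QC.Coh
universe u
open CategoryTheory Limits AlgebraicGeometry TopologicalSpace Opposite

namespace Groth.Agent.LD.QC
variable {X Y : Scheme.{u}} (f : X ⟶ Y)

/-- triangle identity on sections: the counit sends `unitSec a` back to `a`. -/
lemma counit_unitSec (M : X.Modules) (V : Y.Opens) (a : Γ(M, f ⁻¹ᵁ V)) :
    ((Scheme.Modules.pullbackPushforwardAdjunction f).counit.app M).app (f ⁻¹ᵁ V)
      (unitSec f ((Scheme.Modules.pushforward f).obj M) V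
        (show Γ((Scheme.Modules.pushforward f).obj M, V) from a)) = a := by
  have h := (Scheme.Modules.pullbackPushforwardAdjunction f).right_triangle_components M
  exact congr($(h).app V a)

lemma counit_pbSec (M : X.Modules) {U : X.Opens} {V : Y.Opens} (e : U ≤ f ⁻¹ᵁ V)
    (a : Γ(M, f ⁻¹ᵁ V)) :
    ((Scheme.Modules.pullbackPushforwardAdjunction f).counit.app M).app U
      (pbSec f ((Scheme.Modules.pushforward f).obj M) e
        (show Γ((Scheme.Modules.pushforward f).obj M, V) from a)) =
      M.presheaf.map (homOfLE e).op a := by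
  unfold pbSec
  refine (app_res ((Scheme.Modules.pullbackPushforwardAdjunction f).counit.app M) e _).trans ?_
  exact congrArg (M.presheaf.map (homOfLE e).op) (counit_unitSec f M V a)

/-- **if the counit `f^* f_* M ⟶ M` is an epimorphism, then over the preimage of an affine open
`M` is generated by its sections.** -/
theorem span_range_res_of_counit_epi [QuasiCompact f] [QuasiSeparated f] (M : X.Modules)
    [M.IsQuasicoherent]
    (hε : Epi ((Scheme.Modules.pullbackPushforwardAdjunction f).counit.app M))
    {U : X.Opens} {V : Y.Opens} (hU : IsAffineOpen U) (hV : IsAffineOpen V) (e : U ≤ f ⁻¹ᵁ V) :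
    Submodule.span Γ(X, U)
      (Set.range (fun a : Γ(M, f ⁻¹ᵁ V) => M.presheaf.map (homOfLE e).op a)) = ⊤ := by
  haveI hq1 := qc_pushforward f M
  have hq : ((Scheme.Modules.pullback f).obj
      ((Scheme.Modules.pushforward f).obj M)).IsQuasicoherent := qc_pullback f _
  let ε : (Scheme.Modules.pullback f).obj ((Scheme.Modules.pushforward f).obj M) ⟶ M :=
    (Scheme.Modules.pullbackPushforwardAdjunction f).counit.app M
  haveI : Epi ε := hε
  have hs : Function.Surjective (ε.app U) := epi_app_affine hq inferInstance ε hU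
  have h1 := span_range_pbSec f hU hV e ((Scheme.Modules.pushforward f).obj M)
  have h2 : Submodule.map (appLinear ε U) ⊤ = ⊤ := by
    rw [Submodule.map_top, LinearMap.range_eq_top]
    exact hs
  rw [← h1, Submodule.map_span] at h2
  rw [← h2]
  congr 1
  ext z
  constructor
  · rintro ⟨a, rfl⟩
    exact ⟨_, ⟨a, rfl⟩, counit_pbSec f M e a⟩
  · rintro ⟨_, ⟨a, rfl⟩, rfl⟩
    exact ⟨a, (counit_pbSec f M e a).symm⟩

end Groth.Agent.LD.QC
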