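import Groth.Agent.Lib.Lead.QC.HomAffine
import Groth.Agent.Lib.Lead.QC.InvBasis
universe u
open CategoryTheory Limits AlgebraicGeometry TopologicalSpace Opposite TensorProduct

namespace Groth.Agent.LD.QC
variable {X : Scheme.{u}}

lemma tmul_zero_left (M N : X.Modules) (U : X.Opens) (n : Γ(N, U)) :
    SecTwist.tmul M N U 0 n = 0 := by
  rw [tmul_eq_tensorSec]
  refine Eq.trans ?_ (map_zero (tensorSec M N U))
  congr 1
  exact TensorProduct.zero_tmul _ n

lemma tmul_zero_right (M N : X.Modules) (U : X.Opens) (m : Γ(M, U)) :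
    SecTwist.tmul M N U m 0 = 0 := by
  rw [tmul_eq_tensorSec]
  refine Eq.trans ?_ (map_zero (tensorSec M N U))
  congr 1
  exact TensorProduct.tmul_zero _ m

lemma tmul_add_left (M N : X.Modules) (U : X.Opens) (m m' : Γ(M, U)) (n : Γ(N, U)) :
    SecTwist.tmul M N U (m + m') n = SecTwist.tmul M N U m n + SecTwist.tmul M N U m' n := by
  rw [tmul_eq_tensorSec, tmul_eq_tensorSec, tmul_eq_tensorSec]
  refine Eq.trans ?_ (map_add (tensorSec M N U) _ _)
  congr 1
  exact TensorProduct.add_tmul m m' n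

lemma tmul_add_right (M N : X.Modules) (U : X.Opens) (m : Γ(M, U)) (n n' : Γ(N, U)) :
    SecTwist.tmul M N U m (n + n') = SecTwist.tmul M N U m n + SecTwist.tmul M N U m n' := by
  rw [tmul_eq_tensorSec, tmul_eq_tensorSec, tmul_eq_tensorSec]
  refine Eq.trans ?_ (map_add (tensorSec M N U) _ _)
  congr 1
  exact TensorProduct.tmul_add m n n'

section
variable (M N : X.Modules) [M.IsQuasicoherent] [N.IsQuasicoherent]

/-- on an affine open, sections of the tensor product are sums of pure tensors. -/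
theorem tmul_induction {U : X.Opens} (hU : IsAffineOpen U)
    {p : Γ(CohB1.tensorMod M N, U) → Prop} (h0 : p 0)
    (htmul : ∀ (m : Γ(M, U)) (n : Γ(N, U)), p (SecTwist.tmul M N U m n))
    (hadd : ∀ a b, p a → p b → p (a + b)) (z : Γ(CohB1.tensorMod M N, U)) : p z := by
  obtain ⟨w, rfl⟩ := tensorSec_surjective M N hU z
  induction w using TensorProduct.induction_on with
  | zero => rw [map_zero]; exact h0
  | tmul m n => exact htmul m n
  | add a b ha hb => rw [map_add]; exact hadd _ _ ha hb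

/-- lifting a bilinear map to the sections of the tensor product over an affine open. -/
noncomputable def affineLift {U : X.Opens} (hU : IsAffineOpen U) {Q : Type*} [AddCommGroup Q]
    [Module Γ(X, U) Q] (B : Γ(M, U) →ₗ[Γ(X, U)] Γ(N, U) →ₗ[Γ(X, U)] Q) :
    Γ(CohB1.tensorMod M N, U) →ₗ[Γ(X, U)] Q :=
  (TensorProduct.lift B) ∘ₗ (tensorSecEquiv M N hU).symm.toLinearMap

lemma affineLift_tmul {U : X.Opens} (hU : IsAffineOpen U) {Q : Type*} [AddCommGroup Q]
    [Module Γ(X, U) Q] (B : Γ(M, U) →ₗ[Γ(X, U)] Γ(N, U) →ₗ[Γ(X, U)] Q) (m : Γ(M, U))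
    (n : Γ(N, U)) : affineLift M N hU B (SecTwist.tmul M N U m n) = B m n := by
  have h : (tensorSecEquiv M N hU).symm (SecTwist.tmul M N U m n) = m ⊗ₜ n := by
    rw [LinearEquiv.symm_apply_eq]
    rfl
  change TensorProduct.lift B ((tensorSecEquiv M N hU).symm (SecTwist.tmul M N U m n)) = _
  rw [h, TensorProduct.lift.tmul]

/-- **descent of bilinear maps**: a family of bilinear maps on affine opens, compatible with
restriction, defines a morphism out of the tensor product. -/
noncomputable def tensorDesc (G : X.Modules)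
    (B : ∀ U : X.affineOpens, Γ(M, U.1) →ₗ[Γ(X, U.1)] Γ(N, U.1) →ₗ[Γ(X, U.1)] Γ(G, U.1))
    (nat : ∀ (U V : X.affineOpens) (h : V.1 ≤ U.1) (m : Γ(M, U.1)) (n : Γ(N, U.1)),
      G.presheaf.map (homOfLE h).op (B U m n) =
        B V (M.presheaf.map (homOfLE h).op m) (N.presheaf.map (homOfLE h).op n)) :
    CohB1.tensorMod M N ⟶ G :=
  homOfAffine (CohB1.tensorMod M N) G (fun U => affineLift M N U.2 (B U)) (by
    intro U V h s
    induction s using tmul_induction M N U.2 with
    | h0 => simp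
    | htmul m n => rw [affineLift_tmul, tmul_res, affineLift_tmul, nat]
    | hadd a b ha hb => rw [map_add, map_add, map_add, map_add, ha, hb])

lemma tensorDesc_app_tmul (G : X.Modules)
    (B : ∀ U : X.affineOpens, Γ(M, U.1) →ₗ[Γ(X, U.1)] Γ(N, U.1) →ₗ[Γ(X, U.1)] Γ(G, U.1))
    (nat : ∀ (U V : X.affineOpens) (h : V.1 ≤ U.1) (m : Γ(M, U.1)) (n : Γ(N, U.1)),
      G.presheaf.map (homOfLE h).op (B U m n) =
        B V (M.presheaf.map (homOfLE h).op m) (N.presheaf.map (homOfLE h).op n))
    (U : X.affineOpens) (m : Γ(M, U.1)) (n : Γ(N, U.1)) :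
    (tensorDesc M N G B nat).app U.1 (SecTwist.tmul M N U.1 m n) = B U m n := by
  rw [tensorDesc, homOfAffine_app, affineLift_tmul]

end

section Assoc
variable (M N P : X.Modules) [M.IsQuasicoherent] [N.IsQuasicoherent] [P.IsQuasicoherent]

/-- the associator on sections over an affine open. -/
noncomputable def assocAffine {U : X.Opens} (hU : IsAffineOpen U) :
    Γ(CohB1.tensorMod (CohB1.tensorMod M N) P, U) ≃ₗ[Γ(X, U)]
      Γ(CohB1.tensorMod M (CohB1.tensorMod N P), U) :=
  (tensorSecEquiv (CohB1.tensorMod M N) P hU).symm ≪≫ₗ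
    (LinearEquiv.rTensor Γ(P, U) (tensorSecEquiv M N hU).symm) ≪≫ₗ
    (TensorProduct.assoc Γ(X, U) Γ(M, U) Γ(N, U) Γ(P, U)) ≪≫ₗ
    (LinearEquiv.lTensor Γ(M, U) (tensorSecEquiv N P hU)) ≪≫ₗ
    tensorSecEquiv M (CohB1.tensorMod N P) hU

lemma tensorSecEquiv_symm_tmul (M N : X.Modules) [M.IsQuasicoherent] [N.IsQuasicoherent]
    {U : X.Opens} (hU : IsAffineOpen U) (m : Γ(M, U)) (n : Γ(N, U)) :
    (tensorSecEquiv M N hU).symm (SecTwist.tmul M N U m n) = m ⊗ₜ n := by
  rw [LinearEquiv.symm_apply_eq]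
  rfl

lemma assocAffine_tmul {U : X.Opens} (hU : IsAffineOpen U) (m : Γ(M, U)) (n : Γ(N, U))
    (p : Γ(P, U)) :
    assocAffine M N P hU (SecTwist.tmul (CohB1.tensorMod M N) P U (SecTwist.tmul M N U m n) p) =
      SecTwist.tmul M (CohB1.tensorMod N P) U m (SecTwist.tmul N P U n p) := by
  simp only [assocAffine, LinearEquiv.trans_apply, tensorSecEquiv_symm_tmul,
    LinearEquiv.rTensor_tmul, TensorProduct.assoc_tmul, LinearEquiv.lTensor_tmul]
  rfl

/-- on an affine open, sections of a triple tensor product are sums of pure tensors. -/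
theorem tmul_induction₃ {U : X.Opens} (hU : IsAffineOpen U)
    {p : Γ(CohB1.tensorMod (CohB1.tensorMod M N) P, U) → Prop} (h0 : p 0)
    (htmul : ∀ (m : Γ(M, U)) (n : Γ(N, U)) (q : Γ(P, U)),
      p (SecTwist.tmul (CohB1.tensorMod M N) P U (SecTwist.tmul M N U m n) q))
    (hadd : ∀ a b, p a → p b → p (a + b)) (z : Γ(CohB1.tensorMod (CohB1.tensorMod M N) P, U)) :
    p z := by
  induction z using tmul_induction (CohB1.tensorMod M N) P hU with
  | h0 => exact h0
  | htmul w q =>
    induction w using tmul_induction M N hU with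
    | h0 =>
      exact (congrArg p (tmul_zero_left (CohB1.tensorMod M N) P U q)).mpr h0
    | htmul m n => exact htmul m n q
    | hadd a b ha hb =>
      exact (congrArg p (tmul_add_left (CohB1.tensorMod M N) P U a b q)).mpr (hadd _ _ ha hb)
  | hadd a b ha hb => exact hadd _ _ ha hb

/-- the associator `(M ⊗ N) ⊗ P ⟶ M ⊗ (N ⊗ P)` for quasi-coherent modules. -/
noncomputable def tensorAssocHom :
    CohB1.tensorMod (CohB1.tensorMod M N) P ⟶ CohB1.tensorMod M (CohB1.tensorMod N P) :=
  homOfAffine _ _ (fun U => (assocAffine M N P U.2).toLinearMap) (by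
    intro U V h s
    induction s using tmul_induction₃ M N P U.2 with
    | h0 => simp
    | htmul m n q =>
      rw [LinearEquiv.coe_coe, LinearEquiv.coe_coe, assocAffine_tmul, tmul_res, tmul_res,
        tmul_res, tmul_res, assocAffine_tmul]
    | hadd a b ha hb => rw [map_add, map_add, map_add, map_add, ha, hb])

lemma tensorAssocHom_app_tmul (U : X.affineOpens) (m : Γ(M, U.1)) (n : Γ(N, U.1))
    (p : Γ(P, U.1)) :
    (tensorAssocHom M N P).app U.1
      (SecTwist.tmul (CohB1.tensorMod M N) P U.1 (SecTwist.tmul M N U.1 m n) p) =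
      SecTwist.tmul M (CohB1.tensorMod N P) U.1 m (SecTwist.tmul N P U.1 n p) := by
  rw [tensorAssocHom, homOfAffine_app, LinearEquiv.coe_coe, assocAffine_tmul]

instance : IsIso (tensorAssocHom M N P) := by
  apply isIso_of_bijective_affine
  intro U
  have : ⇑(ConcreteCategory.hom ((tensorAssocHom M N P).app U.1)) = assocAffine M N P U.2 := by
    funext s
    rw [tensorAssocHom, homOfAffine_app]
    rfl
  rw [this]
  exact (assocAffine M N P U.2).bijective

/-- the associator for quasi-coherent modules. -/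
noncomputable def tensorAssoc :
    CohB1.tensorMod (CohB1.tensorMod M N) P ≅ CohB1.tensorMod M (CohB1.tensorMod N P) :=
  asIso (tensorAssocHom M N P)

/-- the associator on pure tensors, over any open. -/
lemma tensorAssocHom_app_tmul' (U : X.Opens) (m : Γ(M, U)) (n : Γ(N, U)) (p : Γ(P, U)) :
    (tensorAssocHom M N P).app U
      (SecTwist.tmul (CohB1.tensorMod M N) P U (SecTwist.tmul M N U m n) p) =
      SecTwist.tmul M (CohB1.tensorMod N P) U m (SecTwist.tmul N P U n p) := by
  apply section_ext_of_cover _ (fun V : {V : X.affineOpens // V.1 ≤ U} => V.1.1)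
    (fun V => V.2) (le_iSup_affineOpens U)
  intro V
  rw [← app_res, tmul_res, tmul_res, tmul_res, tmul_res, tensorAssocHom_app_tmul]

lemma iso_inv_hom_app {F G : X.Modules} (φ : F ≅ G) (U : X.Opens) (z : Γ(F, U)) :
    φ.inv.app U (φ.hom.app U z) = z := by
  rw [← ConcreteCategory.comp_apply, ← Scheme.Modules.Hom.comp_app, Iso.hom_inv_id]
  rfl

lemma iso_hom_inv_app {F G : X.Modules} (φ : F ≅ G) (U : X.Opens) (z : Γ(G, U)) :
    φ.hom.app U (φ.inv.app U z) = z := by
  rw [← ConcreteCategory.comp_apply, ← Scheme.Modules.Hom.comp_app, Iso.inv_hom_id]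
  rfl

lemma tensorAssoc_hom_app_tmul (U : X.Opens) (m : Γ(M, U)) (n : Γ(N, U)) (p : Γ(P, U)) :
    (tensorAssoc M N P).hom.app U
      (SecTwist.tmul (CohB1.tensorMod M N) P U (SecTwist.tmul M N U m n) p) =
      SecTwist.tmul M (CohB1.tensorMod N P) U m (SecTwist.tmul N P U n p) :=
  tensorAssocHom_app_tmul' M N P U m n p

lemma tensorAssoc_inv_app_tmul (U : X.Opens) (m : Γ(M, U)) (n : Γ(N, U)) (p : Γ(P, U)) :
    (tensorAssoc M N P).inv.app U
      (SecTwist.tmul M (CohB1.tensorMod N P) U m (SecTwist.tmul N P U n p)) =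
      SecTwist.tmul (CohB1.tensorMod M N) P U (SecTwist.tmul M N U m n) p := by
  rw [← tensorAssoc_hom_app_tmul, iso_inv_hom_app]

end Assoc

end Groth.Agent.LD.QC
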