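import Groth.Agent.Lib.Lead.QC.CounitEpi2
import Groth.Agent.Lib.Lead.QC.TensorDesc
universe u
open CategoryTheory Limits AlgebraicGeometry TopologicalSpace Opposite TensorProduct

namespace Groth.Agent.LD.QC

section Basis
variable {X : Scheme.{u}}

/-- a section which is a basis over arbitrarily small neighbourhoods of every point is a basis. -/
theorem isBasisOver_of_local {L : X.Modules} {U : X.Opens} (e : Γ(L, U))
    (h : ∀ x ∈ U, ∀ W : X.Opens, x ∈ W → ∃ (V : X.Opens) (hV : V ≤ U), x ∈ V ∧ V ≤ W ∧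
      Function.Bijective (fun a : Γ(X, V) => a • L.presheaf.map (homOfLE hV).op e)) :
    IsBasisOver L U e := by
  haveI : IsIso (homOfSecOver L U e) := by
    apply isIso_of_local_bijective
    intro x' W' hx'
    obtain ⟨V, hV, hxV, hVW, hbij⟩ := h (U.ι x') x'.2 (U.ι ''ᵁ W') ⟨x', hx', rfl⟩
    have hVW' : U.ι ⁻¹ᵁ V ≤ W' := by
      intro y hy
      obtain ⟨z, hz, hzy⟩ := hVW hy
      rwa [← U.ι.isOpenEmbedding.injective hzy]
    have himg : U.ι ''ᵁ (U.ι ⁻¹ᵁ V) = V := by
      rw [Scheme.Hom.image_preimage_eq_opensRange_inf, Scheme.Opens.opensRange_ι]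
      exact inf_eq_right.mpr hV
    refine ⟨U.ι ⁻¹ᵁ V, hxV, hVW', ?_⟩
    have h2 : Function.Bijective (U.ι.appIso (U.ι ⁻¹ᵁ V)).inv.hom :=
      (ConcreteCategory.isIso_iff_bijective (U.ι.appIso (U.ι ⁻¹ᵁ V)).inv).mp inferInstance
    have h3 : ⇑(ConcreteCategory.hom ((homOfSecOver L U e).app (U.ι ⁻¹ᵁ V))) =
        fun b => (fun a : Γ(X, U.ι ''ᵁ (U.ι ⁻¹ᵁ V)) =>
          a • L.presheaf.map (homOfLE (U.ι_image_le (U.ι ⁻¹ᵁ V))).op e)
            ((U.ι.appIso (U.ι ⁻¹ᵁ V)).inv.hom b) := by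
      funext b
      rw [unitHom_app, homOfSecOver_app_one]
      rfl
    rw [h3]
    have key : ∀ (V₁ : X.Opens) (hh : V₁ = V) (h₁ : V₁ ≤ U),
        Function.Bijective (fun a : Γ(X, V₁) => a • L.presheaf.map (homOfLE h₁).op e) := by
      rintro V₁ rfl h₁; exact hbij
    exact (key _ himg _).comp h2
  have := isBasisOver_basisOfIso L U (asIso (homOfSecOver L U e))
  rwa [asIso_hom, basisOfIso_homOfSecOver] at this

lemma bijective_smul_tmul_of_bijective {R S N : Type*} [CommRing R] [CommRing S] [Algebra R S]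
    [AddCommGroup N] [Module R N] (e₀ : N)
    (h : Function.Bijective (fun a : R => a • e₀)) :
    Function.Bijective (fun a : S => a ⊗ₜ[R] e₀) := by
  let ψ₀ : R ≃ₗ[R] N := LinearEquiv.ofBijective (LinearMap.toSpanSingleton R N e₀) h
  have : (fun a : S => a ⊗ₜ[R] e₀) =
      fun a => (LinearEquiv.lTensor S ψ₀) ((TensorProduct.rid R S).symm a) := by
    funext a
    simp [ψ₀]
  rw [this]
  exact (LinearEquiv.lTensor S ψ₀).bijective.comp (TensorProduct.rid R S).symm.bijective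

/-- a morphism sending a local basis to a local basis is bijective on sections there. -/
theorem bijective_app_of_basis {A B : X.Modules} (φ : A ⟶ B) {U : X.Opens} {e : Γ(A, U)}
    (he : IsBasisOver A U e) (he' : IsBasisOver B U (φ.app U e)) (V : X.Opens) (hV : V ≤ U) :
    Function.Bijective (φ.app V) := by
  have h1 := he V hV
  have h2 := he' V hV
  have h3 : (fun a : Γ(X, V) => a • B.presheaf.map (homOfLE hV).op (φ.app U e)) =
      (φ.app V) ∘ (fun a : Γ(X, V) => a • A.presheaf.map (homOfLE hV).op e) := by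
    funext a
    change _ = φ.app V (a • A.presheaf.map (homOfLE hV).op e)
    rw [Scheme.Modules.Hom.app_smul, app_res]
  rw [h3] at h2
  exact (Function.Bijective.of_comp_iff _ h1).mp h2

end Basis

section Pull
variable {X X' : Scheme.{u}} (g : X' ⟶ X)

/-- **the pullback of a local basis is a local basis.** -/
theorem IsBasisOver.pullback {M : X.Modules} [M.IsQuasicoherent] {V : X.Opens} {e : Γ(M, V)}
    (he : IsBasisOver M V e) {U' : X'.Opens} (hU' : U' ≤ g ⁻¹ᵁ V) :
    IsBasisOver ((Scheme.Modules.pullback g).obj M) U' (pbSec g M hU' e) := by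
  apply isBasisOver_of_local
  intro x' hx' W hxW
  obtain ⟨V₀, hV₀, hgx, hV₀V'⟩ := exists_isAffineOpen_mem_and_subset (x := g x') (U := V) (hU' hx')
  have hV₀V : V₀ ≤ V := hV₀V'
  obtain ⟨U₀, hU₀, hxU₀, hU₀le⟩ := exists_isAffineOpen_mem_and_subset (x := x')
    (U := U' ⊓ W ⊓ g ⁻¹ᵁ V₀) ⟨⟨hx', hxW⟩, hgx⟩
  have h1 : U₀ ≤ U' := fun y hy => (hU₀le hy).1.1
  have h2 : U₀ ≤ W := fun y hy => (hU₀le hy).1.2
  have h3 : U₀ ≤ g ⁻¹ᵁ V₀ := fun y hy => (hU₀le hy).2
  refine ⟨U₀, h1, hxU₀, h2, ?_⟩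
  rw [← pbSec_res g M hU' h3 h1 hV₀V e]
  letI := (g.appLE V₀ U₀ h3).hom.toAlgebra
  obtain ⟨Φ, hΦ⟩ := exists_pullback_sections_equiv_pbSec g hU₀ hV₀ h3 M
  have hb : Function.Bijective (fun a : Γ(X, V₀) => a • M.presheaf.map (homOfLE hV₀V).op e) := by
    have := he.mono hV₀V V₀ le_rfl
    simp only [res_self] at this
    exact this
  have h4 := bijective_smul_tmul_of_bijective (S := Γ(X', U₀)) _ hb
  have h5 : (fun a : Γ(X', U₀) => a • pbSec g M h3 (M.presheaf.map (homOfLE hV₀V).op e)) =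
      fun a => Φ.symm (a ⊗ₜ[Γ(X, V₀)] M.presheaf.map (homOfLE hV₀V).op e) := by
    funext a
    rw [LinearEquiv.eq_symm_apply, map_smul, hΦ, TensorProduct.smul_tmul', smul_eq_mul, mul_one]
  exact h5 ▸ Φ.symm.bijective.comp h4

/-- the pullback of an invertible module is invertible. -/
theorem isInvertible_pullback {L : X.Modules} (hL : PicF.IsInvertible L) :
    PicF.IsInvertible ((Scheme.Modules.pullback g).obj L) := by
  haveI := qc_of_isInvertible L hL
  rw [isInvertible_iff_exists_isBasisOver]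
  intro x'
  obtain ⟨V, e, hxV, he⟩ := (isInvertible_iff_exists_isBasisOver L).mp hL (g x')
  exact ⟨g ⁻¹ᵁ V, pbSec g L le_rfl e, hxV, he.pullback g le_rfl⟩

/-- the pullback of a section `O_X ⟶ M`, as a section `O_{X'} ⟶ g^* M`. -/
noncomputable def pbHom {M : X.Modules} (s : unitMod X ⟶ M) :
    unitMod X' ⟶ (Scheme.Modules.pullback g).obj M :=
  homOfSection _ (pbSec g M (show (⊤ : X'.Opens) ≤ g ⁻¹ᵁ ⊤ from le_rfl) (sectionOfHom s))

lemma val_pbHom {M : X.Modules} (s : unitMod X ⟶ M) {U' : X'.Opens} {V : X.Opens}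
    (h : U' ≤ g ⁻¹ᵁ V) : SecTwist.val (pbHom g s) U' = pbSec g M h (SecTwist.val s V) := by
  rw [pbHom, val_homOfSection]
  have h1 : SecTwist.val s V = M.presheaf.map (homOfLE (le_top : V ≤ ⊤)).op (sectionOfHom s) :=
    (val_res s (le_top : V ≤ ⊤)).symm
  rw [h1]
  exact (pbSec_res g M _ h le_top le_top (sectionOfHom s)).symm

/-- **the generating locus of a pulled back section is the preimage of the generating locus.** -/
theorem genLocus_pbHom {M : X.Modules} (hM : PicF.IsInvertible M) (s : unitMod X ⟶ M) :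
    CohB1.genLocus _ (pbHom g s) = g ⁻¹ᵁ CohB1.genLocus M s := by
  haveI := qc_of_isInvertible M hM
  ext x'
  obtain ⟨V, e, hxV, he⟩ := (isInvertible_iff_exists_isBasisOver M).mp hM (g x')
  obtain ⟨a, ha⟩ := he.exists_coord (SecTwist.val s V)
  have h1 := genLocus_inf_eq_basicOpen s he a ha
  have he' := he.pullback g (le_refl (g ⁻¹ᵁ V))
  have ha' : SecTwist.val (pbHom g s) (g ⁻¹ᵁ V) = (g.app V a) • pbSec g M le_rfl e := by
    rw [val_pbHom g s le_rfl, ha, pbSec_smul, Scheme.Hom.app_eq_appLE]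
  have h2 := genLocus_inf_eq_basicOpen (pbHom g s) he' _ ha'
  have h3 : X'.basicOpen (g.app V a) = g ⁻¹ᵁ X.basicOpen a := (Scheme.preimage_basicOpen g a).symm
  constructor
  · intro hx
    have : x' ∈ CohB1.genLocus _ (pbHom g s) ⊓ g ⁻¹ᵁ V := ⟨hx, hxV⟩
    rw [h2, h3, ← h1] at this
    exact this.1
  · intro hx
    have : x' ∈ g ⁻¹ᵁ (CohB1.genLocus M s ⊓ V) := ⟨hx, hxV⟩
    rw [h1, ← h3, ← h2] at this
    exact this.1

/-- transposing across `g^* ⊣ g_*`, evaluated on `unitSec`. -/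
lemma homEquiv_symm_unitSec {A : X.Modules} {B : X'.Modules}
    (φ : A ⟶ (Scheme.Modules.pushforward g).obj B) (U : X.Opens) (z : Γ(A, U)) :
    (((Scheme.Modules.pullbackPushforwardAdjunction g).homEquiv A B).symm φ).app (g ⁻¹ᵁ U)
      (unitSec g A U z) = (show Γ(B, g ⁻¹ᵁ U) from φ.app U z) := by
  rw [Adjunction.homEquiv_counit]
  change ((Scheme.Modules.pullbackPushforwardAdjunction g).counit.app B).app (g ⁻¹ᵁ U)
    (((Scheme.Modules.pullback g).map φ).app (g ⁻¹ᵁ U) (unitSec g A U z)) = _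
  rw [unitSec_naturality]
  exact counit_unitSec g B U _

variable (M N : X.Modules) [M.IsQuasicoherent] [N.IsQuasicoherent]

/-- the bilinear maps `(m, n) ↦ g^* m ⊗ g^* n`. -/
noncomputable def pbTensorB (U : X.Opens) :
    Γ(M, U) →ₗ[Γ(X, U)] Γ(N, U) →ₗ[Γ(X, U)]
      Γ((Scheme.Modules.pushforward g).obj (CohB1.tensorMod ((Scheme.Modules.pullback g).obj M)
        ((Scheme.Modules.pullback g).obj N)), U) :=
  LinearMap.mk₂ Γ(X, U)
    (fun m n => (show Γ((Scheme.Modules.pushforward g).obj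
        (CohB1.tensorMod ((Scheme.Modules.pullback g).obj M)
        ((Scheme.Modules.pullback g).obj N)), U) from
      SecTwist.tmul ((Scheme.Modules.pullback g).obj M) ((Scheme.Modules.pullback g).obj N)
        (g ⁻¹ᵁ U) (unitSec g M U m) (unitSec g N U n)))
    (fun m m' n => by
      change SecTwist.tmul _ _ _ (unitSec g M U (m + m')) _ = SecTwist.tmul _ _ _ _ _ +
        SecTwist.tmul _ _ _ _ _
      rw [unitSec_add, tmul_add_left]
      rfl)
    (fun c m n => by
      change SecTwist.tmul _ _ _ (unitSec g M U (c • m)) _ = (g.app U c) • SecTwist.tmul _ _ _ _ _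
      rw [unitSec_smul, tmul_smul_left])
    (fun m n n' => by
      change SecTwist.tmul _ _ _ _ (unitSec g N U (n + n')) = SecTwist.tmul _ _ _ _ _ +
        SecTwist.tmul _ _ _ _ _
      rw [unitSec_add, tmul_add_right]
      rfl)
    (fun c m n => by
      change SecTwist.tmul _ _ _ _ (unitSec g N U (c • n)) = (g.app U c) • SecTwist.tmul _ _ _ _ _
      rw [unitSec_smul, tmul_smul_right])

lemma pbTensorB_apply (U : X.Opens) (m : Γ(M, U)) (n : Γ(N, U)) :
    (show Γ(CohB1.tensorMod ((Scheme.Modules.pullback g).obj M)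
        ((Scheme.Modules.pullback g).obj N), g ⁻¹ᵁ U) from pbTensorB g M N U m n) =
      SecTwist.tmul ((Scheme.Modules.pullback g).obj M) ((Scheme.Modules.pullback g).obj N)
        (g ⁻¹ᵁ U) (unitSec g M U m) (unitSec g N U n) := rfl

/-- the comparison `M ⊗ N ⟶ g_* (g^* M ⊗ g^* N)`. -/
noncomputable def pbTensorAdj :
    CohB1.tensorMod M N ⟶ (Scheme.Modules.pushforward g).obj
      (CohB1.tensorMod ((Scheme.Modules.pullback g).obj M) ((Scheme.Modules.pullback g).obj N)) :=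
  tensorDesc M N _ (fun U => pbTensorB g M N U.1) (by
    intro U V h m n
    change (CohB1.tensorMod ((Scheme.Modules.pullback g).obj M)
      ((Scheme.Modules.pullback g).obj N)).presheaf.map
        (homOfLE (show g ⁻¹ᵁ V.1 ≤ g ⁻¹ᵁ U.1 from fun _ hx => h hx)).op
        (SecTwist.tmul _ _ _ (unitSec g M U.1 m) (unitSec g N U.1 n)) =
      SecTwist.tmul _ _ _ (unitSec g M V.1 _) (unitSec g N V.1 _)
    rw [tmul_res, unitSec_res, unitSec_res])

/-- the comparison `g^* (M ⊗ N) ⟶ g^* M ⊗ g^* N`. -/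
noncomputable def pbTensorHom :
    (Scheme.Modules.pullback g).obj (CohB1.tensorMod M N) ⟶
      CohB1.tensorMod ((Scheme.Modules.pullback g).obj M) ((Scheme.Modules.pullback g).obj N) :=
  ((Scheme.Modules.pullbackPushforwardAdjunction g).homEquiv _ _).symm (pbTensorAdj g M N)

lemma pbTensorHom_unitSec (U : X.affineOpens) (m : Γ(M, U.1)) (n : Γ(N, U.1)) :
    (pbTensorHom g M N).app (g ⁻¹ᵁ U.1) (unitSec g _ U.1 (SecTwist.tmul M N U.1 m n)) =
      SecTwist.tmul _ _ (g ⁻¹ᵁ U.1) (unitSec g M U.1 m) (unitSec g N U.1 n) := by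
  rw [pbTensorHom, homEquiv_symm_unitSec, pbTensorAdj, tensorDesc_app_tmul]
  rfl

lemma pbTensorHom_pbSec (U : X.affineOpens) {U' : X'.Opens} (h : U' ≤ g ⁻¹ᵁ U.1)
    (m : Γ(M, U.1)) (n : Γ(N, U.1)) :
    (pbTensorHom g M N).app U' (pbSec g _ h (SecTwist.tmul M N U.1 m n)) =
      SecTwist.tmul _ _ U' (pbSec g M h m) (pbSec g N h n) := by
  unfold pbSec
  rw [app_res, pbTensorHom_unitSec, tmul_res]

/-- **pullback commutes with tensor products of invertible modules.** -/
theorem isIso_pbTensorHom (M N : X.Modules) [M.IsQuasicoherent] [N.IsQuasicoherent]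
    (hM : PicF.IsInvertible M) (hN : PicF.IsInvertible N) : IsIso (pbTensorHom g M N) := by
  apply isIso_of_local_bijective
  intro x' W hxW
  obtain ⟨U₁, e₁, hU₁, hx₁, -, he₁⟩ := exists_affine_basis M hM (g x') ⊤ trivial
  obtain ⟨V, e₂, hV, hxV, hVU₁, he₂⟩ := exists_affine_basis N hN (g x') U₁ hx₁
  have he₁' := he₁.mono hVU₁
  have hle : g ⁻¹ᵁ V ⊓ W ≤ g ⁻¹ᵁ V := inf_le_left
  refine ⟨g ⁻¹ᵁ V ⊓ W, ⟨hxV, hxW⟩, inf_le_right, ?_⟩
  have hA := (he₁'.tmul he₂).pullback g hle
  have hB := (he₁'.pullback g hle).tmul (he₂.pullback g hle)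
  have hθ := pbTensorHom_pbSec g M N ⟨V, hV⟩ hle (M.presheaf.map (homOfLE hVU₁).op e₁) e₂
  rw [← hθ] at hB
  exact bijective_app_of_basis (pbTensorHom g M N) hA hB _ le_rfl

/-- `g^* (M ⊗ N) ≅ g^* M ⊗ g^* N` for invertible `M`, `N`. -/
noncomputable def pbTensorIso (M N : X.Modules) (hM : PicF.IsInvertible M)
    (hN : PicF.IsInvertible N) :
    (Scheme.Modules.pullback g).obj (CohB1.tensorMod M N) ≅
      CohB1.tensorMod ((Scheme.Modules.pullback g).obj M) ((Scheme.Modules.pullback g).obj N) :=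
  haveI := qc_of_isInvertible M hM
  haveI := qc_of_isInvertible N hN
  haveI := isIso_pbTensorHom g M N hM hN
  asIso (pbTensorHom g M N)

/-- `g^* O_X ≅ O_{X'}`. -/
noncomputable def pbUnitIso : (Scheme.Modules.pullback g).obj (unitMod X) ≅ unitMod X' := by
  haveI : IsIso (pbHom g (𝟙 (unitMod X))) := by
    have h := genLocus_pbHom g (isInvertible_unit X) (𝟙 (unitMod X))
    rw [genLocus_id] at h
    have h2 : (⊤ : X'.Opens) ≤ CohB1.genLocus _ (pbHom g (𝟙 (unitMod X))) := by rw [h]; exact le_rfl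
    rw [le_genLocus_iff] at h2
    rw [Scheme.Modules.Hom.isIso_iff_isIso_app]
    intro W
    rw [ConcreteCategory.isIso_iff_bijective]
    exact h2 W le_top
  exact (asIso (pbHom g (𝟙 (unitMod X)))).symm

/-- `g^* (L^{⊗ n}) ≅ (g^* L)^{⊗ n}`. -/
noncomputable def pbTensorPowIso (L : X.Modules) (hL : PicF.IsInvertible L) :
    (n : ℕ) → ((Scheme.Modules.pullback g).obj (CohB1.tensorPow L n) ≅
      CohB1.tensorPow ((Scheme.Modules.pullback g).obj L) n)
  | 0 => pbUnitIso g
  | n + 1 => pbTensorIso g (CohB1.tensorPow L n) L (isInvertible_tensorPow hL n) hL ≪≫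
      tensorIso' (pbTensorPowIso L hL n) (Iso.refl _)

end Pull

end Groth.Agent.LD.QC
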