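import Groth.Agent.Lib.Lead.QC.Closure
universe u
open CategoryTheory Limits AlgebraicGeometry TopologicalSpace Opposite

namespace Groth.Agent.LD.QC

section Spec
variable {R : CommRingCat.{u}}

theorem spec_epi_Γ {N₁ N₂ : (Spec R).Modules} (h₁ : N₁.IsQuasicoherent)
    (h₂ : N₂.IsQuasicoherent) (φ : N₁ ⟶ N₂) [Epi φ] :
    Epi (moduleSpecΓFunctor.map φ) := by
  let P := SheafOfModules.isQuasicoherent (Spec R).ringCatSheaf
  let A : P.FullSubcategory := ⟨N₁, h₁⟩
  let B : P.FullSubcategory := ⟨N₂, h₂⟩
  let φ' : A ⟶ B := ObjectProperty.homMk φ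
  have : Epi φ' := (ObjectProperty.ι P).epi_of_epi_map (by exact ‹Epi φ›)
  exact inferInstanceAs (Epi ((tildeEquiv (R := R)).inverse.map φ'))

theorem spec_epi_app_top {N₁ N₂ : (Spec R).Modules} (h₁ : N₁.IsQuasicoherent)
    (h₂ : N₂.IsQuasicoherent) (φ : N₁ ⟶ N₂) [Epi φ] :
    Function.Surjective (φ.app ⊤) := by
  have := spec_epi_Γ h₁ h₂ φ
  have h := (ModuleCat.epi_iff_surjective _).mp this
  exact h

end Spec

end Groth.Agent.LD.QC

namespace Groth.Agent.LD.QC
variable {X : Scheme.{u}}

lemma app_res {M N : X.Modules} (φ : M ⟶ N) {U V : X.Opens} (h : V ≤ U) (s : Γ(M, U)) :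
    φ.app V (M.presheaf.map (homOfLE h).op s) = N.presheaf.map (homOfLE h).op (φ.app U s) := by
  have := φ.mapPresheaf.naturality (homOfLE h).op
  exact congr($this s)

lemma fromSpec_image_top {U : X.Opens} (hU : IsAffineOpen U) : hU.fromSpec ''ᵁ ⊤ = U :=
  (Scheme.Hom.image_top_eq_opensRange _).trans hU.opensRange_fromSpec

theorem epi_app_affine {M N : X.Modules} (hM : M.IsQuasicoherent) (hN : N.IsQuasicoherent)
    (φ : M ⟶ N) [Epi φ] {U : X.Opens} (hU : IsAffineOpen U) :
    Function.Surjective (φ.app U) := by
  have hT := fromSpec_image_top hU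
  have : Epi ((Scheme.Modules.restrictFunctor hU.fromSpec).map φ) := inferInstance
  have hs := spec_epi_app_top (R := Γ(X, U)) (N₁ := M.restrict hU.fromSpec)
    (N₂ := N.restrict hU.fromSpec) inferInstance inferInstance
    ((Scheme.Modules.restrictFunctor hU.fromSpec).map φ)
  intro t
  obtain ⟨s', hs'⟩ := hs (N.presheaf.map (homOfLE hT.le).op t)
  refine ⟨M.presheaf.map (homOfLE hT.ge).op s', ?_⟩
  rw [app_res]
  have : φ.app (hU.fromSpec ''ᵁ ⊤) s' = N.presheaf.map (homOfLE hT.le).op t := hs'
  rw [this, res_res, res_self]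

end Groth.Agent.LD.QC

namespace Groth.Agent.LD.QC
variable {X : Scheme.{u}}

lemma mono_app {M N : X.Modules} (φ : M ⟶ N) [Mono φ] (U : X.Opens) :
    Function.Injective (φ.app U) := by
  have h1 : Mono ((Scheme.Modules.toPresheaf X).map φ) := inferInstance
  have h2 : Mono (((Scheme.Modules.toPresheaf X).map φ).app (op U)) := inferInstance
  exact (AddCommGrpCat.mono_iff_injective _).mp h2

/-- `M.over W` corresponds to `M.restrict W.ι` under `overEquiv`. -/
noncomputable def overFunctorRestrictIso (M : X.Modules) (W : X.Opens) :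
    (Scheme.Modules.overEquiv W).functor.obj (SheafOfModules.over (R := X.ringCatSheaf) M W) ≅
      M.restrict W.ι :=
  (Scheme.Modules.overFunctorEquiv W).app M

noncomputable def genOver (M : X.Modules) (W : X.Opens)
    (σ : (M.restrict W.ι).GeneratingSections) :
    (SheafOfModules.over (R := X.ringCatSheaf) M W).GeneratingSections :=
  (σ.map (Scheme.Modules.overEquiv W).inverse
      (TopologicalSpace.Opens.sheafOfModulesEquivOverInverseUnit W X.ringCatSheaf).symm).ofEpi
    (overIsoInverseRestrict M W).hom

noncomputable def genRestrict (M : X.Modules) (W : X.Opens)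
    (σ : (SheafOfModules.over (R := X.ringCatSheaf) M W).GeneratingSections) :
    (M.restrict W.ι).GeneratingSections :=
  (σ.map (Scheme.Modules.overEquiv W).functor
      (TopologicalSpace.Opens.sheafOfModulesEquivOverUnit W X.ringCatSheaf).symm).ofEpi
    (overFunctorRestrictIso M W).hom

lemma genOver_I (M : X.Modules) (W : X.Opens) (σ : (M.restrict W.ι).GeneratingSections) :
    (genOver M W σ).I = σ.I := rfl

lemma genRestrict_I (M : X.Modules) (W : X.Opens)
    (σ : (SheafOfModules.over (R := X.ringCatSheaf) M W).GeneratingSections) :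
    (genRestrict M W σ).I = σ.I := rfl

noncomputable def presRestrict (M : X.Modules) (W : X.Opens)
    (P : (SheafOfModules.over (R := X.ringCatSheaf) M W).Presentation) :
    (M.restrict W.ι).Presentation :=
  SheafOfModules.Presentation.ofIsIso.{u, u, u} (overFunctorRestrictIso M W).hom <|
    P.map (Scheme.Modules.overEquiv W).functor
      (TopologicalSpace.Opens.sheafOfModulesEquivOverUnit W X.ringCatSheaf).symm

end Groth.Agent.LD.QC

namespace Groth.Agent.LD.QC
variable {X : Scheme.{u}}

theorem isFiniteType_iff_forall_exists (M : X.Modules) :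
    M.IsFiniteType ↔ ∀ x : X, ∃ (U : X.Opens), x ∈ U ∧
      ∃ σ : (M.restrict U.ι).GeneratingSections, Finite σ.I := by
  constructor
  · intro h x
    obtain ⟨q, hq⟩ := SheafOfModules.IsFiniteType.exists_localGeneratorsData M
    have hc : IsOpenCover q.X := (Opens.coversTop_iff _ _).mp q.coversTop
    have hx : x ∈ ⨆ i, q.X i := by rw [hc]; trivial
    obtain ⟨i, hi⟩ := Opens.mem_iSup.mp hx
    refine ⟨q.X i, hi, genRestrict M (q.X i) (q.generators i), ?_⟩
    exact (hq.isFiniteType i).finite
  · intro h
    choose U hxU σ hσ using h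
    have hc : (Opens.grothendieckTopology X).CoversTop U := by
      rw [Opens.coversTop_iff, IsOpenCover, eq_top_iff]
      intro x _
      exact Opens.mem_iSup.mpr ⟨x, hxU x⟩
    let q : SheafOfModules.LocalGeneratorsData.{u} (R := X.ringCatSheaf) M :=
      { I := X
        X := U
        coversTop := hc
        generators := fun x => genOver M (U x) (σ x) }
    have hq : q.IsFiniteType :=
      { isFiniteType := fun x =>
          { finite := show Finite (genOver M (U x) (σ x)).I from hσ x } }
    exact SheafOfModules.IsFiniteType.mk.{u, u, u} ⟨q, hq⟩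

end Groth.Agent.LD.QC

namespace Groth.Agent.LD.QC
variable {X : Scheme.{u}}

lemma presRestrict_isFinite (M : X.Modules) (W : X.Opens)
    (P : (SheafOfModules.over (R := X.ringCatSheaf) M W).Presentation) [hP : P.IsFinite] :
    (presRestrict M W P).IsFinite where
  isFiniteType_generators := ⟨hP.isFiniteType_generators.finite⟩
  isFiniteType_relations := ⟨hP.isFiniteType_relations.finite⟩

lemma presentationOver_isFinite (M : X.Modules) (W : X.Opens)
    (P : (M.restrict W.ι).Presentation) [hP : P.IsFinite] :
    (presentationOver M W P).IsFinite where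
  isFiniteType_generators := ⟨hP.isFiniteType_generators.finite⟩
  isFiniteType_relations := ⟨hP.isFiniteType_relations.finite⟩

theorem isFinitePresentation_iff_forall_exists (M : X.Modules) :
    M.IsFinitePresentation ↔ ∀ x : X, ∃ (U : X.Opens), x ∈ U ∧
      ∃ P : (M.restrict U.ι).Presentation, P.IsFinite := by
  constructor
  · intro h x
    obtain ⟨q, hq⟩ := SheafOfModules.IsFinitePresentation.exists_quasicoherentData M
    have hc : IsOpenCover q.X := (Opens.coversTop_iff _ _).mp q.coversTop
    have hx : x ∈ ⨆ i, q.X i := by rw [hc]; trivial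
    obtain ⟨i, hi⟩ := Opens.mem_iSup.mp hx
    have := hq.isFinite_presentation i
    exact ⟨q.X i, hi, presRestrict M (q.X i) (q.presentation i), presRestrict_isFinite _ _ _⟩
  · intro h
    choose U hxU P hP using h
    have hc : (Opens.grothendieckTopology X).CoversTop U := by
      rw [Opens.coversTop_iff, IsOpenCover, eq_top_iff]
      intro x _
      exact Opens.mem_iSup.mpr ⟨x, hxU x⟩
    let q : SheafOfModules.QuasicoherentData.{u} (R := X.ringCatSheaf) M :=
      { I := X
        X := U
        coversTop := hc
        presentation := fun x => presentationOver M (U x) (P x) }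
    have hq : q.IsFinitePresentation :=
      { isFinite_presentation := fun x => by
          have := hP x
          exact presentationOver_isFinite M (U x) (P x) }
    exact SheafOfModules.IsFinitePresentation.mk.{u, u, u} ⟨q, hq⟩

end Groth.Agent.LD.QC
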