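import Groth.Agent.Lib.Lead.QC.InvEpi
import Groth.Agent.Lib.Lead.QC.SubExt
import Groth.Agent.Lib.Lead.CohLES.Vanish

/-! # Tensoring with an invertible module is exact. -/

universe u
open CategoryTheory Limits AlgebraicGeometry TopologicalSpace Opposite

namespace Groth.Agent.LD.QC
variable {X : Scheme.{u}}

/-- a local presentation of sections of `G ⊗ M`, `M` invertible, as pure tensors with a basis. -/
theorem exists_local_tmul {G M : X.Modules} (hM : PicF.IsInvertible M) (U : X.Opens)
    (z : Γ(CohB1.tensorMod G M, U)) (x : X) (hx : x ∈ U) :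
    ∃ (V : X.Opens) (hV : V ≤ U) (_ : x ∈ V) (e : Γ(M, V)) (_ : IsBasisOver M V e)
      (g : Γ(G, V)),
      (CohB1.tensorMod G M).presheaf.map (homOfLE hV).op z = SecTwist.tmul G M V g e := by
  obtain ⟨U', e, hxU', he⟩ := (isInvertible_iff_exists_isBasisOver M).mp hM x
  have hle : U ⊓ U' ≤ U' := inf_le_right
  obtain ⟨g, hg⟩ := (bijective_tmul_of_isBasisOver G M he (U ⊓ U') hle).2
    ((CohB1.tensorMod G M).presheaf.map (homOfLE (inf_le_left : U ⊓ U' ≤ U)).op z)
  exact ⟨U ⊓ U', inf_le_left, ⟨hx, hxU'⟩, M.presheaf.map (homOfLE hle).op e, he.mono hle, g,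
    hg.symm⟩

/-- morphisms out of `G ⊗ M`, `M` invertible, are determined by their values on pure tensors. -/
theorem hom_ext_tmul_of_isInvertible {G H M : X.Modules} (hM : PicF.IsInvertible M)
    (ψ ψ' : CohB1.tensorMod G M ⟶ H)
    (h : ∀ (U : X.Opens) (g : Γ(G, U)) (m : Γ(M, U)),
      ψ.app U (SecTwist.tmul G M U g m) = ψ'.app U (SecTwist.tmul G M U g m)) : ψ = ψ' := by
  apply Scheme.Modules.hom_ext
  intro U
  ext z
  choose V hV hxV e he g hg using fun x : U => exists_local_tmul (G := G) hM U z x.1 x.2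
  apply section_ext_of_cover H V hV
  · intro x hx
    exact Opens.mem_iSup.2 ⟨⟨x, hx⟩, hxV ⟨x, hx⟩⟩
  · intro x
    rw [← app_res, ← app_res, hg x, h]

theorem tensorMap_comp_id {G H K : X.Modules} (M : X.Modules) (f : G ⟶ H) (g : H ⟶ K) :
    KoszTw.tensorMap (f ≫ g) (𝟙 M) = KoszTw.tensorMap f (𝟙 M) ≫ KoszTw.tensorMap g (𝟙 M) := by
  rw [← KoszTw.tensorBi_map_app, ← KoszTw.tensorBi_map_app, ← KoszTw.tensorBi_map_app,
    Functor.map_comp]
  rfl

theorem tensorMap_zero_id {G H M : X.Modules} (hM : PicF.IsInvertible M) :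
    KoszTw.tensorMap (0 : G ⟶ H) (𝟙 M) = 0 := by
  apply hom_ext_tmul_of_isInvertible hM
  intro U g m
  rw [KoszTw.tensorMap_tmul]
  change SecTwist.tmul H M U 0 _ = 0
  exact tmul_zero_left H M U _

/-- tensoring a monomorphism with an invertible module gives a monomorphism. -/
theorem mono_tensorMap_of_isInvertible {G H : X.Modules} (i : G ⟶ H) [Mono i] (M : X.Modules)
    (hM : PicF.IsInvertible M) : Mono (KoszTw.tensorMap i (𝟙 M)) := by
  apply mono_of_injective_app
  intro U
  rw [injective_iff_map_eq_zero]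
  intro z hz
  choose V hV hxV e he g hg using fun x : U => exists_local_tmul (G := G) hM U z x.1 x.2
  apply section_ext_of_cover _ V hV
  · intro x hx
    exact Opens.mem_iSup.2 ⟨⟨x, hx⟩, hxV ⟨x, hx⟩⟩
  · intro x
    rw [map_zero, hg x]
    have h1 : (KoszTw.tensorMap i (𝟙 M)).app (V x) (SecTwist.tmul G M (V x) (g x) (e x)) = 0 := by
      rw [← hg x, app_res, hz, map_zero]
    rw [KoszTw.tensorMap_tmul] at h1
    have h2 : SecTwist.tmul H M (V x) (i.app (V x) (g x)) (e x) =
        SecTwist.tmul H M (V x) 0 (e x) :=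
      (show _ = (0 : Γ(CohB1.tensorMod H M, V x)) from h1).trans
        (tmul_zero_left H M (V x) (e x)).symm
    have hb := (bijective_tmul_of_isBasisOver H M (he x) (V x) le_rfl).1
    have h3 : i.app (V x) (g x) = 0 := by
      apply hb
      simp only
      rw [res_self]
      exact h2
    have h4 : g x = 0 := by
      apply mono_app i (V x)
      rw [h3, map_zero]
    rw [h4]
    exact tmul_zero_left G M (V x) (e x)

/-- tensoring an exact sequence with an invertible module gives an exact sequence. -/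
theorem exact_tensorMap_of_isInvertible {S : ShortComplex X.Modules} (hS : S.Exact)
    (M : X.Modules) (hM : PicF.IsInvertible M) :
    (ShortComplex.mk (KoszTw.tensorMap S.f (𝟙 M)) (KoszTw.tensorMap S.g (𝟙 M))
      (by rw [← tensorMap_comp_id, S.zero, tensorMap_zero_id hM])).Exact := by
  rw [ShortComplex.exact_iff_epi_kernel_lift]
  apply epi_of_local_lift
  intro U t x hx
  -- the section of `E ⊗ M` underlying `t`
  set z := (kernel.ι (KoszTw.tensorMap S.g (𝟙 M))).app U t with hz
  have hz0 : (KoszTw.tensorMap S.g (𝟙 M)).app U z = 0 := kernel_ι_app_comp _ U t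
  obtain ⟨V, hV, hxV, e, he, s, hs⟩ := exists_local_tmul (G := S.X₂) hM U z x hx
  -- `g s = 0`
  have h1 : (KoszTw.tensorMap S.g (𝟙 M)).app V (SecTwist.tmul S.X₂ M V s e) = 0 := by
    rw [← hs, app_res, hz0, map_zero]
  rw [KoszTw.tensorMap_tmul] at h1
  have hb := (bijective_tmul_of_isBasisOver S.X₃ M he V le_rfl).1
  have h3 : S.g.app V s = 0 := by
    apply hb
    simp only
    rw [res_self]
    exact (show _ = (0 : Γ(CohB1.tensorMod S.X₃ M, V)) from h1).trans
      (tmul_zero_left S.X₃ M V e).symm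
  -- lift `s` locally to `S.X₁`
  obtain ⟨t', ht'⟩ := exists_kernel_section S.g V s h3
  have hepi : Epi (kernel.lift S.g S.f S.zero) := hS.epi_kernelLift
  obtain ⟨W, hW, hxW, k, hk⟩ := exists_local_lift (kernel.lift S.g S.f S.zero) hepi V t' x hxV
  have hk' : S.f.app W k = S.X₂.presheaf.map (homOfLE hW).op s := by
    have h5 : (kernel.lift S.g S.f S.zero ≫ kernel.ι S.g).app W k = S.f.app W k := by
      rw [kernel.lift_ι]
    rw [← h5, Scheme.Modules.Hom.comp_app, ConcreteCategory.comp_apply, hk, app_res, ht']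
  refine ⟨W, hW.trans hV, hxW,
    SecTwist.tmul S.X₁ M W k (M.presheaf.map (homOfLE hW).op e), ?_⟩
  -- compare after the monomorphism `kernel.ι`
  apply mono_app (kernel.ι (KoszTw.tensorMap S.g (𝟙 M))) W
  have hL : (kernel.ι (KoszTw.tensorMap S.g (𝟙 M))).app W
      ((kernel.lift (KoszTw.tensorMap S.g (𝟙 M)) (KoszTw.tensorMap S.f (𝟙 M))
        (by rw [← tensorMap_comp_id, S.zero, tensorMap_zero_id hM])).app W
        (SecTwist.tmul S.X₁ M W k (M.presheaf.map (homOfLE hW).op e))) =
      SecTwist.tmul S.X₂ M W (S.f.app W k) (M.presheaf.map (homOfLE hW).op e) := by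
    rw [← ConcreteCategory.comp_apply, ← Scheme.Modules.Hom.comp_app, kernel.lift_ι,
      KoszTw.tensorMap_tmul]
    rfl
  have hR : (kernel.ι (KoszTw.tensorMap S.g (𝟙 M))).app W
      ((kernel (KoszTw.tensorMap S.g (𝟙 M))).presheaf.map (homOfLE (hW.trans hV)).op t) =
      SecTwist.tmul S.X₂ M W (S.X₂.presheaf.map (homOfLE hW).op s)
        (M.presheaf.map (homOfLE hW).op e) := by
    rw [app_res, ← tmul_res S.X₂ M hW s e, ← hs, res_res]
  exact hL.trans ((congrArg (fun a => SecTwist.tmul S.X₂ M W a _) hk').trans hR.symm)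

/-- **tensoring a short exact sequence with an invertible module gives a short exact
sequence.** -/
theorem shortExact_tensorMap_of_isInvertible {S : ShortComplex X.Modules} (hS : S.ShortExact)
    (M : X.Modules) (hM : PicF.IsInvertible M) :
    (ShortComplex.mk (KoszTw.tensorMap S.f (𝟙 M)) (KoszTw.tensorMap S.g (𝟙 M))
      (by rw [← tensorMap_comp_id, S.zero, tensorMap_zero_id hM])).ShortExact := by
  haveI := hS.mono_f
  exact { exact := exact_tensorMap_of_isInvertible hS.exact M hM
          mono_f := mono_tensorMap_of_isInvertible S.f M hM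
          epi_g := epi_tensorMap_of_isInvertible S.g hS.epi_g M hM }

theorem tensorMap_add_id {G H M : X.Modules} (hM : PicF.IsInvertible M) (f g : G ⟶ H) :
    KoszTw.tensorMap (f + g) (𝟙 M) = KoszTw.tensorMap f (𝟙 M) + KoszTw.tensorMap g (𝟙 M) := by
  apply hom_ext_tmul_of_isInvertible hM
  intro U a m
  rw [KoszTw.tensorMap_tmul]
  change _ = (KoszTw.tensorMap f (𝟙 M)).app U (SecTwist.tmul G M U a m) +
    (KoszTw.tensorMap g (𝟙 M)).app U (SecTwist.tmul G M U a m)
  rw [KoszTw.tensorMap_tmul, KoszTw.tensorMap_tmul]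
  change SecTwist.tmul H M U (f.app U a + g.app U a) _ = _
  exact tmul_add_left H M U _ _ _

theorem tensorMap_sum_id {G H M : X.Modules} (hM : PicF.IsInvertible M) {ι : Type*}
    (s : Finset ι) (f : ι → (G ⟶ H)) :
    KoszTw.tensorMap (∑ j ∈ s, f j) (𝟙 M) = ∑ j ∈ s, KoszTw.tensorMap (f j) (𝟙 M) := by
  classical
  induction s using Finset.induction_on with
  | empty => rw [Finset.sum_empty, Finset.sum_empty, tensorMap_zero_id hM]
  | insert a s ha ih => rw [Finset.sum_insert ha, Finset.sum_insert ha, tensorMap_add_id hM, ih]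

theorem tensorMap_id_id (G M : X.Modules) : KoszTw.tensorMap (𝟙 G) (𝟙 M) = 𝟙 _ :=
  KoszTw.tensorMap_id G M

/-- `H^i` of `(∐ N) ⊗ M` vanishes if `H^i(N ⊗ M)` does, `M` invertible. -/
theorem subsingleton_HH_sigma_tensor (N M : X.Modules) (hM : PicF.IsInvertible M) (k : ℕ) (i : ℕ)
    (h : Subsingleton (Coh.HH X (CohB1.tensorMod N M) i)) :
    Subsingleton (Coh.HH X (CohB1.tensorMod (∐ fun _ : Fin k => N) M) i) := by
  apply CL.subsingleton_of_total (fun _ : Fin k => CohB1.tensorMod N M)
    (fun j => KoszTw.tensorMap (Limits.Sigma.ι (fun _ : Fin k => N) j) (𝟙 M))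
    (fun j => KoszTw.tensorMap (SC.sigmaProj N k j) (𝟙 M)) ?_ i (fun _ => h)
  rw [← tensorMap_id_id, ← SC.sigmaProj_total N k, tensorMap_sum_id hM]
  apply Finset.sum_congr rfl
  intro j _
  rw [tensorMap_comp_id]

end Groth.Agent.LD.QC
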