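import Groth.Agent.Lib.Lead.QC.AmpleBase
universe u
open CategoryTheory Limits AlgebraicGeometry TopologicalSpace Opposite TensorProduct

namespace Groth.Agent.LD.QC
variable {X : Scheme.{u}}

/-- a section over a quasi-compact open vanishing on `X_s` is killed by all large powers of
`s`. -/
theorem exists_forall_twist_eq_zero (L : X.Modules) (hL : PicF.IsInvertible L)
    (s : unitMod X ⟶ L) (G : X.Modules) [G.IsQuasicoherent] {V : X.Opens}
    (hV : IsCompact (V : Set X)) (z : Γ(G, V))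
    (hz : G.presheaf.map (homOfLE (inf_le_left : V ⊓ CohB1.genLocus L s ≤ V)).op z = 0) :
    ∃ m₀ : ℕ, ∀ m : ℕ, m₀ ≤ m → SecTwist.twist s m G V z = 0 := by
  choose U e hU hxU hUV he using fun x : V => exists_affine_basis L hL x.1 V x.2
  choose f hf using fun x : V => (he x).exists_coord (SecTwist.val s (U x))
  have hD : ∀ x, CohB1.genLocus L s ⊓ U x = X.basicOpen (f x) := fun x =>
    genLocus_inf_eq_basicOpen s (he x) (f x) (hf x)
  have h0 : ∀ x, G.presheaf.map (homOfLE (X.basicOpen_le (f x))).op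
      (G.presheaf.map (homOfLE (hUV x)).op z) = 0 := by
    intro x
    have hle : X.basicOpen (f x) ≤ V ⊓ CohB1.genLocus L s := by
      rw [← hD x]; exact le_inf (inf_le_right.trans (hUV x)) inf_le_left
    rw [res_res, ← res_res G (inf_le_left : V ⊓ CohB1.genLocus L s ≤ V) hle, hz, map_zero]
  choose n hn using fun x => affine_inj G (hU x) (f x) _ (h0 x)
  obtain ⟨t0, ht0⟩ := hV.elim_finite_subcover (fun x : V => (U x : Set X))
    (fun x => (U x).2) (fun x hx => Set.mem_iUnion.mpr ⟨⟨x, hx⟩, hxU ⟨x, hx⟩⟩)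
  refine ⟨t0.sup n, fun m hm => ?_⟩
  apply section_eq_zero_of_cover (CohB1.tensorMod G (CohB1.tensorPow L m))
    (fun i : t0 => U i.1) (fun i => hUV i.1) ?_ (SecTwist.twist s m G V z)
  rotate_left
  · intro x hx
    obtain ⟨i, hi, hxi⟩ := Set.mem_iUnion₂.mp (ht0 hx)
    exact Opens.mem_iSup.mpr ⟨⟨i, hi⟩, hxi⟩
  · intro i
    rw [twist_res, twist_eq s _ G _ (e i.1) (f i.1) (hf i.1)]
    have hle : n i.1 ≤ m := (Finset.le_sup i.2).trans hm
    have : f i.1 ^ m • G.presheaf.map (homOfLE (hUV i.1)).op z = 0 := by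
      rw [← Nat.sub_add_cancel hle, pow_add, mul_smul, hn, smul_zero]
    rw [this]
    exact tmul_zero_left _ _ _ _

/-- gluing sections of a module. -/
theorem exists_glue_section (M : X.Modules) {ι : Type u} (V : ι → X.Opens) (U : X.Opens)
    (hV : ∀ i, V i ≤ U) (hcov : U ≤ ⨆ i, V i) (sf : ∀ i, Γ(M, V i))
    (compat : ∀ i j, M.presheaf.map (homOfLE (inf_le_left : V i ⊓ V j ≤ V i)).op (sf i) =
      M.presheaf.map (homOfLE (inf_le_right : V i ⊓ V j ≤ V j)).op (sf j)) :
    ∃ σ : Γ(M, U), ∀ i, M.presheaf.map (homOfLE (hV i)).op σ = sf i := by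
  obtain ⟨σ, hσ, -⟩ := TopCat.Sheaf.existsUnique_gluing' ⟨_, M.isSheaf⟩ V U
    (fun i => homOfLE (hV i)) hcov sf (fun i j => compat i j)
  exact ⟨σ, hσ⟩

lemma tmul_neg_left (M N : X.Modules) (U : X.Opens) (m : Γ(M, U)) (n : Γ(N, U)) :
    SecTwist.tmul M N U (-m) n = -SecTwist.tmul M N U m n := by
  have h := tmul_add_left M N U m (-m) n
  rw [add_neg_cancel] at h
  have h0 := tmul_zero_left M N U n
  have h2 : SecTwist.tmul M N U m n + SecTwist.tmul M N U (-m) n = 0 := h.symm.trans h0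
  exact (neg_eq_of_add_eq_zero_right h2).symm

lemma tmul_sub_left (M N : X.Modules) (U : X.Opens) (m m' : Γ(M, U)) (n : Γ(N, U)) :
    SecTwist.tmul M N U (m - m') n = SecTwist.tmul M N U m n - SecTwist.tmul M N U m' n := by
  rw [sub_eq_add_neg, tmul_add_left, tmul_neg_left, ← sub_eq_add_neg]

lemma twist_sub {L : X.Modules} (s : unitMod X ⟶ L) (n : ℕ) (F : X.Modules) (U : X.Opens)
    (t t' : Γ(F, U)) :
    SecTwist.twist s n F U (t - t') = SecTwist.twist s n F U t - SecTwist.twist s n F U t' :=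
  tmul_sub_left _ _ _ _ _ _

/-- on an open over which `s = f e` and where `b = f^n t`, the section `b ⊗ e^n` is `t ⊗ s^n`. -/
lemma tmul_secPow_eq_twist {L : X.Modules} (s : unitMod X ⟶ L) (n : ℕ) (F : X.Modules)
    {D : X.Opens} (e : Γ(L, D)) (f : Γ(X, D)) (hs : SecTwist.val s D = f • e)
    (t b : Γ(F, D)) (hb : b = f ^ n • t) :
    SecTwist.tmul F (CohB1.tensorPow L n) D b (secPow e n) = SecTwist.twist s n F D t := by
  rw [twist_eq s n F t e f hs, hb]

set_option maxHeartbeats 1600000 in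
/-- a section over `X_s`, multiplied by a power of `s`, extends to a global section
(`X` quasi-compact and quasi-separated). -/
theorem exists_extension_twist [CompactSpace X] [QuasiSeparatedSpace X] (L : X.Modules)
    (hL : PicF.IsInvertible L) (s : unitMod X ⟶ L) (F : X.Modules) [F.IsQuasicoherent]
    (t : Γ(F, CohB1.genLocus L s)) :
    ∃ n : ℕ, 0 < n ∧ ∃ t' : Γ(CohB1.tensorMod F (CohB1.tensorPow L n), ⊤),
      (CohB1.tensorMod F (CohB1.tensorPow L n)).presheaf.map
          (homOfLE (le_top : CohB1.genLocus L s ≤ ⊤)).op t' =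
        SecTwist.twist s n F (CohB1.genLocus L s) t := by
  haveI : L.IsQuasicoherent := qc_of_isInvertible L hL
  choose U e hU hxU _ he using fun x : X => exists_affine_basis L hL x ⊤ trivial
  choose f hf using fun x : X => (he x).exists_coord (SecTwist.val s (U x))
  have hD : ∀ x, CohB1.genLocus L s ⊓ U x = X.basicOpen (f x) := fun x =>
    genLocus_inf_eq_basicOpen s (he x) (f x) (hf x)
  have hDle : ∀ x, X.basicOpen (f x) ≤ CohB1.genLocus L s := fun x => by
    rw [← hD x]; exact inf_le_left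
  obtain ⟨t0, ht0⟩ := isCompact_univ.elim_finite_subcover (fun x : X => (U x : Set X))
    (fun x => (U x).2) (fun x _ => Set.mem_iUnion.mpr ⟨x, hxU x⟩)
  have hcov : ∀ x : X, ∃ i : t0, x ∈ U i.1 := by
    intro x
    obtain ⟨i, hi, hxi⟩ := Set.mem_iUnion₂.mp (ht0 (Set.mem_univ x))
    exact ⟨⟨i, hi⟩, hxi⟩
  -- the restrictions of `t`
  let tD : ∀ x, Γ(F, X.basicOpen (f x)) := fun x => F.presheaf.map (homOfLE (hDle x)).op t
  choose n0 a ha using fun x => affine_surj F (hU x) (f x) (tD x)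
  let n := t0.sup n0
  let b : ∀ x, Γ(F, U x) := fun x => f x ^ (n - n0 x) • a x
  have hb : ∀ i : t0, F.presheaf.map (homOfLE (X.basicOpen_le (f i.1))).op (b i.1) =
      (X.presheaf.map (homOfLE (X.basicOpen_le (f i.1))).op (f i.1)) ^ n • tD i.1 := by
    intro i
    have hle : n0 i.1 ≤ n := Finset.le_sup i.2
    change F.presheaf.map _ (f i.1 ^ (n - n0 i.1) • a i.1) = _
    rw [Scheme.Modules.map_smul, ha, map_pow, smul_smul, ← pow_add, Nat.sub_add_cancel hle]
  -- the local sections of `G = F ⊗ L^n`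
  let τ : ∀ x, Γ(CohB1.tensorMod F (CohB1.tensorPow L n), U x) := fun x =>
    SecTwist.tmul F (CohB1.tensorPow L n) (U x) (b x) (secPow (e x) n)
  have hsD : ∀ x, SecTwist.val s (X.basicOpen (f x)) =
      X.presheaf.map (homOfLE (X.basicOpen_le (f x))).op (f x) •
        L.presheaf.map (homOfLE (X.basicOpen_le (f x))).op (e x) := by
    intro x
    rw [← SecTwist.map_val s (homOfLE (X.basicOpen_le (f x))), hf x]
    exact Scheme.Modules.map_smul L _ _ _
  have hτ : ∀ i : t0, (CohB1.tensorMod F (CohB1.tensorPow L n)).presheaf.map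
      (homOfLE (X.basicOpen_le (f i.1))).op (τ i.1) =
      SecTwist.twist s n F (X.basicOpen (f i.1)) (tD i.1) := by
    intro i
    change (CohB1.tensorMod F (CohB1.tensorPow L n)).presheaf.map _
      (SecTwist.tmul F (CohB1.tensorPow L n) (U i.1) (b i.1) (secPow (e i.1) n)) = _
    rw [tmul_res, secPow_res]
    exact tmul_secPow_eq_twist s n F _ _ (hsD i.1) _ _ (hb i)
  -- vanishing of the differences on `X_s`
  have hz : ∀ i j : t0, (CohB1.tensorMod F (CohB1.tensorPow L n)).presheaf.map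
      (homOfLE (inf_le_left : (U i.1 ⊓ U j.1) ⊓ CohB1.genLocus L s ≤ U i.1 ⊓ U j.1)).op
      ((CohB1.tensorMod F (CohB1.tensorPow L n)).presheaf.map
        (homOfLE (inf_le_left : U i.1 ⊓ U j.1 ≤ U i.1)).op (τ i.1) -
      (CohB1.tensorMod F (CohB1.tensorPow L n)).presheaf.map
        (homOfLE (inf_le_right : U i.1 ⊓ U j.1 ≤ U j.1)).op (τ j.1)) = 0 := by
    intro i j
    have h1 : (U i.1 ⊓ U j.1) ⊓ CohB1.genLocus L s ≤ X.basicOpen (f i.1) := by
      rw [← hD i.1]; exact le_inf inf_le_right (inf_le_left.trans inf_le_left)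
    have h2 : (U i.1 ⊓ U j.1) ⊓ CohB1.genLocus L s ≤ X.basicOpen (f j.1) := by
      rw [← hD j.1]; exact le_inf inf_le_right (inf_le_left.trans inf_le_right)
    rw [map_sub, sub_eq_zero, res_res, res_res,
      ← res_res _ (X.basicOpen_le (f i.1)) h1, ← res_res _ (X.basicOpen_le (f j.1)) h2,
      hτ i, hτ j, twist_res, twist_res]
    congr 1
    change F.presheaf.map _ (F.presheaf.map _ t) = F.presheaf.map _ (F.presheaf.map _ t)
    rw [res_res, res_res]
  have hcomp : ∀ i j : t0, IsCompact ((U i.1 ⊓ U j.1 : X.Opens) : Set X) := fun i j =>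
    QuasiSeparatedSpace.inter_isCompact _ _ (U i.1).2 (hU i.1).isCompact (U j.1).2
      (hU j.1).isCompact
  choose m0 hm0 using fun p : t0 × t0 =>
    exists_forall_twist_eq_zero L hL s (CohB1.tensorMod F (CohB1.tensorPow L n))
      (hcomp p.1 p.2) _ (hz p.1 p.2)
  let m := (Finset.univ : Finset (t0 × t0)).sup m0 + 1
  have hm : ∀ i j : t0, m0 (i, j) ≤ m := fun i j =>
    (Finset.le_sup (Finset.mem_univ (i, j))).trans (Nat.le_succ _)
  -- glue
  let σ : ∀ i : t0, Γ(CohB1.tensorMod (CohB1.tensorMod F (CohB1.tensorPow L n))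
      (CohB1.tensorPow L m), U i.1) := fun i =>
    SecTwist.twist s m (CohB1.tensorMod F (CohB1.tensorPow L n)) (U i.1) (τ i.1)
  obtain ⟨σ', hσ'⟩ := exists_glue_section (CohB1.tensorMod (CohB1.tensorMod F (CohB1.tensorPow L n))
      (CohB1.tensorPow L m)) (fun i : t0 => U i.1) ⊤ (fun _ => le_top)
    (fun x _ => by
      obtain ⟨i, hi⟩ := hcov x
      exact Opens.mem_iSup.mpr ⟨i, hi⟩) σ (by
    intro i j
    change (CohB1.tensorMod (CohB1.tensorMod F (CohB1.tensorPow L n))
      (CohB1.tensorPow L m)).presheaf.map _ (SecTwist.twist s m _ (U i.1) (τ i.1)) =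
      (CohB1.tensorMod (CohB1.tensorMod F (CohB1.tensorPow L n))
      (CohB1.tensorPow L m)).presheaf.map _ (SecTwist.twist s m _ (U j.1) (τ j.1))
    rw [twist_res, twist_res, ← sub_eq_zero]
    exact (twist_sub s m _ _ _ _).symm.trans (hm0 (i, j) m (hm i j)))
  -- transfer along the associativity isomorphism
  let Φ : CohB1.tensorMod (CohB1.tensorMod F (CohB1.tensorPow L n)) (CohB1.tensorPow L m) ≅
      CohB1.tensorMod F (CohB1.tensorPow L (n + m)) :=
    tensorAssoc F (CohB1.tensorPow L n) (CohB1.tensorPow L m) ≪≫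
      tensorIso' (Iso.refl F) (powAddIso L n m)
  refine ⟨n + m, Nat.succ_pos _, Φ.hom.app ⊤ σ', ?_⟩
  apply section_ext_of_cover (CohB1.tensorMod F (CohB1.tensorPow L (n + m)))
    (fun i : t0 => X.basicOpen (f i.1)) (fun i => hDle i.1)
  · intro x hx
    obtain ⟨i, hi⟩ := hcov x
    have : x ∈ CohB1.genLocus L s ⊓ U i.1 := ⟨hx, hi⟩
    rw [hD i.1] at this
    exact Opens.mem_iSup.mpr ⟨i, this⟩
  · intro i
    rw [res_res, twist_res, ← app_res,
      ← res_res _ (le_top : U i.1 ≤ ⊤) (X.basicOpen_le (f i.1)), hσ' i]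
    change Φ.hom.app _ ((CohB1.tensorMod (CohB1.tensorMod F (CohB1.tensorPow L n))
      (CohB1.tensorPow L m)).presheaf.map _ (SecTwist.twist s m _ (U i.1) (τ i.1))) = _
    rw [twist_res, hτ i]
    change (KoszTw.tensorMap (𝟙 F) (powAddIso L n m).hom).app _
      ((tensorAssoc F (CohB1.tensorPow L n) (CohB1.tensorPow L m)).hom.app _
        (SecTwist.tmul _ _ _ (SecTwist.tmul F (CohB1.tensorPow L n) _ (tD i.1)
          (SecTwist.pow s n _)) (SecTwist.pow s m _))) = _
    rw [tensorAssoc_hom_app_tmul, KoszTw.tensorMap_tmul, pow_eq_secPow, pow_eq_secPow,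
      powAddIso_hom_secPow, ← pow_eq_secPow]
    rfl

end Groth.Agent.LD.QC
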