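import Groth.Agent.Lib.Lead.QC.Stalk
universe u
open CategoryTheory Limits AlgebraicGeometry TopologicalSpace Opposite TensorProduct

namespace Groth.Agent.LD.QC

section
variable {R : Type*} (S : Type*) [CommSemiring R] [CommSemiring S] [Algebra R S]
variable (M M' : Type*) [AddCommMonoid M] [Module R M] [Module S M] [IsScalarTower R S M]
  [AddCommMonoid M'] [Module R M'] [Module S M'] [IsScalarTower R S M']

/-- a localization (over a bigger ring `S`) of an `R`-flat module is `R`-flat. -/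
theorem flat_of_isLocalizedModule_of_flat (p : Submonoid S) (g : M →ₗ[S] M')
    [IsLocalizedModule p g] (H : Module.Flat R M) : Module.Flat R M' := by
  rw [Module.Flat.iff_lTensor_injectiveₛ] at H ⊢
  intro P _ _ N
  have := IsLocalizedModule.map_injective p (AlgebraTensorModule.rTensor R _ g)
    (AlgebraTensorModule.rTensor R _ g) (AlgebraTensorModule.lTensor S M N.subtype)
    (by simpa using H N)
  rw [IsLocalizedModule.map_lTensor] at this
  simpa using this

end

variable {X S : Scheme.{u}}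

/-- `M_x` as a module over `O_{S, f x}` via the stalk map (as in `FlatMod.moduleStalkOver`). -/
noncomputable abbrev stalkModuleOver (f : X ⟶ S) (M : X.Modules) (x : X) :
    Module (S.presheaf.stalk (f.base x)) (M.presheaf.stalk x) :=
  Module.compHom (M.presheaf.stalk x) (f.stalkMap x).hom

lemma stalkMap_germ_appLE (f : X ⟶ S) {U : X.Opens} {V : S.Opens} (hUV : U ≤ f ⁻¹ᵁ V) (x : X)
    (hx : x ∈ U) (a : Γ(S, V)) :
    f.stalkMap x (S.presheaf.germ V (f x) (hUV hx) a) =
      X.presheaf.germ U x hx (f.appLE V U hUV a) := by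
  rw [Scheme.Hom.germ_stalkMap_apply, Scheme.Hom.appLE]
  exact (sgerm_res x hUV hx (f.app V a)).symm

/-- `M_x` as a module over `Γ(S, V)`, through `Γ(S,V) → Γ(X,U) → O_{X,x}`. -/
noncomputable abbrev stalkΓModuleOver (f : X ⟶ S) (M : X.Modules) {U : X.Opens} {V : S.Opens}
    (hUV : U ≤ f ⁻¹ᵁ V) (x : X) (hx : x ∈ U) : Module Γ(S, V) (M.presheaf.stalk x) :=
  Module.compHom (M.presheaf.stalk x) ((X.presheaf.germ U x hx).hom.comp (f.appLE V U hUV).hom)

/-- Sections over `U` as a module over `Γ(S,V)`. -/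
noncomputable abbrev sectionsModuleOver (f : X ⟶ S) (M : X.Modules) {U : X.Opens} {V : S.Opens}
    (hUV : U ≤ f ⁻¹ᵁ V) : Module Γ(S, V) Γ(M, U) :=
  Module.compHom Γ(M, U) (f.appLE V U hUV).hom

theorem isFlatOverAt_of_flat_sections (f : X ⟶ S) (M : X.Modules) [M.IsQuasicoherent]
    {U : X.Opens} {V : S.Opens} (hU : IsAffineOpen U) (hV : IsAffineOpen V) (hUV : U ≤ f ⁻¹ᵁ V)
    (x : X) (hx : x ∈ U)
    (hflat : @Module.Flat Γ(S, V) Γ(M, U) _ _ (sectionsModuleOver f M hUV)) :
    @Module.Flat (S.presheaf.stalk (f.base x)) (M.presheaf.stalk x) _ _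
      (stalkModuleOver f M x) := by
  letI := stalkΓModule M x U hx
  letI := sectionsModuleOver f M hUV
  letI := stalkΓModuleOver f M hUV x hx
  letI := stalkModuleOver f M x
  letI : Algebra Γ(S, V) Γ(X, U) := (f.appLE V U hUV).hom.toAlgebra
  letI : Algebra Γ(S, V) (S.presheaf.stalk (f.base x)) :=
    TopCat.Presheaf.algebra_section_stalk S.presheaf ⟨f.base x, hUV hx⟩
  haveI : IsScalarTower Γ(S, V) Γ(X, U) Γ(M, U) := ⟨fun a b m => by
    change (f.appLE V U hUV a * b) • m = f.appLE V U hUV a • (b • m)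
    rw [mul_smul]⟩
  haveI : IsScalarTower Γ(S, V) Γ(X, U) (M.presheaf.stalk x) := ⟨fun a b m => by
    change X.presheaf.germ U x hx (f.appLE V U hUV a * b) • m =
      X.presheaf.germ U x hx (f.appLE V U hUV a) • (X.presheaf.germ U x hx b • m)
    rw [map_mul, mul_smul]⟩
  haveI : IsScalarTower Γ(S, V) (S.presheaf.stalk (f.base x)) (M.presheaf.stalk x) :=
    ⟨fun a b m => by
      change f.stalkMap x (S.presheaf.germ V (f x) (hUV hx) a * b) • m =
        X.presheaf.germ U x hx (f.appLE V U hUV a) • (f.stalkMap x b • m)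
      rw [map_mul, mul_smul, stalkMap_germ_appLE]⟩
  haveI := isLocalizedModule_germ M hU x hx
  have h1 : Module.Flat Γ(S, V) (M.presheaf.stalk x) :=
    flat_of_isLocalizedModule_of_flat Γ(X, U) Γ(M, U) (M.presheaf.stalk x)
      (hU.primeIdealOf ⟨x, hx⟩).asIdeal.primeCompl (germLinear M x U hx) hflat
  haveI := hV.isLocalization_stalk ⟨f.base x, hUV hx⟩
  exact (Module.flat_iff_of_isLocalization (S.presheaf.stalk (f.base x))
    (hV.primeIdealOf ⟨f.base x, hUV hx⟩).asIdeal.primeCompl (M.presheaf.stalk x)).mpr h1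

end Groth.Agent.LD.QC

namespace Groth.Agent.LD.QC
variable {X S : Scheme.{u}}

lemma primeIdealOf_fromSpec {U : X.Opens} (hU : IsAffineOpen U) (y : PrimeSpectrum Γ(X, U))
    (hy : hU.fromSpec y ∈ U) : hU.primeIdealOf ⟨hU.fromSpec y, hy⟩ = y := by
  apply hU.fromSpec.isOpenEmbedding.injective
  exact hU.fromSpec_primeIdealOf ⟨hU.fromSpec y, hy⟩

lemma fromSpec_mem {U : X.Opens} (hU : IsAffineOpen U) (y : PrimeSpectrum Γ(X, U)) :
    hU.fromSpec y ∈ U := by
  have : hU.fromSpec y ∈ hU.fromSpec.opensRange := ⟨y, rfl⟩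
  rwa [hU.opensRange_fromSpec] at this

theorem flat_sections_of_isFlatOverAt (f : X ⟶ S) (M : X.Modules) [M.IsQuasicoherent]
    {U : X.Opens} {V : S.Opens} (hU : IsAffineOpen U) (hV : IsAffineOpen V) (hUV : U ≤ f ⁻¹ᵁ V)
    (H : ∀ x ∈ U, @Module.Flat (S.presheaf.stalk (f.base x)) (M.presheaf.stalk x) _ _
      (stalkModuleOver f M x)) :
    @Module.Flat Γ(S, V) Γ(M, U) _ _ (sectionsModuleOver f M hUV) := by
  letI := sectionsModuleOver f M hUV
  letI : Algebra Γ(S, V) Γ(X, U) := (f.appLE V U hUV).hom.toAlgebra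
  haveI : IsScalarTower Γ(S, V) Γ(X, U) Γ(M, U) := ⟨fun a b m => by
    change (f.appLE V U hUV a * b) • m = f.appLE V U hUV a • (b • m)
    rw [mul_smul]⟩
  let pt : ∀ (P : Ideal Γ(X, U)) [P.IsMaximal], X := fun P _ => hU.fromSpec ⟨P, inferInstance⟩
  have hpt : ∀ (P : Ideal Γ(X, U)) [P.IsMaximal], pt P ∈ U := fun P _ => fromSpec_mem hU _
  let i1 : ∀ (P : Ideal Γ(X, U)) [P.IsMaximal], Module Γ(S, V) (M.presheaf.stalk (pt P)) :=
    fun P _ => stalkΓModuleOver f M hUV (pt P) (hpt P)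
  let i2 : ∀ (P : Ideal Γ(X, U)) [P.IsMaximal], Module Γ(X, U) (M.presheaf.stalk (pt P)) :=
    fun P _ => stalkΓModule M (pt P) U (hpt P)
  have i3 : ∀ (P : Ideal Γ(X, U)) [P.IsMaximal],
      IsScalarTower Γ(S, V) Γ(X, U) (M.presheaf.stalk (pt P)) := fun P _ => ⟨fun a b m => by
    change X.presheaf.germ U (pt P) (hpt P) (f.appLE V U hUV a * b) • m =
      X.presheaf.germ U (pt P) (hpt P) (f.appLE V U hUV a) •
        (X.presheaf.germ U (pt P) (hpt P) b • m)
    rw [map_mul, mul_smul]⟩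
  have i4 : ∀ (P : Ideal Γ(X, U)) [P.IsMaximal],
      IsLocalizedModule.AtPrime P (germLinear M (pt P) U (hpt P)) := fun P _ => by
    have := isLocalizedModule_germ M hU (pt P) (hpt P)
    rwa [primeIdealOf_fromSpec hU ⟨P, inferInstance⟩ (hpt P)] at this
  refine @Module.flat_of_isLocalized_maximal Γ(S, V) Γ(X, U) _ _ _ Γ(M, U) _ _ _ _
    (fun P _ => M.presheaf.stalk (pt P)) (fun P _ => inferInstance) i1 i2 i3
    (fun P _ => germLinear M (pt P) U (hpt P)) i4 ?_
  intro P _
  -- flat over O_{S, f x}, which is flat over Γ(S,V)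
  letI := stalkModuleOver f M (pt P)
  letI : Algebra Γ(S, V) (S.presheaf.stalk (f.base (pt P))) :=
    TopCat.Presheaf.algebra_section_stalk S.presheaf ⟨f.base (pt P), hUV (hpt P)⟩
  haveI : IsScalarTower Γ(S, V) (S.presheaf.stalk (f.base (pt P))) (M.presheaf.stalk (pt P)) :=
    ⟨fun a b m => by
      change f.stalkMap (pt P) (S.presheaf.germ V (f (pt P)) (hUV (hpt P)) a * b) • m =
        X.presheaf.germ U (pt P) (hpt P) (f.appLE V U hUV a) • (f.stalkMap (pt P) b • m)
      rw [map_mul, mul_smul, stalkMap_germ_appLE]⟩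
  haveI := hV.isLocalization_stalk ⟨f.base (pt P), hUV (hpt P)⟩
  haveI : Module.Flat Γ(S, V) (S.presheaf.stalk (f.base (pt P))) :=
    IsLocalization.flat _ (hV.primeIdealOf ⟨f.base (pt P), hUV (hpt P)⟩).asIdeal.primeCompl
  haveI := H (pt P) (hpt P)
  exact Module.Flat.trans Γ(S, V) (S.presheaf.stalk (f.base (pt P))) (M.presheaf.stalk (pt P))

end Groth.Agent.LD.QC
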