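import Groth.Agent.Lib.Lead.QC.LocFree
import Groth.Agent.Lib.Lead.QC.Flat
universe u
open CategoryTheory Limits AlgebraicGeometry TopologicalSpace Opposite TensorProduct

namespace Groth.Agent.LD.QC
variable {X : Scheme.{u}}

/-- local freeness may be tested on arbitrary open immersions. -/
theorem isFinLocFree_of_openImmersion (M : X.Modules)
    (h : ∀ x : X, ∃ (Y : Scheme.{u}) (j : Y ⟶ X) (_ : IsOpenImmersion j) (n : ℕ),
      x ∈ Set.range j ∧ Nonempty (M.restrict j ≅ freeMod Y n)) : FlatMod.IsFinLocFree M := by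
  intro x
  obtain ⟨Y, j, hj, n, hx, ⟨e⟩⟩ := h x
  refine ⟨j.opensRange, n, hx, ?_⟩
  exact freeMod_of_range_subset M j j.opensRange.ι (by rw [Scheme.Opens.range_ι]; rfl) n e

/-- finite local freeness is invariant under isomorphism. -/
theorem isFinLocFree_of_iso {M N : X.Modules} (e : M ≅ N) (h : FlatMod.IsFinLocFree M) :
    FlatMod.IsFinLocFree N := by
  intro x
  obtain ⟨W, n, hxW, ⟨e'⟩⟩ := h x
  exact ⟨W, n, hxW, ⟨(Scheme.Modules.restrictFunctor W.ι).mapIso e.symm ≪≫ e'⟩⟩

/-- finite local freeness of a restriction to an open subscheme. -/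
theorem isFinLocFree_restrict_iff (M : X.Modules) {Y : Scheme.{u}} (j : Y ⟶ X)
    [IsOpenImmersion j] :
    FlatMod.IsFinLocFree (M.restrict j) ↔
      ∀ y : Y, ∃ (V : X.Opens) (n : ℕ), j y ∈ V ∧ Nonempty (M.restrict V.ι ≅ freeMod V n) := by
  constructor
  · intro h y
    obtain ⟨W, n, hyW, ⟨e⟩⟩ := h y
    let e2 : M.restrict (W.ι ≫ j) ≅ freeMod W n :=
      (Scheme.Modules.restrictFunctorComp W.ι j).app M ≪≫ e
    refine ⟨j ''ᵁ W, n, ⟨y, hyW, rfl⟩, ?_⟩
    refine freeMod_of_range_subset M (W.ι ≫ j) (j ''ᵁ W).ι ?_ n e2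
    rw [Scheme.Opens.range_ι]
    rintro _ ⟨w, hw, rfl⟩
    exact ⟨⟨w, hw⟩, rfl⟩
  · intro h y
    obtain ⟨V, n, hyV, ⟨e⟩⟩ := h y
    refine ⟨j ⁻¹ᵁ V, n, hyV, ?_⟩
    have hr : Set.range ((j ⁻¹ᵁ V).ι ≫ j) ⊆ Set.range V.ι := by
      rw [Scheme.Opens.range_ι]
      rintro _ ⟨w, rfl⟩
      exact w.2
    obtain ⟨e2⟩ := freeMod_of_range_subset M V.ι ((j ⁻¹ᵁ V).ι ≫ j) hr n e
    exact ⟨((Scheme.Modules.restrictFunctorComp (j ⁻¹ᵁ V).ι j).app M).symm ≪≫ e2⟩

/-- finite local freeness of the pullback to an open subscheme. -/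
theorem isFinLocFree_pullback_ι_iff (M : X.Modules) (U : X.Opens) :
    FlatMod.IsFinLocFree ((Scheme.Modules.pullback U.ι).obj M) ↔
      ∀ x ∈ U, ∃ (V : X.Opens) (n : ℕ), x ∈ V ∧ Nonempty (M.restrict V.ι ≅ freeMod V n) := by
  have e : M.restrict U.ι ≅ (Scheme.Modules.pullback U.ι).obj M :=
    (Scheme.Modules.restrictFunctorIsoPullback U.ι).app M
  constructor
  · intro h x hx
    exact (isFinLocFree_restrict_iff M U.ι).mp (isFinLocFree_of_iso e.symm h) ⟨x, hx⟩
  · intro h
    refine isFinLocFree_of_iso e ((isFinLocFree_restrict_iff M U.ι).mpr fun y => h _ y.2)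

/-- a quasi-coherent module free on a neighbourhood of `x` has free stalk at `x`. -/
theorem free_stalk_of_restrict_iso_freeMod (F : X.Modules) [F.IsQuasicoherent] (V : X.Opens)
    (n : ℕ) (e : F.restrict V.ι ≅ freeMod V n) (x : X) (hx : x ∈ V) :
    Module.Free (X.presheaf.stalk x) (F.presheaf.stalk x) := by
  obtain ⟨U, hU, hxU, hUV⟩ := exists_isAffineOpen_mem_and_subset (x := x) (U := V) hx
  have hr : Set.range hU.fromSpec ⊆ Set.range V.ι := by
    rw [hU.range_fromSpec, Scheme.Opens.range_ι]; exact hUV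
  have h1 := freeMod_of_range_subset F V.ι hU.fromSpec hr n e
  obtain ⟨ℓ⟩ := (restrict_fromSpec_iso_freeMod_iff F hU n).mp h1
  exact free_stalk_of_free_sections F hU x hxU (Module.Free.of_equiv ℓ.symm)

/-- a finitely presented module with flat stalk at `x` is free on a neighbourhood of `x`. -/
theorem exists_restrict_iso_freeMod_of_flat_stalk (F : X.Modules) (hfp : F.IsFinitePresentation)
    (x : X) (hflat : Module.Flat (X.presheaf.stalk x) (F.presheaf.stalk x)) :
    ∃ (V : X.Opens) (n : ℕ), x ∈ V ∧ Nonempty (F.restrict V.ι ≅ freeMod V n) := by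
  haveI : F.IsQuasicoherent := inferInstance
  have hft : F.IsFiniteType := inferInstance
  have hfree := free_stalk_of_flat_stalk F hft x hflat
  obtain ⟨U, hU, hxU, -⟩ := exists_isAffineOpen_mem_and_subset (x := x) (U := ⊤) trivial
  have hfpU := finitePresentation_sections_of_isFinitePresentation F hfp hU
  obtain ⟨r, hxr, hfr⟩ := exists_free_basicOpen F hU hfpU x hxU hfree
  haveI := hfr
  haveI : Module.FinitePresentation Γ(X, X.basicOpen r) Γ(F, X.basicOpen r) :=
    finitePresentation_sections_of_isFinitePresentation F hfp (hU.basicOpen r)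
  obtain ⟨n, hn⟩ := exists_equiv_fin_fun_of_free_of_finite Γ(X, X.basicOpen r) Γ(F, X.basicOpen r)
  obtain ⟨e⟩ := (restrict_fromSpec_iso_freeMod_iff F (hU.basicOpen r) n).mpr hn
  exact ⟨X.basicOpen r, n, hxr, freeMod_of_range_subset F (hU.basicOpen r).fromSpec
    (X.basicOpen r).ι (range_ι_subset_range_fromSpec (hU.basicOpen r)) n e⟩

end Groth.Agent.LD.QC

namespace Groth.Agent.LD.QC
variable {X : Scheme.{u}}

/-- sections of a quasi-coherent module with flat stalks over an affine open are flat. -/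
theorem flat_sections_of_flat_stalks (F : X.Modules) [F.IsQuasicoherent] {U : X.Opens}
    (hU : IsAffineOpen U)
    (H : ∀ x ∈ U, Module.Flat (X.presheaf.stalk x) (F.presheaf.stalk x)) :
    Module.Flat Γ(X, U) Γ(F, U) := by
  let pt : ∀ (P : Ideal Γ(X, U)) [P.IsMaximal], X := fun P _ => hU.fromSpec ⟨P, inferInstance⟩
  have hpt : ∀ (P : Ideal Γ(X, U)) [P.IsMaximal], pt P ∈ U := fun P _ => fromSpec_mem hU _
  let i2 : ∀ (P : Ideal Γ(X, U)) [P.IsMaximal], Module Γ(X, U) (F.presheaf.stalk (pt P)) :=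
    fun P _ => stalkΓModule F (pt P) U (hpt P)
  have i4 : ∀ (P : Ideal Γ(X, U)) [P.IsMaximal],
      IsLocalizedModule.AtPrime P (germLinear F (pt P) U (hpt P)) := fun P _ => by
    have := isLocalizedModule_germ F hU (pt P) (hpt P)
    rwa [primeIdealOf_fromSpec hU ⟨P, inferInstance⟩ (hpt P)] at this
  refine @Module.flat_of_isLocalized_maximal Γ(X, U) Γ(X, U) _ _ _ Γ(F, U) _ _ _ _
    (fun P _ => F.presheaf.stalk (pt P)) (fun P _ => inferInstance) i2 i2
    (fun P _ => ⟨fun a b m => by rw [smul_eq_mul, mul_smul]⟩)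
    (fun P _ => germLinear F (pt P) U (hpt P)) i4 ?_
  intro P _
  letI := i2 P
  letI : Algebra Γ(X, U) (X.presheaf.stalk (pt P)) :=
    TopCat.Presheaf.algebra_section_stalk X.presheaf ⟨pt P, hpt P⟩
  haveI := hU.isLocalization_stalk ⟨pt P, hpt P⟩
  haveI : IsScalarTower Γ(X, U) (X.presheaf.stalk (pt P)) (F.presheaf.stalk (pt P)) :=
    IsScalarTower.of_algebraMap_smul fun r m => rfl
  haveI : Module.Flat Γ(X, U) (X.presheaf.stalk (pt P)) :=
    IsLocalization.flat _ (hU.primeIdealOf ⟨pt P, hpt P⟩).asIdeal.primeCompl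
  haveI := H (pt P) (hpt P)
  exact Module.Flat.trans Γ(X, U) (X.presheaf.stalk (pt P)) (F.presheaf.stalk (pt P))

/-- flatness of a quasi-coherent module in terms of sections over affine opens. -/
theorem isFlat_iff_flat_sections (F : X.Modules) [F.IsQuasicoherent] :
    FlatMod.IsFlat F ↔ ∀ U : X.Opens, IsAffineOpen U → Module.Flat Γ(X, U) Γ(F, U) := by
  constructor
  · intro h U hU
    exact flat_sections_of_flat_stalks F hU fun x _ => h x
  · intro h x
    obtain ⟨U, hU, hxU, -⟩ := exists_isAffineOpen_mem_and_subset (x := x) (U := ⊤) trivial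
    exact flat_stalk_of_flat_sections F hU x hxU (h U hU)

/-- the free module is finite locally free. -/
theorem isFinLocFree_freeMod (X : Scheme.{u}) (n : ℕ) : FlatMod.IsFinLocFree (freeMod X n) :=
  fun _ => ⟨⊤, n, trivial, ⟨restrictFreeModIso (⊤ : X.Opens).ι n⟩⟩

/-- sections of the free module over an affine open. -/
theorem freeMod_sections_equiv {U : X.Opens} (hU : IsAffineOpen U) (n : ℕ) :
    Nonempty (Γ(freeMod X n, U) ≃ₗ[Γ(X, U)] (Fin n → Γ(X, U))) :=
  (restrict_fromSpec_iso_freeMod_iff (freeMod X n) hU n).mp ⟨restrictFreeModIso hU.fromSpec n⟩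

/-- a quasi-coherent module whose sections over small affine opens are finite projective is
finite locally free. -/
theorem isFinLocFree_of_projective_sections (F : X.Modules) [F.IsQuasicoherent]
    (h : ∀ x : X, ∃ U : X.Opens, IsAffineOpen U ∧ x ∈ U ∧ Module.Finite Γ(X, U) Γ(F, U) ∧
      Module.Projective Γ(X, U) Γ(F, U)) : FlatMod.IsFinLocFree F := by
  have hfp : F.IsFinitePresentation := by
    apply isFinitePresentation_of_sections
    intro x
    obtain ⟨U, hU, hxU, hfin, hproj⟩ := h x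
    exact ⟨U, hU, hxU, Module.finitePresentation_of_projective _ _⟩
  have hft : F.IsFiniteType := inferInstance
  refine isFinLocFree_of_free_stalks F hfp fun x => ?_
  obtain ⟨U, hU, hxU, hfin, hproj⟩ := h x
  exact free_stalk_of_flat_stalk F hft x
    (flat_stalk_of_flat_sections F hU x hxU inferInstance)

/-- a retract of a finite locally free module is finite locally free. -/
theorem isFinLocFree_of_retract {M P : X.Modules} (i : M ⟶ P) (p : P ⟶ M) (hip : i ≫ p = 𝟙 M)
    (hP : FlatMod.IsFinLocFree P) : FlatMod.IsFinLocFree M := by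
  haveI := qc_of_isFinLocFree P hP
  haveI := qc_of_retract i p hip
  apply isFinLocFree_of_projective_sections
  intro x
  obtain ⟨U, n, hU, hxU, ⟨ℓ⟩⟩ := (isFinLocFree_iff P).mp hP x
  have hpi : ∀ t : Γ(M, U), p.app U (i.app U t) = t := fun t => by
    have : (i ≫ p).app U t = t := by rw [hip]; rfl
    exact this
  haveI : Module.Free Γ(X, U) Γ(P, U) := Module.Free.of_equiv ℓ.symm
  haveI : Module.Finite Γ(X, U) Γ(P, U) := Module.Finite.equiv ℓ.symm
  refine ⟨U, hU, hxU, ?_, ?_⟩
  · exact Module.Finite.of_surjective (appLinear p U) fun t => ⟨i.app U t, hpi t⟩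
  · exact Module.Projective.of_split (appLinear i U) (appLinear p U)
      (LinearMap.ext fun t => hpi t)

/-- the pullback of a finite locally free module is finite locally free. -/
theorem isFinLocFree_pullback {X' : Scheme.{u}} (f : X' ⟶ X) (M : X.Modules)
    (h : FlatMod.IsFinLocFree M) : FlatMod.IsFinLocFree ((Scheme.Modules.pullback f).obj M) := by
  intro x'
  obtain ⟨U, n, hx, ⟨e⟩⟩ := h (f x')
  refine ⟨f ⁻¹ᵁ U, n, hx, ⟨?_⟩⟩
  exact (pullbackRestrictIso f (f ⁻¹ᵁ U).ι U.ι (f ∣_ U) (morphismRestrict_ι f U).symm).app M ≪≫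
    (Scheme.Modules.pullback (f ∣_ U)).mapIso e ≪≫ pullbackFreeModIso (f ∣_ U) n

/-- **fpqc descent of finite local freeness** for quasi-coherent modules. -/
theorem isFinLocFree_of_pullback_fpqc {X' : Scheme.{u}} (g : X' ⟶ X) [QuasiCompact g] [Flat g]
    [Surjective g] (F : X.Modules) [F.IsQuasicoherent]
    (h : FlatMod.IsFinLocFree ((Scheme.Modules.pullback g).obj F)) : FlatMod.IsFinLocFree F := by
  have hfp' := isFinitePresentation_of_isFinLocFree _ h
  have hfp : F.IsFinitePresentation := isFinitePresentation_of_pullback_fpqc g F hfp'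
  have hft : F.IsFiniteType := inferInstance
  refine isFinLocFree_of_free_stalks F hfp fun x => ?_
  obtain ⟨V, hV, hxV, -⟩ := exists_isAffineOpen_mem_and_subset (x := x) (U := ⊤) trivial
  obtain ⟨Z, hZ, g', hg', e, hff⟩ := exists_affine_faithfullyFlat_cover g hV
  haveI := qc_pullback (g' ≫ g) F
  have h1 := isFinLocFree_pullback g' _ h
  have h2 : FlatMod.IsFinLocFree ((Scheme.Modules.pullback (g' ≫ g)).obj F) :=
    isFinLocFree_of_iso ((Scheme.Modules.pullbackComp g' g).app F) h1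
  have h3 : Module.Flat Γ(Z, ⊤) Γ((Scheme.Modules.pullback (g' ≫ g)).obj F, ⊤) :=
    flat_sections_of_flat_stalks _ (isAffineOpen_top Z) fun z _ =>
      @Module.Flat.of_free _ _ _ _ _ (free_stalk_of_isFinLocFree _ h2 z)
  letI := ((g' ≫ g).appLE V ⊤ e).hom.toAlgebra
  obtain ⟨eq⟩ := exists_pullback_sections_equiv (g' ≫ g) (isAffineOpen_top Z) hV e F
  haveI : Module.Flat Γ(Z, ⊤) (Γ(Z, ⊤) ⊗[Γ(X, V)] Γ(F, V)) := Module.Flat.of_linearEquiv eq.symm
  haveI : Module.FaithfullyFlat Γ(X, V) Γ(Z, ⊤) := hff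
  have h4 : Module.Flat Γ(X, V) Γ(F, V) := Module.Flat.of_flat_tensorProduct _ _ Γ(Z, ⊤)
  exact free_stalk_of_flat_stalk F hft x (flat_stalk_of_flat_sections F hV x hxV h4)

end Groth.Agent.LD.QC
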