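import Groth.Agent.Lib.Lead.QC.Gen
universe u
open CategoryTheory Limits AlgebraicGeometry TopologicalSpace Opposite

namespace Groth.Agent.LD.QC

section Spec
variable {R : CommRingCat.{u}}

/-- global sections of the free sheaf on `Spec R`. -/
noncomputable def specΓFreeIso (I : Type u) :
    ModuleCat.of R (I →₀ R) ≅ moduleSpecΓFunctor.obj (SheafOfModules.free (R := (Spec R).ringCatSheaf) I) :=
  tilde.toTildeΓNatIso.app _ ≪≫ moduleSpecΓFunctor.mapIso (tildeFinsupp I)

theorem spec_finite_of_generatingSections (N : (Spec R).Modules) (hN : N.IsQuasicoherent)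
    (σ : N.GeneratingSections) [Finite σ.I] :
    Module.Finite R (moduleSpecΓFunctor.obj N) := by
  have h0 : @Epi (Spec R).Modules _ _ _ σ.π := σ.epi
  have h1 : Epi (moduleSpecΓFunctor.map σ.π) := spec_epi_Γ inferInstance hN σ.π
  have h2 : Epi ((specΓFreeIso σ.I).hom ≫ moduleSpecΓFunctor.map σ.π) := epi_comp _ _
  exact Module.Finite.of_surjective ((specΓFreeIso σ.I).hom ≫ moduleSpecΓFunctor.map σ.π).hom
    ((ModuleCat.epi_iff_surjective _).mp h2)

end Spec

end Groth.Agent.LD.QC

namespace Groth.Agent.LD.QC
section Spec2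
variable {R : CommRingCat.{u}}

/-- generating sections from an epimorphism out of a free sheaf -/
noncomputable def genOfEpi {X : Scheme.{u}} {M : X.Modules} {I : Type u}
    (π : SheafOfModules.free (R := X.ringCatSheaf) I ⟶ M) (h : @Epi X.Modules _ _ _ π) :
    M.GeneratingSections where
  I := I
  s := M.freeHomEquiv π
  epi := by
    rw [Equiv.symm_apply_apply]
    exact h

theorem spec_exists_generatingSections_of_finite (M : ModuleCat.{u} R) [Module.Finite R M] :
    ∃ σ : (tilde M).GeneratingSections, Finite σ.I := by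
  obtain ⟨n, s, hs⟩ := Module.Finite.exists_fin (R := R) (M := M)
  let I : Type u := ULift.{u} (Fin n)
  let g : (I →₀ R) →ₗ[R] M := Finsupp.linearCombination R (fun i : I => s i.down)
  have hg : Function.Surjective g := by
    rw [← LinearMap.range_eq_top, Finsupp.range_linearCombination, eq_top_iff, ← hs]
    apply Submodule.span_mono
    rintro _ ⟨i, rfl⟩
    exact ⟨⟨i⟩, rfl⟩
  have h1 : Epi (ModuleCat.ofHom g) := (ModuleCat.epi_iff_surjective _).mpr hg
  have h2 : @Epi (Spec R).Modules _ _ _ ((tilde.functor R).map (ModuleCat.ofHom g)) :=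
    (tilde.functor R).map_epi _
  let π : SheafOfModules.free (R := (Spec R).ringCatSheaf) I ⟶ tilde M :=
    (tildeFinsupp I).inv ≫ (tilde.functor R).map (ModuleCat.ofHom g)
  have h3 : @Epi (Spec R).Modules _ _ _ π :=
    @epi_comp (Spec R).Modules _ _ _ _ (tildeFinsupp I).inv inferInstance
      ((tilde.functor R).map (ModuleCat.ofHom g)) h2
  exact ⟨genOfEpi π h3, inferInstanceAs (Finite (ULift.{u} (Fin n)))⟩

end Spec2
end Groth.Agent.LD.QC

namespace Groth.Agent.LD.QC
section Transport
variable {X Y Z : Scheme.{u}}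

noncomputable instance restrictFunctor_preservesColimits (f : X ⟶ Y) [IsOpenImmersion f] :
    PreservesColimitsOfSize.{u, u} (Scheme.Modules.restrictFunctor f) := inferInstance

/-- restriction along `k` factors through restriction along `j` when `range k ⊆ range j`. -/
noncomputable def restrictLiftIso (M : X.Modules) (j : Y ⟶ X) [IsOpenImmersion j]
    (k : Z ⟶ X) [IsOpenImmersion k] (h : Set.range k ⊆ Set.range j) :
    (M.restrict j).restrict (IsOpenImmersion.lift j k h) ≅ M.restrict k :=
  ((Scheme.Modules.restrictFunctorComp _ _).symm.app M) ≪≫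
    (Scheme.Modules.restrictFunctorCongr (IsOpenImmersion.lift_fac j k h)).app M

set_option backward.isDefEq.respectTransparency false in
noncomputable def genOfLE (M : X.Modules) (j : Y ⟶ X) [IsOpenImmersion j]
    (k : Z ⟶ X) [IsOpenImmersion k] (h : Set.range k ⊆ Set.range j)
    (σ : (M.restrict j).GeneratingSections) : (M.restrict k).GeneratingSections :=
  have : PreservesColimitsOfSize.{u, u}
    (Scheme.Modules.restrictFunctor (IsOpenImmersion.lift j k h)) := inferInstance
  (σ.map (Scheme.Modules.restrictFunctor (IsOpenImmersion.lift j k h))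
    (Scheme.Modules.restrictUnitIso _).symm).ofEpi (restrictLiftIso M j k h).hom

lemma genOfLE_I (M : X.Modules) (j : Y ⟶ X) [IsOpenImmersion j]
    (k : Z ⟶ X) [IsOpenImmersion k] (h : Set.range k ⊆ Set.range j)
    (σ : (M.restrict j).GeneratingSections) : (genOfLE M j k h σ).I = σ.I := rfl

noncomputable def presOfLE (M : X.Modules) (j : Y ⟶ X) [IsOpenImmersion j]
    (k : Z ⟶ X) [IsOpenImmersion k] (h : Set.range k ⊆ Set.range j)
    (P : (M.restrict j).Presentation) : (M.restrict k).Presentation :=
  SheafOfModules.Presentation.ofIsIso.{u, u, u} (restrictLiftIso M j k h).hom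
    (Scheme.Modules.presentationRestrict (IsOpenImmersion.lift j k h) P)

lemma presOfLE_isFinite (M : X.Modules) (j : Y ⟶ X) [IsOpenImmersion j]
    (k : Z ⟶ X) [IsOpenImmersion k] (h : Set.range k ⊆ Set.range j)
    (P : (M.restrict j).Presentation) [hP : P.IsFinite] : (presOfLE M j k h P).IsFinite where
  isFiniteType_generators := ⟨hP.isFiniteType_generators.finite⟩
  isFiniteType_relations := ⟨hP.isFiniteType_relations.finite⟩

end Transport
end Groth.Agent.LD.QC

namespace Groth.Agent.LD.QC
section AffineΓ
variable {X : Scheme.{u}}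

lemma sres_self {U : X.Opens} (h : U ≤ U) (s : Γ(X, U)) :
    X.presheaf.map (homOfLE h).op s = s := by
  have : (homOfLE h).op = 𝟙 (op U) := rfl
  rw [this, X.presheaf.map_id]
  rfl

/-- For an affine open `U`, the global sections of `M.restrict hU.fromSpec`
(as a `Γ(X, U)`-module) are `Γ(M, U)`. -/
noncomputable def affineΓEquiv (M : X.Modules) {U : X.Opens} (hU : IsAffineOpen U) :
    Γ(M.restrict hU.fromSpec, ⊤) ≃ₗ[Γ(X, U)] Γ(M, U) where
  toFun x := M.presheaf.map (homOfLE (fromSpec_image_top hU).ge).op x
  invFun y := M.presheaf.map (homOfLE (fromSpec_image_top hU).le).op y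
  map_add' x y := map_add _ x y
  map_smul' r x := by
    dsimp only [RingHom.id_apply]
    rw [fromSpec_smul]
    erw [Scheme.Modules.map_smul]
    rw [sres_res, sres_self]
  left_inv x := by
    dsimp only
    rw [res_res, res_self]
  right_inv y := by
    dsimp only
    rw [res_res, res_self]

end AffineΓ
end Groth.Agent.LD.QC

namespace Groth.Agent.LD.QC
section FiniteAffine
variable {X : Scheme.{u}}

lemma range_fromSpec_subset_range_ι {U : X.Opens} (hU : IsAffineOpen U) :
    Set.range hU.fromSpec ⊆ Set.range U.ι := by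
  rw [hU.range_fromSpec, Scheme.Opens.range_ι]

lemma range_ι_subset_range_fromSpec {U : X.Opens} (hU : IsAffineOpen U) :
    Set.range U.ι ⊆ Set.range hU.fromSpec := by
  rw [hU.range_fromSpec, Scheme.Opens.range_ι]

theorem finite_of_generatingSections_affine (M : X.Modules) (hM : M.IsQuasicoherent)
    {U : X.Opens} (hU : IsAffineOpen U) (σ : (M.restrict U.ι).GeneratingSections)
    [hσ : Finite σ.I] : Module.Finite Γ(X, U) Γ(M, U) := by
  let τ := genOfLE M U.ι hU.fromSpec (range_fromSpec_subset_range_ι hU) σ
  have : Finite τ.I := hσ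
  have h := spec_finite_of_generatingSections (R := Γ(X, U)) (M.restrict hU.fromSpec)
    inferInstance τ
  have h' : Module.Finite Γ(X, U) Γ(M.restrict hU.fromSpec, ⊤) := h
  exact Module.Finite.equiv (affineΓEquiv M hU)

end FiniteAffine
end Groth.Agent.LD.QC
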