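import Mathlib
universe u
open CategoryTheory Limits AlgebraicGeometry TopologicalSpace Opposite

namespace Groth.Agent.LD.QC

variable {X : Scheme.{u}}

/-- `M.over W` corresponds to `M.restrict W.ι` under `overEquiv`. -/
noncomputable def overIsoInverseRestrict (M : X.Modules) (W : X.Opens) :
    (Scheme.Modules.overEquiv W).inverse.obj (M.restrict W.ι) ≅
      SheafOfModules.over (R := X.ringCatSheaf) M W :=
  (Scheme.Modules.overEquiv W).inverse.mapIso ((Scheme.Modules.overFunctorEquiv W).app M).symm ≪≫
    ((Scheme.Modules.overEquiv W).unitIso.app _).symm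

noncomputable def presentationOver (M : X.Modules) (W : X.Opens)
    (P : (M.restrict W.ι).Presentation) :
    (SheafOfModules.over (R := X.ringCatSheaf) M W).Presentation :=
  SheafOfModules.Presentation.ofIsIso.{u, u, u} (overIsoInverseRestrict M W).hom <|
    P.map (Scheme.Modules.overEquiv W).inverse
      (TopologicalSpace.Opens.sheafOfModulesEquivOverInverseUnit W X.ringCatSheaf).symm

/-- restriction along an open immersion vs restriction to its range -/
noncomputable def restrictOpensRangeIso {Y : Scheme.{u}} (f : Y ⟶ X) [IsOpenImmersion f]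
    (M : X.Modules) :
    (M.restrict f).restrict f.isoOpensRange.inv ≅ M.restrict f.opensRange.ι :=
  ((Scheme.Modules.restrictFunctorComp _ _).symm.app M) ≪≫
    (Scheme.Modules.restrictFunctorCongr (by simp)).app M

noncomputable def presentationOpensRange {Y : Scheme.{u}} (f : Y ⟶ X) [IsOpenImmersion f]
    (M : X.Modules) (P : (M.restrict f).Presentation) :
    (M.restrict f.opensRange.ι).Presentation :=
  SheafOfModules.Presentation.ofIsIso.{u, u, u} (restrictOpensRangeIso f M).hom
    (Scheme.Modules.presentationRestrict f.isoOpensRange.inv P)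

theorem isQuasicoherent_of_isOpenCover (M : X.Modules) {ι : Type u} (U : ι → X.Opens)
    (hU : IsOpenCover U) (h : ∀ i, (M.restrict (U i).ι).IsQuasicoherent) :
    M.IsQuasicoherent := by
  have key : ∀ i, ∃ (κ : Type u) (V : κ → (U i).toScheme.Opens)
      (_ : ∀ j, ((M.restrict (U i).ι).restrict (V j).ι).Presentation),
      IsOpenCover V ∧ (∀ j, IsAffineOpen (V j)) := fun i =>
    haveI := h i
    (M.restrict (U i).ι).exists_isOpenCover_presentation
  choose κ V pres hV _ using key
  let f : ∀ (ij : Σ i, κ i), (V ij.1 ij.2).toScheme ⟶ X := fun ij => (V ij.1 ij.2).ι ≫ (U ij.1).ι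
  let W : (Σ i, κ i) → X.Opens := fun ij => (f ij).opensRange
  have hW : IsOpenCover W := by
    rw [IsOpenCover, eq_top_iff]
    intro x _
    have hx : x ∈ ⨆ i, U i := by rw [hU]; trivial
    obtain ⟨i, hi⟩ := Opens.mem_iSup.mp hx
    have hx' : (⟨x, hi⟩ : (U i).toScheme) ∈ ⨆ j, V i j := by rw [hV i]; trivial
    obtain ⟨j, hj⟩ := Opens.mem_iSup.mp hx'
    refine Opens.mem_iSup.mpr ⟨⟨i, j⟩, ?_⟩
    refine ⟨⟨⟨x, hi⟩, hj⟩, ?_⟩
    simp [f]
  have P : ∀ ij, (M.restrict (W ij).ι).Presentation := fun ij =>
    presentationOpensRange (f ij) M <|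
      SheafOfModules.Presentation.ofIsIso.{u, u, u}
        ((Scheme.Modules.restrictFunctorComp _ _).app M).inv (pres ij.1 ij.2)
  exact SheafOfModules.QuasicoherentData.isQuasicoherent.{u, u, u, u} (M := M)
    { I := Σ i, κ i
      X := W
      coversTop := (Opens.coversTop_iff _ _).mpr hW
      presentation := fun ij => presentationOver M (W ij) (P ij) }

end Groth.Agent.LD.QC
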