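import Groth.Agent.Lib.Lead.QC.SubExt
import Mathlib.AlgebraicGeometry.Morphisms.Flat
universe u
open CategoryTheory Limits AlgebraicGeometry TopologicalSpace Opposite TensorProduct

namespace Groth.Agent.LD.QC

section PB
variable {A B : CommRingCat.{u}} (φ : A ⟶ B)

/-- global sections of a pushforward along `Spec.map φ`. -/
noncomputable def ΓPushIso :
    Scheme.Modules.pushforward (Spec.map φ) ⋙ moduleSpecΓFunctor (R := A) ≅
      moduleSpecΓFunctor (R := B) ⋙ ModuleCat.restrictScalars φ.hom :=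
  Functor.isoWhiskerRight (pushforwardCompModulesSpecToSheafIso φ)
    (TopCat.Sheaf.forget _ _ ⋙ (evaluation _ _).obj (op ⊤)) ≪≫
    NatIso.ofComponents (fun M => Iso.refl _) (by intros; rfl)

/-- the adjunction `(Spec φ)^* ∘ tilde ⊣ Γ ∘ (Spec φ)_*`. -/
noncomputable def adjPullTilde :
    tilde.functor A ⋙ Scheme.Modules.pullback (Spec.map φ) ⊣
      Scheme.Modules.pushforward (Spec.map φ) ⋙ moduleSpecΓFunctor (R := A) :=
  (tilde.adjunction (R := A)).comp (Scheme.Modules.pullbackPushforwardAdjunction (Spec.map φ))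

/-- the adjunction `tilde ∘ (B ⊗ -) ⊣ restrictScalars ∘ Γ`. -/
noncomputable def adjTildeExtend :
    ModuleCat.extendScalars.{u, u, u} φ.hom ⋙ tilde.functor B ⊣
      moduleSpecΓFunctor (R := B) ⋙ ModuleCat.restrictScalars φ.hom :=
  (ModuleCat.extendRestrictScalarsAdj.{u, u, u} φ.hom).comp (tilde.adjunction (R := B))

/-- **pullback of `M~` along `Spec φ` is `(B ⊗ M)~`**, naturally in `M`. -/
noncomputable def tildePullbackIso :
    tilde.functor A ⋙ Scheme.Modules.pullback (Spec.map φ) ≅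
      ModuleCat.extendScalars.{u, u, u} φ.hom ⋙ tilde.functor B :=
  ((adjPullTilde φ).ofNatIsoRight (ΓPushIso φ)).leftAdjointUniq (adjTildeExtend φ)

end PB

end Groth.Agent.LD.QC

namespace Groth.Agent.LD.QC

/-- `extendScalars` along `algebraMap` is the usual base change. -/
lemma nonempty_extendScalars_iso (A' A : Type u) [CommRing A'] [CommRing A] [i : Algebra A' A]
    (N' : Type u) [AddCommGroup N'] [Module A' N'] :
    Nonempty ((ModuleCat.extendScalars.{u, u, u} (algebraMap A' A)).obj (ModuleCat.of A' N') ≅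
      ModuleCat.of A (A ⊗[A'] N')) := by
  have h : i = (algebraMap A' A).toAlgebra := Algebra.algebra_ext _ _ (fun r => rfl)
  obtain ⟨f, hf⟩ : ∃ f : A' →+* A, f = algebraMap A' A := ⟨_, rfl⟩
  rw [← hf] at h ⊢
  subst h
  exact ⟨Iso.refl _⟩

end Groth.Agent.LD.QC

namespace Groth.Agent.LD.QC

section Square
variable {X Y X' Y' : Scheme.{u}} (f : X ⟶ Y) (j : X' ⟶ X) (k : Y' ⟶ Y) (g : X' ⟶ Y')
  [IsOpenImmersion j] [IsOpenImmersion k]

/-- pullback commutes with restriction to opens: for a commutative square with open immersions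
`j`, `k`, `(f^* M)|_{X'} ≅ g^* (M|_{Y'})`, naturally in `M`. -/
noncomputable def pullbackRestrictIso (sq : j ≫ f = g ≫ k) :
    Scheme.Modules.pullback f ⋙ Scheme.Modules.restrictFunctor j ≅
      Scheme.Modules.restrictFunctor k ⋙ Scheme.Modules.pullback g :=
  Functor.isoWhiskerLeft _ (Scheme.Modules.restrictFunctorIsoPullback j) ≪≫
    Scheme.Modules.pullbackComp j f ≪≫ Scheme.Modules.pullbackCongr sq ≪≫
    (Scheme.Modules.pullbackComp g k).symm ≪≫
    Functor.isoWhiskerRight (Scheme.Modules.restrictFunctorIsoPullback k).symm _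

end Square

section Affine
variable {X Y : Scheme.{u}} (f : X ⟶ Y) {U : X.Opens} {V : Y.Opens} (hU : IsAffineOpen U)
  (hV : IsAffineOpen V) (e : U ≤ f ⁻¹ᵁ V)

/-- affine-local description of the pullback: `(f^* M)|_U ≅ (Spec φ)^* (M|_V)`. -/
noncomputable def pullbackRestrictAffineIso :
    Scheme.Modules.pullback f ⋙ Scheme.Modules.restrictFunctor hU.fromSpec ≅
      Scheme.Modules.restrictFunctor hV.fromSpec ⋙
        Scheme.Modules.pullback (Spec.map (f.appLE V U e)) :=
  pullbackRestrictIso f hU.fromSpec hV.fromSpec (Spec.map (f.appLE V U e))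
    (hV.SpecMap_appLE_fromSpec f hU e).symm

end Affine

end Groth.Agent.LD.QC

namespace Groth.Agent.LD.QC

section Affine
variable {X Y : Scheme.{u}} (f : X ⟶ Y) {U : X.Opens} {V : Y.Opens} (hU : IsAffineOpen U)
  (hV : IsAffineOpen V) (e : U ≤ f ⁻¹ᵁ V)

/-- for quasi-coherent `M`, `(f^* M)|_U` is the sheaf associated with `Γ(X, U) ⊗ Γ(M, V)`. -/
noncomputable def pullbackAffineTildeIso (M : Y.Modules) [M.IsQuasicoherent] :
    ((Scheme.Modules.pullback f).obj M).restrict hU.fromSpec ≅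
      tilde ((ModuleCat.extendScalars.{u, u, u} (f.appLE V U e).hom).obj
        (ΓM (M.restrict hV.fromSpec))) :=
  haveI : IsIso (M.restrict hV.fromSpec).fromTildeΓ := inferInstance
  (pullbackRestrictAffineIso f hU hV e).app M ≪≫
    (Scheme.Modules.pullback (Spec.map (f.appLE V U e))).mapIso
      (asIso (M.restrict hV.fromSpec).fromTildeΓ).symm ≪≫
    (tildePullbackIso (f.appLE V U e)).app (ΓM (M.restrict hV.fromSpec))

end Affine

/-- **the pullback of a quasi-coherent module is quasi-coherent.** -/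
theorem qc_pullback {X Y : Scheme.{u}} (f : X ⟶ Y) (M : Y.Modules) [M.IsQuasicoherent] :
    ((Scheme.Modules.pullback f).obj M).IsQuasicoherent := by
  let ι : Type u := {U : X.affineOpens // ∃ V : Y.affineOpens, U.1 ≤ f ⁻¹ᵁ V.1}
  have hc : IsOpenCover (fun i : ι => (i.1.2.fromSpec).opensRange) := by
    rw [IsOpenCover, eq_top_iff]
    intro x _
    obtain ⟨V, hV, hxV, -⟩ := exists_isAffineOpen_mem_and_subset (x := f x) (U := ⊤) trivial
    obtain ⟨U, hU, hxU, hUV⟩ := exists_isAffineOpen_mem_and_subset (x := x) (U := f ⁻¹ᵁ V) hxV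
    refine Opens.mem_iSup.mpr ⟨⟨⟨U, hU⟩, ⟨V, hV⟩, hUV⟩, ?_⟩
    rw [hU.opensRange_fromSpec]
    exact hxU
  refine isQuasicoherent_of_isOpenCover _ _ hc fun i => ?_
  obtain ⟨V, hUV⟩ := i.2
  have h1 : (((Scheme.Modules.pullback f).obj M).restrict i.1.2.fromSpec).IsQuasicoherent :=
    qc_of_iso (pullbackAffineTildeIso f i.1.2 V.2 hUV M).symm inferInstance
  haveI := h1
  exact qc_of_iso (restrictOpensRangeIso i.1.2.fromSpec _) inferInstance

end Groth.Agent.LD.QC

namespace Groth.Agent.LD.QC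

section Affine
variable {X Y : Scheme.{u}} (f : X ⟶ Y) {U : X.Opens} {V : Y.Opens}

/-- **sections of a pullback over an affine open**: `Γ(f^* M, U) ≃ Γ(X, U) ⊗_{Γ(Y, V)} Γ(M, V)`. -/
theorem exists_pullback_sections_equiv (hU : IsAffineOpen U) (hV : IsAffineOpen V)
    (e : U ≤ f ⁻¹ᵁ V) (M : Y.Modules) [M.IsQuasicoherent] :
    letI := (f.appLE V U e).hom.toAlgebra
    Nonempty (Γ((Scheme.Modules.pullback f).obj M, U) ≃ₗ[Γ(X, U)] (Γ(X, U) ⊗[Γ(Y, V)] Γ(M, V))) := by
  letI := (f.appLE V U e).hom.toAlgebra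
  let N := (ModuleCat.extendScalars.{u, u, u} (f.appLE V U e).hom).obj (ΓM (M.restrict hV.fromSpec))
  let e1 : Γ((Scheme.Modules.pullback f).obj M, U) ≃ₗ[Γ(X, U)]
      Γ(((Scheme.Modules.pullback f).obj M).restrict hU.fromSpec, ⊤) :=
    (affineΓEquiv _ hU).symm
  let i2 : ΓM (((Scheme.Modules.pullback f).obj M).restrict hU.fromSpec) ≅ N :=
    moduleSpecΓFunctor.mapIso (pullbackAffineTildeIso f hU hV e M) ≪≫
      ((tilde.toTildeΓNatIso (R := Γ(X, U))).app N).symm
  let i3 : N ≅ (ModuleCat.extendScalars.{u, u, u} (f.appLE V U e).hom).obj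
      (ModuleCat.of Γ(Y, V) Γ(M, V)) :=
    (ModuleCat.extendScalars.{u, u, u} (f.appLE V U e).hom).mapIso
      (affineΓEquiv M hV).toModuleIso
  exact ⟨e1.trans ((i2 ≪≫ i3).toLinearEquiv)⟩

end Affine

end Groth.Agent.LD.QC

namespace Groth.Agent.LD.QC

section Pres
variable {X Y : Scheme.{u}} (f : X ⟶ Y)

/-- every point has an affine neighbourhood mapping into an affine open. -/
lemma exists_affine_nhds_le_preimage (x : X) :
    ∃ (U : X.Opens) (V : Y.Opens), IsAffineOpen U ∧ IsAffineOpen V ∧ x ∈ U ∧ U ≤ f ⁻¹ᵁ V := by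
  obtain ⟨V, hV, hxV, -⟩ := exists_isAffineOpen_mem_and_subset (x := f x) (U := ⊤) trivial
  obtain ⟨U, hU, hxU, hUV⟩ := exists_isAffineOpen_mem_and_subset (x := x) (U := f ⁻¹ᵁ V) hxV
  exact ⟨U, V, hU, hV, hxU, hUV⟩

theorem finite_pullback_sections {U : X.Opens} {V : Y.Opens} (hU : IsAffineOpen U)
    (hV : IsAffineOpen V) (e : U ≤ f ⁻¹ᵁ V) (M : Y.Modules) [M.IsQuasicoherent]
    (h : Module.Finite Γ(Y, V) Γ(M, V)) :
    Module.Finite Γ(X, U) Γ((Scheme.Modules.pullback f).obj M, U) := by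
  letI := (f.appLE V U e).hom.toAlgebra
  obtain ⟨eq⟩ := exists_pullback_sections_equiv f hU hV e M
  exact Module.Finite.equiv eq.symm

theorem finitePresentation_pullback_sections {U : X.Opens} {V : Y.Opens} (hU : IsAffineOpen U)
    (hV : IsAffineOpen V) (e : U ≤ f ⁻¹ᵁ V) (M : Y.Modules) [M.IsQuasicoherent]
    (h : Module.FinitePresentation Γ(Y, V) Γ(M, V)) :
    Module.FinitePresentation Γ(X, U) Γ((Scheme.Modules.pullback f).obj M, U) := by
  letI := (f.appLE V U e).hom.toAlgebra
  obtain ⟨eq⟩ := exists_pullback_sections_equiv f hU hV e M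
  exact Module.FinitePresentation.of_equiv eq.symm

/-- pullback preserves finite type (for quasi-coherent modules). -/
theorem isFiniteType_pullback (M : Y.Modules) [M.IsQuasicoherent] (hM : M.IsFiniteType) :
    ((Scheme.Modules.pullback f).obj M).IsFiniteType := by
  haveI := qc_pullback f M
  apply isFiniteType_of_finite_sections
  intro x
  obtain ⟨U, V, hU, hV, hxU, hUV⟩ := exists_affine_nhds_le_preimage f x
  exact ⟨U, hU, hxU, finite_pullback_sections f hU hV hUV M
    (finite_sections_of_isFiniteType M hM hV)⟩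

/-- pullback preserves finite presentation. -/
theorem isFinitePresentation_pullback (M : Y.Modules) (hM : M.IsFinitePresentation) :
    ((Scheme.Modules.pullback f).obj M).IsFinitePresentation := by
  haveI : M.IsQuasicoherent := inferInstance
  haveI := qc_pullback f M
  apply isFinitePresentation_of_sections
  intro x
  obtain ⟨U, V, hU, hV, hxU, hUV⟩ := exists_affine_nhds_le_preimage f x
  exact ⟨U, hU, hxU, finitePresentation_pullback_sections f hU hV hUV M
    (finitePresentation_sections_of_isFinitePresentation M hM hV)⟩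

end Pres

end Groth.Agent.LD.QC

namespace Groth.Agent.LD.QC

/-- an affine faithfully flat "cover" of an affine open of the target of an fpqc morphism. -/
theorem exists_affine_faithfullyFlat_cover {X X' : Scheme.{u}} (f : X' ⟶ X) [Flat f]
    [Surjective f] [QuasiCompact f] {V : X.Opens} (hV : IsAffineOpen V) :
    ∃ (Z : Scheme.{u}) (_ : IsAffine Z) (g : Z ⟶ X') (_ : Flat g)
      (e : (⊤ : Z.Opens) ≤ (g ≫ f) ⁻¹ᵁ V), ((g ≫ f).appLE V ⊤ e).hom.FaithfullyFlat := by
  have hW : IsCompact ((f ⁻¹ᵁ V : X'.Opens) : Set X') := f.isCompact_preimage hV.isCompact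
  obtain ⟨s, hs, hsW⟩ := isCompact_iff_finite_and_eq_biUnion_affineOpens.mp hW
  haveI : Finite s := hs
  let Zi : s → Scheme.{u} := fun i => (i.1.1 : Scheme.{u})
  haveI : ∀ i, IsAffine (Zi i) := fun i => i.1.2
  let g : ∐ Zi ⟶ X' := Sigma.desc fun i => i.1.1.ι
  haveI : Flat g := inferInstance
  have hle : ∀ i : s, i.1.1 ≤ f ⁻¹ᵁ V := fun i => by
    rw [hsW]
    exact le_iSup₂_of_le i.1 i.2 le_rfl
  have hz : ∀ z : (∐ Zi : Scheme.{u}), ∃ (i : s) (y : Zi i), Sigma.ι Zi i y = z := fun z => by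
    obtain ⟨⟨i, y⟩, rfl⟩ := (sigmaMk Zi).surjective z
    exact ⟨i, y, (sigmaMk_mk Zi i y).symm⟩
  have hg : ∀ (i : s) (y : Zi i), g (Sigma.ι Zi i y) = i.1.1.ι y := fun i y => by
    have : Sigma.ι Zi i ≫ g = i.1.1.ι := Sigma.ι_desc _ _
    rw [← this]; rfl
  have e : (⊤ : (∐ Zi : Scheme.{u}).Opens) ≤ (g ≫ f) ⁻¹ᵁ V := by
    intro z _
    obtain ⟨i, y, rfl⟩ := hz z
    change f (g (Sigma.ι Zi i y)) ∈ V
    rw [hg]
    exact hle i y.2
  refine ⟨∐ Zi, inferInstance, g, inferInstance, e, ?_⟩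
  rw [RingHom.FaithfullyFlat.iff_flat_and_comap_surjective]
  constructor
  · exact HasRingHomProperty.appLE (P := @Flat) (g ≫ f) inferInstance ⟨V, hV⟩ ⟨⊤, isAffineOpen_top _⟩ e
  · intro p
    let hZ := isAffineOpen_top (∐ Zi : Scheme.{u})
    obtain ⟨x', hx'⟩ := f.surjective (hV.fromSpec p)
    have hx'W : x' ∈ f ⁻¹ᵁ V := by
      change f x' ∈ V
      rw [hx']
      have : hV.fromSpec p ∈ hV.fromSpec.opensRange := ⟨p, rfl⟩
      rwa [hV.opensRange_fromSpec] at this
    rw [hsW] at hx'W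
    obtain ⟨i, hx⟩ := Opens.mem_iSup.mp hx'W
    obtain ⟨hi, hx'i⟩ := Opens.mem_iSup.mp hx
    let z : (∐ Zi : Scheme.{u}) := Sigma.ι Zi ⟨i, hi⟩ ⟨x', hx'i⟩
    have hgz : g z = x' := hg ⟨i, hi⟩ ⟨x', hx'i⟩
    have hzr : z ∈ hZ.fromSpec.opensRange := by rw [hZ.opensRange_fromSpec]; trivial
    obtain ⟨q, hq⟩ := hzr
    refine ⟨q, ?_⟩
    have hsq := hV.SpecMap_appLE_fromSpec (g ≫ f) hZ e
    have h1 : hV.fromSpec ((Spec.map ((g ≫ f).appLE V ⊤ e)) q) = hV.fromSpec p := by
      have h2 : (Spec.map ((g ≫ f).appLE V ⊤ e) ≫ hV.fromSpec) q = (hZ.fromSpec ≫ (g ≫ f)) q := by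
        rw [hsq]
      have h3 : (hZ.fromSpec ≫ (g ≫ f)) q = f (g (hZ.fromSpec q)) := rfl
      rw [h3, hq, hgz, hx'] at h2
      exact h2
    exact hV.fromSpec.isOpenEmbedding.injective h1

end Groth.Agent.LD.QC

namespace Groth.Agent.LD.QC

/-- **fpqc descent of finite type** for quasi-coherent modules. -/
theorem isFiniteType_of_pullback_fpqc {X X' : Scheme.{u}} (f : X' ⟶ X) [Flat f] [Surjective f]
    [QuasiCompact f] (M : X.Modules) [M.IsQuasicoherent]
    (h : ((Scheme.Modules.pullback f).obj M).IsFiniteType) : M.IsFiniteType := by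
  rw [isFiniteType_iff_finite_sections]
  intro V hV
  obtain ⟨Z, hZ, g, hg, e, hff⟩ := exists_affine_faithfullyFlat_cover f hV
  haveI := qc_pullback f M
  haveI := qc_pullback (g ≫ f) M
  haveI := qc_pullback g ((Scheme.Modules.pullback f).obj M)
  have h1 : ((Scheme.Modules.pullback g).obj ((Scheme.Modules.pullback f).obj M)).IsFiniteType :=
    isFiniteType_pullback g _ h
  have h2 : ((Scheme.Modules.pullback (g ≫ f)).obj M).IsFiniteType := by
    have e' : (Scheme.Modules.pullback g).obj ((Scheme.Modules.pullback f).obj M) ≅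
        (Scheme.Modules.pullback (g ≫ f)).obj M := (Scheme.Modules.pullbackComp g f).app M
    exact isFiniteType_of_iso e' h1
  have h3 : Module.Finite Γ(Z, ⊤) Γ((Scheme.Modules.pullback (g ≫ f)).obj M, ⊤) :=
    finite_sections_of_isFiniteType _ h2 (isAffineOpen_top Z)
  letI := ((g ≫ f).appLE V ⊤ e).hom.toAlgebra
  obtain ⟨eq⟩ := exists_pullback_sections_equiv (g ≫ f) (isAffineOpen_top Z) hV e M
  haveI : Module.Finite Γ(Z, ⊤) (Γ(Z, ⊤) ⊗[Γ(X, V)] Γ(M, V)) := Module.Finite.equiv eq
  haveI : Module.FaithfullyFlat Γ(X, V) Γ(Z, ⊤) := hff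
  exact Module.Finite.of_finite_tensorProduct_of_faithfullyFlat Γ(Z, ⊤)

end Groth.Agent.LD.QC

namespace Groth.Agent.LD.QC

/-- faithfully flat descent of finite presentation for modules. -/
lemma finitePresentation_of_tensorProduct_of_faithfullyFlat {R : Type*} [CommRing R]
    (T : Type*) [CommRing T] [Algebra R T] [Module.FaithfullyFlat R T]
    {M : Type*} [AddCommGroup M] [Module R M] [Module.FinitePresentation T (T ⊗[R] M)] :
    Module.FinitePresentation R M := by
  haveI : Module.Finite R M := Module.Finite.of_finite_tensorProduct_of_faithfullyFlat T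
  obtain ⟨n, g, hg⟩ := Module.Finite.exists_fin' R M
  let K := LinearMap.ker g
  let φ : T ⊗[R] K →ₗ[T] T ⊗[R] (Fin n → R) := AlgebraTensorModule.lTensor T T K.subtype
  let ψ : T ⊗[R] (Fin n → R) →ₗ[T] T ⊗[R] M := AlgebraTensorModule.lTensor T T g
  have hφ : Function.Injective φ :=
    Module.Flat.lTensor_preserves_injective_linearMap K.subtype K.injective_subtype
  have hψ : Function.Surjective ψ := LinearMap.lTensor_surjective T hg
  have hex : Function.Exact φ ψ :=
    lTensor_exact T (LinearMap.exact_subtype_ker_map g) hg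
  have hker : (LinearMap.ker ψ).FG := Module.FinitePresentation.fg_ker ψ hψ
  have hrange : LinearMap.range φ = LinearMap.ker ψ := (LinearMap.exact_iff.mp hex).symm
  haveI : Module.Finite T (LinearMap.range φ) := by
    rw [hrange]; exact Module.Finite.iff_fg.mpr hker
  haveI : Module.Finite T (T ⊗[R] K) := Module.Finite.equiv (LinearEquiv.ofInjective φ hφ).symm
  haveI : Module.Finite R K := Module.Finite.of_finite_tensorProduct_of_faithfullyFlat T
  exact Module.finitePresentation_of_surjective g hg (Module.Finite.iff_fg.mp inferInstance)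

end Groth.Agent.LD.QC

namespace Groth.Agent.LD.QC

/-- finite presentation is invariant under isomorphism. -/
theorem isFinitePresentation_of_iso {X : Scheme.{u}} {M N : X.Modules} (e : M ≅ N)
    (h : M.IsFinitePresentation) : N.IsFinitePresentation := by
  haveI hM : M.IsQuasicoherent := inferInstance
  haveI hN : N.IsQuasicoherent := qc_of_iso e hM
  rw [isFinitePresentation_iff_sections] at h ⊢
  intro U hU
  haveI := h U hU
  exact Module.FinitePresentation.of_equiv
    (LinearEquiv.ofBijective (appLinear e.hom U)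
      ⟨(mono_app e.hom U), epi_app_affine hM hN e.hom hU⟩)

/-- **fpqc descent of finite presentation** for quasi-coherent modules. -/
theorem isFinitePresentation_of_pullback_fpqc {X X' : Scheme.{u}} (f : X' ⟶ X) [Flat f]
    [Surjective f] [QuasiCompact f] (M : X.Modules) [M.IsQuasicoherent]
    (h : ((Scheme.Modules.pullback f).obj M).IsFinitePresentation) : M.IsFinitePresentation := by
  rw [isFinitePresentation_iff_sections]
  intro V hV
  obtain ⟨Z, hZ, g, hg, e, hff⟩ := exists_affine_faithfullyFlat_cover f hV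
  haveI := qc_pullback f M
  haveI := qc_pullback (g ≫ f) M
  have h1 : ((Scheme.Modules.pullback g).obj
      ((Scheme.Modules.pullback f).obj M)).IsFinitePresentation :=
    isFinitePresentation_pullback g _ h
  have h2 : ((Scheme.Modules.pullback (g ≫ f)).obj M).IsFinitePresentation := by
    have e' : (Scheme.Modules.pullback g).obj ((Scheme.Modules.pullback f).obj M) ≅
        (Scheme.Modules.pullback (g ≫ f)).obj M := (Scheme.Modules.pullbackComp g f).app M
    exact isFinitePresentation_of_iso e' h1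
  have h3 : Module.FinitePresentation Γ(Z, ⊤) Γ((Scheme.Modules.pullback (g ≫ f)).obj M, ⊤) :=
    finitePresentation_sections_of_isFinitePresentation _ h2 (isAffineOpen_top Z)
  letI := ((g ≫ f).appLE V ⊤ e).hom.toAlgebra
  obtain ⟨eq⟩ := exists_pullback_sections_equiv (g ≫ f) (isAffineOpen_top Z) hV e M
  haveI : Module.FinitePresentation Γ(Z, ⊤) (Γ(Z, ⊤) ⊗[Γ(X, V)] Γ(M, V)) :=
    Module.FinitePresentation.of_equiv eq
  haveI : Module.FaithfullyFlat Γ(X, V) Γ(Z, ⊤) := hff
  exact finitePresentation_of_tensorProduct_of_faithfullyFlat Γ(Z, ⊤)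

end Groth.Agent.LD.QC
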