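import Groth.Agent.Lib.Lead.QC.SubExt
import Groth.Agent.Lib.Lead.QC.Pullback

/-! # Extending a quasi-coherent submodule from a quasi-compact open. -/

universe u
open CategoryTheory Limits AlgebraicGeometry TopologicalSpace Opposite

namespace Groth.Agent.LD.QC
variable {X Y : Scheme.{u}}

lemma qc_restrict (j : Y ⟶ X) [IsOpenImmersion j] (F : X.Modules) [F.IsQuasicoherent] :
    (F.restrict j).IsQuasicoherent :=
  qc_of_iso ((Scheme.Modules.restrictFunctorIsoPullback j).app F).symm (qc_pullback j F)

/-- **canonical extension**: a quasi-coherent submodule of `F|_Y`, `Y ⊆ X` a quasi-compact open,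
is the restriction of a quasi-coherent submodule of `F`. -/
theorem exists_qc_extension (j : Y ⟶ X) [IsOpenImmersion j] [QuasiCompact j] (F : X.Modules)
    [F.IsQuasicoherent] (J : Y.Modules) (hJ : J.IsQuasicoherent) (i : J ⟶ F.restrict j) [Mono i] :
    ∃ (I : X.Modules) (ι : I ⟶ F) (e : I.restrict j ≅ J), Mono ι ∧ I.IsQuasicoherent ∧
      e.hom ≫ i = (Scheme.Modules.restrictFunctor j).map ι := by
  haveI := qc_restrict j F
  let π : F.restrict j ⟶ cokernel i := cokernel.π i
  have hC : (cokernel i).IsQuasicoherent := qc_cokernel i hJ inferInstance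
  refine ⟨subExt j π, subExtι j π, ?_⟩
  haveI : Mono ((Scheme.Modules.restrictFunctor j).map (subExtι j π)) := by
    apply mono_of_injective_app
    intro W'
    exact subExtι_injective j π (j ''ᵁ W')
  obtain ⟨e, he⟩ := exists_iso_of_range_eq
    ((Scheme.Modules.restrictFunctor j).map (subExtι j π)) i (by
      intro W'
      ext s
      have h2 : j ⁻¹ᵁ (j ''ᵁ W') ≤ W' := (j.preimage_image_eq W').le
      have key := mem_subExt_iff' j π (j ''ᵁ W') W' le_rfl h2 (show Γ(F, j ''ᵁ W') from s)
      have hres : F.presheaf.map (homOfLE (le_refl (j ''ᵁ W'))).op (show Γ(F, j ''ᵁ W') from s) =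
          (show Γ(F, j ''ᵁ W') from s) := by
        have : (homOfLE (le_refl (j ''ᵁ W'))).op = 𝟙 _ := rfl
        rw [this, F.presheaf.map_id]
        rfl
      rw [hres] at key
      constructor
      · rintro ⟨t, ht⟩
        exact (mem_range_mono_iff i W' s).mpr (key.mp ⟨t, ht⟩)
      · intro hs
        exact key.mpr ((mem_range_mono_iff i W' s).mp hs))
  exact ⟨e, inferInstance, subExt_qc j π inferInstance hC, he⟩

end Groth.Agent.LD.QC
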