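import Groth.Agent.Lib.Lead.QC.AnnIdeal
universe u
open CategoryTheory Limits AlgebraicGeometry TopologicalSpace Opposite TensorProduct

namespace Groth.Agent.LD.QC

section SuppBC

/-- a finite module survives base change to a field `K` iff the kernel of `A → K` is in its
support. -/
theorem nontrivial_field_tensor_iff {A : Type*} [CommRing A] (K : Type*) [Field K] [Algebra A K]
    (M : Type*) [AddCommGroup M] [Module A M] [Module.Finite A M] (p : PrimeSpectrum A)
    (hp : p.asIdeal = RingHom.ker (algebraMap A K)) :
    Nontrivial (K ⊗[A] M) ↔ p ∈ Module.support A M := by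
  let φ : p.asIdeal.ResidueField →+* K :=
    Ideal.ResidueField.lift p.asIdeal (algebraMap A K) hp.le (by
      intro a ha
      rw [Submonoid.mem_comap, IsUnit.mem_submonoid_iff, isUnit_iff_ne_zero]
      intro h0
      apply ha
      change a ∈ p.asIdeal
      rw [hp]
      exact h0)
  letI : Algebra p.asIdeal.ResidueField K := φ.toAlgebra
  haveI : IsScalarTower A p.asIdeal.ResidueField K := by
    refine IsScalarTower.of_algebraMap_eq fun a => ?_
    exact (Ideal.ResidueField.lift_algebraMap _ _ _ _ a).symm
  rw [Module.mem_support_iff_nontrivial_residueField_tensorProduct]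
  let e := AlgebraTensorModule.cancelBaseChange A p.asIdeal.ResidueField K K M
  rw [← e.nontrivial_congr]
  exact Module.FaithfullyFlat.nontrivial_tensorProduct_iff_right _ _

/-- **support of a base change** of a finite module. -/
theorem support_baseChange {A B : Type*} [CommRing A] [CommRing B] [Algebra A B]
    (M : Type*) [AddCommGroup M] [Module A M] [Module.Finite A M] :
    Module.support B (B ⊗[A] M) =
      PrimeSpectrum.comap (algebraMap A B) ⁻¹' Module.support A M := by
  ext q
  let K := q.asIdeal.ResidueField
  rw [Module.mem_support_iff_nontrivial_residueField_tensorProduct, Set.mem_preimage]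
  let e := AlgebraTensorModule.cancelBaseChange A B K K M
  rw [e.nontrivial_congr]
  apply nontrivial_field_tensor_iff K M
  ext a
  rw [PrimeSpectrum.comap_asIdeal, Ideal.mem_comap, RingHom.mem_ker]
  rw [IsScalarTower.algebraMap_apply A B K, Ideal.algebraMap_residueField_eq_zero]

end SuppBC

section SuppPullback
variable {X Y : Scheme.{u}} (f : X ⟶ Y)

/-- **the support of the pullback of a quasi-coherent module of finite type is the preimage of its
support.** -/
theorem support_pullback (F : Y.Modules) [F.IsQuasicoherent] (hF : F.IsFiniteType) (x : X) :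
    ¬ Subsingleton (((Scheme.Modules.pullback f).obj F).presheaf.stalk x) ↔
      ¬ Subsingleton (F.presheaf.stalk (f x)) := by
  obtain ⟨U, V, hU, hV, hxU, e⟩ := exists_affine_nhds_le_preimage f x
  haveI := qc_pullback f F
  haveI : Module.Finite Γ(Y, V) Γ(F, V) := finite_sections_of_isFiniteType F hF hV
  rw [← mem_support_iff_not_subsingleton_stalk _ hU x hxU,
    ← mem_support_iff_not_subsingleton_stalk F hV (f x) (e hxU)]
  letI := (f.appLE V U e).hom.toAlgebra
  obtain ⟨Φ, -⟩ := exists_pullback_sections_equiv_pbSec f hU hV e F
  rw [Φ.support_eq, support_baseChange, Set.mem_preimage]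
  have := IsAffineOpen.comap_primeIdealOf_appLE (f := f) V hV U hU e hxU
  rw [← this]
  rfl

end SuppPullback

section ZeroStalk
variable {X : Scheme.{u}}

lemma section_eq_zero_of_isZero (M : X.Modules) (h : IsZero M) {U : X.Opens} (s : Γ(M, U)) :
    s = 0 := by
  have h1 : 𝟙 M = 0 := (IsZero.iff_id_eq_zero M).mp h
  have h2 := congr($(h1).app U s)
  exact h2

lemma subsingleton_stalk_of_isZero (M : X.Modules) (h : IsZero M) (x : X) :
    Subsingleton (M.presheaf.stalk x) := by
  have hz : ∀ c : M.presheaf.stalk x, c = 0 := by
    intro c
    obtain ⟨U, hxU, s, rfl⟩ := TopCat.Presheaf.exists_germ_eq M.presheaf c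
    rw [section_eq_zero_of_isZero M h s, map_zero]
  exact ⟨fun a b => by rw [hz a, hz b]⟩

lemma isZero_of_subsingleton_stalks (M : X.Modules)
    (h : ∀ x : X, Subsingleton (M.presheaf.stalk x)) : IsZero M := by
  apply isZero_of_forall_sections
  intro U s
  apply section_eq_zero_of_germ
  intro x hx
  haveI := h x
  exact Subsingleton.elim _ _

theorem isZero_iff_subsingleton_stalks (M : X.Modules) :
    IsZero M ↔ ∀ x : X, Subsingleton (M.presheaf.stalk x) :=
  ⟨fun h x => subsingleton_stalk_of_isZero M h x, isZero_of_subsingleton_stalks M⟩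

/-- a quasi-coherent module of finite type whose pullback along a surjective morphism vanishes is
zero. -/
theorem isZero_of_isZero_pullback {Y : Scheme.{u}} (f : Y ⟶ X) [Surjective f] (F : X.Modules)
    [F.IsQuasicoherent] (hF : F.IsFiniteType) (h : IsZero ((Scheme.Modules.pullback f).obj F)) :
    IsZero F := by
  apply isZero_of_subsingleton_stalks
  intro x
  obtain ⟨y, rfl⟩ := f.surjective x
  by_contra hn
  exact (support_pullback f F hF y).mpr hn (subsingleton_stalk_of_isZero _ h y)

end ZeroStalk

section EpiPullback
variable {X Y : Scheme.{u}} (f : X ⟶ Y)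

/-- the pullback of `v` is an epimorphism iff the pullback of its cokernel vanishes. -/
theorem epi_pullback_iff_isZero {E F : Y.Modules} (v : E ⟶ F) :
    Epi ((Scheme.Modules.pullback f).map v) ↔
      IsZero ((Scheme.Modules.pullback f).obj (cokernel v)) := by
  rw [Preadditive.epi_iff_isZero_cokernel]
  exact (PreservesCokernel.iso (Scheme.Modules.pullback f) v).symm.isZero_iff

/-- **the pullback of a morphism to a finite type quasi-coherent module is an epimorphism iff `f`
avoids the support of the cokernel.** -/
theorem epi_pullback_iff {E F : Y.Modules} [E.IsQuasicoherent] [F.IsQuasicoherent]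
    (hF : F.IsFiniteType) (v : E ⟶ F) :
    Epi ((Scheme.Modules.pullback f).map v) ↔
      ∀ x : X, Subsingleton ((cokernel v).presheaf.stalk (f x)) := by
  haveI hC : (cokernel v).IsQuasicoherent := qc_cokernel v inferInstance inferInstance
  have hCft : (cokernel v).IsFiniteType :=
    isFiniteType_of_epi (cokernel.π v) inferInstance hC hF
  rw [epi_pullback_iff_isZero, isZero_iff_subsingleton_stalks]
  refine forall_congr' fun x => ?_
  rw [← not_iff_not]
  exact support_pullback f (cokernel v) hCft x

end EpiPullback

end Groth.Agent.LD.QC
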