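import Groth.Agent.Lib.Lead.QC.Fin
universe u
open CategoryTheory Limits AlgebraicGeometry TopologicalSpace Opposite

namespace Groth.Agent.LD.QC
variable {X : Scheme.{u}}

/-- `Γ(X, V)` as a `Γ(X, U)`-algebra for `V ≤ U`. -/
@[reducible] noncomputable def resAlgebra {U V : X.Opens} (h : V ≤ U) : Algebra Γ(X, U) Γ(X, V) :=
  (X.presheaf.map (homOfLE h).op).hom.toAlgebra

/-- `Γ(M, V)` as a `Γ(X, U)`-module for `V ≤ U`. -/
@[reducible] noncomputable def resModule (M : X.Modules) {U V : X.Opens} (h : V ≤ U) :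
    Module Γ(X, U) Γ(M, V) :=
  Module.compHom Γ(M, V) (X.presheaf.map (homOfLE h).op).hom

lemma resModule_smul (M : X.Modules) {U V : X.Opens} (h : V ≤ U) (r : Γ(X, U)) (x : Γ(M, V)) :
    letI := resModule M h
    r • x = (X.presheaf.map (homOfLE h).op r) • x := rfl

lemma resModule_isScalarTower (M : X.Modules) {U V : X.Opens} (h : V ≤ U) :
    letI := resAlgebra h
    letI := resModule M h
    IsScalarTower Γ(X, U) Γ(X, V) Γ(M, V) := by
  letI := resAlgebra h
  letI := resModule M h
  exact IsScalarTower.of_algebraMap_smul fun r x => rfl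

/-- restriction as a linear map. -/
noncomputable def resLinear (M : X.Modules) {U V : X.Opens} (h : V ≤ U) :
    letI := resModule M h
    Γ(M, U) →ₗ[Γ(X, U)] Γ(M, V) :=
  letI := resModule M h
  { toFun := fun s => M.presheaf.map (homOfLE h).op s
    map_add' := fun x y => map_add _ x y
    map_smul' := fun r x => by
      dsimp only [RingHom.id_apply]
      erw [Scheme.Modules.map_smul]
      rfl }

lemma resLinear_apply (M : X.Modules) {U V : X.Opens} (h : V ≤ U) (s : Γ(M, U)) :
    letI := resModule M h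
    resLinear M h s = M.presheaf.map (homOfLE h).op s := rfl

theorem isLocalizedModule_basicOpen (M : X.Modules) [M.IsQuasicoherent] {U : X.Opens}
    (hU : IsAffineOpen U) (f : Γ(X, U)) :
    letI := resModule M (X.basicOpen_le f)
    IsLocalizedModule.Away f (resLinear M (X.basicOpen_le f)) := by
  letI := resModule M (X.basicOpen_le f)
  refine IsLocalizedModule.Away.mk_of_addCommGroup ?_ ?_ ?_
  · rw [Module.End.isUnit_iff]
    have hu : IsUnit (X.presheaf.map (homOfLE (X.basicOpen_le f)).op f) :=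
      RingedSpace.isUnit_res_basicOpen _ f
    obtain ⟨v, hv⟩ := hu
    refine ⟨fun x y hxy => ?_, fun y => ?_⟩
    · have h1 : (X.presheaf.map (homOfLE (X.basicOpen_le f)).op f) • x =
          (X.presheaf.map (homOfLE (X.basicOpen_le f)).op f) • y := hxy
      rw [← hv] at h1
      have := congrArg (fun z => (↑v⁻¹ : Γ(X, X.basicOpen f)) • z) h1
      simpa [smul_smul] using this
    · refine ⟨(↑v⁻¹ : Γ(X, X.basicOpen f)) • y, ?_⟩
      change (X.presheaf.map (homOfLE (X.basicOpen_le f)).op f) • ((↑v⁻¹ : Γ(X, X.basicOpen f)) • y) = y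
      rw [← hv, smul_smul]
      simp
  · intro t
    obtain ⟨n, s, hs⟩ := affine_surj M hU f t
    refine ⟨n, s, ?_⟩
    rw [resLinear_apply, hs, resModule_smul, map_pow]
  · intro s hs
    exact affine_inj M hU f s hs

end Groth.Agent.LD.QC

namespace Groth.Agent.LD.QC
variable {X : Scheme.{u}}

theorem finite_of_span_basicOpen (M : X.Modules) [M.IsQuasicoherent] {U : X.Opens}
    (hU : IsAffineOpen U) (t : Set Γ(X, U)) (ht : Ideal.span t = ⊤)
    (H : ∀ g : t, Module.Finite Γ(X, X.basicOpen g.1) Γ(M, X.basicOpen g.1)) :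
    Module.Finite Γ(X, U) Γ(M, U) := by
  letI : ∀ g : t, Module Γ(X, U) Γ(M, X.basicOpen g.1) :=
    fun g => resModule M (X.basicOpen_le g.1)
  haveI : ∀ g : t, IsScalarTower Γ(X, U) Γ(X, X.basicOpen g.1) Γ(M, X.basicOpen g.1) :=
    fun g => resModule_isScalarTower M (X.basicOpen_le g.1)
  haveI : ∀ g : t, IsLocalization.Away g.1 Γ(X, X.basicOpen g.1) :=
    fun g => hU.isLocalization_basicOpen g.1
  haveI : ∀ g : t, IsLocalizedModule.Away g.1 (resLinear M (X.basicOpen_le g.1)) :=
    fun g => isLocalizedModule_basicOpen M hU g.1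
  exact Module.Finite.of_localizationSpan' t ht
    (Rₚ := fun g => Γ(X, X.basicOpen g.1)) (Mₚ := fun g => Γ(M, X.basicOpen g.1))
    (fun g => resLinear M (X.basicOpen_le g.1)) H

theorem finitePresentation_of_span_basicOpen (M : X.Modules) [M.IsQuasicoherent] {U : X.Opens}
    (hU : IsAffineOpen U) (t : Set Γ(X, U)) (ht : Ideal.span t = ⊤)
    (H : ∀ g : t, Module.FinitePresentation Γ(X, X.basicOpen g.1) Γ(M, X.basicOpen g.1)) :
    Module.FinitePresentation Γ(X, U) Γ(M, U) := by
  letI : ∀ g : t, Module Γ(X, U) Γ(M, X.basicOpen g.1) :=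
    fun g => resModule M (X.basicOpen_le g.1)
  haveI : ∀ g : t, IsScalarTower Γ(X, U) Γ(X, X.basicOpen g.1) Γ(M, X.basicOpen g.1) :=
    fun g => resModule_isScalarTower M (X.basicOpen_le g.1)
  haveI : ∀ g : t, IsLocalization.Away g.1 Γ(X, X.basicOpen g.1) :=
    fun g => hU.isLocalization_basicOpen g.1
  haveI : ∀ g : t, IsLocalizedModule (Submonoid.powers g.1)
      (resLinear M (X.basicOpen_le g.1)) :=
    fun g => isLocalizedModule_basicOpen M hU g.1
  exact Module.FinitePresentation.of_localizationSpan' t ht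
    (Rₚ := fun g => Γ(X, X.basicOpen g.1)) (Mₚ := fun g => Γ(M, X.basicOpen g.1))
    (fun g => resLinear M (X.basicOpen_le g.1)) H

end Groth.Agent.LD.QC

namespace Groth.Agent.LD.QC
variable {X : Scheme.{u}}

theorem finite_sections_of_isFiniteType (M : X.Modules) [hM : M.IsQuasicoherent]
    (hFT : M.IsFiniteType) {U : X.Opens} (hU : IsAffineOpen U) :
    Module.Finite Γ(X, U) Γ(M, U) := by
  let t : Set Γ(X, U) := {f | ∃ σ : (M.restrict (X.basicOpen f).ι).GeneratingSections, Finite σ.I}
  have ht : Ideal.span t = ⊤ := by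
    rw [← hU.self_le_iSup_basicOpen_iff]
    intro x hx
    obtain ⟨W, hxW, σ, hσ⟩ := (isFiniteType_iff_forall_exists M).mp hFT x
    obtain ⟨f, hfW, hxf⟩ := hU.exists_basicOpen_le ⟨x, hxW⟩ hx
    have hr : Set.range (X.basicOpen f).ι ⊆ Set.range W.ι := by
      rw [Scheme.Opens.range_ι, Scheme.Opens.range_ι]; exact hfW
    have hft : f ∈ t := ⟨genOfLE M W.ι (X.basicOpen f).ι hr σ, hσ⟩
    exact Opens.mem_iSup.mpr ⟨⟨f, hft⟩, hxf⟩
  refine finite_of_span_basicOpen M hU t ht fun g => ?_
  obtain ⟨σ, hσ⟩ := g.2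
  exact finite_of_generatingSections_affine M hM (hU.basicOpen g.1) σ

end Groth.Agent.LD.QC

namespace Groth.Agent.LD.QC
variable {X : Scheme.{u}}

/-- On `Spec R`, a quasi-coherent module with finite global sections has finitely many
global generating sections. -/
theorem spec_exists_generatingSections {R : CommRingCat.{u}} (N : (Spec R).Modules)
    [N.IsQuasicoherent] (h : Module.Finite R Γ(N, ⊤)) :
    ∃ σ : N.GeneratingSections, Finite σ.I := by
  have h' : Module.Finite R ((modulesSpecToSheaf.obj N).presheaf.obj (.op ⊤)) := h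
  obtain ⟨σ, hσ⟩ := spec_exists_generatingSections_of_finite
    ((modulesSpecToSheaf.obj N).presheaf.obj (.op ⊤))
  have hiso : IsIso N.fromTildeΓ := inferInstance
  have hepi : @Epi (SheafOfModules (Spec R).ringCatSheaf) _ _ _ N.fromTildeΓ :=
    @IsIso.epi_of_iso (Spec R).Modules _ _ _ N.fromTildeΓ hiso
  exact ⟨σ.ofEpi N.fromTildeΓ, hσ⟩

theorem exists_generatingSections_of_finite_affine (M : X.Modules) [M.IsQuasicoherent]
    {U : X.Opens} (hU : IsAffineOpen U) (h : Module.Finite Γ(X, U) Γ(M, U)) :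
    ∃ σ : (M.restrict U.ι).GeneratingSections, Finite σ.I := by
  have h1 : Module.Finite Γ(X, U) Γ(M.restrict hU.fromSpec, ⊤) :=
    Module.Finite.equiv (affineΓEquiv M hU).symm
  obtain ⟨σ, hσ⟩ := spec_exists_generatingSections (R := Γ(X, U)) (M.restrict hU.fromSpec) h1
  exact ⟨genOfLE M hU.fromSpec U.ι (range_ι_subset_range_fromSpec hU) σ, hσ⟩

theorem isFiniteType_of_finite_sections (M : X.Modules) [M.IsQuasicoherent]
    (h : ∀ x : X, ∃ U : X.Opens, IsAffineOpen U ∧ x ∈ U ∧ Module.Finite Γ(X, U) Γ(M, U)) :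
    M.IsFiniteType := by
  rw [isFiniteType_iff_forall_exists]
  intro x
  obtain ⟨U, hU, hxU, hfin⟩ := h x
  exact ⟨U, hxU, exists_generatingSections_of_finite_affine M hU hfin⟩

theorem isFiniteType_iff_finite_sections (M : X.Modules) [M.IsQuasicoherent] :
    M.IsFiniteType ↔ ∀ U : X.Opens, IsAffineOpen U → Module.Finite Γ(X, U) Γ(M, U) := by
  refine ⟨fun h U hU => finite_sections_of_isFiniteType M h hU, fun h => ?_⟩
  refine isFiniteType_of_finite_sections M fun x => ?_
  obtain ⟨U, hU, hxU, -⟩ := exists_isAffineOpen_mem_and_subset (x := x) (U := ⊤) trivial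
  exact ⟨U, hU, hxU, h U hU⟩

end Groth.Agent.LD.QC

namespace Groth.Agent.LD.QC
variable {X : Scheme.{u}}

theorem isFiniteType_of_generatingSections (M : X.Modules) (σ : M.GeneratingSections)
    [hσ : Finite σ.I] : M.IsFiniteType := by
  have : σ.IsFiniteType := ⟨hσ⟩
  have h : σ.localGeneratorsData.IsFiniteType :=
    { isFiniteType := fun _ => { finite := hσ } }
  exact SheafOfModules.IsFiniteType.mk.{u, u, u} ⟨σ.localGeneratorsData, h⟩

theorem spec_isFiniteType_tilde_iff {R : CommRingCat.{u}} (M : ModuleCat.{u} R) :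
    (tilde M).IsFiniteType ↔ Module.Finite R M := by
  constructor
  · intro h
    have h1 : Module.Finite Γ(Spec R, ⊤) Γ(tilde M, ⊤) :=
      finite_sections_of_isFiniteType (tilde M) h (isAffineOpen_top (Spec R))
    have h2 : Module.Finite R Γ(Spec R, ⊤) := by
      refine Module.Finite.of_surjective (Algebra.linearMap R Γ(Spec R, ⊤)) ?_
      exact (ConcreteCategory.bijective_of_isIso (Scheme.ΓSpecIso R).inv).surjective
    have h3 : Module.Finite R Γ(tilde M, ⊤) := Module.Finite.trans Γ(Spec R, ⊤) _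
    have h4 : Module.Finite R ((modulesSpecToSheaf.obj (tilde M)).presheaf.obj (op ⊤)) := h3
    exact Module.Finite.equiv (tilde.isoTop M).toLinearEquiv.symm
  · intro h
    obtain ⟨σ, hσ⟩ := spec_exists_generatingSections_of_finite M
    exact isFiniteType_of_generatingSections _ σ

end Groth.Agent.LD.QC
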