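import Groth.Agent.Lib.Lead.QC.ClosedUnit
universe u
open CategoryTheory Limits AlgebraicGeometry TopologicalSpace Opposite TensorProduct

namespace Groth.Agent.LD.QC

section Ann
variable {A A' M M' : Type*} [CommRing A] [CommRing A'] [Algebra A A'] (S : Submonoid A)
  [IsLocalization S A'] [AddCommGroup M] [Module A M] [AddCommGroup M'] [Module A M']
  [Module A' M'] [IsScalarTower A A' M'] (g : M →ₗ[A] M') [IsLocalizedModule S g]

include S g in
theorem annihilator_map_of_isLocalizedModule [Module.Finite A M] :
    (Module.annihilator A M).map (algebraMap A A') = Module.annihilator A' M' := by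
  apply le_antisymm
  · rw [Ideal.map_le_iff_le_comap]
    intro a ha
    rw [Ideal.mem_comap, Module.mem_annihilator]
    intro m'
    obtain ⟨⟨m, s⟩, hms⟩ := IsLocalizedModule.surj S g m'
    have h1 : s • (a • m') = 0 := by
      rw [smul_comm, hms, ← map_smul, Module.mem_annihilator.mp ha m, map_zero]
    have hu := IsLocalizedModule.map_units g s
    rw [Module.End.isUnit_iff] at hu
    have h2 : a • m' = 0 := hu.1 (by
      change s • (a • m') = s • (0 : M')
      rw [h1, smul_zero])
    rw [algebraMap_smul]
    exact h2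
  · intro b hb
    classical
    obtain ⟨⟨a, t⟩, hat⟩ := IsLocalization.surj S b
    -- b * algebraMap t = algebraMap a
    have hkill : ∀ m : M, ∃ s : S, s • (a • m) = 0 := by
      intro m
      have h1 : g (a • m) = 0 := by
        rw [map_smul, ← algebraMap_smul A' a (g m), ← hat, mul_smul]
        rw [Module.mem_annihilator.mp hb, ]
      obtain ⟨s, hs⟩ := (IsLocalizedModule.eq_zero_iff S g).mp h1
      exact ⟨s, hs⟩
    obtain ⟨G, hG⟩ := (Module.finite_def.mp (inferInstance : Module.Finite A M))
    choose σ hσ using hkill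
    let s : S := ∏ m ∈ G, σ m
    have hsa : (s : A) * a ∈ Module.annihilator A M := by
      rw [Module.mem_annihilator]
      intro m
      have hm : m ∈ Submodule.span A (G : Set M) := by rw [hG]; trivial
      refine Submodule.span_induction (p := fun m _ => ((s : A) * a) • m = 0) ?_ ?_ ?_ ?_ hm
      · intro x hx
        obtain ⟨c, hc⟩ : ∃ c : S, s = c * σ x := by
          refine ⟨∏ m ∈ G.erase x, σ m, ?_⟩
          exact (Finset.prod_erase_mul G σ hx).symm
        rw [hc, mul_smul, Submonoid.coe_mul, mul_smul]
        have := hσ x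
        rw [Submonoid.smul_def] at this
        rw [this, smul_zero]
      · exact smul_zero _
      · intro x y _ _ hx hy
        rw [smul_add, hx, hy, add_zero]
      · intro c x _ hx
        rw [smul_comm, hx, smul_zero]
    have hunit : IsUnit (algebraMap A A' (s * t : S)) := IsLocalization.map_units A' (s * t)
    obtain ⟨v, hv⟩ := hunit
    have hb' : b = algebraMap A A' ((s : A) * a) * ↑v⁻¹ := by
      rw [map_mul, ← hat, Units.eq_mul_inv_iff_mul_eq, hv, Submonoid.coe_mul, map_mul]
      ring
    rw [hb']
    exact Ideal.mul_mem_right _ _ (Ideal.mem_map_of_mem _ hsa)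

end Ann

section AnnSheaf
variable {X : Scheme.{u}}

/-- the annihilator ideal sheaf of a quasi-coherent module of finite type. -/
noncomputable def annIdeal (F : X.Modules) [F.IsQuasicoherent] (hF : F.IsFiniteType) :
    X.IdealSheafData where
  ideal U := Module.annihilator Γ(X, U.1) Γ(F, U.1)
  map_ideal_basicOpen U f := by
    letI : Algebra Γ(X, U.1) Γ(X, X.basicOpen f) := resAlgebra (X.basicOpen_le f)
    letI : Module Γ(X, U.1) Γ(F, X.basicOpen f) := resModule F (X.basicOpen_le f)
    haveI : IsScalarTower Γ(X, U.1) Γ(X, X.basicOpen f) Γ(F, X.basicOpen f) :=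
      resModule_isScalarTower F (X.basicOpen_le f)
    haveI : IsLocalization.Away f Γ(X, X.basicOpen f) := U.2.isLocalization_basicOpen f
    haveI : IsLocalizedModule.Away f (resLinear F (X.basicOpen_le f)) :=
      isLocalizedModule_basicOpen F U.2 f
    haveI : Module.Finite Γ(X, U.1) Γ(F, U.1) := finite_sections_of_isFiniteType F hF U.2
    change (Module.annihilator Γ(X, U.1) Γ(F, U.1)).map
      (algebraMap Γ(X, U.1) Γ(X, X.basicOpen f)) =
        Module.annihilator Γ(X, X.basicOpen f) Γ(F, X.basicOpen f)
    exact annihilator_map_of_isLocalizedModule (Submonoid.powers f)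
      (resLinear F (X.basicOpen_le f))

lemma annIdeal_ideal (F : X.Modules) [F.IsQuasicoherent] (hF : F.IsFiniteType)
    (U : X.affineOpens) :
    (annIdeal F hF).ideal U = Module.annihilator Γ(X, U.1) Γ(F, U.1) := rfl

lemma mem_zeroLocus_iff_le_primeIdealOf {U : X.Opens} (hU : IsAffineOpen U) (I : Ideal Γ(X, U))
    (x : X) (hx : x ∈ U) :
    x ∈ X.zeroLocus (U := U) I ↔ I ≤ (hU.primeIdealOf ⟨x, hx⟩).asIdeal := by
  rw [Scheme.mem_zeroLocus_iff]
  constructor
  · intro h f hf
    by_contra hn
    apply h f hf
    rw [X.mem_basicOpen f x hx]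
    exact isUnit_germ_of_notMem hU x hx f hn
  · intro h f hf hxf
    exact mem_primeCompl_of_mem_basicOpen hU x hx f hxf (h hf)

theorem support_annIdeal (F : X.Modules) [F.IsQuasicoherent] (hF : F.IsFiniteType) :
    ((annIdeal F hF).support : Set X) = {x | ¬ Subsingleton (F.presheaf.stalk x)} := by
  ext x
  obtain ⟨U, hU, hxU, -⟩ := exists_isAffineOpen_mem_and_subset (x := x) (U := ⊤) trivial
  haveI : Module.Finite Γ(X, U) Γ(F, U) := finite_sections_of_isFiniteType F hF hU
  rw [SetLike.mem_coe, Scheme.IdealSheafData.mem_support_iff_of_mem (U := ⟨U, hU⟩) hxU,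
    annIdeal_ideal, mem_zeroLocus_iff_le_primeIdealOf hU _ x hxU, Set.mem_setOf_eq,
    ← mem_support_iff_not_subsingleton_stalk F hU x hxU, Module.mem_support_iff_of_finite]

end AnnSheaf

end Groth.Agent.LD.QC
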