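import Groth.Agent.Lib.Lead.QC.Flat
universe u
open CategoryTheory Limits AlgebraicGeometry TopologicalSpace Opposite TensorProduct

namespace Groth.Agent.LD.QC

lemma flat_iff_of_ringEquiv_semilinear {A A' M M' : Type*} [CommRing A] [CommRing A']
    [AddCommGroup M] [Module A M] [AddCommGroup M'] [Module A' M'] (e : A ≃+* A') (ψ : M ≃+ M')
    (hψ : ∀ (a : A) (m : M), ψ (a • m) = e a • ψ m) : Module.Flat A M ↔ Module.Flat A' M' := by
  letI : Algebra A A' := e.toRingHom.toAlgebra
  letI : Module A M' := Module.compHom M' e.toRingHom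
  haveI : IsScalarTower A A' M' := ⟨fun a b m => by
    change (e a * b) • m = e a • (b • m)
    rw [mul_smul]⟩
  let ψ' : M ≃ₗ[A] M' := { ψ with map_smul' := fun a m => hψ a m }
  have h1 : Module.Flat A M ↔ Module.Flat A M' := Module.Flat.equiv_iff ψ'
  have hloc : IsLocalization (⊥ : Submonoid A) A' := by
    haveI : IsLocalization (⊥ : Submonoid A) A := IsLocalization.self (by
      intro x hx
      rw [Submonoid.mem_bot] at hx
      subst hx
      exact isUnit_one)
    exact IsLocalization.isLocalization_of_algEquiv (⊥ : Submonoid A)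
      ({ e with commutes' := fun _ => rfl } : A ≃ₐ[A] A')
  rw [h1]
  exact (Module.flat_iff_of_isLocalization A' (⊥ : Submonoid A) M').symm

end Groth.Agent.LD.QC

namespace Groth.Agent.LD.QC

theorem isFlatOver_tilde_iff (A B : Type u) [CommRing A] [CommRing B] [Algebra A B]
    (M : Type u) [AddCommGroup M] [Module B M] [Module A M] [IsScalarTower A B M] :
    (∀ x : Spec (CommRingCat.of B),
      @Module.Flat ((Spec (CommRingCat.of A)).presheaf.stalk
        ((Spec.map (CommRingCat.ofHom (algebraMap A B))).base x))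
        ((tilde (R := CommRingCat.of B) (ModuleCat.of B M : ModuleCat.{u} B)).presheaf.stalk x) _ _
        (stalkModuleOver (Spec.map (CommRingCat.ofHom (algebraMap A B)))
          (tilde (R := CommRingCat.of B) (ModuleCat.of B M : ModuleCat.{u} B)) x)) ↔
      Module.Flat A M := by
  set f := Spec.map (CommRingCat.ofHom (algebraMap A B)) with hf
  set N := tilde (R := CommRingCat.of B) (ModuleCat.of B M : ModuleCat.{u} B) with hN
  have hT : (⊤ : (Spec (CommRingCat.of B)).Opens) ≤ f ⁻¹ᵁ ⊤ := le_top
  have key : @Module.Flat Γ(Spec (CommRingCat.of A), ⊤) Γ(N, ⊤) _ _ (sectionsModuleOver f N hT) ↔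
      Module.Flat A M := by
    letI := sectionsModuleOver f N hT
    symm
    let ψ := (tilde.isoTop (R := CommRingCat.of B)
      (ModuleCat.of B M : ModuleCat.{u} B)).toLinearEquiv
    refine flat_iff_of_ringEquiv_semilinear
      (Scheme.ΓSpecIso (CommRingCat.of A)).symm.commRingCatIsoToRingEquiv ψ.toAddEquiv ?_
    intro a m
    have h1 : ψ (a • m) = (algebraMap A B a) • ψ m := by
      rw [← algebraMap_smul B a m, map_smul]
    have h2 : (algebraMap A B a) • ψ m = (show Γ(N, ⊤) from
        ((Spec (CommRingCat.of B)).presheaf.map (⊤ : (Spec (CommRingCat.of B)).Opens).leTop.op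
          ((Scheme.ΓSpecIso (CommRingCat.of B)).inv (algebraMap A B a))) •
          (show Γ(N, ⊤) from ψ m)) := rfl
    have h3 : (Spec (CommRingCat.of B)).presheaf.map
        (⊤ : (Spec (CommRingCat.of B)).Opens).leTop.op
          ((Scheme.ΓSpecIso (CommRingCat.of B)).inv (algebraMap A B a)) =
        f.appLE ⊤ ⊤ hT ((Scheme.ΓSpecIso (CommRingCat.of A)).inv a) := by
      have e2 := Scheme.ΓSpecIso_inv_naturality (CommRingCat.ofHom (algebraMap A B))
      have e3 : (Scheme.ΓSpecIso (CommRingCat.of B)).inv (algebraMap A B a) =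
          f.appTop ((Scheme.ΓSpecIso (CommRingCat.of A)).inv a) := congr($e2 a)
      rw [e3]
      rfl
    refine h1.trans (h2.trans ?_)
    exact congrArg (fun r => (show Γ(N, ⊤) from r • (show Γ(N, ⊤) from ψ m))) h3
  rw [← key]
  constructor
  · intro h
    exact flat_sections_of_isFlatOverAt f N (isAffineOpen_top _) (isAffineOpen_top _) hT
      (fun x _ => h x)
  · intro h x
    exact isFlatOverAt_of_flat_sections f N (isAffineOpen_top _) (isAffineOpen_top _) hT x
      trivial h

end Groth.Agent.LD.QC
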