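import Groth.Agent.Lib.Lead.QC.SerreCore
import Groth.Agent.Lib.Lead.QC.TensorComm
import Groth.Agent.Lib.Lead.QC.AmpleBasis
import Groth.Agent.Lib.Lead.QC.SepAmple
universe u
open CategoryTheory Limits AlgebraicGeometry TopologicalSpace Opposite

namespace Groth.Agent.LD.QC
variable {X : Scheme.{u}}

/-- twisting a submodule of `O`: `I ⊗ M ⟶ M`. -/
noncomputable def twistIncl {I : X.Modules} (i : I ⟶ unitMod X) (M : X.Modules)
    [M.IsQuasicoherent] : CohB1.tensorMod I M ⟶ M :=
  KoszTw.tensorMap i (𝟙 M) ≫ (unitorL M).hom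

lemma twistIncl_app_tmul {I : X.Modules} (i : I ⟶ unitMod X) (M : X.Modules) [M.IsQuasicoherent]
    (V : X.Opens) (c : Γ(I, V)) (e : Γ(M, V)) :
    (twistIncl i M).app V (SecTwist.tmul I M V c e) = (show Γ(X, V) from i.app V c) • e := by
  change (unitorL M).hom.app V ((KoszTw.tensorMap i (𝟙 M)).app V (SecTwist.tmul I M V c e)) = _
  rw [KoszTw.tensorMap_tmul]
  exact unitorL_hom_app_tmul M V (i.app V c) e

theorem mono_twistIncl {I : X.Modules} (i : I ⟶ unitMod X) [Mono i] (M : X.Modules)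
    [M.IsQuasicoherent] (hM : PicF.IsInvertible M) : Mono (twistIncl i M) := by
  apply mono_of_injective_app
  intro W
  rw [injective_iff_map_eq_zero]
  intro t ht
  obtain ⟨Uf, ef, hef⟩ : ∃ (Uf : X → X.Opens) (ef : ∀ x, Γ(M, Uf x)),
      ∀ x, x ∈ Uf x ∧ IsBasisOver M (Uf x) (ef x) := by
    choose Uf ef h1 h2 using (isInvertible_iff_exists_isBasisOver M).mp hM
    exact ⟨Uf, ef, fun x => ⟨h1 x, h2 x⟩⟩
  apply section_ext_of_cover (CohB1.tensorMod I M) (fun x : W => W ⊓ Uf x.1) (fun _ => inf_le_left)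
  · intro y hy
    exact Opens.mem_iSup.mpr ⟨⟨y, hy⟩, ⟨hy, (hef y).1⟩⟩
  · rintro ⟨y, hy⟩
    rw [map_zero]
    have he := (hef y).2
    obtain ⟨c, hc⟩ := (bijective_tmul_of_isBasisOver I M he (W ⊓ Uf y) inf_le_right).2
      ((CohB1.tensorMod I M).presheaf.map (homOfLE (inf_le_left : W ⊓ Uf y ≤ W)).op t)
    have hc' : SecTwist.tmul I M (W ⊓ Uf y) c
        (M.presheaf.map (homOfLE (inf_le_right : W ⊓ Uf y ≤ Uf y)).op (ef y)) =
        (CohB1.tensorMod I M).presheaf.map (homOfLE (inf_le_left : W ⊓ Uf y ≤ W)).op t := hc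
    have h1 : (twistIncl i M).app (W ⊓ Uf y)
        ((CohB1.tensorMod I M).presheaf.map (homOfLE (inf_le_left : W ⊓ Uf y ≤ W)).op t) = 0 := by
      rw [app_res, ht, map_zero]
    rw [← hc', twistIncl_app_tmul] at h1
    have h2 : (show Γ(X, W ⊓ Uf y) from i.app (W ⊓ Uf y) c) = 0 := by
      apply (he.mono (inf_le_right : W ⊓ Uf y ≤ Uf y)).coord_injective
      rw [h1, zero_smul]
    have h3 : c = 0 := by
      apply mono_app i (W ⊓ Uf y)
      rw [map_zero]; exact h2
    rw [← hc', h3]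
    exact tmul_zero_left I M _ _

/-- **Step 1 of the cohomological criterion for ampleness.** -/
theorem exists_section_of_closedPoint (M : X.Modules) [M.IsQuasicoherent]
    (hM : PicF.IsInvertible M)
    (x : X) (hx : IsClosed ({x} : Set X)) (U : X.Opens)
    (hU : IsAffineOpen U) (hxU : x ∈ U) (e : Γ(M, U)) (he : IsBasisOver M U e)
    (hsurj : Function.Surjective ((cokernel.π (twistIncl (ClSub.idealModι
      (Scheme.IdealSheafData.vanishingIdeal
        ⟨(U : Set X)ᶜ ∪ {x}, (U.2.isClosed_compl).union hx⟩)) M)).app ⊤)) :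
    ∃ s : unitMod X ⟶ M, x ∈ CohB1.genLocus M s ∧ CohB1.genLocus M s ≤ U := by
  classical
  let Z : Closeds X := ⟨(U : Set X)ᶜ ∪ {x}, (U.2.isClosed_compl).union hx⟩
  let J := Scheme.IdealSheafData.vanishingIdeal Z
  let ι := ClSub.idealModι J
  let μ := twistIncl ι M
  haveI : Mono μ := mono_twistIncl ι M hM
  let π := cokernel.π μ
  let V₀ : X.Opens := ⟨({x} : Set X)ᶜ, hx.isOpen_compl⟩
  have hcov : U ⊔ V₀ = ⊤ := by
    ext y
    simp only [Opens.coe_sup, Opens.coe_top, Set.mem_union, SetLike.mem_coe, Set.mem_univ,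
      iff_true]
    by_cases hy : y = x
    · left; rw [hy]; exact hxU
    · right; exact hy
  have hπμ : ∀ (V : X.Opens) (t : Γ(CohB1.tensorMod (ClSub.idealMod J) M, V)),
      π.app V (μ.app V t) = 0 := by
    intro V t
    have : (μ ≫ π).app V t = 0 := by rw [cokernel.condition]; rfl
    exact this
  have h0 : (cokernel μ).presheaf.map (homOfLE (inf_le_left : U ⊓ V₀ ≤ U)).op (π.app U e) =
      (cokernel μ).presheaf.map (homOfLE (inf_le_right : U ⊓ V₀ ≤ V₀)).op
        (0 : Γ(cokernel μ, V₀)) := by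
    rw [map_zero]
    apply section_ext_of_cover (cokernel μ)
      (fun V : {V : X.affineOpens // V.1 ≤ U ⊓ V₀} => V.1.1) (fun V => V.2)
    · intro y hy
      obtain ⟨W, hW, hyW, hWU⟩ := exists_isAffineOpen_mem_and_subset (x := y) (U := U ⊓ V₀) hy
      exact Opens.mem_iSup.mpr ⟨⟨⟨W, hW⟩, hWU⟩, hyW⟩
    · rintro ⟨V, hV⟩
      rw [map_zero, res_res, ← app_res]
      have hd : Disjoint (V.1 : Set X) (Z : Set X) := by
        rw [Set.disjoint_left]
        intro y hyV hyZ
        have h1 := hV hyV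
        rcases hyZ with hyU | hyx
        · exact hyU h1.1
        · exact h1.2 hyx
      have htop := vanishingIdeal_ideal_eq_top Z V hd
      have hmem : (1 : Γ(X, V.1)) ∈ J.ideal V := by
        change _ ∈ (Scheme.IdealSheafData.vanishingIdeal Z).ideal V
        rw [htop]; trivial
      obtain ⟨c, hc⟩ := (exists_idealModι_app_eq_iff J V _).mpr hmem
      have h2 : μ.app V.1 (SecTwist.tmul (ClSub.idealMod J) M V.1 c
          (M.presheaf.map (homOfLE (hV.trans inf_le_left)).op e)) =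
          M.presheaf.map (homOfLE (hV.trans inf_le_left)).op e := by
        rw [twistIncl_app_tmul]
        have hc' : (show Γ(X, V.1) from ι.app V.1 c) = 1 := hc
        rw [hc', one_smul]
      rw [← h2]
      exact hπμ _ _
  obtain ⟨z, hz1, hz2⟩ := glue2 (cokernel μ) (π.app U e) (0 : Γ(cokernel μ, V₀)) h0
  let σ : Γ(cokernel μ, ⊤) := (cokernel μ).presheaf.map (homOfLE hcov.ge).op z
  have hσ1 : (cokernel μ).presheaf.map (homOfLE (le_top : U ≤ ⊤)).op σ = π.app U e := by
    change (cokernel μ).presheaf.map _ ((cokernel μ).presheaf.map _ z) = _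
    rw [res_res]; exact hz1
  have hσ2 : (cokernel μ).presheaf.map (homOfLE (le_top : V₀ ≤ ⊤)).op σ = 0 := by
    change (cokernel μ).presheaf.map _ ((cokernel μ).presheaf.map _ z) = _
    rw [res_res]; exact hz2
  obtain ⟨s₀, hs₀⟩ := hsurj σ
  have hs₀' : π.app ⊤ s₀ = σ := hs₀
  refine ⟨homOfSection M s₀, ?_, ?_⟩
  · -- over `U`
    have h1 : π.app U (M.presheaf.map (homOfLE (le_top : U ≤ ⊤)).op s₀ - e) = 0 := by
      rw [map_sub, app_res π (le_top : U ≤ ⊤) s₀, hs₀', hσ1, sub_self]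
    obtain ⟨t, ht⟩ := (mem_range_mono_iff μ U _).mpr h1
    obtain ⟨c, hc⟩ := (bijective_tmul_of_isBasisOver (ClSub.idealMod J) M he U le_rfl).2 t
    have hc' : SecTwist.tmul (ClSub.idealMod J) M U c
        (M.presheaf.map (homOfLE (le_refl U)).op e) = t := hc
    rw [res_self] at hc'
    rw [← hc', twistIncl_app_tmul] at ht
    set a : Γ(X, U) := ι.app U c with ha
    have hval : SecTwist.val (homOfSection M s₀) U = (1 + a) • e := by
      rw [val_homOfSection, add_smul, one_smul]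
      have ht' : a • e = M.presheaf.map (homOfLE (le_top : U ≤ ⊤)).op s₀ - e := ht
      rw [ht']; abel
    have hG := genLocus_inf_eq_basicOpen (homOfSection M s₀) he (1 + a) hval
    have h2 : a ∈ J.ideal ⟨U, hU⟩ := (exists_idealModι_app_eq_iff J ⟨U, hU⟩ _).mp ⟨c, rfl⟩
    have h3 := notMem_basicOpen_of_mem_vanishingIdeal Z ⟨U, hU⟩ _ h2 x hxU (Or.inr rfl)
    have h4 : ¬ IsUnit (X.presheaf.germ U x hxU a) := by
      intro hu; exact h3 ((X.mem_basicOpen _ x hxU).mpr hu)
    have h5 : IsUnit (X.presheaf.germ U x hxU (1 + a)) := by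
      have h6 := IsLocalRing.isUnit_or_isUnit_of_isUnit_add
        (a := X.presheaf.germ U x hxU (1 + a)) (b := -X.presheaf.germ U x hxU a)
        (by rw [map_add, map_one, add_neg_cancel_right]; exact isUnit_one)
      rcases h6 with h6 | h6
      · exact h6
      · exact absurd (by simpa using h6.neg) h4
    have h7 : x ∈ X.basicOpen (1 + a) := (X.mem_basicOpen _ x hxU).mpr h5
    rw [← hG] at h7
    exact h7.1
  · intro y hy
    by_contra hyU
    have hyx : y ≠ x := fun h => hyU (h ▸ hxU)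
    have hyV₀ : y ∈ V₀ := hyx
    obtain ⟨W, hW, hyW, hWle⟩ := exists_isAffineOpen_mem_and_subset (x := y)
      (U := V₀ ⊓ CohB1.genLocus M (homOfSection M s₀)) ⟨hyV₀, hy⟩
    have hWV₀ : W ≤ V₀ := hWle.trans inf_le_left
    have hWG : W ≤ CohB1.genLocus M (homOfSection M s₀) := hWle.trans inf_le_right
    have hb := isBasisOver_val_of_le (homOfSection M s₀) hWG
    rw [val_homOfSection] at hb
    set e' := M.presheaf.map (homOfLE (le_top : W ≤ ⊤)).op s₀ with he'
    have h1 : π.app W e' = 0 := by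
      rw [app_res π (le_top : W ≤ ⊤) s₀, hs₀', ← res_res (cokernel μ) (le_top : V₀ ≤ ⊤) hWV₀, hσ2,
        map_zero]
    obtain ⟨t, ht⟩ := (mem_range_mono_iff μ W _).mpr h1
    obtain ⟨c, hc⟩ := (bijective_tmul_of_isBasisOver (ClSub.idealMod J) M hb W le_rfl).2 t
    have hc' : SecTwist.tmul (ClSub.idealMod J) M W c
        (M.presheaf.map (homOfLE (le_refl W)).op e') = t := hc
    rw [res_self] at hc'
    rw [← hc', twistIncl_app_tmul] at ht
    have h2 : (show Γ(X, W) from ι.app W c) = 1 := by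
      apply hb.coord_injective
      rw [ht, one_smul]
    have h3 : (1 : Γ(X, W)) ∈ J.ideal ⟨W, hW⟩ :=
      (exists_idealModι_app_eq_iff J ⟨W, hW⟩ _).mp ⟨c, h2⟩
    have h4 := notMem_basicOpen_of_mem_vanishingIdeal Z ⟨W, hW⟩ _ h3 y hyW (Or.inl hyU)
    apply h4
    rw [X.basicOpen_of_isUnit isUnit_one]
    exact hyW

end Groth.Agent.LD.QC
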