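import Groth.Agent.Lib.Lead.QC.AmpleGG
import Groth.Agent.Lib.Lead.QC.TensorComm
import Groth.Agent.Lib.Lead.QC.LocFree
universe u
open CategoryTheory Limits AlgebraicGeometry TopologicalSpace Opposite

namespace Groth.Agent.LD.QC
variable {X : Scheme.{u}}

/-- invertibility is invariant under isomorphism. -/
theorem isInvertible_of_iso {L L' : X.Modules} (e : L ≅ L') (h : PicF.IsInvertible L) :
    PicF.IsInvertible L' := by
  intro x
  obtain ⟨U, hxU, ⟨φ⟩⟩ := h x
  exact ⟨U, hxU, ⟨(Scheme.Modules.restrictFunctor U.ι).mapIso e.symm ≪≫ φ⟩⟩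

/-- an invertible module is of finite type. -/
theorem isFiniteType_of_isInvertible (L : X.Modules) (h : PicF.IsInvertible L) :
    L.IsFiniteType := by
  have hfp := isFinitePresentation_of_isFinLocFree L (isFinLocFree_of_isInvertible L h)
  exact inferInstance

/-- ampleness is invariant under isomorphism. -/
theorem isAmple_of_iso {L L' : X.Modules} (e : L ≅ L') (h : CohB1.IsAmple L) :
    CohB1.IsAmple L' := by
  obtain ⟨hinv, hc, hA⟩ := h
  refine ⟨isInvertible_of_iso e hinv, hc, fun x => ?_⟩
  obtain ⟨n, s, hxs, haff⟩ := hA x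
  refine ⟨n, s ≫ (tensorPowCongr e (n + 1)).hom, ?_, ?_⟩
  · rw [genLocus_comp_iso]; exact hxs
  · rw [genLocus_comp_iso]; exact haff

/-- the projection of a finite free module onto a factor. -/
noncomputable def freeProj (X : Scheme.{u}) (K : ℕ) (j : Fin K) :
    FlatMod.freeMod X K ⟶ unitMod X :=
  Sigma.desc (fun i => if i = j then 𝟙 _ else 0)

lemma freeProj_total (K : ℕ) :
    ∑ j, freeProj X K j ≫ Sigma.ι (fun _ : Fin K => unitMod X) j = 𝟙 (FlatMod.freeMod X K) := by
  classical
  apply Sigma.hom_ext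
  intro i
  rw [Preadditive.comp_sum, Category.comp_id]
  have h : ∀ j : Fin K, Sigma.ι (fun _ : Fin K => unitMod X) i ≫ freeProj X K j ≫
      Sigma.ι (fun _ : Fin K => unitMod X) j =
      if j = i then Sigma.ι (fun _ : Fin K => unitMod X) i else 0 := by
    intro j
    rw [← Category.assoc, freeProj, Sigma.ι_desc]
    by_cases hij : i = j
    · subst hij
      simp
    · rw [if_neg hij, if_neg (Ne.symm hij), zero_comp]
  rw [Finset.sum_congr rfl (fun j _ => h j), Finset.sum_ite_eq' Finset.univ i]
  simp

lemma sum_app {M N : X.Modules} {K : ℕ} (φ : Fin K → (M ⟶ N)) (W : X.Opens) (g : Γ(M, W)) :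
    (∑ j, φ j).app W g = ∑ j, (φ j).app W g := by
  classical
  have key : ∀ S : Finset (Fin K), (∑ j ∈ S, φ j).app W g = ∑ j ∈ S, (φ j).app W g := by
    intro S
    induction S using Finset.induction_on with
    | empty => simp
    | insert a S ha ih =>
      rw [Finset.sum_insert ha, Finset.sum_insert ha, ← ih]
      rfl
  exact key _

theorem exists_mem_basicOpen_of_sum_eq_one {W : X.Opens} {K : ℕ} (a b : Fin K → Γ(X, W))
    (h : ∑ j, b j * a j = 1) (x : X) (hx : x ∈ W) : ∃ j, x ∈ X.basicOpen (a j) := by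
  by_contra hcon
  push Not at hcon
  have h1 : ∀ j, X.presheaf.germ W x hx (a j) ∈
      IsLocalRing.maximalIdeal (X.presheaf.stalk x) := by
    intro j
    rw [IsLocalRing.mem_maximalIdeal, mem_nonunits_iff]
    intro hu
    exact hcon j ((X.mem_basicOpen _ x hx).mpr hu)
  have h2 : X.presheaf.germ W x hx (∑ j, b j * a j) ∈
      IsLocalRing.maximalIdeal (X.presheaf.stalk x) := by
    rw [map_sum]
    apply Ideal.sum_mem
    intro j _
    rw [map_mul]
    exact Ideal.mul_mem_left _ _ (h1 j)
  rw [h, map_one] at h2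
  exact (Ideal.ne_top_iff_one _).mp (IsLocalRing.maximalIdeal.isMaximal _).ne_top h2

/-- if a basis of an invertible module is, near `x`, the image of a section of a finite free
module, then `x` lies in the generating locus of one of the corresponding global sections. -/
theorem exists_mem_genLocus_of_lift (M : X.Modules) {K : ℕ}
    (p : FlatMod.freeMod X K ⟶ M) (x : X) {U : X.Opens} (e : Γ(M, U)) (he : IsBasisOver M U e)
    (W : X.Opens) (hW : W ≤ U) (hxW : x ∈ W) (g : Γ(FlatMod.freeMod X K, W))
    (hg : p.app W g = M.presheaf.map (homOfLE hW).op e) :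
    ∃ j, x ∈ CohB1.genLocus M (Sigma.ι (fun _ : Fin K => unitMod X) j ≫ p) := by
  classical
  have heW := he.mono hW
  set eW := M.presheaf.map (homOfLE hW).op e with heW_def
  let s : Fin K → (unitMod X ⟶ M) := fun j => Sigma.ι (fun _ : Fin K => unitMod X) j ≫ p
  have hsurj : ∀ j, ∃ a : Γ(X, W), SecTwist.val (s j) W = a • eW := by
    intro j
    obtain ⟨a, ha⟩ := (heW W le_rfl).2 (SecTwist.val (s j) W)
    have ha' : a • M.presheaf.map (homOfLE (le_refl W)).op eW = SecTwist.val (s j) W := ha
    rw [res_self] at ha'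
    exact ⟨a, ha'.symm⟩
  choose a ha using hsurj
  let b : Fin K → Γ(X, W) := fun j => (freeProj X K j).app W g
  have hdec : p.app W g = ∑ j, b j • SecTwist.val (s j) W := by
    have h1 : g = ∑ j, (Sigma.ι (fun _ : Fin K => unitMod X) j).app W (b j) := by
      have h2 := sum_app (fun j => freeProj X K j ≫ Sigma.ι (fun _ : Fin K => unitMod X) j) W g
      rw [freeProj_total] at h2
      exact h2
    conv_lhs => rw [h1]
    rw [map_sum]
    refine Finset.sum_congr rfl (fun j _ => ?_)
    exact unitHom_app M (s j) W (b j)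
  have hsum : (∑ j, b j * a j) • eW = (1 : Γ(X, W)) • eW := by
    rw [one_smul, Finset.sum_smul]
    refine Eq.trans ?_ (hdec.symm.trans hg)
    refine Finset.sum_congr rfl (fun j _ => ?_)
    rw [ha j]
    exact mul_smul (b j) (a j) eW
  have hone : ∑ j, b j * a j = 1 := by
    have hinj := (heW W le_rfl).1
    apply hinj
    change (∑ j, b j * a j) • M.presheaf.map (homOfLE (le_refl W)).op eW =
      (1 : Γ(X, W)) • M.presheaf.map (homOfLE (le_refl W)).op eW
    rw [res_self]
    exact hsum
  obtain ⟨j, hj⟩ := exists_mem_basicOpen_of_sum_eq_one a b hone x hxW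
  refine ⟨j, ?_⟩
  have h3 := genLocus_inf_eq_basicOpen (s j) heW (a j) (ha j)
  have h4 : x ∈ CohB1.genLocus M (s j) ⊓ W := by rw [h3]; exact hj
  exact h4.1

/-- if finitely many global sections generate an invertible module, every point lies in the
generating locus of one of them. -/
theorem exists_mem_genLocus_of_epi (M : X.Modules) (hM : PicF.IsInvertible M) {K : ℕ}
    (p : FlatMod.freeMod X K ⟶ M) (hp : Epi p) (x : X) :
    ∃ j, x ∈ CohB1.genLocus M (Sigma.ι (fun _ : Fin K => unitMod X) j ≫ p) := by
  obtain ⟨U, e, hxU, he⟩ := (isInvertible_iff_exists_isBasisOver M).mp hM x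
  obtain ⟨W, hW, hxW, g, hg⟩ := exists_local_lift p hp U e x hxU
  exact exists_mem_genLocus_of_lift M p x e he W hW hxW g hg

end Groth.Agent.LD.QC
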