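import Groth.Agent.Lib.Lead.QC.GlobGen
import Groth.Agent.Lib.Lead.QC.AmpleCrit
import Groth.Agent.Lib.Lead.QC.AmpleIso
import Groth.Agent.Lib.Lead.QC.AmpleGG
import Groth.Agent.Lib.Lead.QC.SepAmple
universe u
open CategoryTheory Limits AlgebraicGeometry TopologicalSpace Opposite

namespace Groth.Agent.LD.QC
variable {X : Scheme.{u}}

/-- **basis property from twisted generation of ideals** (core of EGA II 4.5.2/4.5.5). -/
theorem exists_affine_genLocus_le_of_twist [CompactSpace X] [X.IsSeparated] (L : X.Modules)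
    (hL : PicF.IsInvertible L)
    (h : ∀ I : X.IdealSheafData, BlowUp.IsFiniteTypeIdeal I →
      ∃ (n k : ℕ) (p : FlatMod.freeMod X k ⟶
        CohB1.tensorMod (ClSub.idealMod I) (CohB1.tensorPow L (n + 1))), Epi p)
    (x : X) (V : X.Opens) (hxV : x ∈ V) :
    ∃ (n : ℕ) (s : unitMod X ⟶ CohB1.tensorPow L (n + 1)),
      x ∈ CohB1.genLocus _ s ∧ CohB1.genLocus _ s ≤ V ∧ IsAffineOpen (CohB1.genLocus _ s) := by
  classical
  haveI : QuasiSeparatedSpace X := inferInstance
  haveI hLqc : L.IsQuasicoherent := qc_of_isInvertible L hL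
  obtain ⟨U, e₁, hU, hxU, hUV, heL⟩ := exists_affine_basis L hL x V hxV
  obtain ⟨I, hIft, hItop, hIle⟩ := exists_ft_ideal U hU
  obtain ⟨n, k, p, hp⟩ := h I hIft
  refine ⟨n, ?_⟩
  let M : X.Modules := CohB1.tensorPow L (n + 1)
  have hMinv : PicF.IsInvertible M := isInvertible_tensorPow hL (n + 1)
  haveI hMqc : M.IsQuasicoherent := qc_of_isInvertible M hMinv
  set e : Γ(M, U) := secPow e₁ (n + 1) with he_def
  have he : IsBasisOver M U e := heL.secPow (n + 1)
  let ι := ClSub.idealModι I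
  let μ := twistIncl ι M
  have h1 : (1 : Γ(X, U)) ∈ I.ideal ⟨U, hU⟩ := by rw [hItop ⟨U, hU⟩ le_rfl]; trivial
  obtain ⟨c, hc⟩ := (exists_idealModι_app_eq_iff I ⟨U, hU⟩ _).mpr h1
  obtain ⟨W, hW, hxW, g, hg⟩ := exists_local_lift p hp U
    (SecTwist.tmul (ClSub.idealMod I) M U c e) x hxU
  have hg' : (p ≫ μ).app W g = M.presheaf.map (homOfLE hW).op e := by
    change μ.app W (p.app W g) = _
    rw [hg, app_res μ hW, twistIncl_app_tmul]
    have hc' : (show Γ(X, U) from ι.app U c) = 1 := hc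
    rw [hc', one_smul]
  obtain ⟨j, hj⟩ := exists_mem_genLocus_of_lift M (p ≫ μ) x e he W hW hxW g hg'
  set s' : unitMod X ⟶ CohB1.tensorMod (ClSub.idealMod I) M :=
    Sigma.ι (fun _ : Fin k => unitMod X) j ≫ p with hs'
  set s : unitMod X ⟶ M := Sigma.ι (fun _ : Fin k => unitMod X) j ≫ p ≫ μ with hs
  have hss' : s = s' ≫ μ := by rw [hs, hs', Category.assoc]
  have hle : CohB1.genLocus M s ≤ U := by
    intro y hy
    by_contra hyU
    obtain ⟨V', hV', hyV', hVle⟩ := exists_isAffineOpen_mem_and_subset (x := y)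
      (U := CohB1.genLocus M s) hy
    have hb := isBasisOver_val_of_le s hVle
    obtain ⟨c', hc'⟩ := (bijective_tmul_of_isBasisOver (ClSub.idealMod I) M hb V' le_rfl).2
      (SecTwist.val s' V')
    have hc'' : SecTwist.tmul (ClSub.idealMod I) M V' c'
        (M.presheaf.map (homOfLE (le_refl V')).op (SecTwist.val s V')) = SecTwist.val s' V' := hc'
    rw [res_self] at hc''
    have h2 : SecTwist.val s V' = μ.app V' (SecTwist.val s' V') := by
      rw [hss']; rfl
    rw [← hc'', twistIncl_app_tmul] at h2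
    have h3 : (show Γ(X, V') from ι.app V' c') = 1 := by
      apply hb.coord_injective
      rw [← h2, one_smul]
    have h4 : (1 : Γ(X, V')) ∈ I.ideal ⟨V', hV'⟩ :=
      (exists_idealModι_app_eq_iff I ⟨V', hV'⟩ _).mp ⟨c', h3⟩
    have h5 := notMem_basicOpen_of_mem_vanishingIdeal
      ⟨(U : Set X)ᶜ, U.2.isClosed_compl⟩ ⟨V', hV'⟩ _ (hIle ⟨V', hV'⟩ h4) y hyV' hyU
    apply h5
    rw [X.basicOpen_of_isUnit isUnit_one]
    exact hyV'
  refine ⟨s, hj, hle.trans hUV, ?_⟩
  have h6 := isAffineOpen_genLocus_inf M hMinv s hU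
  rwa [inf_eq_left.mpr hle] at h6

/-- **EGA II 4.5.2 (a) ⇒ (a')**: for an ample `L` on a quasi-compact separated scheme, the affine
opens `X_s` form a basis of the topology. -/
theorem exists_affine_genLocus_le [CompactSpace X] [X.IsSeparated] (L : X.Modules)
    (hL : CohB1.IsAmple L) (x : X) (V : X.Opens) (hxV : x ∈ V) :
    ∃ (n : ℕ) (s : unitMod X ⟶ CohB1.tensorPow L (n + 1)),
      x ∈ CohB1.genLocus _ s ∧ CohB1.genLocus _ s ≤ V ∧ IsAffineOpen (CohB1.genLocus _ s) := by
  haveI : QuasiSeparatedSpace X := inferInstance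
  apply exists_affine_genLocus_le_of_twist L hL.1 ?_ x V hxV
  intro I hI
  obtain ⟨n₀, hn₀⟩ := exists_epi_free_of_isAmple L hL (ClSub.idealMod I) (isFiniteType_idealMod I hI)
  obtain ⟨K, p, hp⟩ := hn₀ (n₀ + 1) (Nat.le_succ _)
  exact ⟨n₀, K, p, hp⟩

/-- the zero section generates nowhere. -/
theorem genLocus_zero (M : X.Modules) (hM : PicF.IsInvertible M) :
    CohB1.genLocus M (0 : unitMod X ⟶ M) = ⊥ := by
  rw [eq_bot_iff]
  intro y hy
  obtain ⟨U, e, hyU, he⟩ := (isInvertible_iff_exists_isBasisOver M).mp hM y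
  have hval : SecTwist.val (0 : unitMod X ⟶ M) U = (0 : Γ(X, U)) • e := by
    rw [zero_smul]; rfl
  have hD := genLocus_inf_eq_basicOpen (0 : unitMod X ⟶ M) he 0 hval
  have : y ∈ X.basicOpen (0 : Γ(X, U)) := by rw [← hD]; exact ⟨hy, hyU⟩
  rw [Scheme.basicOpen_zero] at this
  exact this

section Add
variable (M : X.Modules) (hM : PicF.IsInvertible M) (a b : unitMod X ⟶ M)

lemma val_add (U : X.Opens) : SecTwist.val (a + b) U = SecTwist.val a U + SecTwist.val b U := rfl

include hM in
theorem genLocus_add_le : CohB1.genLocus M (a + b) ≤ CohB1.genLocus M a ⊔ CohB1.genLocus M b := by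
  intro y hy
  obtain ⟨U, e, hyU, he⟩ := (isInvertible_iff_exists_isBasisOver M).mp hM y
  obtain ⟨f, hf⟩ := he.exists_coord (SecTwist.val a U)
  obtain ⟨g, hg⟩ := he.exists_coord (SecTwist.val b U)
  have hfg : SecTwist.val (a + b) U = (f + g) • e := by
    rw [val_add, hf, hg]; exact (add_smul f g e).symm
  have hDa := genLocus_inf_eq_basicOpen a he f hf
  have hDb := genLocus_inf_eq_basicOpen b he g hg
  have hDab := genLocus_inf_eq_basicOpen (a + b) he (f + g) hfg
  have h1 : y ∈ X.basicOpen (f + g) := by rw [← hDab]; exact ⟨hy, hyU⟩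
  have h2 : IsUnit (X.presheaf.germ U y hyU (f + g)) := (X.mem_basicOpen _ y hyU).mp h1
  rw [map_add] at h2
  rcases IsLocalRing.isUnit_or_isUnit_of_isUnit_add h2 with h3 | h3
  · left
    have : y ∈ X.basicOpen f := (X.mem_basicOpen _ y hyU).mpr h3
    rw [← hDa] at this; exact this.1
  · right
    have : y ∈ X.basicOpen g := (X.mem_basicOpen _ y hyU).mpr h3
    rw [← hDb] at this; exact this.1

include hM in
theorem mem_genLocus_add (y : X) (ha : y ∈ CohB1.genLocus M a) (hb : y ∉ CohB1.genLocus M b) :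
    y ∈ CohB1.genLocus M (a + b) := by
  obtain ⟨U, e, hyU, he⟩ := (isInvertible_iff_exists_isBasisOver M).mp hM y
  obtain ⟨f, hf⟩ := he.exists_coord (SecTwist.val a U)
  obtain ⟨g, hg⟩ := he.exists_coord (SecTwist.val b U)
  have hfg : SecTwist.val (a + b) U = (f + g) • e := by
    rw [val_add, hf, hg]; exact (add_smul f g e).symm
  have hDa := genLocus_inf_eq_basicOpen a he f hf
  have hDb := genLocus_inf_eq_basicOpen b he g hg
  have hDab := genLocus_inf_eq_basicOpen (a + b) he (f + g) hfg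
  have h1 : IsUnit (X.presheaf.germ U y hyU f) := by
    have : y ∈ X.basicOpen f := by rw [← hDa]; exact ⟨ha, hyU⟩
    exact (X.mem_basicOpen _ y hyU).mp this
  have h2 : ¬ IsUnit (X.presheaf.germ U y hyU g) := by
    intro hu
    have : y ∈ X.basicOpen g := (X.mem_basicOpen _ y hyU).mpr hu
    rw [← hDb] at this
    exact hb this.1
  have h3 : IsUnit (X.presheaf.germ U y hyU (f + g)) := by
    rw [map_add]
    have h4 := IsLocalRing.isUnit_or_isUnit_of_isUnit_add
      (a := X.presheaf.germ U y hyU f + X.presheaf.germ U y hyU g)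
      (b := -X.presheaf.germ U y hyU g) (by rw [add_neg_cancel_right]; exact h1)
    rcases h4 with h4 | h4
    · exact h4
    · exact absurd (by simpa using h4.neg) h2
  have : y ∈ X.basicOpen (f + g) := (X.mem_basicOpen _ y hyU).mpr h3
  rw [← hDab] at this
  exact this.1

include hM in
/-- the locus of a sum of two sections with affine loci is affine. -/
theorem isAffineOpen_genLocus_add (haff : IsAffineOpen (CohB1.genLocus M a))
    (hbff : IsAffineOpen (CohB1.genLocus M b)) : IsAffineOpen (CohB1.genLocus M (a + b)) := by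
  set Y := CohB1.genLocus M (a + b) with hY
  have he : IsBasisOver M Y (SecTwist.val (a + b) Y) := isBasisOver_val_of_le (a + b) le_rfl
  obtain ⟨f, hf⟩ := he.exists_coord (SecTwist.val a Y)
  obtain ⟨g, hg⟩ := he.exists_coord (SecTwist.val b Y)
  have hfg : f + g = 1 := by
    apply he.coord_injective
    rw [add_smul, ← hf, ← hg, one_smul]; rfl
  have hDa := genLocus_inf_eq_basicOpen a he f hf
  have hDb := genLocus_inf_eq_basicOpen b he g hg
  apply isAffineOpen_of_isAffineOpen_basicOpen Y {f, g}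
  · rw [Ideal.eq_top_iff_one, ← hfg]
    exact Ideal.add_mem _ (Ideal.subset_span (by simp)) (Ideal.subset_span (by simp))
  · intro i hi
    rcases hi with rfl | hi
    · rw [← hDa, inf_comm]
      exact isAffineOpen_genLocus_inf M hM (a + b) haff
    · rw [Set.mem_singleton_iff] at hi
      subst hi
      rw [← hDb, inf_comm]
      exact isAffineOpen_genLocus_inf M hM (a + b) hbff

end Add

end Groth.Agent.LD.QC
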