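import Groth.Agent.Lib.Lead.QC.CounitGen
import Groth.Agent.Lib.Lead.QC.AmpleFinite
universe u
open CategoryTheory Limits AlgebraicGeometry TopologicalSpace Opposite

namespace Groth.Agent.LD.QC
variable {X : Scheme.{u}}

/-- if a local basis `e` of `M` near `x` is a combination of elements of `S`, then some element of
`S` is `b • e` with `b` invertible at `x`. -/
theorem exists_coord_mem_basicOpen_of_span (M : X.Modules) (x : X) {U : X.Opens} (hxU : x ∈ U)
    (e : Γ(M, U)) (he : IsBasisOver M U e) (S : Set Γ(M, U))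
    (hspan : e ∈ Submodule.span Γ(X, U) S) :
    ∃ m ∈ S, ∃ b : Γ(X, U), m = b • e ∧ x ∈ X.basicOpen b := by
  by_contra hcon
  push Not at hcon
  let φ : Γ(X, U) →ₗ[Γ(X, U)] Γ(M, U) := LinearMap.toSpanSingleton Γ(X, U) Γ(M, U) e
  have hφ : Function.Bijective φ := by
    have := he U le_rfl
    simp only [res_self] at this
    exact this
  let Φ := LinearEquiv.ofBijective φ hφ
  let I : Ideal Γ(X, U) := Ideal.comap (X.presheaf.germ U x hxU).hom
    (IsLocalRing.maximalIdeal (X.presheaf.stalk x))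
  have hI : ∀ c : Γ(X, U), c ∈ I ↔ x ∉ X.basicOpen c := by
    intro c
    rw [Scheme.mem_basicOpen _ _ _ hxU]
    exact Iff.rfl
  have hle : Submodule.span Γ(X, U) S ≤ Submodule.comap Φ.symm.toLinearMap I := by
    rw [Submodule.span_le]
    intro m hm
    change Φ.symm m ∈ I
    obtain ⟨b, hb⟩ := he.exists_coord m
    have h1 : Φ.symm m = b := by
      rw [LinearEquiv.symm_apply_eq, hb]; rfl
    rw [h1, hI]
    exact hcon m hm b hb
  have h3 := hle hspan
  change Φ.symm e ∈ I at h3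
  have h4 : Φ.symm e = 1 := by
    rw [LinearEquiv.symm_apply_eq]
    change e = (1 : Γ(X, U)) • e
    rw [one_smul]
  rw [h4, hI] at h3
  apply h3
  rw [X.basicOpen_of_isUnit isUnit_one]
  exact hxU

/-- core of the relative ampleness criterion: from generation of `I ⊗ M` over `W` by sections,
a section of `M` over `W` generating at `x` and generating only inside `U`. -/
theorem exists_section_of_span_twist (M : X.Modules) [M.IsQuasicoherent]
    (I : X.IdealSheafData) (W U : X.Opens) (hU : IsAffineOpen U) (hUW : U ≤ W) (x : X) (hxU : x ∈ U)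
    (e : Γ(M, U)) (he : IsBasisOver M U e)
    (hItop : (1 : Γ(X, U)) ∈ I.ideal ⟨U, hU⟩)
    (hIle : I ≤ Scheme.IdealSheafData.vanishingIdeal ⟨(U : Set X)ᶜ, U.2.isClosed_compl⟩)
    (hspan : Submodule.span Γ(X, U) (Set.range fun a : Γ(CohB1.tensorMod (ClSub.idealMod I) M, W) =>
      (CohB1.tensorMod (ClSub.idealMod I) M).presheaf.map (homOfLE hUW).op a) = ⊤) :
    ∃ σ : Γ(M, W), (∃ (U₁ : X.Opens) (h₁ : U₁ ≤ W), x ∈ U₁ ∧
        IsBasisOver M U₁ (M.presheaf.map (homOfLE h₁).op σ)) ∧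
      (∀ (V' : X.Opens) (hV' : IsAffineOpen V') (h' : V' ≤ W),
        IsBasisOver M V' (M.presheaf.map (homOfLE h').op σ) → V' ≤ U) := by
  let ι := ClSub.idealModι I
  let μ := twistIncl ι M
  obtain ⟨c, hc⟩ := (exists_idealModι_app_eq_iff I ⟨U, hU⟩ _).mpr hItop
  let z := SecTwist.tmul (ClSub.idealMod I) M U c e
  have hz : μ.app U z = e := by
    change μ.app U (SecTwist.tmul (ClSub.idealMod I) M U c e) = e
    rw [twistIncl_app_tmul]
    have hc' : (show Γ(X, U) from ι.app U c) = 1 := hc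
    rw [hc', one_smul]
  have h1 : z ∈ Submodule.span Γ(X, U) (Set.range fun a : Γ(CohB1.tensorMod (ClSub.idealMod I) M, W) =>
      (CohB1.tensorMod (ClSub.idealMod I) M).presheaf.map (homOfLE hUW).op a) := by
    rw [hspan]; trivial
  have h2 := Submodule.apply_mem_span_image_of_mem_span (appLinear μ U) h1
  rw [appLinear_apply, hz] at h2
  obtain ⟨m, hm, b, hmb, hxb⟩ := exists_coord_mem_basicOpen_of_span M x hxU e he _ h2
  obtain ⟨_, ⟨a, rfl⟩, rfl⟩ := hm
  rw [appLinear_apply, app_res μ hUW a] at hmb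
  refine ⟨μ.app W a, ⟨X.basicOpen b, (X.basicOpen_le b).trans hUW, hxb, ?_⟩, ?_⟩
  · rw [← res_res M hUW (X.basicOpen_le b), hmb, smul_res]
    exact ((he.mono (X.basicOpen_le b)).smul_iff _).mpr
      (isUnit_res_of_le_basicOpen b (X.basicOpen_le b) le_rfl)
  · intro V' hV' h' hb
    obtain ⟨c', hc'⟩ := (bijective_tmul_of_isBasisOver (ClSub.idealMod I) M hb V' le_rfl).2
      ((CohB1.tensorMod (ClSub.idealMod I) M).presheaf.map (homOfLE h').op a)
    have hc'' : SecTwist.tmul (ClSub.idealMod I) M V' c'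
        (M.presheaf.map (homOfLE (le_refl V')).op (M.presheaf.map (homOfLE h').op (μ.app W a))) =
        (CohB1.tensorMod (ClSub.idealMod I) M).presheaf.map (homOfLE h').op a := hc'
    rw [res_self] at hc''
    have h5 : M.presheaf.map (homOfLE h').op (μ.app W a) =
        μ.app V' ((CohB1.tensorMod (ClSub.idealMod I) M).presheaf.map (homOfLE h').op a) :=
      (app_res μ h' a).symm
    rw [← hc'', twistIncl_app_tmul] at h5
    have h6 : (show Γ(X, V') from ι.app V' c') = 1 := by
      apply hb.coord_injective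
      rw [← h5, one_smul]
    have h7 : (1 : Γ(X, V')) ∈ I.ideal ⟨V', hV'⟩ :=
      (exists_idealModι_app_eq_iff I ⟨V', hV'⟩ _).mp ⟨c', h6⟩
    intro y hyV'
    by_contra hyU
    have h8 := notMem_basicOpen_of_mem_vanishingIdeal
      ⟨(U : Set X)ᶜ, U.2.isClosed_compl⟩ ⟨V', hV'⟩ _ (hIle ⟨V', hV'⟩ h7) y hyV' hyU
    apply h8
    rw [X.basicOpen_of_isUnit isUnit_one]
    exact hyV'

/-- a section over `W` generating at `x` and only inside an affine `U ⊆ W` gives a section on the
open subscheme `W` whose generating locus is an affine neighbourhood of `x`. -/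
theorem exists_affine_genLocus_of_section (M : X.Modules) (hM : PicF.IsInvertible M)
    (W U : X.Opens) (hU : IsAffineOpen U) (hUW : U ≤ W) (σ : Γ(M, W)) (x' : W.toScheme)
    (h1 : ∃ (U₁ : X.Opens) (h₁ : U₁ ≤ W), W.ι x' ∈ U₁ ∧
        IsBasisOver M U₁ (M.presheaf.map (homOfLE h₁).op σ))
    (h2 : ∀ (V' : X.Opens) (hV' : IsAffineOpen V') (h' : V' ≤ W),
        IsBasisOver M V' (M.presheaf.map (homOfLE h').op σ) → V' ≤ U) :
    ∃ s : unitMod W.toScheme ⟶ M.restrict W.ι,
      x' ∈ CohB1.genLocus _ s ∧ IsAffineOpen (CohB1.genLocus _ s) := by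
  let j := W.ι
  have hM' : PicF.IsInvertible (M.restrict j) := isInvertible_restrict j hM
  have himg : j ''ᵁ ⊤ ≤ W := W.ι_image_top.le
  let t : Γ(M.restrict j, ⊤) := M.presheaf.map (homOfLE himg).op σ
  let s := homOfSection (M.restrict j) t
  have hval : ∀ V'' : W.toScheme.Opens, (show Γ(M, j ''ᵁ V'') from SecTwist.val s V'') =
      M.presheaf.map (homOfLE (W.ι_image_le V'')).op σ := by
    intro V''
    have h := val_homOfSection (M.restrict j) t V''
    refine h.trans ?_
    exact res_res M himg (Scheme.Hom.image_mono j (le_top : V'' ≤ ⊤)) σ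
  have hbasis : ∀ V'' : W.toScheme.Opens, IsBasisOver (M.restrict j) V'' (SecTwist.val s V'') ↔
      IsBasisOver M (j ''ᵁ V'') (M.presheaf.map (homOfLE (W.ι_image_le V'')).op σ) := by
    intro V''
    rw [← hval V'']
    exact isBasisOver_restrict_iff j M V'' _
  have hU' : IsAffineOpen (j ⁻¹ᵁ U) := by
    rw [← Scheme.Hom.isAffineOpen_iff_of_isOpenImmersion j,
      Scheme.Hom.image_preimage_eq_opensRange_inf, Scheme.Opens.opensRange_ι,
      inf_eq_right.mpr hUW]
    exact hU
  have hle : CohB1.genLocus _ s ≤ j ⁻¹ᵁ U := by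
    intro y' hy'
    obtain ⟨V'', hV'', hyV'', hVle⟩ := exists_isAffineOpen_mem_and_subset (x := y')
      (U := CohB1.genLocus _ s) hy'
    have hb := (hbasis V'').mp (isBasisOver_val_of_le s hVle)
    have := h2 (j ''ᵁ V'') (hV''.image_of_isOpenImmersion j) (W.ι_image_le V'') hb
    exact this ⟨y', hyV'', rfl⟩
  refine ⟨s, ?_, ?_⟩
  · obtain ⟨U₁, h₁, hx₁, hb₁⟩ := h1
    rw [mem_genLocus_iff]
    refine ⟨j ⁻¹ᵁ U₁, hx₁, ?_⟩
    rw [hbasis]
    have hle2 : j ''ᵁ (j ⁻¹ᵁ U₁) ≤ U₁ := by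
      rintro _ ⟨z, hz, rfl⟩; exact hz
    have := hb₁.mono hle2
    rwa [res_res] at this
  · have h6 := isAffineOpen_genLocus_inf (M.restrict j) hM' s hU'
    rwa [inf_eq_left.mpr hle] at h6

end Groth.Agent.LD.QC
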