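import Groth.Agent.Lib.Lead.QC.SemiLocal
import Groth.Agent.Lib.Lead.QC.FreeHom
import Groth.Prelude.Def_Pic
import Mathlib.AlgebraicGeometry.Morphisms.QuasiFinite
universe u
open CategoryTheory Limits AlgebraicGeometry TopologicalSpace Opposite TensorProduct

namespace Groth.Agent.LD.QC

/-- EGA II 6.1.12 (finite case): a locally free module of rank `r` on the source of a finite
morphism is free over the inverse image of a neighbourhood of any point of the target. -/
theorem exists_free_preimage_of_isFinite {X' X : Scheme.{u}} (f : X' ⟶ X) [IsFinite f] (r : ℕ)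
    (F : X'.Modules) (hF : FlatMod.IsFinLocFreeOfRank r F) (x : X) :
    ∃ U : X.Opens, x ∈ U ∧
      Nonempty (F.restrict (f ⁻¹ᵁ U).ι ≅ freeMod (↑(f ⁻¹ᵁ U)) r) := by
  obtain ⟨V, hV, hxV, -⟩ := exists_isAffineOpen_mem_and_subset (x := x) (U := ⊤) trivial
  have hV' : IsAffineOpen (f ⁻¹ᵁ V) := hV.preimage f
  have hZfin : (f ⁻¹' {x}).Finite := f.finite_preimage_singleton x
  have hZV : f ⁻¹' {x} ⊆ (f ⁻¹ᵁ V : X'.Opens) := by
    intro z hz
    change f z ∈ V
    rw [Set.mem_preimage, Set.mem_singleton_iff] at hz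
    rw [hz]; exact hxV
  obtain ⟨U', hZU', hU'V, ⟨e⟩⟩ := exists_free_nhds_of_finite r F hF _ hZfin _ hV' hZV
  -- `f` is closed
  have hclosed : IsClosedMap f := f.isClosedMap
  have hC : IsClosed (f '' ((U' : Set X')ᶜ)) := hclosed _ U'.2.isClosed_compl
  let U : X.Opens := ⟨(f '' ((U' : Set X')ᶜ))ᶜ, hC.isOpen_compl⟩
  have hxU : x ∈ U := by
    rintro ⟨z, hz, hzx⟩
    exact hz (hZU' hzx)
  have hUU' : f ⁻¹ᵁ U ≤ U' := by
    intro z hz
    by_contra hzU'
    exact hz ⟨z, hzU', rfl⟩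
  refine ⟨U, hxU, ?_⟩
  refine freeMod_of_range_subset F U'.ι (f ⁻¹ᵁ U).ι ?_ r e
  rw [Scheme.Opens.range_ι, Scheme.Opens.range_ι]
  exact hUU'

/-- the free module of rank one is the structure sheaf. -/
noncomputable def freeModOneIso (X : Scheme.{u}) : freeMod X 1 ≅ unitMod X :=
  coproductUniqueIso (fun _ : Fin 1 => unitMod X)

/-- invertible modules are the locally free modules of rank one. -/
theorem isInvertible_iff {X : Scheme.{u}} (L : X.Modules) :
    PicF.IsInvertible L ↔ FlatMod.IsFinLocFreeOfRank 1 L := by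
  constructor
  · intro h x
    obtain ⟨U, hx, ⟨e⟩⟩ := h x
    exact ⟨U, hx, ⟨e ≪≫ (freeModOneIso _).symm⟩⟩
  · intro h x
    obtain ⟨U, hx, ⟨e⟩⟩ := h x
    exact ⟨U, hx, ⟨e ≪≫ freeModOneIso _⟩⟩

theorem isFinLocFree_of_isInvertible {X : Scheme.{u}} (L : X.Modules) (h : PicF.IsInvertible L) :
    FlatMod.IsFinLocFree L := fun x => by
  obtain ⟨U, hx, e⟩ := (isInvertible_iff L).mp h x
  exact ⟨U, 1, hx, e⟩

/-- an invertible module on the source of a finite morphism is trivial over the inverse image of a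
neighbourhood of any point of the target. -/
theorem exists_trivial_preimage_of_isFinite {X Y : Scheme.{u}} (π : X ⟶ Y) [IsFinite π]
    (L : X.Modules) (hL : PicF.IsInvertible L) (y : Y) :
    ∃ V : Y.Opens, y ∈ V ∧ Nonempty (L.restrict (π ⁻¹ᵁ V).ι ≅ unitMod (↑(π ⁻¹ᵁ V))) := by
  obtain ⟨V, hy, ⟨e⟩⟩ := exists_free_preimage_of_isFinite π 1 L ((isInvertible_iff L).mp hL) y
  exact ⟨V, hy, ⟨e ≪≫ freeModOneIso _⟩⟩

end Groth.Agent.LD.QC
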