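import Groth.Agent.Lib.Lead.QC.TensorDesc
import Groth.Agent.Lib.Lead.QC.FiniteFree
universe u
open CategoryTheory Limits AlgebraicGeometry TopologicalSpace Opposite TensorProduct

namespace Groth.Agent.LD.QC
variable {X : Scheme.{u}}

instance tensorPow_qc (L : X.Modules) [L.IsQuasicoherent] (n : ℕ) :
    (CohB1.tensorPow L n).IsQuasicoherent := by
  induction n with
  | zero => exact qc_unit X
  | succ n ih => exact tensorMod_isQuasicoherent _ _

/-- powers of a local section. -/
noncomputable def secPow {L : X.Modules} {U : X.Opens} (e : Γ(L, U)) :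
    (n : ℕ) → Γ(CohB1.tensorPow L n, U)
  | 0 => (1 : Γ(X, U))
  | n + 1 => SecTwist.tmul (CohB1.tensorPow L n) L U (secPow e n) e

lemma secPow_zero {L : X.Modules} {U : X.Opens} (e : Γ(L, U)) :
    secPow e 0 = (1 : Γ(X, U)) := rfl

lemma secPow_succ {L : X.Modules} {U : X.Opens} (e : Γ(L, U)) (n : ℕ) :
    secPow e (n + 1) = SecTwist.tmul (CohB1.tensorPow L n) L U (secPow e n) e := rfl

lemma pow_eq_secPow {L : X.Modules} (s : Coh.structureModule X ⟶ L) (n : ℕ) (U : X.Opens) :
    SecTwist.pow s n U = secPow (SecTwist.val s U) n := by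
  induction n with
  | zero => rfl
  | succ n ih =>
    change SecTwist.tmul _ _ U (SecTwist.pow s n U) (SecTwist.val s U) = _
    rw [ih]; rfl

lemma secPow_res {L : X.Modules} {U V : X.Opens} (h : V ≤ U) (e : Γ(L, U)) (n : ℕ) :
    (CohB1.tensorPow L n).presheaf.map (homOfLE h).op (secPow e n) =
      secPow (L.presheaf.map (homOfLE h).op e) n := by
  induction n with
  | zero => exact map_one (X.presheaf.map (homOfLE h).op).hom
  | succ n ih =>
    rw [secPow_succ, secPow_succ, ← ih]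
    exact tmul_res _ _ h _ _

lemma secPow_smul {L : X.Modules} {U : X.Opens} (f : Γ(X, U)) (e : Γ(L, U)) (n : ℕ) :
    secPow (f • e) n = f ^ n • secPow e n := by
  induction n with
  | zero =>
    rw [pow_zero, secPow_zero, secPow_zero]
    exact (one_smul Γ(X, U) _).symm
  | succ n ih =>
    rw [secPow_succ, secPow_succ, ih, tmul_smul_left, tmul_smul_right, smul_smul, pow_succ,
      mul_comm]
    rfl

/-- `1` is a basis of the structure sheaf. -/
lemma isBasisOver_one (U : X.Opens) : IsBasisOver (unitMod X) U (1 : Γ(X, U)) := by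
  intro V hV
  have h : (fun a : Γ(X, V) => a • (unitMod X).presheaf.map (homOfLE hV).op (1 : Γ(X, U))) =
      fun a => a := by
    funext a
    have h1 : (unitMod X).presheaf.map (homOfLE hV).op (1 : Γ(X, U)) = (1 : Γ(X, V)) :=
      map_one (X.presheaf.map (homOfLE hV).op).hom
    rw [h1]
    exact mul_one a
  rw [h]
  exact Function.bijective_id

/-- powers of a basis are bases of the tensor powers. -/
theorem IsBasisOver.secPow {L : X.Modules} {U : X.Opens} {e : Γ(L, U)} (he : IsBasisOver L U e)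
    (n : ℕ) : IsBasisOver (CohB1.tensorPow L n) U (secPow e n) := by
  induction n with
  | zero => exact isBasisOver_one U
  | succ n ih => exact ih.tmul he

theorem isInvertible_tensorMod {L L' : X.Modules} (hL : PicF.IsInvertible L)
    (hL' : PicF.IsInvertible L') : PicF.IsInvertible (CohB1.tensorMod L L') := by
  rw [isInvertible_iff_exists_isBasisOver] at hL hL' ⊢
  intro x
  obtain ⟨U₁, e₁, hxU₁, he₁⟩ := hL x
  obtain ⟨U₂, e₂, hxU₂, he₂⟩ := hL' x
  exact ⟨U₁ ⊓ U₂, _, ⟨hxU₁, hxU₂⟩, (he₁.mono inf_le_left).tmul (he₂.mono inf_le_right)⟩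

theorem isInvertible_unit (X : Scheme.{u}) : PicF.IsInvertible (unitMod X) := by
  rw [isInvertible_iff_exists_isBasisOver]
  intro x
  exact ⟨⊤, _, trivial, isBasisOver_one ⊤⟩

theorem isInvertible_tensorPow {L : X.Modules} (hL : PicF.IsInvertible L) (n : ℕ) :
    PicF.IsInvertible (CohB1.tensorPow L n) := by
  induction n with
  | zero => exact isInvertible_unit X
  | succ n ih => exact isInvertible_tensorMod ih hL

theorem qc_of_isInvertible (L : X.Modules) (h : PicF.IsInvertible L) : L.IsQuasicoherent :=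
  qc_of_isFinLocFree L (isFinLocFree_of_isInvertible L h)

section PowAdd
variable (L : X.Modules) [L.IsQuasicoherent]

/-- `L^a ⊗ L^b ≅ L^(a+b)`. -/
noncomputable def powAddIso (a : ℕ) :
    (b : ℕ) → (CohB1.tensorMod (CohB1.tensorPow L a) (CohB1.tensorPow L b) ≅
      CohB1.tensorPow L (a + b))
  | 0 => SecTwist.unitorR _
  | b + 1 => (tensorAssoc (CohB1.tensorPow L a) (CohB1.tensorPow L b) L).symm ≪≫
      tensorIso' (powAddIso a b) (Iso.refl L)

lemma powAddIso_hom_secPow (a b : ℕ) {U : X.Opens} (e : Γ(L, U)) :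
    (powAddIso L a b).hom.app U
      (SecTwist.tmul (CohB1.tensorPow L a) (CohB1.tensorPow L b) U (secPow e a) (secPow e b)) =
      secPow e (a + b) := by
  induction b with
  | zero =>
    have h := SecTwist.unitorR_tmul (CohB1.tensorPow L a) U (secPow e a) (1 : Γ(X, U))
    exact h.trans (one_smul Γ(X, U) _)
  | succ b ih =>
    change (KoszTw.tensorMap (powAddIso L a b).hom (𝟙 L)).app U
      ((tensorAssoc (CohB1.tensorPow L a) (CohB1.tensorPow L b) L).inv.app U
        (SecTwist.tmul (CohB1.tensorPow L a) (CohB1.tensorMod (CohB1.tensorPow L b) L) U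
          (secPow e a) (SecTwist.tmul (CohB1.tensorPow L b) L U (secPow e b) e))) = _
    rw [tensorAssoc_inv_app_tmul, KoszTw.tensorMap_tmul, ih]
    rfl

/-- the product of sections of tensor powers. -/
noncomputable def mulSec {a b : ℕ} (σ : unitMod X ⟶ CohB1.tensorPow L a)
    (τ : unitMod X ⟶ CohB1.tensorPow L b) : unitMod X ⟶ CohB1.tensorPow L (a + b) :=
  SecTwist.tmulHom σ τ ≫ (powAddIso L a b).hom

lemma val_comp {F G : X.Modules} (s : unitMod X ⟶ F) (φ : F ⟶ G) (U : X.Opens) :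
    SecTwist.val (s ≫ φ) U = φ.app U (SecTwist.val s U) := rfl

lemma val_mulSec {a b : ℕ} (σ : unitMod X ⟶ CohB1.tensorPow L a)
    (τ : unitMod X ⟶ CohB1.tensorPow L b) (U : X.Opens) :
    SecTwist.val (mulSec L σ τ) U = (powAddIso L a b).hom.app U
      (SecTwist.tmul _ _ U (SecTwist.val σ U) (SecTwist.val τ U)) := by
  rw [mulSec, val_comp, SecTwist.val_tmulHom]

lemma val_mulSec_of_eq {a b : ℕ} (σ : unitMod X ⟶ CohB1.tensorPow L a)
    (τ : unitMod X ⟶ CohB1.tensorPow L b) {U : X.Opens} (e : Γ(L, U)) (f g : Γ(X, U))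
    (hσ : SecTwist.val σ U = f • secPow e a) (hτ : SecTwist.val τ U = g • secPow e b) :
    SecTwist.val (mulSec L σ τ) U = (f * g) • secPow e (a + b) := by
  rw [val_mulSec, hσ, hτ, tmul_smul_left, tmul_smul_right, smul_smul]
  refine (Scheme.Modules.Hom.app_smul _ _ _).trans ?_
  rw [powAddIso_hom_secPow]

end PowAdd

lemma genLocus_comp_iso {L L' : X.Modules} (s : unitMod X ⟶ L) (φ : L ≅ L') :
    CohB1.genLocus L' (s ≫ φ.hom) = CohB1.genLocus L s := by
  have key : ∀ U : X.Opens, U ≤ CohB1.genLocus L' (s ≫ φ.hom) ↔ U ≤ CohB1.genLocus L s := by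
    intro U
    rw [le_genLocus_iff, le_genLocus_iff]
    have h : ∀ V : X.Opens, ⇑(ConcreteCategory.hom ((s ≫ φ.hom).app V)) =
        ⇑(ConcreteCategory.hom (φ.hom.app V)) ∘ ⇑(ConcreteCategory.hom (s.app V)) := by
      intro V; rfl
    constructor
    · intro H V hV
      have := H V hV
      rw [h V] at this
      exact (Function.Bijective.of_comp_iff' (app_bijective_of_isIso φ.hom V) _).mp this
    · intro H V hV
      rw [h V]
      exact (app_bijective_of_isIso φ.hom V).comp (H V hV)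
  exact le_antisymm ((key _).mp le_rfl) ((key _).mpr le_rfl)

lemma genLocus_id (X : Scheme.{u}) : CohB1.genLocus (unitMod X) (𝟙 _) = ⊤ := by
  rw [eq_top_iff, le_genLocus_iff]
  intro V _
  exact Function.bijective_id

/-- the locus where `s ⊗ s'` generates is the intersection of the loci where `s` and `s'`
generate. -/
theorem genLocus_tmulHom {L L' : X.Modules} (hL : PicF.IsInvertible L) (hL' : PicF.IsInvertible L')
    (f : unitMod X ⟶ L) (g : unitMod X ⟶ L') :
    CohB1.genLocus (CohB1.tensorMod L L') (SecTwist.tmulHom f g) =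
      CohB1.genLocus L f ⊓ CohB1.genLocus L' g := by
  ext x
  obtain ⟨U₁, e₁, hxU₁, he₁⟩ := (isInvertible_iff_exists_isBasisOver L).mp hL x
  obtain ⟨U₂, e₂, hxU₂, he₂⟩ := (isInvertible_iff_exists_isBasisOver L').mp hL' x
  have h1 : U₁ ⊓ U₂ ≤ U₁ := inf_le_left
  have h2 : U₁ ⊓ U₂ ≤ U₂ := inf_le_right
  have hx : x ∈ U₁ ⊓ U₂ := ⟨hxU₁, hxU₂⟩
  have he := he₁.mono h1
  have he' := he₂.mono h2
  obtain ⟨a, ha⟩ := (he _ le_rfl).2 (SecTwist.val f (U₁ ⊓ U₂))
  obtain ⟨b, hb⟩ := (he' _ le_rfl).2 (SecTwist.val g (U₁ ⊓ U₂))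
  have ha' : SecTwist.val f (U₁ ⊓ U₂) = a • L.presheaf.map (homOfLE h1).op e₁ := by
    rw [← ha]
    change a • L.presheaf.map (homOfLE (le_refl _)).op _ = _
    rw [res_self]
  have hb' : SecTwist.val g (U₁ ⊓ U₂) = b • L'.presheaf.map (homOfLE h2).op e₂ := by
    rw [← hb]
    change b • L'.presheaf.map (homOfLE (le_refl _)).op _ = _
    rw [res_self]
  have hab : SecTwist.val (SecTwist.tmulHom f g) (U₁ ⊓ U₂) =
      (a * b) • SecTwist.tmul L L' (U₁ ⊓ U₂) (L.presheaf.map (homOfLE h1).op e₁)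
        (L'.presheaf.map (homOfLE h2).op e₂) := by
    rw [SecTwist.val_tmulHom, ha', hb', tmul_smul_left, tmul_smul_right, smul_smul]
  have hG1 := genLocus_inf_eq_basicOpen f he a ha'
  have hG2 := genLocus_inf_eq_basicOpen g he' b hb'
  have hG3 := genLocus_inf_eq_basicOpen (SecTwist.tmulHom f g) (he.tmul he') (a * b) hab
  have k1 : x ∈ CohB1.genLocus L f ↔ x ∈ X.basicOpen a := by
    rw [← hG1]; exact ⟨fun h => ⟨h, hx⟩, fun h => h.1⟩
  have k2 : x ∈ CohB1.genLocus L' g ↔ x ∈ X.basicOpen b := by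
    rw [← hG2]; exact ⟨fun h => ⟨h, hx⟩, fun h => h.1⟩
  have k3 : x ∈ CohB1.genLocus (CohB1.tensorMod L L') (SecTwist.tmulHom f g) ↔
      x ∈ X.basicOpen (a * b) := by
    rw [← hG3]; exact ⟨fun h => ⟨h, hx⟩, fun h => h.1⟩
  change x ∈ CohB1.genLocus (CohB1.tensorMod L L') (SecTwist.tmulHom f g) ↔
    x ∈ CohB1.genLocus L f ∧ x ∈ CohB1.genLocus L' g
  rw [k1, k2, k3, X.basicOpen_mul]
  rfl

theorem genLocus_mulSec {L : X.Modules} [L.IsQuasicoherent] (hL : PicF.IsInvertible L) {a b : ℕ}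
    (σ : unitMod X ⟶ CohB1.tensorPow L a) (τ : unitMod X ⟶ CohB1.tensorPow L b) :
    CohB1.genLocus _ (mulSec L σ τ) = CohB1.genLocus _ σ ⊓ CohB1.genLocus _ τ := by
  rw [mulSec, genLocus_comp_iso,
    genLocus_tmulHom (isInvertible_tensorPow hL a) (isInvertible_tensorPow hL b)]

/-- the exponent `a * m`, defined by recursion so that `powIdx a (m + 1)` unfolds to
`powIdx a m + a`. -/
def powIdx (a : ℕ) : ℕ → ℕ
  | 0 => 0
  | m + 1 => powIdx a m + a

lemma powIdx_eq (a m : ℕ) : powIdx a m = a * m := by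
  induction m with
  | zero => rfl
  | succ m ih => rw [powIdx, ih, Nat.mul_succ]

lemma powIdx_pos {a : ℕ} (ha : 0 < a) (m : ℕ) : 0 < powIdx a (m + 1) := by
  rw [powIdx_eq]; positivity

/-- powers of a section of a tensor power. -/
noncomputable def secMulPow (L : X.Modules) [L.IsQuasicoherent] {a : ℕ}
    (σ : unitMod X ⟶ CohB1.tensorPow L a) : (m : ℕ) → (unitMod X ⟶ CohB1.tensorPow L (powIdx a m))
  | 0 => 𝟙 _
  | m + 1 => mulSec L (secMulPow L σ m) σ

lemma secMulPow_succ (L : X.Modules) [L.IsQuasicoherent] {a : ℕ}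
    (σ : unitMod X ⟶ CohB1.tensorPow L a) (m : ℕ) :
    secMulPow L σ (m + 1) = mulSec L (secMulPow L σ m) σ := rfl

theorem genLocus_secMulPow {L : X.Modules} [L.IsQuasicoherent] (hL : PicF.IsInvertible L) {a : ℕ}
    (σ : unitMod X ⟶ CohB1.tensorPow L a) (m : ℕ) :
    CohB1.genLocus _ (secMulPow L σ (m + 1)) = CohB1.genLocus _ σ := by
  induction m with
  | zero =>
    change CohB1.genLocus (CohB1.tensorPow L (powIdx a 0 + a)) (mulSec L (secMulPow L σ 0) σ) = _
    rw [genLocus_mulSec hL]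
    have : CohB1.genLocus (CohB1.tensorPow L (powIdx a 0)) (secMulPow L σ 0) = ⊤ := genLocus_id X
    rw [this, top_inf_eq]
  | succ m ih =>
    change CohB1.genLocus (CohB1.tensorPow L (powIdx a (m + 1) + a))
      (mulSec L (secMulPow L σ (m + 1)) σ) = _
    rw [genLocus_mulSec hL, ih, inf_idem]

end Groth.Agent.LD.QC
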