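import Groth.Agent.Lib.Lead.QC.TensorPow
import Groth.Agent.Lib.Lead.QC.TensorRestrict
universe u
open CategoryTheory Limits AlgebraicGeometry TopologicalSpace Opposite TensorProduct

namespace Groth.Agent.LD.QC
variable {X : Scheme.{u}}

section
variable (M N G : X.Modules)
  (B : ∀ U : X.Opens, Γ(M, U) →ₗ[Γ(X, U)] Γ(N, U) →ₗ[Γ(X, U)] Γ(G, U))
  (nat : ∀ (U V : X.Opens) (h : V ≤ U) (m : Γ(M, U)) (n : Γ(N, U)),
    G.presheaf.map (homOfLE h).op (B U m n) =
      B V (M.presheaf.map (homOfLE h).op m) (N.presheaf.map (homOfLE h).op n))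

include nat in
lemma lift_res {U V : X.Opens} (h : V ≤ U) (z : Γ(M, U) ⊗[Γ(X, U)] Γ(N, U)) :
    G.presheaf.map (homOfLE h).op (TensorProduct.lift (B U) z) =
      TensorProduct.lift (B V) (tensorRes M N h z) := by
  induction z using TensorProduct.induction_on with
  | zero => simp
  | tmul m n =>
    rw [tensorRes_tmul, TensorProduct.lift.tmul, TensorProduct.lift.tmul]
    exact nat U V h m n
  | add a b ha hb => rw [map_add, map_add, map_add, map_add, ha, hb]

/-- the morphism of presheaves of modules attached to a compatible family of bilinear maps. -/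
noncomputable def tensorDescPre :
    tensorPre' M N ⟶ (PresheafOfModules.restrictScalars (𝟙 X.ringCatSheaf.obj)).obj G.val where
  app U := ModuleCat.ofHom (R := ↑(X.ringCatSheaf.obj.obj U))
    (X := ↑((tensorPre' M N).obj U))
    (Y := ↑(((PresheafOfModules.restrictScalars (𝟙 X.ringCatSheaf.obj)).obj G.val).obj U))
    (TensorProduct.lift (B U.unop))
  naturality := by
    intro U V g
    ext z
    obtain ⟨U⟩ := U
    obtain ⟨V⟩ := V
    exact (lift_res M N G B nat g.unop.le z).symm

/-- a morphism out of the tensor product from a compatible family of bilinear maps over all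
opens. -/
noncomputable def tensorDescAll : CohB1.tensorMod M N ⟶ G :=
  ((PresheafOfModules.sheafificationAdjunction (𝟙 X.ringCatSheaf.obj)).homEquiv _ _).symm
    (tensorDescPre M N G B nat)

lemma tensorDescAll_app_tmul (U : X.Opens) (m : Γ(M, U)) (n : Γ(N, U)) :
    (tensorDescAll M N G B nat).app U (SecTwist.tmul M N U m n) = B U m n := by
  have h := sheafify_desc_unit (tensorPre' M N) G (tensorDescPre M N G B nat) U (m ⊗ₜ n)
  exact h

end

/-- a morphism sending a basis to a basis is bijective on sections. -/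
theorem bijective_app_of_isBasisOver {L L' : X.Modules} (μ : L ⟶ L') {U : X.Opens} {e : Γ(L, U)}
    (he : IsBasisOver L U e) (he' : IsBasisOver L' U (μ.app U e)) (V : X.Opens) (hV : V ≤ U) :
    Function.Bijective (μ.app V) := by
  have h1 := he V hV
  have h2 := he' V hV
  have h3 : (fun a : Γ(X, V) => a • L'.presheaf.map (homOfLE hV).op (μ.app U e)) =
      (fun t => μ.app V t) ∘ (fun a : Γ(X, V) => a • L.presheaf.map (homOfLE hV).op e) := by
    funext a
    rw [Function.comp_apply, Scheme.Modules.Hom.app_smul, app_res]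
  rw [h3] at h2
  exact (Function.Bijective.of_comp_iff _ h1).mp h2

/-- a morphism which locally sends a basis to a basis is an isomorphism. -/
theorem isIso_of_forall_isBasisOver {L L' : X.Modules} (μ : L ⟶ L')
    (h : ∀ x : X, ∃ (U : X.Opens) (e : Γ(L, U)), x ∈ U ∧ IsBasisOver L U e ∧
      IsBasisOver L' U (μ.app U e)) : IsIso μ := by
  apply isIso_of_local_bijective
  intro x W hx
  obtain ⟨U, e, hxU, he, he'⟩ := h x
  exact ⟨W ⊓ U, ⟨hx, hxU⟩, inf_le_left, bijective_app_of_isBasisOver μ he he' _ inf_le_right⟩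

end Groth.Agent.LD.QC
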