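import Groth.Agent.Lib.Lead.QC.AmpleIso
universe u
open CategoryTheory Limits AlgebraicGeometry TopologicalSpace Opposite

namespace Groth.Agent.LD.QC
variable {X : Scheme.{u}}

/-- tensoring an epimorphism with an invertible module gives an epimorphism. -/
theorem epi_tensorMap_of_isInvertible {G H : X.Modules} (p : G ⟶ H) (hp : Epi p) (M : X.Modules)
    (hM : PicF.IsInvertible M) : Epi (KoszTw.tensorMap p (𝟙 M)) := by
  apply epi_of_local_lift
  intro U t x hx
  obtain ⟨U', e, hxU', he⟩ := (isInvertible_iff_exists_isBasisOver M).mp hM x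
  obtain ⟨h, hh⟩ := (bijective_tmul_of_isBasisOver H M he (U ⊓ U') inf_le_right).2
    ((CohB1.tensorMod H M).presheaf.map (homOfLE (inf_le_left : U ⊓ U' ≤ U)).op t)
  obtain ⟨W, hW, hxW, g, hg⟩ := exists_local_lift p hp (U ⊓ U') h x ⟨hx, hxU'⟩
  refine ⟨W, hW.trans inf_le_left, hxW,
    SecTwist.tmul G M W g (M.presheaf.map (homOfLE (hW.trans inf_le_right)).op e), ?_⟩
  rw [KoszTw.tensorMap_tmul, hg]
  have h1 := tmul_res H M hW h (M.presheaf.map (homOfLE (inf_le_right : U ⊓ U' ≤ U')).op e)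
  rw [res_res] at h1
  have h2 : (CohB1.tensorMod H M).presheaf.map (homOfLE hW).op
      (SecTwist.tmul H M (U ⊓ U') h (M.presheaf.map (homOfLE (inf_le_right : U ⊓ U' ≤ U')).op e)) =
      (CohB1.tensorMod H M).presheaf.map (homOfLE (hW.trans inf_le_left)).op t := by
    have hh' : SecTwist.tmul H M (U ⊓ U') h
        (M.presheaf.map (homOfLE (inf_le_right : U ⊓ U' ≤ U')).op e) =
        (CohB1.tensorMod H M).presheaf.map (homOfLE (inf_le_left : U ⊓ U' ≤ U)).op t := hh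
    rw [hh', res_res]
  exact h1.symm.trans h2

lemma unitorL_inv_app (F : X.Modules) [F.IsQuasicoherent] (U : X.Opens) (t : Γ(F, U)) :
    (unitorL F).inv.app U t = SecTwist.tmul (unitMod X) F U (1 : Γ(X, U)) t := by
  have h := (unitorL_hom_app_tmul F U (1 : Γ(X, U)) t).trans (one_smul Γ(X, U) t)
  have h2 : (unitorL F).inv.app U ((unitorL F).hom.app U
      (SecTwist.tmul (unitMod X) F U (1 : Γ(X, U)) t)) =
      SecTwist.tmul (unitMod X) F U (1 : Γ(X, U)) t := by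
    rw [← ConcreteCategory.comp_apply, ← Scheme.Modules.Hom.comp_app, Iso.hom_inv_id]
    rfl
  rw [h] at h2
  exact h2

/-- the canonical map `M^k ⟶ O^k ⊗ M`. -/
noncomputable def sigmaToTensor (M : X.Modules) [M.IsQuasicoherent] (k : ℕ) :
    (∐ fun _ : Fin k => M) ⟶ CohB1.tensorMod (FlatMod.freeMod X k) M :=
  Sigma.desc (fun j => (unitorL M).inv ≫
    KoszTw.tensorMap (Sigma.ι (fun _ : Fin k => unitMod X) j) (𝟙 M))

lemma sigmaToTensor_app_ι (M : X.Modules) [M.IsQuasicoherent] (k : ℕ) (j : Fin k) (V : X.Opens)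
    (m : Γ(M, V)) :
    (sigmaToTensor M k).app V ((Sigma.ι (fun _ : Fin k => M) j).app V m) =
      SecTwist.tmul (FlatMod.freeMod X k) M V
        ((Sigma.ι (fun _ : Fin k => unitMod X) j).app V (1 : Γ(X, V))) m := by
  have h1 : (sigmaToTensor M k).app V ((Sigma.ι (fun _ : Fin k => M) j).app V m) =
      ((unitorL M).inv ≫
        KoszTw.tensorMap (Sigma.ι (fun _ : Fin k => unitMod X) j) (𝟙 M)).app V m := by
    rw [← ConcreteCategory.comp_apply, ← Scheme.Modules.Hom.comp_app, sigmaToTensor, Sigma.ι_desc]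
  rw [h1]
  change (KoszTw.tensorMap (Sigma.ι (fun _ : Fin k => unitMod X) j) (𝟙 M)).app V
    ((unitorL M).inv.app V m) = _
  rw [unitorL_inv_app, KoszTw.tensorMap_tmul]
  rfl

theorem epi_sigmaToTensor (M : X.Modules) [M.IsQuasicoherent] (hM : PicF.IsInvertible M) (k : ℕ) :
    Epi (sigmaToTensor M k) := by
  classical
  apply epi_of_local_lift
  intro U t x hx
  obtain ⟨U', e, hxU', he⟩ := (isInvertible_iff_exists_isBasisOver M).mp hM x
  obtain ⟨g, hg⟩ := (bijective_tmul_of_isBasisOver (FlatMod.freeMod X k) M he (U ⊓ U')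
    inf_le_right).2
    ((CohB1.tensorMod (FlatMod.freeMod X k) M).presheaf.map
      (homOfLE (inf_le_left : U ⊓ U' ≤ U)).op t)
  set eV := M.presheaf.map (homOfLE (inf_le_right : U ⊓ U' ≤ U')).op e with heV
  let b : Fin k → Γ(X, U ⊓ U') := fun j => (freeProj X k j).app (U ⊓ U') g
  have hdec : g = ∑ j, b j • (Sigma.ι (fun _ : Fin k => unitMod X) j).app (U ⊓ U')
      (1 : Γ(X, U ⊓ U')) := by
    have h2 := sum_app (fun j => freeProj X k j ≫ Sigma.ι (fun _ : Fin k => unitMod X) j)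
      (U ⊓ U') g
    rw [freeProj_total] at h2
    refine h2.trans ?_
    refine Finset.sum_congr rfl (fun j _ => ?_)
    exact unitHom_app _ (Sigma.ι (fun _ : Fin k => unitMod X) j) (U ⊓ U') (b j)
  refine ⟨U ⊓ U', inf_le_left, ⟨hx, hxU'⟩,
    ∑ j, b j • (Sigma.ι (fun _ : Fin k => M) j).app (U ⊓ U') eV, ?_⟩
  rw [map_sum]
  have hg' : SecTwist.tmul (FlatMod.freeMod X k) M (U ⊓ U') g eV =
      (CohB1.tensorMod (FlatMod.freeMod X k) M).presheaf.map
        (homOfLE (inf_le_left : U ⊓ U' ≤ U)).op t := hg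
  rw [← hg']
  conv_rhs => rw [hdec]
  refine Eq.trans ?_ (tmul_sum_smul_left (FlatMod.freeMod X k) M (U ⊓ U') b
    (fun j => (Sigma.ι (fun _ : Fin k => unitMod X) j).app (U ⊓ U') (1 : Γ(X, U ⊓ U'))) eV).symm
  refine Finset.sum_congr rfl (fun j _ => ?_)
  rw [Scheme.Modules.Hom.app_smul, sigmaToTensor_app_ι]
  rfl

/-- untwisting an epimorphism `O^k ⟶ F ⊗ N` by an inverse `M` of `N`. -/
theorem exists_epi_sigma_of_inverse (F N M : X.Modules) [F.IsQuasicoherent] [N.IsQuasicoherent]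
    [M.IsQuasicoherent] (hM : PicF.IsInvertible M)
    (ε : CohB1.tensorMod N M ≅ unitMod X) {k : ℕ}
    (q : FlatMod.freeMod X k ⟶ CohB1.tensorMod F N) (hq : Epi q) :
    ∃ p : (∐ fun _ : Fin k => M) ⟶ F, Epi p := by
  have h1 := epi_sigmaToTensor M hM k
  have h2 := epi_tensorMap_of_isInvertible q hq M hM
  let α : CohB1.tensorMod (CohB1.tensorMod F N) M ≅ F :=
    tensorAssoc F N M ≪≫ tensorIso' (Iso.refl F) ε ≪≫ SecTwist.unitorR F
  refine ⟨sigmaToTensor M k ≫ KoszTw.tensorMap q (𝟙 M) ≫ α.hom, ?_⟩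
  have h3 : Epi (KoszTw.tensorMap q (𝟙 M) ≫ α.hom) :=
    @epi_comp _ _ _ _ _ _ h2 _ inferInstance
  exact @epi_comp _ _ _ _ _ _ h1 _ h3

/-- the same, with source `O^k ⊗ M`. -/
theorem exists_epi_tensor_of_inverse (F N M : X.Modules) [F.IsQuasicoherent] [N.IsQuasicoherent]
    [M.IsQuasicoherent] (hM : PicF.IsInvertible M)
    (ε : CohB1.tensorMod N M ≅ unitMod X) {k : ℕ}
    (q : FlatMod.freeMod X k ⟶ CohB1.tensorMod F N) (hq : Epi q) :
    ∃ p : CohB1.tensorMod (FlatMod.freeMod X k) M ⟶ F, Epi p := by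
  have h2 := epi_tensorMap_of_isInvertible q hq M hM
  let α : CohB1.tensorMod (CohB1.tensorMod F N) M ≅ F :=
    tensorAssoc F N M ≪≫ tensorIso' (Iso.refl F) ε ≪≫ SecTwist.unitorR F
  exact ⟨KoszTw.tensorMap q (𝟙 M) ≫ α.hom, @epi_comp _ _ _ _ _ _ h2 _ inferInstance⟩

end Groth.Agent.LD.QC
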