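import Groth.Agent.Lib.Lead.QC.TensorSec
import Groth.Agent.Lib.Lead.QC.Push
universe u
open CategoryTheory Limits AlgebraicGeometry TopologicalSpace Opposite TensorProduct

namespace Groth.Agent.LD.QC
variable {X : Scheme.{u}}

/-- the tensor product of quasi-coherent modules is quasi-coherent. -/
theorem tensorMod_isQuasicoherent (M N : X.Modules) [M.IsQuasicoherent] [N.IsQuasicoherent] :
    (CohB1.tensorMod M N).IsQuasicoherent := by
  apply qc_of_surj_inj
  · intro U hU f t
    letI mM := resModule M (X.basicOpen_le f)
    letI mN := resModule N (X.basicOpen_le f)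
    haveI tM := resModule_isScalarTower M (X.basicOpen_le f)
    haveI tN := resModule_isScalarTower N (X.basicOpen_le f)
    haveI : IsLocalization (Submonoid.powers f) Γ(X, X.basicOpen f) :=
      hU.isLocalization_basicOpen f
    haveI := isLocalizedModule_basicOpen M hU f
    haveI := isLocalizedModule_basicOpen N hU f
    obtain ⟨w, rfl⟩ := tensorSec_surjective M N (hU.basicOpen f) t
    obtain ⟨⟨z, ⟨c, k, rfl⟩⟩, hz⟩ := IsLocalizedModule.surj (Submonoid.powers f)
      (tensorLocMap (Submonoid.powers f) Γ(X, X.basicOpen f)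
        (resLinear M (X.basicOpen_le f)) (resLinear N (X.basicOpen_le f))) w
    refine ⟨k, tensorSec M N U z, ?_⟩
    rw [tensorSec_res, ← tensorLocMap_eq_tensorRes M N hU f z, ← hz, ← map_pow, ← map_smul]
    congr 1
  · intro U hU f s hs
    obtain ⟨z, rfl⟩ := tensorSec_surjective M N hU s
    rw [tensorSec_res] at hs
    have h0 : tensorRes M N (X.basicOpen_le f) z = 0 :=
      tensorSec_injective M N (hU.basicOpen f) (by rw [hs, map_zero])
    obtain ⟨k, hk⟩ := exists_pow_smul_eq_zero_of_tensorRes_eq_zero M N hU f z h0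
    exact ⟨k, by rw [← map_smul, hk, map_zero]⟩

instance (M N : X.Modules) [M.IsQuasicoherent] [N.IsQuasicoherent] :
    (CohB1.tensorMod M N).IsQuasicoherent := tensorMod_isQuasicoherent M N

/-- sections of the tensor product over an affine open, as a linear equivalence. -/
noncomputable def tensorSecEquiv (M N : X.Modules) [M.IsQuasicoherent] [N.IsQuasicoherent]
    {U : X.Opens} (hU : IsAffineOpen U) :
    Γ(M, U) ⊗[Γ(X, U)] Γ(N, U) ≃ₗ[Γ(X, U)] Γ(CohB1.tensorMod M N, U) :=
  LinearEquiv.ofBijective (tensorSec M N U)
    ⟨tensorSec_injective M N hU, tensorSec_surjective M N hU⟩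

/-- the tensor product of quasi-coherent modules of finite type is of finite type. -/
theorem tensorMod_isFiniteType (M N : X.Modules) [M.IsQuasicoherent] [N.IsQuasicoherent]
    (hM : M.IsFiniteType) (hN : N.IsFiniteType) : (CohB1.tensorMod M N).IsFiniteType := by
  apply isFiniteType_of_finite_sections
  intro x
  obtain ⟨U, hU, hxU, -⟩ := exists_isAffineOpen_mem_and_subset (x := x) (U := ⊤) trivial
  refine ⟨U, hU, hxU, ?_⟩
  haveI := finite_sections_of_isFiniteType M hM hU
  haveI := finite_sections_of_isFiniteType N hN hU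
  exact Module.Finite.of_surjective (tensorSec M N U) (tensorSec_surjective M N hU)

end Groth.Agent.LD.QC
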