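import Groth.Agent.Lib.Lead.QC.Pullback
universe u
open CategoryTheory Limits AlgebraicGeometry TopologicalSpace Opposite TensorProduct

namespace Groth.Agent.LD.QC

section Def
variable {X Y : Scheme.{u}} (f : X ⟶ Y)

/-- the unit of `f^* ⊣ f_*` on sections. -/
noncomputable def unitSec (M : Y.Modules) (V : Y.Opens) (m : Γ(M, V)) :
    Γ((Scheme.Modules.pullback f).obj M, f ⁻¹ᵁ V) :=
  ((Scheme.Modules.pullbackPushforwardAdjunction f).unit.app M).app V m

lemma unitSec_add (M : Y.Modules) (V : Y.Opens) (m m' : Γ(M, V)) :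
    unitSec f M V (m + m') = unitSec f M V m + unitSec f M V m' :=
  map_add (((Scheme.Modules.pullbackPushforwardAdjunction f).unit.app M).app V).hom m m'

lemma unitSec_zero (M : Y.Modules) (V : Y.Opens) :
    unitSec f M V (0 : Γ(M, V)) = 0 :=
  map_zero (((Scheme.Modules.pullbackPushforwardAdjunction f).unit.app M).app V).hom

lemma unitSec_smul (M : Y.Modules) (V : Y.Opens) (a : Γ(Y, V)) (m : Γ(M, V)) :
    unitSec f M V (a • m) = (f.app V a) • unitSec f M V m :=
  Scheme.Modules.Hom.app_smul ((Scheme.Modules.pullbackPushforwardAdjunction f).unit.app M) a m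

lemma unitSec_res (M : Y.Modules) {V V' : Y.Opens} (hV : V' ≤ V) (m : Γ(M, V)) :
    unitSec f M V' (M.presheaf.map (homOfLE hV).op m) =
      ((Scheme.Modules.pullback f).obj M).presheaf.map
        (homOfLE (show f ⁻¹ᵁ V' ≤ f ⁻¹ᵁ V from fun _ h => hV h)).op (unitSec f M V m) :=
  app_res ((Scheme.Modules.pullbackPushforwardAdjunction f).unit.app M) hV m

lemma unitSec_naturality {M N : Y.Modules} (φ : M ⟶ N) (V : Y.Opens) (m : Γ(M, V)) :
    ((Scheme.Modules.pullback f).map φ).app (f ⁻¹ᵁ V) (unitSec f M V m) =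
      unitSec f N V (φ.app V m) := by
  have := (Scheme.Modules.pullbackPushforwardAdjunction f).unit.naturality φ
  exact congr($(this).app V m).symm

/-- the canonical map on sections `Γ(M, V) → Γ(f^* M, U)` for `U ≤ f⁻¹ V`: the unit of the
adjunction followed by restriction. -/
noncomputable def pbSec (M : Y.Modules) {U : X.Opens} {V : Y.Opens} (e : U ≤ f ⁻¹ᵁ V)
    (m : Γ(M, V)) : Γ((Scheme.Modules.pullback f).obj M, U) :=
  ((Scheme.Modules.pullback f).obj M).presheaf.map (homOfLE e).op (unitSec f M V m)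

lemma pbSec_add (M : Y.Modules) {U : X.Opens} {V : Y.Opens} (e : U ≤ f ⁻¹ᵁ V)
    (m m' : Γ(M, V)) : pbSec f M e (m + m') = pbSec f M e m + pbSec f M e m' := by
  unfold pbSec
  rw [unitSec_add, map_add]

lemma pbSec_zero (M : Y.Modules) {U : X.Opens} {V : Y.Opens} (e : U ≤ f ⁻¹ᵁ V) :
    pbSec f M e (0 : Γ(M, V)) = 0 := by
  unfold pbSec
  rw [unitSec_zero, map_zero]

lemma pbSec_smul (M : Y.Modules) {U : X.Opens} {V : Y.Opens} (e : U ≤ f ⁻¹ᵁ V)
    (a : Γ(Y, V)) (m : Γ(M, V)) :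
    pbSec f M e (a • m) = (f.appLE V U e a) • pbSec f M e m := by
  unfold pbSec
  rw [unitSec_smul, smul_res, Scheme.Hom.appLE]
  rfl

lemma pbSec_res (M : Y.Modules) {U U' : X.Opens} {V V' : Y.Opens} (e : U ≤ f ⁻¹ᵁ V)
    (e' : U' ≤ f ⁻¹ᵁ V') (hU : U' ≤ U) (hV : V' ≤ V) (m : Γ(M, V)) :
    pbSec f M e' (M.presheaf.map (homOfLE hV).op m) =
      ((Scheme.Modules.pullback f).obj M).presheaf.map (homOfLE hU).op (pbSec f M e m) := by
  unfold pbSec
  rw [unitSec_res, res_res, res_res]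

lemma pbSec_naturality {M N : Y.Modules} (φ : M ⟶ N) {U : X.Opens} {V : Y.Opens}
    (e : U ≤ f ⁻¹ᵁ V) (m : Γ(M, V)) :
    ((Scheme.Modules.pullback f).map φ).app U (pbSec f M e m) = pbSec f N e (φ.app V m) := by
  unfold pbSec
  rw [app_res, unitSec_naturality]

end Def


section Comp
variable {X' X Y : Scheme.{u}} (j : X' ⟶ X) (f : X ⟶ Y)

lemma unit_comp (M : Y.Modules) :
    (Scheme.Modules.pullbackPushforwardAdjunction f).unit.app M ≫
      (Scheme.Modules.pushforward f).map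
        ((Scheme.Modules.pullbackPushforwardAdjunction j).unit.app
          ((Scheme.Modules.pullback f).obj M)) ≫
      (Scheme.Modules.pushforwardComp j f).hom.app _ =
    (Scheme.Modules.pullbackPushforwardAdjunction (j ≫ f)).unit.app M ≫
      (Scheme.Modules.pushforward (j ≫ f)).map ((Scheme.Modules.pullbackComp j f).inv.app M) := by
  have h := unit_conjugateEquiv
    ((Scheme.Modules.pullbackPushforwardAdjunction f).comp
      (Scheme.Modules.pullbackPushforwardAdjunction j))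
    (Scheme.Modules.pullbackPushforwardAdjunction (j ≫ f))
    (Scheme.Modules.pullbackComp j f).inv M
  rw [Scheme.Modules.conjugateEquiv_pullbackComp_inv] at h
  rw [← h, Adjunction.comp_unit_app, Category.assoc]
  rfl

lemma unitSec_comp (M : Y.Modules) (V : Y.Opens) (m : Γ(M, V)) :
    ((Scheme.Modules.pullbackComp j f).inv.app M).app ((j ≫ f) ⁻¹ᵁ V) (unitSec (j ≫ f) M V m) =
      unitSec j ((Scheme.Modules.pullback f).obj M) (f ⁻¹ᵁ V) (unitSec f M V m) := by
  have h := unit_comp j f M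
  exact congr($(h).app V m).symm

lemma pbSec_comp (M : Y.Modules) {W : X'.Opens} {U : X.Opens} {V : Y.Opens}
    (eW : W ≤ j ⁻¹ᵁ U) (eU : U ≤ f ⁻¹ᵁ V) (eWV : W ≤ (j ≫ f) ⁻¹ᵁ V) (m : Γ(M, V)) :
    ((Scheme.Modules.pullbackComp j f).inv.app M).app W (pbSec (j ≫ f) M eWV m) =
      pbSec j ((Scheme.Modules.pullback f).obj M) eW (pbSec f M eU m) := by
  unfold pbSec
  rw [app_res, unitSec_comp, unitSec_res, res_res]
  rfl

lemma pbSec_comp' (M : Y.Modules) {W : X'.Opens} {U : X.Opens} {V : Y.Opens}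
    (eW : W ≤ j ⁻¹ᵁ U) (eU : U ≤ f ⁻¹ᵁ V) (eWV : W ≤ (j ≫ f) ⁻¹ᵁ V) (m : Γ(M, V)) :
    ((Scheme.Modules.pullbackComp j f).hom.app M).app W
      (pbSec j ((Scheme.Modules.pullback f).obj M) eW (pbSec f M eU m)) =
        pbSec (j ≫ f) M eWV m := by
  rw [← pbSec_comp j f M eW eU eWV m]
  have h : (Scheme.Modules.pullbackComp j f).inv.app M ≫
    (Scheme.Modules.pullbackComp j f).hom.app M = 𝟙 _ := Iso.inv_hom_id_app _ _
  exact congr($(h).app W (pbSec (j ≫ f) M eWV m))

end Comp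

section Restrict
variable {X' X : Scheme.{u}} (j : X' ⟶ X) [IsOpenImmersion j]

lemma unitSec_restrict (N : X.Modules) (U : X.Opens) (n : Γ(N, U)) :
    unitSec j N U n = ((Scheme.Modules.restrictFunctorIsoPullback j).hom.app N).app (j ⁻¹ᵁ U)
      (show Γ(N.restrict j, j ⁻¹ᵁ U) from
        N.presheaf.map (homOfLE (j.image_preimage_le U)).op n) := by
  have h := Adjunction.unit_leftAdjointUniq_hom_app (Scheme.Modules.restrictAdjunction j)
    (Scheme.Modules.pullbackPushforwardAdjunction j) N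
  exact congr($(h).app U n).symm

lemma image_le_of_le_preimage {W : X'.Opens} {U : X.Opens} (e : W ≤ j ⁻¹ᵁ U) : j ''ᵁ W ≤ U := by
  rintro _ ⟨x, hx, rfl⟩
  exact e hx

lemma pbSec_restrict (N : X.Modules) {W : X'.Opens} {U : X.Opens} (e : W ≤ j ⁻¹ᵁ U)
    (n : Γ(N, U)) :
    pbSec j N e n = ((Scheme.Modules.restrictFunctorIsoPullback j).hom.app N).app W
      (show Γ(N.restrict j, W) from
        N.presheaf.map (homOfLE (image_le_of_le_preimage j e)).op n) := by
  unfold pbSec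
  rw [unitSec_restrict, ← app_res]
  congr 1
  change N.presheaf.map (homOfLE (j.image_mono e)).op _ = _
  rw [res_res]

end Restrict

section Congr
variable {X Y : Scheme.{u}} {f g : X ⟶ Y} (h : f = g)

lemma pbSec_congr (M : Y.Modules) {U : X.Opens} {V : Y.Opens} (e : U ≤ f ⁻¹ᵁ V)
    (e' : U ≤ g ⁻¹ᵁ V) (m : Γ(M, V)) :
    ((Scheme.Modules.pullbackCongr h).hom.app M).app U (pbSec f M e m) = pbSec g M e' m := by
  subst h
  rfl

end Congr

section Tilde
variable {A B : CommRingCat.{u}} (φ : A ⟶ B)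

lemma tilde_unit_eq (N : ModuleCat.{u} A) :
    (tilde.toTildeΓNatIso (R := A)).hom.app N ≫
      (moduleSpecΓFunctor (R := A)).map
        ((Scheme.Modules.pullbackPushforwardAdjunction (Spec.map φ)).unit.app (tilde N)) ≫
      (ΓPushIso φ).hom.app _ ≫
      (ModuleCat.restrictScalars φ.hom).map
        ((moduleSpecΓFunctor (R := B)).map ((tildePullbackIso φ).hom.app N)) =
    (ModuleCat.extendRestrictScalarsAdj.{u, u, u} φ.hom).unit.app N ≫
      (ModuleCat.restrictScalars φ.hom).map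
        ((tilde.toTildeΓNatIso (R := B)).hom.app
          ((ModuleCat.extendScalars.{u, u, u} φ.hom).obj N)) := by
  have h := Adjunction.unit_leftAdjointUniq_hom_app
    ((adjPullTilde φ).ofNatIsoRight (ΓPushIso φ)) (adjTildeExtend φ) N
  rw [← tildePullbackIso] at h
  simp only [Adjunction.ofNatIsoRight_unit, adjPullTilde, adjTildeExtend,
    Adjunction.comp_unit_app, NatTrans.comp_app, Functor.whiskerLeft_app] at h
  simp only [tilde.adjunction, Category.assoc, Functor.comp_obj, Functor.comp_map, Functor.id_obj] at h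
  exact h


lemma tildePullbackIso_unitSec (N : ModuleCat.{u} A) (n : N) :
    ((tildePullbackIso φ).hom.app N).app ⊤
      (unitSec (Spec.map φ) (tilde N) ⊤ (tilde.toOpen N ⊤ n)) =
    tilde.toOpen ((ModuleCat.extendScalars.{u, u, u} φ.hom).obj N) ⊤
      ((ModuleCat.extendRestrictScalarsAdj.{u, u, u} φ.hom).unit.app N n) :=
  congr($(tilde_unit_eq φ N) n)

end Tilde

section Square
variable {X Y X' Y' : Scheme.{u}} (f : X ⟶ Y) (j : X' ⟶ X) (k : Y' ⟶ Y) (g : X' ⟶ Y')
  [IsOpenImmersion j] [IsOpenImmersion k]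

lemma image_le_preimage_image (sq : j ≫ f = g ≫ k) {W' : X'.Opens} {V' : Y'.Opens}
    (e : W' ≤ g ⁻¹ᵁ V') : j ''ᵁ W' ≤ f ⁻¹ᵁ (k ''ᵁ V') := by
  rintro _ ⟨x, hx, rfl⟩
  refine ⟨g x, e hx, ?_⟩
  have : (j ≫ f) x = (g ≫ k) x := by rw [sq]
  exact this.symm

/-- `pullbackRestrictIso` is compatible with the canonical maps on sections. -/
theorem pullbackRestrictIso_pbSec (sq : j ≫ f = g ≫ k) (M : Y.Modules) {W' : X'.Opens}
    {V' : Y'.Opens} (e : W' ≤ g ⁻¹ᵁ V') (m : Γ(M, k ''ᵁ V')) :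
    ((pullbackRestrictIso f j k g sq).hom.app M).app W'
      (show Γ(((Scheme.Modules.pullback f).obj M).restrict j, W') from
        pbSec f M (image_le_preimage_image f j k g sq e) m) =
      pbSec g (M.restrict k) e (show Γ(M.restrict k, V') from m) := by
  have eW : W' ≤ j ⁻¹ᵁ (j ''ᵁ W') := fun x hx => ⟨x, hx, rfl⟩
  have eV : V' ≤ k ⁻¹ᵁ (k ''ᵁ V') := fun x hx => ⟨x, hx, rfl⟩
  have e1 := image_le_preimage_image f j k g sq e
  have eWV : W' ≤ (j ≫ f) ⁻¹ᵁ (k ''ᵁ V') := fun x hx => e1 ⟨x, hx, rfl⟩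
  have eWV' : W' ≤ (g ≫ k) ⁻¹ᵁ (k ''ᵁ V') := fun x hx => ⟨g x, e hx, rfl⟩
  -- step 1
  have s1 : ((Scheme.Modules.restrictFunctorIsoPullback j).hom.app
      ((Scheme.Modules.pullback f).obj M)).app W'
      (show Γ(((Scheme.Modules.pullback f).obj M).restrict j, W') from pbSec f M e1 m) =
      pbSec j ((Scheme.Modules.pullback f).obj M) eW (pbSec f M e1 m) := by
    rw [pbSec_restrict j]
    congr 1
    exact (res_self ((Scheme.Modules.pullback f).obj M) (le_refl (j ''ᵁ W')) (pbSec f M e1 m)).symm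
  have s2 := pbSec_comp' j f M eW e1 eWV m
  have s3 := pbSec_congr sq M eWV eWV' m
  have s4 := pbSec_comp g k M e eV eWV' m
  have s5 : pbSec k M eV m = ((Scheme.Modules.restrictFunctorIsoPullback k).hom.app M).app V'
      (show Γ(M.restrict k, V') from m) := by
    rw [pbSec_restrict k]
    congr 1
    exact res_self M (le_refl (k ''ᵁ V')) m
  have s6 := pbSec_naturality g ((Scheme.Modules.restrictFunctorIsoPullback k).inv.app M) e
    (pbSec k M eV m)
  have s7 : ((Scheme.Modules.restrictFunctorIsoPullback k).inv.app M).app V' (pbSec k M eV m) =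
      (show Γ(M.restrict k, V') from m) := by
    rw [s5]
    have h : (Scheme.Modules.restrictFunctorIsoPullback k).hom.app M ≫
      (Scheme.Modules.restrictFunctorIsoPullback k).inv.app M = 𝟙 _ := Iso.hom_inv_id_app _ _
    exact congr($(h).app V' (show Γ(M.restrict k, V') from m))
  rw [s7] at s6
  rw [← s6, ← s4, ← s3, ← s2, ← s1]
  rfl

end Square

section FromTilde
variable {R : CommRingCat.{u}}

lemma fromTildeΓ_toOpen_top (P : (Spec R).Modules)
    (x : (modulesSpecToSheaf.obj P).presheaf.obj (op ⊤)) :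
    P.fromTildeΓ.app ⊤ (tilde.toOpen _ ⊤ x) = x := by
  have h := Scheme.Modules.toOpen_fromTildeΓ_app P ⊤
  have h2 := congr($(h) x)
  refine h2.trans ?_
  exact res_self P (le_refl ⊤) x

lemma inv_fromTildeΓ_app_top (P : (Spec R).Modules) [IsIso P.fromTildeΓ]
    (x : (modulesSpecToSheaf.obj P).presheaf.obj (op ⊤)) :
    (inv P.fromTildeΓ).app ⊤ (show Γ(P, ⊤) from x) = tilde.toOpen _ ⊤ x := by
  have h : P.fromTildeΓ ≫ inv P.fromTildeΓ = 𝟙 _ := IsIso.hom_inv_id _
  have h2 := congr($(h).app ⊤ (tilde.toOpen _ ⊤ x))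
  have h3 : (inv P.fromTildeΓ).app ⊤ (P.fromTildeΓ.app ⊤ (tilde.toOpen _ ⊤ x)) =
    tilde.toOpen _ ⊤ x := h2
  rw [fromTildeΓ_toOpen_top P x] at h3
  exact h3

end FromTilde

section Affine
variable {X Y : Scheme.{u}} (f : X ⟶ Y) {U : X.Opens} {V : Y.Opens} (hU : IsAffineOpen U)
  (hV : IsAffineOpen V) (e : U ≤ f ⁻¹ᵁ V)

theorem pullbackAffineTildeIso_pbSec (M : Y.Modules) [M.IsQuasicoherent]
    (m : Γ(M, hV.fromSpec ''ᵁ ⊤)) :
    (pullbackAffineTildeIso f hU hV e M).hom.app ⊤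
      (show Γ(((Scheme.Modules.pullback f).obj M).restrict hU.fromSpec, ⊤) from
        pbSec f M (image_le_preimage_image f hU.fromSpec hV.fromSpec (Spec.map (f.appLE V U e))
          (hV.SpecMap_appLE_fromSpec f hU e).symm (W' := ⊤) (V' := ⊤) le_top) m) =
      tilde.toOpen ((ModuleCat.extendScalars.{u, u, u} (f.appLE V U e).hom).obj
        (ΓM (M.restrict hV.fromSpec))) ⊤
        ((ModuleCat.extendRestrictScalarsAdj.{u, u, u} (f.appLE V U e).hom).unit.app
          (ΓM (M.restrict hV.fromSpec)) m) := by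
  haveI : IsIso (M.restrict hV.fromSpec).fromTildeΓ := inferInstance
  have s1 := pullbackRestrictIso_pbSec f hU.fromSpec hV.fromSpec (Spec.map (f.appLE V U e))
    (hV.SpecMap_appLE_fromSpec f hU e).symm M
    (le_top : (⊤ : (Spec Γ(X, U)).Opens) ≤ (Spec.map (f.appLE V U e)) ⁻¹ᵁ ⊤) m
  have s2 := pbSec_naturality (Spec.map (f.appLE V U e)) (inv (M.restrict hV.fromSpec).fromTildeΓ)
    (le_top : (⊤ : (Spec Γ(X, U)).Opens) ≤ (Spec.map (f.appLE V U e)) ⁻¹ᵁ ⊤)
    (show Γ(M.restrict hV.fromSpec, ⊤) from m)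
  rw [inv_fromTildeΓ_app_top] at s2
  have s3 := tildePullbackIso_unitSec (f.appLE V U e) (ΓM (M.restrict hV.fromSpec)) m
  have hθ : (pullbackAffineTildeIso f hU hV e M).hom =
      (pullbackRestrictAffineIso f hU hV e).hom.app M ≫
      (Scheme.Modules.pullback (Spec.map (f.appLE V U e))).map
        (inv (M.restrict hV.fromSpec).fromTildeΓ) ≫
      (tildePullbackIso (f.appLE V U e)).hom.app (ΓM (M.restrict hV.fromSpec)) := by
    rfl
  rw [hθ]
  change ((tildePullbackIso (f.appLE V U e)).hom.app (ΓM (M.restrict hV.fromSpec))).app ⊤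
    (((Scheme.Modules.pullback (Spec.map (f.appLE V U e))).map
        (inv (M.restrict hV.fromSpec).fromTildeΓ)).app ⊤
      (((pullbackRestrictIso f hU.fromSpec hV.fromSpec (Spec.map (f.appLE V U e))
        (hV.SpecMap_appLE_fromSpec f hU e).symm).hom.app M).app ⊤ _)) = _
  rw [s1, s2, ← s3]
  congr 1
  exact res_self _ _ _

end Affine

section AffineEquiv
variable {X Y : Scheme.{u}} (f : X ⟶ Y) {U : X.Opens} {V : Y.Opens}

set_option maxRecDepth 8000 in
/-- **sections of a pullback over an affine open, canonically**: there is a linear equivalence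
`Γ(f^* M, U) ≃ Γ(X, U) ⊗_{Γ(Y, V)} Γ(M, V)` sending `pbSec m` to `1 ⊗ m`. -/
theorem exists_pullback_sections_equiv_pbSec (hU : IsAffineOpen U) (hV : IsAffineOpen V)
    (e : U ≤ f ⁻¹ᵁ V) (M : Y.Modules) [M.IsQuasicoherent] :
    letI := (f.appLE V U e).hom.toAlgebra
    ∃ Φ : Γ((Scheme.Modules.pullback f).obj M, U) ≃ₗ[Γ(X, U)] (Γ(X, U) ⊗[Γ(Y, V)] Γ(M, V)),
      ∀ m : Γ(M, V), Φ (pbSec f M e m) = (1 : Γ(X, U)) ⊗ₜ[Γ(Y, V)] m := by
  letI := (f.appLE V U e).hom.toAlgebra
  let N := (ModuleCat.extendScalars.{u, u, u} (f.appLE V U e).hom).obj (ΓM (M.restrict hV.fromSpec))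
  let e1 : Γ((Scheme.Modules.pullback f).obj M, U) ≃ₗ[Γ(X, U)]
      Γ(((Scheme.Modules.pullback f).obj M).restrict hU.fromSpec, ⊤) :=
    (affineΓEquiv _ hU).symm
  let i2 : ΓM (((Scheme.Modules.pullback f).obj M).restrict hU.fromSpec) ≅ N :=
    moduleSpecΓFunctor.mapIso (pullbackAffineTildeIso f hU hV e M) ≪≫
      ((tilde.toTildeΓNatIso (R := Γ(X, U))).app N).symm
  let i3 : N ≅ (ModuleCat.extendScalars.{u, u, u} (f.appLE V U e).hom).obj
      (ModuleCat.of Γ(Y, V) Γ(M, V)) :=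
    (ModuleCat.extendScalars.{u, u, u} (f.appLE V U e).hom).mapIso
      (affineΓEquiv M hV).toModuleIso
  refine ⟨e1.trans ((i2 ≪≫ i3).toLinearEquiv), fun m => ?_⟩
  let m' : Γ(M, hV.fromSpec ''ᵁ ⊤) := M.presheaf.map (homOfLE (fromSpec_image_top hV).le).op m
  have h1 : e1 (pbSec f M e m) = pbSec f M (image_le_preimage_image f hU.fromSpec hV.fromSpec
      (Spec.map (f.appLE V U e)) (hV.SpecMap_appLE_fromSpec f hU e).symm (W' := ⊤) (V' := ⊤) le_top)
      m' :=
    (pbSec_res f M e _ (fromSpec_image_top hU).le (fromSpec_image_top hV).le m).symm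
  have h2 := pullbackAffineTildeIso_pbSec f hU hV e M m'
  rw [LinearEquiv.trans_apply, h1]
  have h3 : i2.hom (pbSec f M (image_le_preimage_image f hU.fromSpec hV.fromSpec
      (Spec.map (f.appLE V U e)) (hV.SpecMap_appLE_fromSpec f hU e).symm (W' := ⊤) (V' := ⊤) le_top)
      m') = (ModuleCat.extendRestrictScalarsAdj.{u, u, u} (f.appLE V U e).hom).unit.app
          (ΓM (M.restrict hV.fromSpec)) m' := by
    change ((tilde.toTildeΓNatIso (R := Γ(X, U))).app N).inv
      ((pullbackAffineTildeIso f hU hV e M).hom.app ⊤ _) = _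
    rw [h2]
    exact congr($(((tilde.toTildeΓNatIso (R := Γ(X, U))).app N).hom_inv_id) _)
  have key : i3.hom (i2.hom (pbSec f M (image_le_preimage_image f hU.fromSpec hV.fromSpec
      (Spec.map (f.appLE V U e)) (hV.SpecMap_appLE_fromSpec f hU e).symm (W' := ⊤) (V' := ⊤) le_top)
      m')) = (1 : Γ(X, U)) ⊗ₜ[Γ(Y, V)] m := by
    rw [h3, ModuleCat.extendRestrictScalarsAdj_unit_app_apply]
    have h4 : (affineΓEquiv M hV) m' = m := by
      change M.presheaf.map _ (M.presheaf.map _ m) = m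
      rw [res_res, res_self]
    have h5 := ModuleCat.ExtendScalars.map_tmul (f := (f.appLE V U e).hom)
      (g := (affineΓEquiv M hV).toModuleIso.hom) (1 : Γ(X, U)) m'
    refine h5.trans ?_
    congr 1
  exact key

end AffineEquiv

section BaseChange
variable {X Y : Scheme.{u}} (f : X ⟶ Y) {U : X.Opens} {V : Y.Opens}

/-- `Γ(f^* M, U)` as a module over `Γ(Y, V)` (via `f.appLE`). -/
@[reducible] noncomputable def pbModule (M : Y.Modules) (e : U ≤ f ⁻¹ᵁ V) :
    Module Γ(Y, V) Γ((Scheme.Modules.pullback f).obj M, U) :=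
  Module.compHom _ (f.appLE V U e).hom

lemma pbModule_isScalarTower (M : Y.Modules) (e : U ≤ f ⁻¹ᵁ V) :
    letI := (f.appLE V U e).hom.toAlgebra
    letI := pbModule f M e
    IsScalarTower Γ(Y, V) Γ(X, U) Γ((Scheme.Modules.pullback f).obj M, U) := by
  letI := (f.appLE V U e).hom.toAlgebra
  letI := pbModule f M e
  refine ⟨fun a b x => ?_⟩
  change (a • b) • x = (f.appLE V U e).hom a • (b • x)
  rw [Algebra.smul_def, mul_smul]
  rfl

/-- `pbSec` as a linear map over `Γ(Y, V)`. -/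
noncomputable def pbSecₗ (M : Y.Modules) (e : U ≤ f ⁻¹ᵁ V) :
    letI := pbModule f M e
    Γ(M, V) →ₗ[Γ(Y, V)] Γ((Scheme.Modules.pullback f).obj M, U) :=
  letI := pbModule f M e
  { toFun := pbSec f M e
    map_add' := pbSec_add f M e
    map_smul' := fun a m => pbSec_smul f M e a m }

/-- **the canonical affine description of the pullback**: for quasi-coherent `M`, affine opens
`U ⊆ f⁻¹ V`, the module `Γ(f^* M, U)` is the base change of `Γ(M, V)` along
`Γ(Y, V) → Γ(X, U)`, via the canonical map `pbSec`. -/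
theorem isBaseChange_pbSec (hU : IsAffineOpen U) (hV : IsAffineOpen V)
    (e : U ≤ f ⁻¹ᵁ V) (M : Y.Modules) [M.IsQuasicoherent] :
    letI := (f.appLE V U e).hom.toAlgebra
    letI := pbModule f M e
    haveI := pbModule_isScalarTower f M e
    IsBaseChange Γ(X, U) (pbSecₗ f M e) := by
  letI := (f.appLE V U e).hom.toAlgebra
  letI := pbModule f M e
  haveI := pbModule_isScalarTower f M e
  obtain ⟨Φ, hΦ⟩ := exists_pullback_sections_equiv_pbSec f hU hV e M
  refine IsBaseChange.of_equiv Φ.symm fun m => ?_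
  rw [LinearEquiv.symm_apply_eq]
  exact (hΦ m).symm

/-- sections of `f^* M` over an affine `U ⊆ f⁻¹ V` are generated by the image of `Γ(M, V)`. -/
theorem span_range_pbSec (hU : IsAffineOpen U) (hV : IsAffineOpen V)
    (e : U ≤ f ⁻¹ᵁ V) (M : Y.Modules) [M.IsQuasicoherent] :
    Submodule.span Γ(X, U) (Set.range (pbSec f M e)) = ⊤ := by
  letI := (f.appLE V U e).hom.toAlgebra
  letI := pbModule f M e
  haveI := pbModule_isScalarTower f M e
  have h : IsBaseChange Γ(X, U) (pbSecₗ f M e) := isBaseChange_pbSec f hU hV e M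
  rw [eq_top_iff]
  intro x _
  refine h.inductionOn x (fun x => x ∈ Submodule.span Γ(X, U) (Set.range (pbSec f M e)))
    (Submodule.zero_mem _) (fun m => Submodule.subset_span ⟨m, rfl⟩)
    (fun s n hn => Submodule.smul_mem _ s hn) (fun n₁ n₂ h₁ h₂ => Submodule.add_mem _ h₁ h₂)

end BaseChange

end Groth.Agent.LD.QC
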