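import Groth.Agent.Lib.Lead.QC.CartierBC
import Groth.Agent.Lib.Lead.QC.FiniteFree
import Groth.Prelude.Def_ClSub2
universe u
open CategoryTheory Limits AlgebraicGeometry TopologicalSpace Opposite TensorProduct

namespace Groth.Agent.LD.QC

section Exact
variable {X : Scheme.{u}}

/-- left exactness of sections (needs only exactness and `Mono S.f`). -/
lemma exact_sections' (S : ShortComplex X.Modules) (hS : S.Exact) [Mono S.f] (W : X.Opens)
    (s : Γ(S.X₂, W)) (hs : S.g.app W s = 0) : ∃ t : Γ(S.X₁, W), S.f.app W t = s := by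
  have i1 : PreservesFiniteLimits ((evaluation (Opens ↥X)ᵒᵖ Ab.{u}).obj (op W)) :=
    ⟨fun J _ _ => inferInstance⟩
  have i2 : PreservesFiniteLimits
      (Scheme.Modules.toPresheaf X ⋙ (evaluation (Opens ↥X)ᵒᵖ Ab.{u}).obj (op W)) :=
    comp_preservesFiniteLimits _ _
  have hex := hS.map_of_mono_of_preservesKernel
    (Scheme.Modules.toPresheaf X ⋙ (evaluation (Opens ↥X)ᵒᵖ Ab.{u}).obj (op W)) inferInstance
    inferInstance
  rw [ShortComplex.ab_exact_iff] at hex
  exact hex s hs

end Exact

section RankN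
variable {X : Scheme.{u}}

/-- characterization of locally free modules of rank `n` by sections over affine opens. -/
theorem isFinLocFreeOfRank_iff (M : X.Modules) [M.IsQuasicoherent] (n : ℕ) :
    FlatMod.IsFinLocFreeOfRank n M ↔ ∀ x : X, ∃ (U : X.Opens), IsAffineOpen U ∧ x ∈ U ∧
      Nonempty (Γ(M, U) ≃ₗ[Γ(X, U)] (Fin n → Γ(X, U))) := by
  constructor
  · intro h x
    obtain ⟨W, hxW, ⟨e⟩⟩ := h x
    obtain ⟨U, hU, hxU, hUW⟩ := exists_isAffineOpen_mem_and_subset (x := x) (U := W) hxW
    have hr : Set.range hU.fromSpec ⊆ Set.range W.ι := by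
      rw [hU.range_fromSpec, Scheme.Opens.range_ι]; exact hUW
    have h1 := freeMod_of_range_subset M W.ι hU.fromSpec hr n e
    exact ⟨U, hU, hxU, (restrict_fromSpec_iso_freeMod_iff M hU n).mp h1⟩
  · intro h x
    obtain ⟨U, hU, hxU, hℓ⟩ := h x
    obtain ⟨e⟩ := (restrict_fromSpec_iso_freeMod_iff M hU n).mpr hℓ
    exact ⟨U, hxU, freeMod_of_range_subset M hU.fromSpec U.ι
      (range_ι_subset_range_fromSpec hU) n e⟩

end RankN

section IdealMod
variable {X : Scheme.{u}} (I : X.IdealSheafData)

instance qc_quotMod : (ClSub.quotMod I).IsQuasicoherent :=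
  qc_pushforward I.subschemeι (unitMod I.subscheme)

instance qc_idealMod : (ClSub.idealMod I).IsQuasicoherent :=
  qc_kernel (ClSub.toSubscheme I) inferInstance inferInstance

lemma toSubscheme_app (U : X.Opens) (s : Γ(X, U)) :
    (ClSub.toSubscheme I).app U s = I.subschemeι.app U s := rfl

instance : Mono (ClSub.idealModι I) := inferInstanceAs (Mono (kernel.ι (ClSub.toSubscheme I)))

lemma idealModι_app_injective (U : X.Opens) :
    Function.Injective ((ClSub.idealModι I).app U) := mono_app (ClSub.idealModι I) U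

/-- sections of the ideal module over an affine open are the ideal. -/
theorem exists_idealModι_app_eq_iff (U : X.affineOpens) (s : Γ(X, U.1)) :
    (∃ t : Γ(ClSub.idealMod I, U.1), (ClSub.idealModι I).app U.1 t = s) ↔ s ∈ I.ideal U := by
  constructor
  · rintro ⟨t, rfl⟩
    have h := kernel.condition (ClSub.toSubscheme I)
    have h' : (ClSub.toSubscheme I).app U.1 ((ClSub.idealModι I).app U.1 t) = 0 :=
      congr($(h).app U.1 t)
    rw [← I.ker_subschemeι_app U]
    exact h'
  · intro hs
    rw [← I.ker_subschemeι_app U] at hs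
    let S : ShortComplex X.Modules :=
      ShortComplex.mk (ClSub.idealModι I) (ClSub.toSubscheme I) (kernel.condition _)
    have hS : S.Exact := ShortComplex.exact_of_f_is_kernel S (kernelIsKernel _)
    haveI : Mono S.f := inferInstanceAs (Mono (ClSub.idealModι I))
    exact exact_sections' S hS U.1 s hs

/-- the inclusion of the ideal module on sections, as a linear map into the ring of sections. -/
noncomputable def idealModιₗ (U : X.Opens) : Γ(ClSub.idealMod I, U) →ₗ[Γ(X, U)] Γ(X, U) where
  toFun := (ClSub.idealModι I).app U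
  map_add' := map_add _
  map_smul' := fun r t => Scheme.Modules.Hom.app_smul (ClSub.idealModι I) r t

lemma idealModιₗ_apply (U : X.Opens) (t : Γ(ClSub.idealMod I, U)) :
    idealModιₗ I U t = (ClSub.idealModι I).app U t := rfl

/-- `Γ(U, 𝓘) ≃ I(U)` for affine `U`. -/
noncomputable def idealModSectionsEquiv (U : X.affineOpens) :
    Γ(ClSub.idealMod I, U.1) ≃ₗ[Γ(X, U.1)] I.ideal U :=
  LinearEquiv.ofBijective
    (LinearMap.codRestrict (I.ideal U) (idealModιₗ I U.1)
      (fun t => (exists_idealModι_app_eq_iff I U _).mp ⟨t, rfl⟩))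
    ⟨fun a b hab => idealModι_app_injective I U.1 (congrArg Subtype.val hab),
     fun s => by
      obtain ⟨t, ht⟩ := (exists_idealModι_app_eq_iff I U s.1).mpr s.2
      exact ⟨t, Subtype.ext ht⟩⟩

lemma idealModSectionsEquiv_apply (U : X.affineOpens) (t : Γ(ClSub.idealMod I, U.1)) :
    ((idealModSectionsEquiv I U t : I.ideal U) : Γ(X, U.1)) = (ClSub.idealModι I).app U.1 t := rfl

/-- **the ideal module is invertible iff the ideal defines an effective Cartier divisor.** -/
theorem isInvertible_idealMod_iff :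
    PicF.IsInvertible (ClSub.idealMod I) ↔ BlowUp.IsEffCartierIdeal I := by
  rw [isInvertible_iff, isFinLocFreeOfRank_iff]
  constructor
  · intro h x
    obtain ⟨U, hU, hxU, ⟨e⟩⟩ := h x
    let ε : Γ(X, U) ≃ₗ[Γ(X, U)] I.ideal ⟨U, hU⟩ :=
      (LinearEquiv.funUnique (Fin 1) Γ(X, U) Γ(X, U)).symm ≪≫ₗ e.symm ≪≫ₗ
        idealModSectionsEquiv I ⟨U, hU⟩
    refine ⟨⟨U, hU⟩, hxU, (ε 1 : Γ(X, U)), ?_, ?_⟩
    · rw [mem_nonZeroDivisors_iff_right]
      intro r hr
      have h1 : ε r = 0 := by
        apply Subtype.ext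
        have : ε r = r • ε 1 := by rw [← map_smul, smul_eq_mul, mul_one]
        rw [this]
        exact hr
      exact ε.injective (h1.trans (map_zero ε).symm)
    · apply le_antisymm
      · intro s hs
        obtain ⟨r, hr⟩ := ε.surjective ⟨s, hs⟩
        rw [Ideal.mem_span_singleton']
        refine ⟨r, ?_⟩
        have : ε r = r • ε 1 := by rw [← map_smul, smul_eq_mul, mul_one]
        rw [this] at hr
        exact congrArg Subtype.val hr
      · rw [Ideal.span_singleton_le_iff_mem]
        exact (ε 1).2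
  · intro h x
    obtain ⟨U, hxU, a, ha, hI⟩ := h x
    refine ⟨U.1, U.2, hxU, ⟨?_⟩⟩
    have haI : a ∈ I.ideal U := by rw [hI]; exact Ideal.mem_span_singleton_self a
    let μ : Γ(X, U.1) →ₗ[Γ(X, U.1)] I.ideal U :=
      LinearMap.toSpanSingleton Γ(X, U.1) (I.ideal U) ⟨a, haI⟩
    have hμ : ∀ r, ((μ r : I.ideal U) : Γ(X, U.1)) = r * a := fun r => rfl
    have hbij : Function.Bijective μ := by
      constructor
      · intro r s hrs
        have h1 : r * a = s * a := by rw [← hμ, ← hμ, hrs]
        have h2 : (r - s) * a = 0 := by rw [sub_mul, h1, sub_self]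
        exact sub_eq_zero.mp ((mem_nonZeroDivisors_iff_right.mp ha) _ h2)
      · rintro ⟨s, hs⟩
        rw [hI] at hs
        obtain ⟨r, hr⟩ := Ideal.mem_span_singleton'.mp hs
        exact ⟨r, Subtype.ext hr⟩
    exact idealModSectionsEquiv I U ≪≫ₗ (LinearEquiv.ofBijective μ hbij).symm ≪≫ₗ
      (LinearEquiv.funUnique (Fin 1) Γ(X, U.1) Γ(X, U.1)).symm

end IdealMod

end Groth.Agent.LD.QC
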