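import Groth.Agent.Lib.Lead.QC.Local
universe u
open CategoryTheory Limits AlgebraicGeometry TopologicalSpace Opposite

namespace Groth.Agent.LD.QC



section Spec
variable {R : CommRingCat.{u}} (N : (Spec R).Modules) [N.IsQuasicoherent]

theorem spec_isLocalizing : IsLocalizing (modulesSpecToSheaf.obj N) :=
  (isIso_fromTildeΓ_iff_isLocalizing N).mp inferInstance

theorem spec_surj (f : R) (t : Γ(N, PrimeSpectrum.basicOpen f)) :
    ∃ (n : ℕ) (s : Γ(N, ⊤)),
      N.presheaf.map (homOfLE (le_top : PrimeSpectrum.basicOpen f ≤ ⊤)).op s = f ^ n • t := by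
  have h := spec_isLocalizing N f
  obtain ⟨⟨s, ⟨_, n, rfl⟩⟩, hs⟩ := h.surj t
  exact ⟨n, s, hs.symm⟩

theorem spec_inj (f : R) (s : Γ(N, ⊤))
    (hs : N.presheaf.map (homOfLE (le_top : PrimeSpectrum.basicOpen f ≤ ⊤)).op s = 0) :
    ∃ n : ℕ, f ^ n • s = 0 := by
  have h := spec_isLocalizing N f
  obtain ⟨⟨_, n, rfl⟩, hn⟩ := (IsLocalizedModule.eq_zero_iff (.powers f)
    ((modulesSpecToSheaf.obj N).obj.map (PrimeSpectrum.basicOpen f).leTop.op).hom).mp hs
  exact ⟨n, hn⟩

end Spec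


variable {X : Scheme.{u}}

lemma fromSpec_image_le {U : X.Opens} (hU : IsAffineOpen U) (V : (Spec Γ(X, U)).Opens) :
    hU.fromSpec ''ᵁ V ≤ U := by
  have h := hU.opensRange_fromSpec
  intro x hx
  rw [← h]
  obtain ⟨y, _, rfl⟩ := hx
  exact ⟨y, rfl⟩

lemma fromSpec_appIso_inv {U : X.Opens} (hU : IsAffineOpen U) (V : (Spec Γ(X, U)).Opens)
    (r : Γ(X, U)) :
    (hU.fromSpec.appIso V).inv ((Spec Γ(X, U)).presheaf.map V.leTop.op
      ((Scheme.ΓSpecIso Γ(X, U)).inv r)) =
      X.presheaf.map (homOfLE (fromSpec_image_le hU V)).op r := by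
  have e : V ≤ hU.fromSpec ⁻¹ᵁ U := by rw [hU.fromSpec_preimage_self]; exact le_top
  have h1 := Scheme.Hom.appLE_appIso_inv hU.fromSpec e
  have h2 : hU.fromSpec.appLE U V e = (Scheme.ΓSpecIso Γ(X, U)).inv ≫
      (Spec Γ(X, U)).presheaf.map V.leTop.op := by
    rw [Scheme.Hom.appLE, hU.fromSpec_app_self, Category.assoc, ← Functor.map_comp]
    rfl
  rw [h2] at h1
  have := congr($h1 r)
  simp only [CommRingCat.comp_apply, Category.assoc] at this
  exact this

end Groth.Agent.LD.QC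

namespace Groth.Agent.LD.QC
variable {X : Scheme.{u}}

lemma fromSpec_smul (M : X.Modules) {U : X.Opens} (hU : IsAffineOpen U)
    (V : (Spec Γ(X, U)).Opens) (r : Γ(X, U)) (x : Γ(M.restrict hU.fromSpec, V)) :
    r • x = (show Γ(M.restrict hU.fromSpec, V) from
      (X.presheaf.map (homOfLE (fromSpec_image_le hU V)).op r) •
        (show Γ(M, hU.fromSpec ''ᵁ V) from x)) := by
  rw [← fromSpec_appIso_inv hU V r]
  rfl

end Groth.Agent.LD.QC

namespace Groth.Agent.LD.QC
variable {X : Scheme.{u}}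

lemma res_res (M : X.Modules) {U V W : X.Opens} (h1 : V ≤ U) (h2 : W ≤ V) (s : Γ(M, U)) :
    M.presheaf.map (homOfLE h2).op (M.presheaf.map (homOfLE h1).op s) =
      M.presheaf.map (homOfLE (h2.trans h1)).op s := by
  rw [← M.presheaf.map_comp_apply, ← op_comp, homOfLE_comp]

lemma res_self (M : X.Modules) {U : X.Opens} (h : U ≤ U) (s : Γ(M, U)) :
    M.presheaf.map (homOfLE h).op s = s := by
  have : (homOfLE h).op = 𝟙 (op U) := rfl
  rw [this, M.presheaf.map_id]
  rfl

lemma res_injective_of_le_of_le (M : X.Modules) {V V' : X.Opens} (h : V ≤ V') (h' : V' ≤ V) :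
    Function.Injective (M.presheaf.map (homOfLE h).op) := by
  intro a b hab
  have := congrArg (M.presheaf.map (homOfLE h').op) hab
  rwa [res_res, res_res, res_self, res_self] at this

lemma sres_res {U V W : X.Opens} (h1 : V ≤ U) (h2 : W ≤ V) (s : Γ(X, U)) :
    X.presheaf.map (homOfLE h2).op (X.presheaf.map (homOfLE h1).op s) =
      X.presheaf.map (homOfLE (h2.trans h1)).op s := by
  rw [← X.presheaf.map_comp_apply, ← op_comp, homOfLE_comp]

theorem affine_surj (M : X.Modules) [M.IsQuasicoherent] {U : X.Opens} (hU : IsAffineOpen U)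
    (f : Γ(X, U)) (t : Γ(M, X.basicOpen f)) :
    ∃ (n : ℕ) (s : Γ(M, U)), M.presheaf.map (homOfLE (X.basicOpen_le f)).op s =
      (X.presheaf.map (homOfLE (X.basicOpen_le f)).op f) ^ n • t := by
  have hD : hU.fromSpec ''ᵁ PrimeSpectrum.basicOpen f = X.basicOpen f :=
    hU.fromSpec_image_basicOpen f
  have hT : hU.fromSpec ''ᵁ ⊤ = U :=
    (Scheme.Hom.image_top_eq_opensRange _).trans hU.opensRange_fromSpec
  let t' : Γ(M.restrict hU.fromSpec, PrimeSpectrum.basicOpen f) :=
    M.presheaf.map (homOfLE hD.le).op t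
  obtain ⟨n, s', hs'⟩ := spec_surj (M.restrict hU.fromSpec) f t'
  refine ⟨n, M.presheaf.map (homOfLE hT.ge).op s', ?_⟩
  apply res_injective_of_le_of_le M hD.le hD.ge
  rw [res_res, res_res, Scheme.Modules.map_smul, map_pow, sres_res]
  rw [fromSpec_smul, map_pow] at hs'
  exact hs'

end Groth.Agent.LD.QC

namespace Groth.Agent.LD.QC
variable {X : Scheme.{u}}

theorem affine_inj (M : X.Modules) [M.IsQuasicoherent] {U : X.Opens} (hU : IsAffineOpen U)
    (f : Γ(X, U)) (s : Γ(M, U))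
    (hs : M.presheaf.map (homOfLE (X.basicOpen_le f)).op s = 0) :
    ∃ n : ℕ, f ^ n • s = 0 := by
  have hD : hU.fromSpec ''ᵁ PrimeSpectrum.basicOpen f = X.basicOpen f :=
    hU.fromSpec_image_basicOpen f
  have hT : hU.fromSpec ''ᵁ ⊤ = U :=
    (Scheme.Hom.image_top_eq_opensRange _).trans hU.opensRange_fromSpec
  let s' : Γ(M.restrict hU.fromSpec, ⊤) := M.presheaf.map (homOfLE hT.le).op s
  have h0 : (M.restrict hU.fromSpec).presheaf.map
      (homOfLE (le_top : PrimeSpectrum.basicOpen f ≤ ⊤)).op s' = 0 := by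
    change M.presheaf.map (homOfLE _).op (M.presheaf.map (homOfLE hT.le).op s) = 0
    rw [res_res, ← res_res M (X.basicOpen_le f) hD.le, hs, map_zero]
  obtain ⟨n, hn⟩ := spec_inj (M.restrict hU.fromSpec) f s' h0
  refine ⟨n, ?_⟩
  apply res_injective_of_le_of_le M hT.le hT.ge
  rw [fromSpec_smul] at hn
  rw [Scheme.Modules.map_smul, map_zero]
  exact hn

end Groth.Agent.LD.QC
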