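import Groth.Agent.Lib.Lead.QC.EpiLocal
import Groth.Agent.Lib.Lead.QC.Gen
import Groth.Prelude.Def_RelSpec2

/-! # Modules over a direct-image algebra: transfer along `AMod.toOS`. -/

universe u
open CategoryTheory Limits AlgebraicGeometry TopologicalSpace Opposite

namespace Groth.Agent.LD.QC

variable {S : Scheme.{u}}

theorem isIso_of_isIso_toOS (B : RelSpec.QCAlg S) {M N : AMod B} (θ : M ⟶ N)
    (h : IsIso ((AMod.toOS B).map θ)) : IsIso θ := by
  have h1 : IsIso ((SheafOfModules.toSheaf S.ringCatSheaf).map ((AMod.toOS B).map θ)) :=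
    ((SheafOfModules.toSheaf S.ringCatSheaf).mapIso (@asIso _ _ _ _ _ h)).isIso_hom
  have h2 : IsIso ((SheafOfModules.toSheaf (AMod.ringSheaf B)).map θ) := h1
  exact isIso_of_reflects_iso θ (SheafOfModules.toSheaf (AMod.ringSheaf B))

theorem epi_of_epi_toOS (B : RelSpec.QCAlg S) {M N : AMod B} (θ : M ⟶ N)
    (h : Epi ((AMod.toOS B).map θ)) : Epi θ := by
  haveI : (AMod.toOS B).Faithful := by
    refine ⟨fun {M N} φ ψ hφψ => ?_⟩
    apply (SheafOfModules.toSheaf (AMod.ringSheaf B)).map_injective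
    exact congrArg (fun χ => (SheafOfModules.toSheaf S.ringCatSheaf).map χ) hφψ
  exact (AMod.toOS B).epi_of_epi_map h

end Groth.Agent.LD.QC
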