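import Groth.Agent.Lib.Lead.QC.AModT
import Groth.Agent.Lib.Lead.FPExt.Compact
import Groth.Agent.Lib.Lead.QC.HomAffine

/-! # Direct images along affine morphisms as modules over the direct-image algebra:
exactness and commutation with filtered colimits. -/

universe u
open CategoryTheory Limits AlgebraicGeometry TopologicalSpace Opposite

namespace Groth.Agent.LD.QC

/-- sections over a qcqs open of a filtered colimit of sheaves of modules (over any sheaf of rings)
come from a stage. -/
theorem sec_surj_gen {T : TopCat.{u}} [PrespectralSpace T]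
    (R : Sheaf (Opens.grothendieckTopology T) RingCat.{u}) {I : Type u} [SmallCategory I]
    [IsFiltered I] {D : I ⥤ SheafOfModules.{u} R} {c : Cocone D} (hc : IsColimit c)
    (V : Opens T) (hVc : IsCompact (V : Set T)) (hVq : IsQuasiSeparated (V : Set T))
    (y : c.pt.val.obj (op V)) :
    ∃ (j : I) (x : (D.obj j).val.obj (op V)), (c.ι.app j).val.app (op V) x = y := by
  have hc' := isColimitOfPreserves (SheafOfModules.toSheaf R) hc
  obtain ⟨i, s, hs⟩ := Colim.top_sec_surj V hVc hVq hc' y
  exact ⟨i, s, hs⟩

variable {X S : Scheme.{u}} (f : X ⟶ S) [IsAffineHom f]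

/-- the direct image along an affine morphism preserves epimorphisms of quasi-coherent modules. -/
theorem epi_pushforward_of_affine {F G : X.Modules} (hF : F.IsQuasicoherent)
    (hG : G.IsQuasicoherent) (v : F ⟶ G) [Epi v] :
    Epi ((Scheme.Modules.pushforward f).map v) := by
  apply epi_of_local_lift
  intro U t x hx
  obtain ⟨V, hV, hxV, hVU⟩ := exists_isAffineOpen_mem_and_subset (x := x) (U := U) hx
  obtain ⟨g, hg⟩ := epi_app_affine hF hG v (hV.preimage f)
    (((Scheme.Modules.pushforward f).obj G).presheaf.map (homOfLE hVU).op t)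
  exact ⟨V, hVU, hxV, g, hg⟩

theorem epi_dirImg_of_affine {F G : X.Modules} (hF : F.IsQuasicoherent)
    (hG : G.IsQuasicoherent) (v : F ⟶ G) [Epi v] : Epi ((AMod.dirImg f).map v) := by
  apply epi_of_epi_toOS
  exact epi_pushforward_of_affine f hF hG v

/-- the direct image along an affine morphism, with values in modules over the direct-image
algebra, commutes with filtered colimits. -/
theorem isIso_colimit_desc_dirImg {J : Type u} [SmallCategory J] [IsFiltered J]
    (D : J ⥤ X.Modules) :
    IsIso (colimit.desc (D ⋙ AMod.dirImg f)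
      ((AMod.dirImg f).mapCocone (colimit.cocone D))) := by
  let K : J ⥤ AMod (RelSpec.QCAlg.directImage f) := D ⋙ AMod.dirImg f
  let θ : colimit K ⟶ (AMod.dirImg f).obj (colimit D) :=
    colimit.desc K ((AMod.dirImg f).mapCocone (colimit.cocone D))
  have hιθ : ∀ j, colimit.ι K j ≫ θ = (AMod.dirImg f).map (colimit.ι D j) :=
    fun j => colimit.ι_desc _ j
  apply isIso_of_isIso_toOS
  apply isIso_of_bijective_affine
  intro V
  have hV' : IsAffineOpen (f ⁻¹ᵁ V.1) := V.2.preimage f
  have key : Function.Bijective (θ.val.app (op V.1)) := by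
    constructor
    · refine (injective_iff_map_eq_zero (θ.val.app (op V.1)).hom).mpr ?_
      intro z hz
      have hz' : θ.val.app (op V.1) z = 0 := hz
      obtain ⟨j, x, hx⟩ := sec_surj_gen (AMod.ringSheaf (RelSpec.QCAlg.directImage f))
        (colimit.isColimit K) V.1 V.2.isCompact V.2.isQuasiSeparated z
      have hx' : (colimit.ι K j).val.app (op V.1) x = z := hx
      have h1 : (colimit.ι D j).app (f ⁻¹ᵁ V.1) x = 0 := by
        have e1 : (colimit.ι K j ≫ θ).val.app (op V.1) x = 0 :=
          (congrArg (fun w => θ.val.app (op V.1) w) hx').trans hz'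
        rw [hιθ] at e1
        exact e1
      obtain ⟨k, a, ha⟩ := FPExt.sec_inj_of_isColimit (colimit.isColimit D) hV' j x h1
      have h2 : (colimit.ι K j).val.app (op V.1) x =
          (K.map a ≫ colimit.ι K k).val.app (op V.1) x := by
        rw [colimit.w K a]
      have h3 : (K.map a ≫ colimit.ι K k).val.app (op V.1) x =
          (colimit.ι K k).val.app (op V.1) ((D.map a).app (f ⁻¹ᵁ V.1) x) := rfl
      have h4 : (colimit.ι K k).val.app (op V.1) ((D.map a).app (f ⁻¹ᵁ V.1) x) = 0 :=
        (congrArg (fun w => (colimit.ι K k).val.app (op V.1) w) ha).trans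
          ((colimit.ι K k).val.app (op V.1)).hom.map_zero
      exact hx'.symm.trans (h2.trans (h3.trans h4))
    · intro y
      obtain ⟨j, x, hx⟩ := FPExt.sec_surj_of_isColimit (colimit.isColimit D) hV' y
      refine ⟨(colimit.ι K j).val.app (op V.1) x, ?_⟩
      have e1 : θ.val.app (op V.1) ((colimit.ι K j).val.app (op V.1) x) =
          (colimit.ι K j ≫ θ).val.app (op V.1) x := rfl
      rw [e1, hιθ]
      exact hx
  exact key

end Groth.Agent.LD.QC
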