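import Groth.Agent.Lib.Lead.QC.LocalBase
universe u
open CategoryTheory Limits AlgebraicGeometry TopologicalSpace Opposite

namespace Groth.Agent.LD.QC

/-- ampleness of a restriction only depends on the range of the open immersion. -/
theorem isAmple_restrict_of_opensRange_eq {X Y Y' : Scheme.{u}} (j : Y ⟶ X) (j' : Y' ⟶ X)
    [IsOpenImmersion j] [IsOpenImmersion j'] (he : j.opensRange = j'.opensRange) (L : X.Modules)
    (hL : CohB1.IsAmple (L.restrict j')) : CohB1.IsAmple (L.restrict j) := by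
  haveI : CompactSpace Y' := hL.2.1
  let e : Y ≅ Y' := IsOpenImmersion.isoOfRangeEq j j' (congrArg (fun O : X.Opens => (O : Set X)) he)
  haveI : CompactSpace Y := e.hom.homeomorph.symm.compactSpace
  exact isAmple_restrict_of_le j j' he.le L hL

theorem isAmple_restrict_iff {X Y : Scheme.{u}} (j : Y ⟶ X) [IsOpenImmersion j] (O : X.Opens)
    (he : j.opensRange = O) (L : X.Modules) :
    CohB1.IsAmple (L.restrict j) ↔ CohB1.IsAmple (L.restrict O.ι) :=
  ⟨isAmple_restrict_of_opensRange_eq O.ι j (by rw [Scheme.Opens.opensRange_ι, he]) L,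
    isAmple_restrict_of_opensRange_eq j O.ι (by rw [Scheme.Opens.opensRange_ι, he]) L⟩

theorem isAmple_restrict_restrict_iff {X Y Z : Scheme.{u}} (a : Y ⟶ X) (b : Z ⟶ Y)
    [IsOpenImmersion a] [IsOpenImmersion b] (L : X.Modules) :
    CohB1.IsAmple ((L.restrict a).restrict b) ↔ CohB1.IsAmple (L.restrict (b ≫ a)) :=
  ⟨isAmple_of_iso ((Scheme.Modules.restrictFunctorComp b a).app L).symm,
    isAmple_of_iso ((Scheme.Modules.restrictFunctorComp b a).app L)⟩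

/-- double restriction, in terms of the image open. -/
theorem isAmple_restrict_restrict_iff' {X Y Z : Scheme.{u}} (a : Y ⟶ X) (b : Z ⟶ Y)
    [IsOpenImmersion a] [IsOpenImmersion b] (L : X.Modules) (O : X.Opens)
    (he : a ''ᵁ b.opensRange = O) :
    CohB1.IsAmple ((L.restrict a).restrict b) ↔ CohB1.IsAmple (L.restrict O.ι) := by
  rw [isAmple_restrict_restrict_iff]
  apply isAmple_restrict_iff
  rw [← he, Scheme.Hom.opensRange_comp]

/-- **relative ampleness is local on the base, affine-local form** (EGA II 4.6.4). -/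
theorem isAmple_preimage_of_basicOpen_cover {X Y : Scheme.{u}} (f : X ⟶ Y) [QuasiCompact f]
    (L : X.Modules) (V : Y.Opens) (hV : IsAffineOpen V)
    (H : ∀ v ∈ V, ∃ h : Γ(Y, V), v ∈ Y.basicOpen h ∧
      CohB1.IsAmple (L.restrict (f ⁻¹ᵁ Y.basicOpen h).ι)) :
    CohB1.IsAmple (L.restrict (f ⁻¹ᵁ V).ι) := by
  haveI : CompactSpace (f ⁻¹ᵁ V : Scheme.{u}) :=
    isCompact_iff_compactSpace.mp (QuasiCompact.isCompact_preimage (f := f) _ V.2 hV.isCompact)
  let ι' := {h : Γ(Y, V) // CohB1.IsAmple (L.restrict (f ⁻¹ᵁ Y.basicOpen h).ι)}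
  let hfun : ι' → Γ((f ⁻¹ᵁ V : Scheme.{u}), ⊤) := fun h => (f ⁻¹ᵁ V).topIso.inv (f.app V h.1)
  have himg : ∀ h : ι', (f ⁻¹ᵁ V).ι ''ᵁ (f ⁻¹ᵁ V).toScheme.basicOpen (hfun h) =
      f ⁻¹ᵁ Y.basicOpen h.1 := by
    intro h
    rw [Scheme.Opens.ι_image_basicOpen_topIso_inv, Scheme.preimage_basicOpen]
  apply isAmple_of_basicOpen_cover (L.restrict (f ⁻¹ᵁ V).ι) hfun
  · rw [eq_top_iff]
    intro x' _
    obtain ⟨h, hv, hA⟩ := H (f ((f ⁻¹ᵁ V).ι x')) x'.2
    have hx : (f ⁻¹ᵁ V).ι x' ∈ (f ⁻¹ᵁ V).ι ''ᵁ (f ⁻¹ᵁ V).toScheme.basicOpen (hfun ⟨h, hA⟩) := by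
      rw [himg]; exact hv
    obtain ⟨x'', hx'', hxx⟩ := hx
    rw [(f ⁻¹ᵁ V).ι.isOpenEmbedding.injective hxx] at hx''
    exact Opens.mem_iSup.mpr ⟨⟨h, hA⟩, hx''⟩
  · intro h
    rw [isAmple_restrict_restrict_iff' _ _ L (f ⁻¹ᵁ Y.basicOpen h.1)]
    · exact h.2
    · rw [Scheme.Opens.opensRange_ι, himg]

end Groth.Agent.LD.QC
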