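import Groth.Agent.Lib.Lead.QC.RelTwist
import Groth.Prelude.Def_LCI2
universe u
open CategoryTheory Limits AlgebraicGeometry TopologicalSpace Opposite

namespace Groth.Agent.LD.QC
variable {X : Scheme.{u}}

/-- sections of a quotient of a finite free module are locally combinations of the generating
global sections. -/
theorem exists_local_decomp {M : X.Modules} {K : ℕ} (p : FlatMod.freeMod X K ⟶ M) (hp : Epi p)
    (U₀ : X.Opens) (t : Γ(M, U₀)) (x : X) (hx : x ∈ U₀) :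
    ∃ (W : X.Opens) (hW : W ≤ U₀), x ∈ W ∧ ∃ b : Fin K → Γ(X, W),
      M.presheaf.map (homOfLE hW).op t =
        ∑ j, b j • SecTwist.val (Sigma.ι (fun _ : Fin K => unitMod X) j ≫ p) W := by
  classical
  obtain ⟨W, hW, hxW, g, hg⟩ := exists_local_lift p hp U₀ t x hx
  refine ⟨W, hW, hxW, fun j => (freeProj X K j).app W g, ?_⟩
  rw [← hg]
  have h1 : g = ∑ j, (Sigma.ι (fun _ : Fin K => unitMod X) j).app W ((freeProj X K j).app W g) := by
    have h2 := sum_app (fun j => freeProj X K j ≫ Sigma.ι (fun _ : Fin K => unitMod X) j) W g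
    rw [freeProj_total] at h2
    exact h2
  conv_lhs => rw [h1]
  rw [map_sum]
  refine Finset.sum_congr rfl (fun j _ => ?_)
  exact unitHom_app M (Sigma.ι (fun _ : Fin K => unitMod X) j ≫ p) W _

variable {Y : Scheme.{u}} (f : X ⟶ Y)

/-- if `G` restricted to `f⁻¹ V` is a quotient of a finite free module, then the counit
`f^* f_* G ⟶ G` is locally surjective at the points of `f⁻¹ V`. -/
theorem counit_local_lift_of_epi_free (G : X.Modules) (V : Y.Opens) {K : ℕ}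
    (p : FlatMod.freeMod (f ⁻¹ᵁ V).toScheme K ⟶ G.restrict (f ⁻¹ᵁ V).ι) (hp : Epi p)
    (U₀ : X.Opens) (t : Γ(G, U₀)) (x : X) (hx : x ∈ U₀) (hxV : x ∈ f ⁻¹ᵁ V) :
    ∃ (W : X.Opens) (hW : W ≤ U₀), x ∈ W ∧
      ∃ g : Γ((Scheme.Modules.pullback f).obj ((Scheme.Modules.pushforward f).obj G), W),
        ((Scheme.Modules.pullbackPushforwardAdjunction f).counit.app G).app W g =
          G.presheaf.map (homOfLE hW).op t := by
  classical
  let j := (f ⁻¹ᵁ V).ι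
  let x' : (f ⁻¹ᵁ V).toScheme := ⟨x, hxV⟩
  have hle0 : j ''ᵁ (j ⁻¹ᵁ U₀) ≤ U₀ := by
    rintro _ ⟨z, hz, rfl⟩; exact hz
  let t' : Γ(G.restrict j, j ⁻¹ᵁ U₀) := G.presheaf.map (homOfLE hle0).op t
  obtain ⟨W', hW', hxW', b, hb⟩ := exists_local_decomp p hp (j ⁻¹ᵁ U₀) t' x' hx
  have hWle : j ''ᵁ W' ≤ U₀ := (Scheme.Hom.image_mono j hW').trans hle0
  have hWV : j ''ᵁ W' ≤ f ⁻¹ᵁ V := (f ⁻¹ᵁ V).ι_image_le W'
  have htop : f ⁻¹ᵁ V ≤ j ''ᵁ ⊤ := (f ⁻¹ᵁ V).ι_image_top.ge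
  let σ : Fin K → Γ(G, j ''ᵁ ⊤) := fun k =>
    sectionOfHom (Sigma.ι (fun _ : Fin K => unitMod (f ⁻¹ᵁ V).toScheme) k ≫ p)
  let τ : Fin K → Γ(G, f ⁻¹ᵁ V) := fun k => G.presheaf.map (homOfLE htop).op (σ k)
  have hval : ∀ k, (show Γ(G, j ''ᵁ W') from
      SecTwist.val (Sigma.ι (fun _ : Fin K => unitMod (f ⁻¹ᵁ V).toScheme) k ≫ p) W') =
      G.presheaf.map (homOfLE hWV).op (τ k) := by
    intro k
    rw [val_restrict_eq G j _ W']
    exact (res_res G htop hWV (σ k)).symm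
  let b' : Fin K → Γ(X, j ''ᵁ W') := fun k => (j.appIso W').inv.hom (b k)
  refine ⟨j ''ᵁ W', hWle, ⟨x', hxW', rfl⟩,
    ∑ k, b' k • pbSec f ((Scheme.Modules.pushforward f).obj G) hWV
      (show Γ((Scheme.Modules.pushforward f).obj G, V) from τ k), ?_⟩
  rw [map_sum]
  have hb' : G.presheaf.map (homOfLE hWle).op t =
      ∑ k, b' k • G.presheaf.map (homOfLE hWV).op (τ k) := by
    have h1 : (show Γ(G, j ''ᵁ W') from (G.restrict j).presheaf.map (homOfLE hW').op t') =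
        G.presheaf.map (homOfLE hWle).op t :=
      res_res G hle0 (Scheme.Hom.image_mono j hW') t
    rw [← h1, hb]
    refine Finset.sum_congr rfl (fun k _ => ?_)
    rw [← hval k]
    rfl
  rw [hb']
  refine Finset.sum_congr rfl (fun k _ => ?_)
  rw [Scheme.Modules.Hom.app_smul, counit_pbSec]

/-- **relative Serre generation** (EGA II 4.6.8 (a) ⇒ (b)): for `L` ample relative to `f` with `X`
quasi-compact and `F` quasi-coherent of finite type, `f^* f_* (F ⊗ L^n) ⟶ F ⊗ L^n` is an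
epimorphism for all `n ≫ 0`. -/
theorem exists_epi_counit_of_isRelAmple [CompactSpace X] [QuasiCompact f] (L : X.Modules)
    (hL : RelAmple.IsRelAmple f L) (F : X.Modules) [F.IsQuasicoherent] (hF : F.IsFiniteType) :
    ∃ n₀ : ℕ, 0 < n₀ ∧ ∀ n : ℕ, n₀ ≤ n →
      Epi ((Scheme.Modules.pullbackPushforwardAdjunction f).counit.app
        (CohB1.tensorMod F (CohB1.tensorPow L n))) := by
  classical
  have hkey : ∀ V : Y.affineOpens, ∃ n₀ : ℕ, ∀ n : ℕ, n₀ ≤ n →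
      ∃ (K : ℕ) (p : FlatMod.freeMod (f ⁻¹ᵁ V.1).toScheme K ⟶
        (CohB1.tensorMod F (CohB1.tensorPow L n)).restrict (f ⁻¹ᵁ V.1).ι), Epi p := by
    intro V
    have hA := hL.2 V
    haveI : CompactSpace (f ⁻¹ᵁ V.1 : Scheme.{u}) := hA.2.1
    haveI : Scheme.IsSeparated (f ⁻¹ᵁ V.1 : Scheme.{u}) :=
      isSeparated_of_affine_genLocus _ hA.1 hA.2.2
    haveI : QuasiSeparatedSpace (f ⁻¹ᵁ V.1 : Scheme.{u}) := inferInstance
    obtain ⟨n₀, hn₀⟩ := exists_epi_free_of_isAmple (L.restrict (f ⁻¹ᵁ V.1).ι) hA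
      (F.restrict (f ⁻¹ᵁ V.1).ι) (isFiniteType_restrict (f ⁻¹ᵁ V.1).ι F hF)
    refine ⟨n₀, fun n hn => ?_⟩
    obtain ⟨K, p, hp⟩ := hn₀ n hn
    let e : CohB1.tensorMod (F.restrict (f ⁻¹ᵁ V.1).ι)
        (CohB1.tensorPow (L.restrict (f ⁻¹ᵁ V.1).ι) n) ≅
        (CohB1.tensorMod F (CohB1.tensorPow L n)).restrict (f ⁻¹ᵁ V.1).ι :=
      tensorIso' (Iso.refl _) (restrictTensorPowIso (f ⁻¹ᵁ V.1).ι L n) ≪≫
        restrictTensorIso (f ⁻¹ᵁ V.1).ι F (CohB1.tensorPow L n)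
    exact ⟨K, p ≫ e.hom, epi_comp p e.hom⟩
  choose n₀ hn₀ using hkey
  have hV : ∀ x : X, ∃ V : Y.affineOpens, f x ∈ V.1 := by
    intro x
    obtain ⟨V, hV, hxV, -⟩ := exists_isAffineOpen_mem_and_subset (x := f x) (U := ⊤) trivial
    exact ⟨⟨V, hV⟩, hxV⟩
  choose V hxV using hV
  obtain ⟨Z, hZ⟩ := isCompact_univ.elim_finite_subcover (fun x : X => ((f ⁻¹ᵁ (V x).1 : X.Opens) : Set X))
    (fun x => (f ⁻¹ᵁ (V x).1).2) (fun x _ => Set.mem_iUnion.mpr ⟨x, hxV x⟩)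
  refine ⟨1 + Z.sup (fun z => n₀ (V z)), by omega, fun n hn => ?_⟩
  apply epi_of_local_lift
  intro U₀ t x hx
  obtain ⟨z, hzZ, hxz⟩ := Set.mem_iUnion₂.mp (hZ (Set.mem_univ x))
  have hnz : n₀ (V z) ≤ n := by
    have := Finset.le_sup (f := fun z => n₀ (V z)) hzZ
    omega
  obtain ⟨K, p, hp⟩ := hn₀ (V z) n hnz
  exact counit_local_lift_of_epi_free f _ (V z).1 p hp U₀ t x hx hxz

end Groth.Agent.LD.QC
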