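import Groth.Agent.Lib.Lead.QC.LocFree3
import Mathlib.RingTheory.Flat.LocallyFree
universe u
open CategoryTheory Limits AlgebraicGeometry TopologicalSpace Opposite TensorProduct

namespace Groth.Agent.LD.QC

/-- `finrank` transfers along a semilinear equivalence. -/
lemma finrank_eq_of_semilinear {A A' : Type*} {N N' : Type u} [CommRing A] [CommRing A'] [AddCommGroup N]
    [AddCommGroup N'] [Module A N] [Module A' N'] (e₁ : A ≃+* A') (e₂ : N ≃+ N')
    (h : ∀ (a : A) (n : N), e₂ (a • n) = e₁ a • e₂ n) :
    Module.finrank A N = Module.finrank A' N' := by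
  unfold Module.finrank
  rw [rank_eq_of_equiv_equiv e₁ e₂ e₁.bijective h]

/-- the canonical equivalence between two localizations of a module is semilinear over the
canonical equivalence between the two localizations of the ring. -/
lemma isLocalizedModule_equiv_semilinear {R : Type*} [CommRing R] (S : Submonoid R)
    {A A' M N N' : Type*}
    [CommRing A] [CommRing A'] [Algebra R A] [Algebra R A'] [IsLocalization S A]
    [IsLocalization S A'] [AddCommGroup M] [Module R M] [AddCommGroup N] [AddCommGroup N']
    [Module R N] [Module R N'] [Module A N] [Module A' N'] [IsScalarTower R A N]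
    [IsScalarTower R A' N'] (f : M →ₗ[R] N) (f' : M →ₗ[R] N') [IsLocalizedModule S f]
    [IsLocalizedModule S f'] (a : A) (n : N) :
    IsLocalizedModule.linearEquiv S f f' (a • n) =
      IsLocalization.algEquiv S A A' a • IsLocalizedModule.linearEquiv S f f' n := by
  set e₁ : A ≃ₐ[R] A' := IsLocalization.algEquiv S A A'
  set e₂ : N ≃ₗ[R] N' := IsLocalizedModule.linearEquiv S f f'
  obtain ⟨⟨x, s⟩, hxs⟩ := IsLocalization.surj S a
  have hs : (s : R) • a = algebraMap R A x := by
    rw [Algebra.smul_def, mul_comm]; exact hxs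
  have hinj : Function.Injective (fun y : N' => (s : R) • y) := by
    have hu := IsLocalizedModule.map_units f' s
    exact ((Module.End.isUnit_iff _).mp hu).1
  apply hinj
  change (s : R) • e₂ (a • n) = (s : R) • (e₁ a • e₂ n)
  rw [← map_smul, ← smul_assoc, hs, algebraMap_smul, map_smul, ← smul_assoc]
  congr 1
  have : (s : R) • e₁ a = e₁ ((s : R) • a) := (map_smul e₁ _ _).symm
  rw [this, hs, AlgEquiv.commutes, algebraMap_smul]

variable {X : Scheme.{u}}

/-- the rank of the stalk of a quasi-coherent module, in terms of sections over an affine open. -/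
theorem finrank_stalk_eq_rankAtStalk (F : X.Modules) [F.IsQuasicoherent] {U : X.Opens}
    (hU : IsAffineOpen U) (x : X) (hx : x ∈ U) :
    Module.finrank (X.presheaf.stalk x) (F.presheaf.stalk x) =
      Module.rankAtStalk (R := Γ(X, U)) Γ(F, U) (hU.primeIdealOf ⟨x, hx⟩) := by
  letI := stalkΓModule F x U hx
  haveI := isLocalizedModule_germ F hU x hx
  letI : Algebra Γ(X, U) (X.presheaf.stalk x) :=
    TopCat.Presheaf.algebra_section_stalk X.presheaf ⟨x, hx⟩
  haveI := hU.isLocalization_stalk ⟨x, hx⟩
  haveI : IsScalarTower Γ(X, U) (X.presheaf.stalk x) (F.presheaf.stalk x) :=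
    IsScalarTower.of_algebraMap_smul fun r m => rfl
  set p := hU.primeIdealOf ⟨x, hx⟩
  symm
  exact finrank_eq_of_semilinear
    (IsLocalization.algEquiv p.asIdeal.primeCompl (Localization.AtPrime p.asIdeal)
      (X.presheaf.stalk x)).toRingEquiv
    (IsLocalizedModule.linearEquiv p.asIdeal.primeCompl
      (LocalizedModule.mkLinearMap p.asIdeal.primeCompl Γ(F, U)) (germLinear F x U hx)).toAddEquiv
    (fun a n => isLocalizedModule_equiv_semilinear p.asIdeal.primeCompl _ _ a n)

end Groth.Agent.LD.QC

namespace Groth.Agent.LD.QC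
variable {X : Scheme.{u}}

/-- the fibre rank of a module at a point. -/
noncomputable abbrev fibreRank (F : X.Modules) (x : X) : ℕ :=
  Module.finrank (IsLocalRing.ResidueField (X.presheaf.stalk x))
    (TensorProduct (X.presheaf.stalk x) (IsLocalRing.ResidueField (X.presheaf.stalk x))
      (F.presheaf.stalk x))

lemma fibreRank_eq_of_free (F : X.Modules) (x : X)
    (hfree : Module.Free (X.presheaf.stalk x) (F.presheaf.stalk x)) :
    fibreRank F x = Module.finrank (X.presheaf.stalk x) (F.presheaf.stalk x) :=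
  Module.finrank_baseChange

/-- if sections over an affine open are free of rank `n`, the stalks have rank `n`. -/
lemma finrank_stalk_of_sections_equiv (F : X.Modules) [F.IsQuasicoherent] {U : X.Opens}
    (hU : IsAffineOpen U) (n : ℕ) (ℓ : Γ(F, U) ≃ₗ[Γ(X, U)] (Fin n → Γ(X, U))) (x : X)
    (hx : x ∈ U) : Module.finrank (X.presheaf.stalk x) (F.presheaf.stalk x) = n := by
  rw [finrank_stalk_eq_rankAtStalk F hU x hx, Module.rankAtStalk_eq_of_equiv ℓ]
  haveI : Nontrivial Γ(X, U) := (hU.primeIdealOf ⟨x, hx⟩).nontrivial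
  simp

/-- a quasi-coherent module is finite locally free iff it is of finite type, has free stalks and
locally constant rank. -/
theorem isFinLocFree_iff_free_stalks_rank (F : X.Modules) [F.IsQuasicoherent] :
    FlatMod.IsFinLocFree F ↔ F.IsFiniteType ∧
      (∀ x : X, Module.Free (X.presheaf.stalk x) (F.presheaf.stalk x)) ∧
      IsLocallyConstant (fibreRank F) := by
  constructor
  · intro h
    have hfp := isFinitePresentation_of_isFinLocFree F h
    refine ⟨inferInstance, free_stalk_of_isFinLocFree F h, ?_⟩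
    rw [IsLocallyConstant.iff_exists_open]
    intro x
    obtain ⟨U, n, hU, hxU, ⟨ℓ⟩⟩ := (isFinLocFree_iff F).mp h x
    refine ⟨U, U.2, hxU, fun y hy => ?_⟩
    rw [fibreRank_eq_of_free F y (free_stalk_of_isFinLocFree F h y),
      fibreRank_eq_of_free F x (free_stalk_of_isFinLocFree F h x),
      finrank_stalk_of_sections_equiv F hU n ℓ y hy, finrank_stalk_of_sections_equiv F hU n ℓ x hxU]
  · rintro ⟨hft, hfree, hlc⟩
    rw [isFinLocFree_iff]
    intro x
    obtain ⟨W, hW, hxW, hWc⟩ := (IsLocallyConstant.iff_exists_open _).mp hlc x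
    obtain ⟨U, hU, hxU, hUW⟩ := exists_isAffineOpen_mem_and_subset (x := x) (U := ⟨W, hW⟩) hxW
    haveI : Module.Finite Γ(X, U) Γ(F, U) := finite_sections_of_isFiniteType F hft hU
    haveI : Module.Flat Γ(X, U) Γ(F, U) := flat_sections_of_flat_stalks F hU fun y _ =>
      @Module.Flat.of_free _ _ _ _ _ (hfree y)
    have hr : ∀ y (hy : y ∈ U), Module.rankAtStalk (R := Γ(X, U)) Γ(F, U)
        (hU.primeIdealOf ⟨y, hy⟩) = fibreRank F x := fun y hy => by
      rw [← finrank_stalk_eq_rankAtStalk F hU y hy, ← fibreRank_eq_of_free F y (hfree y)]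
      exact hWc y (hUW hy)
    set p := hU.primeIdealOf ⟨x, hxU⟩
    obtain ⟨a, hap, hfa⟩ := Module.Free.away_of_finite_of_flat_of_rankAtStalk_constant Γ(F, U)
      p.asIdeal (fun m _ => by
        have h1 := hr (hU.fromSpec ⟨m, inferInstance⟩) (fromSpec_mem hU _)
        rw [primeIdealOf_fromSpec hU ⟨m, inferInstance⟩ (fromSpec_mem hU _)] at h1
        rw [h1]
        exact (hr x hxU).symm)
    have hxa : x ∈ X.basicOpen a := mem_basicOpen_of_mem_primeCompl hU x hxU a hap
    letI : Algebra Γ(X, U) Γ(X, X.basicOpen a) := resAlgebra (X.basicOpen_le a)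
    letI : Module Γ(X, U) Γ(F, X.basicOpen a) := resModule F (X.basicOpen_le a)
    haveI : IsScalarTower Γ(X, U) Γ(X, X.basicOpen a) Γ(F, X.basicOpen a) :=
      resModule_isScalarTower F (X.basicOpen_le a)
    haveI : IsLocalization.Away a Γ(X, X.basicOpen a) := hU.isLocalization_basicOpen a
    haveI : IsLocalizedModule.Away a (resLinear F (X.basicOpen_le a)) :=
      isLocalizedModule_basicOpen F hU a
    haveI : Module.Free Γ(X, X.basicOpen a) Γ(F, X.basicOpen a) :=
      free_of_isLocalizedModule_away a (A := Localization.Away a)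
        (LocalizedModule.mkLinearMap (Submonoid.powers a) Γ(F, U)) (resLinear F (X.basicOpen_le a))
    haveI : Module.Finite Γ(X, X.basicOpen a) Γ(F, X.basicOpen a) :=
      finite_sections_of_isFiniteType F hft (hU.basicOpen a)
    obtain ⟨n, hn⟩ := exists_equiv_fin_fun_of_free_of_finite Γ(X, X.basicOpen a)
      Γ(F, X.basicOpen a)
    exact ⟨X.basicOpen a, n, hU.basicOpen a, hxa, hn⟩

end Groth.Agent.LD.QC
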