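import Groth.Agent.Lib.Lead.QC.StalkPullback
universe u
open CategoryTheory Limits AlgebraicGeometry TopologicalSpace Opposite TensorProduct

namespace Groth.Agent.LD.QC

section AlgLoc
variable {T T' : Type*} [CommRing T] [CommRing T'] [Algebra T T']
variable {N L : Type*} [AddCommGroup N] [Module T N] [AddCommGroup L] [Module T L]

/-- base change of a localization map is a localization (at the image submonoid). -/
theorem isLocalizedModule_baseChange (p₀ : Submonoid T) (ℓ : N →ₗ[T] L)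
    [IsLocalizedModule p₀ ℓ] :
    IsLocalizedModule (Algebra.algebraMapSubmonoid T' p₀) (ℓ.baseChange T') := by
  haveI h1 : IsLocalizedModule p₀ (AlgebraTensorModule.rTensor T T' ℓ) := inferInstance
  haveI h2 : IsLocalizedModule p₀ ((TensorProduct.comm T L T').toLinearMap ∘ₗ
      (AlgebraTensorModule.rTensor T T' ℓ)) := IsLocalizedModule.of_linearEquiv _ _ _
  haveI h3 : IsLocalizedModule p₀ (((TensorProduct.comm T L T').toLinearMap ∘ₗ
      (AlgebraTensorModule.rTensor T T' ℓ)) ∘ₗ (TensorProduct.comm T T' N).toLinearMap) :=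
    IsLocalizedModule.of_linearEquiv_right _ _ _
  have e : ((ℓ.baseChange T').restrictScalars T) = (((TensorProduct.comm T L T').toLinearMap ∘ₗ
      (AlgebraTensorModule.rTensor T T' ℓ)) ∘ₗ (TensorProduct.comm T T' N).toLinearMap) := by
    ext; simp
  haveI : IsLocalizedModule p₀ ((ℓ.baseChange T').restrictScalars T) := e ▸ h3
  exact IsLocalizedModule.of_restrictScalars p₀ (ℓ.baseChange T')

variable {N' Q : Type*} [AddCommGroup N'] [Module T N'] [Module T' N'] [IsScalarTower T T' N']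
  [AddCommGroup Q] [Module T Q] [Module T' Q] [IsScalarTower T T' Q]

theorem isLocalizedModule_of_isBaseChange_square (p₀ : Submonoid T) (ℓ : N →ₗ[T] L)
    [IsLocalizedModule p₀ ℓ] {σ : N →ₗ[T] N'} (hσ : IsBaseChange T' σ) {τ : L →ₗ[T] Q}
    (hτ : IsBaseChange T' τ) (h : N' →ₗ[T'] Q) (hh : ∀ n, h (σ n) = τ (ℓ n)) :
    IsLocalizedModule (Algebra.algebraMapSubmonoid T' p₀) h := by
  haveI h1 := isLocalizedModule_baseChange (T' := T') p₀ ℓ
  haveI h2 : IsLocalizedModule (Algebra.algebraMapSubmonoid T' p₀)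
      (hτ.equiv.toLinearMap ∘ₗ (ℓ.baseChange T')) := IsLocalizedModule.of_linearEquiv _ _ _
  haveI h3 : IsLocalizedModule (Algebra.algebraMapSubmonoid T' p₀)
      ((hτ.equiv.toLinearMap ∘ₗ (ℓ.baseChange T')) ∘ₗ hσ.equiv.symm.toLinearMap) :=
    IsLocalizedModule.of_linearEquiv_right _ _ _
  have e : h = (hτ.equiv.toLinearMap ∘ₗ (ℓ.baseChange T')) ∘ₗ hσ.equiv.symm.toLinearMap := by
    apply hσ.algHom_ext'
    ext n
    simp [hh, IsBaseChange.equiv_symm_apply, IsBaseChange.equiv_tmul]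
  rw [e]
  exact h3

end AlgLoc

section AlgFlat
variable {R R' T T' : Type*} [CommRing R] [CommRing R'] [CommRing T] [CommRing T']
  [Algebra R R'] [Algebra R T] [Algebra R' T'] [Algebra T T'] [Algebra R T']
  [IsScalarTower R R' T'] [IsScalarTower R T T'] [Algebra.IsPushout R R' T T']
variable {N L N' L' : Type*} [AddCommGroup N] [Module T N] [AddCommGroup L] [Module T L]
  [AddCommGroup N'] [Module T N'] [Module T' N'] [IsScalarTower T T' N']
  [AddCommGroup L'] [Module T' L']
  [Module R L] [IsScalarTower R T L] [Module R' L'] [IsScalarTower R' T' L']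

/-- **flatness and base change, algebraic core**: in a pushout square `T' = R' ⊗_R T`, if the
localization `L` of a `T`-module `N` is `R`-flat then any further localization `L'` of
`N' = T' ⊗_T N` is `R'`-flat. -/
theorem flat_localized_pushout (p₀ : Submonoid T) (p : Submonoid T')
    (hp : Algebra.algebraMapSubmonoid T' p₀ ≤ p)
    (ℓ : N →ₗ[T] L) [IsLocalizedModule p₀ ℓ] (ℓ' : N' →ₗ[T'] L') [IsLocalizedModule p ℓ']
    {σ : N →ₗ[T] N'} (hσ : IsBaseChange T' σ) [Module.Flat R L] : Module.Flat R' L' := by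
  have hQ : Module.Flat R' (T' ⊗[T] L) :=
    Module.Flat.of_linearEquiv (Algebra.IsPushout.cancelBaseChange R R' T T' L)
  let h : N' →ₗ[T'] T' ⊗[T] L := hσ.lift ((TensorProduct.mk T T' L 1) ∘ₗ ℓ)
  have hh : ∀ n, h (σ n) = (TensorProduct.mk T T' L 1) (ℓ n) := fun n => hσ.lift_eq _ n
  haveI := isLocalizedModule_of_isBaseChange_square p₀ ℓ hσ
    (TensorProduct.isBaseChange T L T') h hh
  exact flat_of_isLocalizedModule_of_flat T' (T' ⊗[T] L) L' p
    (IsLocalizedModule.liftOfLE _ p hp h ℓ') hQ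

end AlgFlat

end Groth.Agent.LD.QC

namespace Groth.Agent.LD.QC

section FlatStalkΓ
variable {X S : Scheme.{u}}

/-- flatness of the stalk over the local ring of the base iff over sections on an affine open. -/
theorem flat_stalk_iff_flat_stalkΓ (f : X ⟶ S) (M : X.Modules) {U : X.Opens} {V : S.Opens}
    (hV : IsAffineOpen V) (hUV : U ≤ f ⁻¹ᵁ V) (x : X) (hx : x ∈ U) :
    @Module.Flat (S.presheaf.stalk (f.base x)) (M.presheaf.stalk x) _ _
      (stalkModuleOver f M x) ↔
    @Module.Flat Γ(S, V) (M.presheaf.stalk x) _ _ (stalkΓModuleOver f M hUV x hx) := by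
  letI := stalkΓModuleOver f M hUV x hx
  letI := stalkModuleOver f M x
  letI : Algebra Γ(S, V) (S.presheaf.stalk (f.base x)) :=
    TopCat.Presheaf.algebra_section_stalk S.presheaf ⟨f.base x, hUV hx⟩
  haveI : IsScalarTower Γ(S, V) (S.presheaf.stalk (f.base x)) (M.presheaf.stalk x) :=
    ⟨fun a b m => by
      change f.stalkMap x (S.presheaf.germ V (f x) (hUV hx) a * b) • m =
        X.presheaf.germ U x hx (f.appLE V U hUV a) • (f.stalkMap x b • m)
      rw [map_mul, mul_smul, stalkMap_germ_appLE]⟩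
  haveI := hV.isLocalization_stalk ⟨f.base x, hUV hx⟩
  exact Module.flat_iff_of_isLocalization (S.presheaf.stalk (f.base x))
    (hV.primeIdealOf ⟨f.base x, hUV hx⟩).asIdeal.primeCompl (M.presheaf.stalk x)

end FlatStalkΓ

section BC
variable {X S X' S' : Scheme.{u}} {f : X ⟶ S} {f' : X' ⟶ S'} {g' : X' ⟶ X} {g : S' ⟶ S}

/-- affine charts around a point of a fibre product, with the pushout property of sections. -/
theorem exists_affine_pushout_chart (hc : IsPullback g' f' f g) (x' : X') :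
    ∃ (W : S.Opens) (W' : S'.Opens) (U : X.Opens) (U' : X'.Opens) (hW'W : W' ≤ g ⁻¹ᵁ W)
      (hUW : U ≤ f ⁻¹ᵁ W) (e1 : U' ≤ g' ⁻¹ᵁ U) (e2 : U' ≤ f' ⁻¹ᵁ W'),
      IsAffineOpen W ∧ IsAffineOpen W' ∧ IsAffineOpen U ∧ IsAffineOpen U' ∧ x' ∈ U' ∧
      IsPushout (f.appLE W U hUW) (g.appLE W W' hW'W) (g'.appLE U U' e1) (f'.appLE W' U' e2) := by
  have hpt : g (f' x') = f (g' x') := by
    have := congr($(hc.w) x')
    simpa using this.symm
  obtain ⟨W, hW, hsW, -⟩ := exists_isAffineOpen_mem_and_subset (x := f (g' x')) (U := ⊤) trivial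
  obtain ⟨W', hW', hs'W', hW'W⟩ := exists_isAffineOpen_mem_and_subset (x := f' x') (U := g ⁻¹ᵁ W)
    (by change g (f' x') ∈ W; rw [hpt]; exact hsW)
  obtain ⟨U, hU, hxU, hUW⟩ := exists_isAffineOpen_mem_and_subset (x := g' x') (U := f ⁻¹ᵁ W) hsW
  have hx' : x' ∈ g' ⁻¹ᵁ U ⊓ f' ⁻¹ᵁ W' := ⟨hxU, hs'W'⟩
  have hU' : IsAffineOpen (g' ⁻¹ᵁ U ⊓ f' ⁻¹ᵁ W') := by
    haveI : IsAffine _ := hW
    haveI : IsAffine _ := hW'
    haveI : IsAffine _ := hU
    exact .of_isIso (Scheme.Hom.isPullback_resLE hc hW'W hUW rfl).isoPullback.hom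
  have hpo := (isIso_pushoutSection_iff hc hW'W hUW rfl).mp
    (isIso_pushoutSection_of_isAffineOpen hc hW'W hUW rfl hW hW' hU)
  exact ⟨W, W', U, _, hW'W, hUW, inf_le_left, inf_le_right, hW, hW', hU, hU', hx', hpo⟩

set_option maxHeartbeats 1600000 in
/-- **flatness at a point is preserved by base change**. -/
theorem isFlatOverAt_pullback_of_isPullback (hc : IsPullback g' f' f g) (F : X.Modules)
    [F.IsQuasicoherent] (x' : X') (h : FlatMod.IsFlatOverAt f F (g' x')) :
    FlatMod.IsFlatOverAt f' ((Scheme.Modules.pullback g').obj F) x' := by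
  haveI := qc_pullback g' F
  obtain ⟨W, W', U, U', hW'W, hUW, e1, e2, hW, hW', hU, hU', hx', hpo⟩ :=
    exists_affine_pushout_chart hc x'
  have hxU : g' x' ∈ U := e1 hx'
  -- ring structure
  letI aRR' : Algebra Γ(S, W) Γ(S', W') := (g.appLE W W' hW'W).hom.toAlgebra
  letI aRT : Algebra Γ(S, W) Γ(X, U) := (f.appLE W U hUW).hom.toAlgebra
  letI aR'T' : Algebra Γ(S', W') Γ(X', U') := (f'.appLE W' U' e2).hom.toAlgebra
  letI aTT' : Algebra Γ(X, U) Γ(X', U') := (g'.appLE U U' e1).hom.toAlgebra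
  letI aRT' : Algebra Γ(S, W) Γ(X', U') :=
    ((g'.appLE U U' e1).hom.comp (f.appLE W U hUW).hom).toAlgebra
  haveI t1 : IsScalarTower Γ(S, W) Γ(X, U) Γ(X', U') := IsScalarTower.of_algebraMap_eq fun _ => rfl
  haveI t2 : IsScalarTower Γ(S, W) Γ(S', W') Γ(X', U') := IsScalarTower.of_algebraMap_eq fun r => by
    have := congr($(hpo.w) r)
    exact this
  haveI hPO : Algebra.IsPushout Γ(S, W) Γ(S', W') Γ(X, U) Γ(X', U') :=
    CommRingCat.isPushout_iff_isPushout.mp hpo.flip
  -- modules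
  set P := (Scheme.Modules.pullback g').obj F with hP
  letI mTL : Module Γ(X, U) (F.presheaf.stalk (g' x')) := stalkΓModule F (g' x') U hxU
  letI mRL : Module Γ(S, W) (F.presheaf.stalk (g' x')) := stalkΓModuleOver f F hUW (g' x') hxU
  haveI tRTL : IsScalarTower Γ(S, W) Γ(X, U) (F.presheaf.stalk (g' x')) := ⟨fun a b m => by
    change X.presheaf.germ U (g' x') hxU (f.appLE W U hUW a * b) • m =
      X.presheaf.germ U (g' x') hxU (f.appLE W U hUW a) • (X.presheaf.germ U (g' x') hxU b • m)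
    rw [map_mul, mul_smul]⟩
  letI mTN' : Module Γ(X, U) Γ(P, U') := pbModule g' F e1
  haveI tTT'N' : IsScalarTower Γ(X, U) Γ(X', U') Γ(P, U') := pbModule_isScalarTower g' F e1
  letI mT'L' : Module Γ(X', U') (P.presheaf.stalk x') := stalkΓModule P x' U' hx'
  letI mR'L' : Module Γ(S', W') (P.presheaf.stalk x') := stalkΓModuleOver f' P e2 x' hx'
  haveI tR'T'L' : IsScalarTower Γ(S', W') Γ(X', U') (P.presheaf.stalk x') := ⟨fun a b m => by
    change X'.presheaf.germ U' x' hx' (f'.appLE W' U' e2 a * b) • m =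
      X'.presheaf.germ U' x' hx' (f'.appLE W' U' e2 a) • (X'.presheaf.germ U' x' hx' b • m)
    rw [map_mul, mul_smul]⟩
  haveI loc1 := isLocalizedModule_germ F hU (g' x') hxU
  haveI loc2 := isLocalizedModule_germ P hU' x' hx'
  have hp : Algebra.algebraMapSubmonoid Γ(X', U') (hU.primeIdealOf ⟨g' x', hxU⟩).asIdeal.primeCompl ≤
      (hU'.primeIdealOf ⟨x', hx'⟩).asIdeal.primeCompl := by
    rintro _ ⟨t, ht, rfl⟩
    intro hmem
    apply ht
    have hc' := IsAffineOpen.comap_primeIdealOf_appLE (f := g') U hU U' hU' e1 hx'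
    rw [← hc']
    exact hmem
  haveI flatL : Module.Flat Γ(S, W) (F.presheaf.stalk (g' x')) :=
    (flat_stalk_iff_flat_stalkΓ f F hW hUW (g' x') hxU).mp h
  have key : Module.Flat Γ(S', W') (P.presheaf.stalk x') :=
    flat_localized_pushout (R := Γ(S, W)) (R' := Γ(S', W')) (T := Γ(X, U)) (T' := Γ(X', U'))
      (hU.primeIdealOf ⟨g' x', hxU⟩).asIdeal.primeCompl
      (hU'.primeIdealOf ⟨x', hx'⟩).asIdeal.primeCompl hp
      (germLinear F (g' x') U hxU) (germLinear P x' U' hx')
      (isBaseChange_pbSec g' hU' hU e1 F)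
  exact (flat_stalk_iff_flat_stalkΓ f' P hW' e2 x' hx').mpr key

set_option maxHeartbeats 1600000 in
/-- **flatness of a morphism at a point is preserved by base change** (stalk-map form). -/
theorem stalkMap_flat_of_isPullback (hc : IsPullback g' f' f g) (x' : X')
    (hg : (g.stalkMap (f' x')).hom.Flat) : (g'.stalkMap x').hom.Flat := by
  obtain ⟨W, W', U, U', hW'W, hUW, e1, e2, hW, hW', hU, hU', hx', hpo⟩ :=
    exists_affine_pushout_chart hc x'
  have hxU : g' x' ∈ U := e1 hx'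
  have hsW' : f' x' ∈ W' := e2 hx'
  -- ring structure
  letI aRR' : Algebra Γ(S, W) Γ(S', W') := (g.appLE W W' hW'W).hom.toAlgebra
  letI aRT : Algebra Γ(S, W) Γ(X, U) := (f.appLE W U hUW).hom.toAlgebra
  letI aR'T' : Algebra Γ(S', W') Γ(X', U') := (f'.appLE W' U' e2).hom.toAlgebra
  letI aTT' : Algebra Γ(X, U) Γ(X', U') := (g'.appLE U U' e1).hom.toAlgebra
  letI aRT' : Algebra Γ(S, W) Γ(X', U') :=
    ((g'.appLE U U' e1).hom.comp (f.appLE W U hUW).hom).toAlgebra
  haveI t1 : IsScalarTower Γ(S, W) Γ(X, U) Γ(X', U') := IsScalarTower.of_algebraMap_eq fun _ => rfl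
  haveI t2 : IsScalarTower Γ(S, W) Γ(S', W') Γ(X', U') := IsScalarTower.of_algebraMap_eq fun r => by
    have := congr($(hpo.w) r)
    exact this
  haveI hPO : Algebra.IsPushout Γ(S, W) Γ(X, U) Γ(S', W') Γ(X', U') :=
    CommRingCat.isPushout_iff_isPushout.mp hpo
  -- stalks as algebras
  letI aT'B' : Algebra Γ(X', U') (X'.presheaf.stalk x') :=
    TopCat.Presheaf.algebra_section_stalk X'.presheaf ⟨x', hx'⟩
  haveI locB' := hU'.isLocalization_stalk ⟨x', hx'⟩
  letI aR'A' : Algebra Γ(S', W') (S'.presheaf.stalk (f' x')) :=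
    TopCat.Presheaf.algebra_section_stalk S'.presheaf ⟨f' x', hsW'⟩
  haveI locA' := hW'.isLocalization_stalk ⟨f' x', hsW'⟩
  letI aTB : Algebra Γ(X, U) (X.presheaf.stalk (g' x')) :=
    TopCat.Presheaf.algebra_section_stalk X.presheaf ⟨g' x', hxU⟩
  haveI locB := hU.isLocalization_stalk ⟨g' x', hxU⟩
  letI aRA : Algebra Γ(S, W) (S.presheaf.stalk (g (f' x'))) :=
    TopCat.Presheaf.algebra_section_stalk S.presheaf ⟨g (f' x'), hW'W hsW'⟩
  haveI locA := hW.isLocalization_stalk ⟨g (f' x'), hW'W hsW'⟩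
  letI aAA' : Algebra (S.presheaf.stalk (g (f' x'))) (S'.presheaf.stalk (f' x')) :=
    (g.stalkMap (f' x')).hom.toAlgebra
  letI aBB' : Algebra (X.presheaf.stalk (g' x')) (X'.presheaf.stalk x') :=
    (g'.stalkMap x').hom.toAlgebra
  -- module structures over the section rings of the other side
  letI mRA' : Module Γ(S, W) (S'.presheaf.stalk (f' x')) :=
    Module.compHom _ (algebraMap Γ(S, W) Γ(S', W'))
  haveI tRR'A' : IsScalarTower Γ(S, W) Γ(S', W') (S'.presheaf.stalk (f' x')) :=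
    ⟨fun a b m => by
      change (algebraMap Γ(S', W') (S'.presheaf.stalk (f' x'))) (algebraMap _ _ a * b) * m =
        algebraMap Γ(S', W') (S'.presheaf.stalk (f' x')) (algebraMap _ _ a) *
          ((algebraMap Γ(S', W') (S'.presheaf.stalk (f' x'))) b * m)
      rw [map_mul, mul_assoc]⟩
  haveI tRAA' : IsScalarTower Γ(S, W) (S.presheaf.stalk (g (f' x'))) (S'.presheaf.stalk (f' x')) :=
    ⟨fun a b m => by
      change g.stalkMap (f' x') (algebraMap Γ(S, W) _ a * b) * m =
        (algebraMap Γ(S', W') (S'.presheaf.stalk (f' x'))) (algebraMap Γ(S, W) Γ(S', W') a) *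
          ((g.stalkMap (f' x')) b * m)
      rw [map_mul, mul_assoc]
      congr 1
      exact stalkMap_germ_appLE g hW'W (f' x') hsW' a⟩
  letI mTB' : Module Γ(X, U) (X'.presheaf.stalk x') :=
    Module.compHom _ (algebraMap Γ(X, U) Γ(X', U'))
  haveI tTT'B' : IsScalarTower Γ(X, U) Γ(X', U') (X'.presheaf.stalk x') :=
    ⟨fun a b m => by
      change (algebraMap Γ(X', U') (X'.presheaf.stalk x')) (algebraMap _ _ a * b) * m =
        algebraMap Γ(X', U') (X'.presheaf.stalk x') (algebraMap _ _ a) *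
          ((algebraMap Γ(X', U') (X'.presheaf.stalk x')) b * m)
      rw [map_mul, mul_assoc]⟩
  haveI tTBB' : IsScalarTower Γ(X, U) (X.presheaf.stalk (g' x')) (X'.presheaf.stalk x') :=
    ⟨fun a b m => by
      change g'.stalkMap x' (algebraMap Γ(X, U) _ a * b) * m =
        (algebraMap Γ(X', U') (X'.presheaf.stalk x')) (algebraMap Γ(X, U) Γ(X', U') a) *
          ((g'.stalkMap x') b * m)
      rw [map_mul, mul_assoc]
      congr 1
      exact stalkMap_germ_appLE g' e1 x' hx' a⟩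
  haveI flatL : Module.Flat Γ(S, W) (S'.presheaf.stalk (f' x')) :=
    (Module.flat_iff_of_isLocalization (S.presheaf.stalk (g (f' x')))
      (hW.primeIdealOf ⟨g (f' x'), hW'W hsW'⟩).asIdeal.primeCompl
      (S'.presheaf.stalk (f' x'))).mp hg
  have hp : Algebra.algebraMapSubmonoid Γ(X', U')
      (hW'.primeIdealOf ⟨f' x', hsW'⟩).asIdeal.primeCompl ≤
      (hU'.primeIdealOf ⟨x', hx'⟩).asIdeal.primeCompl := by
    rintro _ ⟨t, ht, rfl⟩
    intro hmem
    apply ht
    have hc' := IsAffineOpen.comap_primeIdealOf_appLE (f := f') W' hW' U' hU' e2 hx'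
    rw [← hc']
    exact hmem
  have key : Module.Flat Γ(X, U) (X'.presheaf.stalk x') :=
    flat_localized_pushout (R := Γ(S, W)) (R' := Γ(X, U)) (T := Γ(S', W')) (T' := Γ(X', U'))
      (hW'.primeIdealOf ⟨f' x', hsW'⟩).asIdeal.primeCompl
      (hU'.primeIdealOf ⟨x', hx'⟩).asIdeal.primeCompl hp
      (Algebra.linearMap Γ(S', W') (S'.presheaf.stalk (f' x')))
      (Algebra.linearMap Γ(X', U') (X'.presheaf.stalk x'))
      (IsBaseChange.linearMap (R := Γ(S', W')) (S := Γ(X', U')))
  exact (Module.flat_iff_of_isLocalization (X.presheaf.stalk (g' x'))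
      (hU.primeIdealOf ⟨g' x', hxU⟩).asIdeal.primeCompl (X'.presheaf.stalk x')).mpr key

end BC

section Comp
variable {X Y S : Scheme.{u}}

/-- transitivity of flatness: flat over `Y` at `x` and `Y → S` flat at the image. -/
theorem isFlatOverAt_comp (h : X ⟶ Y) (q : Y ⟶ S) (P : X.Modules) (x : X)
    (hq : (q.stalkMap (h x)).hom.Flat) (hP : FlatMod.IsFlatOverAt h P x) :
    FlatMod.IsFlatOverAt (h ≫ q) P x := by
  letI algCA : Algebra (S.presheaf.stalk (q (h x))) (Y.presheaf.stalk (h x)) :=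
    (q.stalkMap (h x)).hom.toAlgebra
  letI mAP : Module (Y.presheaf.stalk (h x)) (P.presheaf.stalk x) := FlatMod.moduleStalkOver h P x
  letI mCP : Module (S.presheaf.stalk (q (h x))) (P.presheaf.stalk x) :=
    FlatMod.moduleStalkOver (h ≫ q) P x
  haveI tw : IsScalarTower (S.presheaf.stalk (q (h x))) (Y.presheaf.stalk (h x))
      (P.presheaf.stalk x) := ⟨fun c a m => by
    change (h.stalkMap x) ((q.stalkMap (h x)) c * a) • m =
      ((h ≫ q).stalkMap x) c • ((h.stalkMap x) a • m)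
    rw [map_mul, mul_smul, Scheme.Hom.stalkMap_comp]
    rfl⟩
  haveI : Module.Flat (S.presheaf.stalk (q (h x))) (Y.presheaf.stalk (h x)) := hq
  haveI : Module.Flat (Y.presheaf.stalk (h x)) (P.presheaf.stalk x) := hP
  exact Module.Flat.trans (S.presheaf.stalk (q (h x))) (Y.presheaf.stalk (h x))
    (P.presheaf.stalk x)

end Comp

section BC2
variable {X S X' S' : Scheme.{u}} {f : X ⟶ S} {f' : X' ⟶ S'} {g' : X' ⟶ X} {g : S' ⟶ S}

/-- **descent of flatness at a point along a base change that is flat at the point**. -/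
theorem isFlatOverAt_of_pullback_of_isPullback (hc : IsPullback g' f' f g) (F : X.Modules)
    [F.IsQuasicoherent] (x' : X') (hg : (g.stalkMap (f' x')).hom.Flat)
    (h : FlatMod.IsFlatOverAt f' ((Scheme.Modules.pullback g').obj F) x') :
    FlatMod.IsFlatOverAt f F (g' x') := by
  have hg' := stalkMap_flat_of_isPullback hc x' hg
  refine (isFlatOverAt_pullback_iff g' f F x' hg').mpr ?_
  rw [hc.w]
  exact isFlatOverAt_comp f' g _ x' hg h

end BC2

end Groth.Agent.LD.QC
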