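import Groth.Agent.Lib.Lead.QC.FinType
universe u
open CategoryTheory Limits AlgebraicGeometry TopologicalSpace Opposite

namespace Groth.Agent.LD.QC

section Spec
variable {R : CommRingCat.{u}}

noncomputable instance moduleSpecΓFunctor_preservesLimits :
    PreservesLimitsOfSize.{u, u} (moduleSpecΓFunctor (R := R)) :=
  (tilde.adjunction (R := R)).rightAdjoint_preservesLimits

noncomputable instance moduleSpecΓFunctor_preservesFiniteLimits :
    PreservesFiniteLimits (moduleSpecΓFunctor (R := R)) :=
  PreservesLimitsOfSize.preservesFiniteLimits _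

instance : (moduleSpecΓFunctor (R := R)).IsRightAdjoint := (tilde.adjunction (R := R)).isRightAdjoint

instance : (moduleSpecΓFunctor (R := R)).PreservesZeroMorphisms :=
  Functor.preservesZeroMorphisms_of_isRightAdjoint _

instance : (moduleSpecΓFunctor (R := R)).Additive :=
  Functor.additive_of_preserves_binary_products _

/-- Left exactness of global sections on `Spec R`, elementwise. -/
theorem spec_Γ_kernel_exact {N₁ N₂ : (Spec R).Modules} (π : N₁ ⟶ N₂)
    (y : moduleSpecΓFunctor.obj N₁) (hy : moduleSpecΓFunctor.map π y = 0) :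
    ∃ k : moduleSpecΓFunctor.obj (kernel π), moduleSpecΓFunctor.map (kernel.ι π) k = y := by
  let S : ShortComplex (Spec R).Modules := ShortComplex.mk (kernel.ι π) π (kernel.condition π)
  have hS : S.Exact := ShortComplex.exact_of_f_is_kernel S (kernelIsKernel π)
  have hm : Mono S.f := inferInstanceAs (Mono (kernel.ι π))
  have i1 : (moduleSpecΓFunctor (R := R)).PreservesZeroMorphisms := inferInstance
  have i2 : PreservesFiniteLimits (moduleSpecΓFunctor (R := R)) := inferInstance
  have i3 : PreservesLimit (parallelPair S.g 0) (moduleSpecΓFunctor (R := R)) := inferInstance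
  have hS' : (S.map (moduleSpecΓFunctor (R := R))).Exact :=
    hS.map_of_mono_of_preservesKernel (moduleSpecΓFunctor (R := R)) hm i3
  exact (ShortComplex.moduleCat_exact_iff _).mp hS' y hy

theorem spec_finitePresentation_of_presentation (N : (Spec R).Modules)
    (hN : N.IsQuasicoherent) (P : N.Presentation) [hP : P.IsFinite] :
    Module.FinitePresentation R (moduleSpecΓFunctor.obj N) := by
  have hI : Finite P.generators.I := hP.isFiniteType_generators.finite
  have hJ : Finite P.relations.I := hP.isFiniteType_relations.finite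
  let π : SheafOfModules.free (R := (Spec R).ringCatSheaf) P.generators.I ⟶ N := P.generators.π
  have h0 : @Epi (Spec R).Modules _ _ _ π := P.generators.epi
  have h1 : Epi (moduleSpecΓFunctor.map π) := spec_epi_Γ inferInstance hN π
  let l : ModuleCat.of R (P.generators.I →₀ R) ⟶ moduleSpecΓFunctor.obj N :=
    (specΓFreeIso P.generators.I).hom ≫ moduleSpecΓFunctor.map π
  have h2 : Epi l := epi_comp _ _
  have hl : Function.Surjective l.hom := (ModuleCat.epi_iff_surjective _).mp h2
  have hK : (kernel π).IsQuasicoherent := qc_kernel π inferInstance hN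
  have hKfin : Module.Finite R (moduleSpecΓFunctor.obj (kernel π)) :=
    spec_finite_of_generatingSections (kernel π) hK P.relations
  let m : moduleSpecΓFunctor.obj (kernel π) ⟶ ModuleCat.of R (P.generators.I →₀ R) :=
    moduleSpecΓFunctor.map (kernel.ι π) ≫ (specΓFreeIso P.generators.I).inv
  have hker : LinearMap.ker l.hom = LinearMap.range m.hom := by
    ext x
    constructor
    · intro hx
      have hx' : moduleSpecΓFunctor.map π ((specΓFreeIso P.generators.I).hom x) = 0 := hx
      obtain ⟨k, hk⟩ := spec_Γ_kernel_exact π _ hx'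
      refine ⟨k, ?_⟩
      change (specΓFreeIso P.generators.I).inv (moduleSpecΓFunctor.map (kernel.ι π) k) = x
      exact (congrArg (specΓFreeIso P.generators.I).inv hk).trans
        (congr($((specΓFreeIso P.generators.I).hom_inv_id) x))
    · rintro ⟨k, rfl⟩
      change moduleSpecΓFunctor.map π ((specΓFreeIso P.generators.I).hom
        ((specΓFreeIso P.generators.I).inv (moduleSpecΓFunctor.map (kernel.ι π) k))) = 0
      have e1 : (specΓFreeIso P.generators.I).hom
        ((specΓFreeIso P.generators.I).inv (moduleSpecΓFunctor.map (kernel.ι π) k)) =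
          moduleSpecΓFunctor.map (kernel.ι π) k :=
        congr($((specΓFreeIso P.generators.I).inv_hom_id) _)
      rw [e1]
      have e2 : moduleSpecΓFunctor.map (kernel.ι π) ≫ moduleSpecΓFunctor.map π = 0 :=
        (moduleSpecΓFunctor.map_comp _ _).symm.trans
          ((congrArg moduleSpecΓFunctor.map (kernel.condition π)).trans
            (Functor.map_zero _ _ _))
      exact congr($e2 k)
  refine Module.finitePresentation_of_surjective l.hom hl ?_
  rw [hker, LinearMap.range_eq_map]
  exact (Module.Finite.fg_top).map _

theorem spec_exists_presentation_of_finitePresentation (M : ModuleCat.{u} R)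
    [h : Module.FinitePresentation R M] :
    ∃ P : (tilde M).Presentation, P.IsFinite := by
  obtain ⟨s, hs, t, ht⟩ := h
  let P := presentationTilde.{u} M (↑s : Set M) hs (↑t : Set ((↑s : Set M) →₀ R)) ht
  refine ⟨P, ?_⟩
  exact
    { isFiniteType_generators := ⟨inferInstanceAs (Finite (↑s : Set M))⟩
      isFiniteType_relations := ⟨inferInstanceAs (Finite (↑t : Set ((↑s : Set M) →₀ R)))⟩ }

end Spec
end Groth.Agent.LD.QC

namespace Groth.Agent.LD.QC
variable {X : Scheme.{u}}

theorem finitePresentation_of_presentation_affine (M : X.Modules) (hM : M.IsQuasicoherent)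
    {U : X.Opens} (hU : IsAffineOpen U) (P : (M.restrict U.ι).Presentation)
    [hP : P.IsFinite] : Module.FinitePresentation Γ(X, U) Γ(M, U) := by
  let Q := presOfLE M U.ι hU.fromSpec (range_fromSpec_subset_range_ι hU) P
  have : Q.IsFinite := presOfLE_isFinite _ _ _ _ _
  have h := spec_finitePresentation_of_presentation (R := Γ(X, U)) (M.restrict hU.fromSpec)
    inferInstance Q
  have h' : Module.FinitePresentation Γ(X, U) Γ(M.restrict hU.fromSpec, ⊤) := h
  exact Module.finitePresentation_of_surjective (affineΓEquiv M hU).toLinearMap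
    (affineΓEquiv M hU).surjective (by
      rw [LinearEquiv.ker]
      exact Submodule.fg_bot)

theorem finitePresentation_sections_of_isFinitePresentation (M : X.Modules)
    (hFP : M.IsFinitePresentation) {U : X.Opens} (hU : IsAffineOpen U) :
    Module.FinitePresentation Γ(X, U) Γ(M, U) := by
  have hM : M.IsQuasicoherent := inferInstance
  let t : Set Γ(X, U) :=
    {f | ∃ P : (M.restrict (X.basicOpen f).ι).Presentation, P.IsFinite}
  have ht : Ideal.span t = ⊤ := by
    rw [← hU.self_le_iSup_basicOpen_iff]
    intro x hx
    obtain ⟨W, hxW, P, hP⟩ := (isFinitePresentation_iff_forall_exists M).mp hFP x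
    obtain ⟨f, hfW, hxf⟩ := hU.exists_basicOpen_le ⟨x, hxW⟩ hx
    have hr : Set.range (X.basicOpen f).ι ⊆ Set.range W.ι := by
      rw [Scheme.Opens.range_ι, Scheme.Opens.range_ι]; exact hfW
    have hft : f ∈ t := ⟨presOfLE M W.ι (X.basicOpen f).ι hr P, presOfLE_isFinite _ _ _ _ _⟩
    exact Opens.mem_iSup.mpr ⟨⟨f, hft⟩, hxf⟩
  refine finitePresentation_of_span_basicOpen M hU t ht fun g => ?_
  obtain ⟨P, hP⟩ := g.2
  exact finitePresentation_of_presentation_affine M hM (hU.basicOpen g.1) P

theorem spec_exists_presentation {R : CommRingCat.{u}} (N : (Spec R).Modules)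
    [N.IsQuasicoherent] (h : Module.FinitePresentation R Γ(N, ⊤)) :
    ∃ P : N.Presentation, P.IsFinite := by
  have h' : Module.FinitePresentation R ((modulesSpecToSheaf.obj N).presheaf.obj (.op ⊤)) := h
  obtain ⟨P, hP⟩ := spec_exists_presentation_of_finitePresentation
    ((modulesSpecToSheaf.obj N).presheaf.obj (.op ⊤))
  have hiso : IsIso N.fromTildeΓ := inferInstance
  have hiso' : @IsIso (SheafOfModules (Spec R).ringCatSheaf) _ _ _ N.fromTildeΓ := hiso
  exact ⟨SheafOfModules.Presentation.ofIsIso.{u, u, u} N.fromTildeΓ P, inferInstance⟩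

theorem exists_presentation_of_finitePresentation_affine (M : X.Modules) [M.IsQuasicoherent]
    {U : X.Opens} (hU : IsAffineOpen U) (h : Module.FinitePresentation Γ(X, U) Γ(M, U)) :
    ∃ P : (M.restrict U.ι).Presentation, P.IsFinite := by
  have h1 : Module.FinitePresentation Γ(X, U) Γ(M.restrict hU.fromSpec, ⊤) :=
    Module.finitePresentation_of_surjective (affineΓEquiv M hU).symm.toLinearMap
      (affineΓEquiv M hU).symm.surjective (by
        rw [LinearEquiv.ker]
        exact Submodule.fg_bot)
  obtain ⟨P, hP⟩ := spec_exists_presentation (R := Γ(X, U)) (M.restrict hU.fromSpec) h1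
  exact ⟨presOfLE M hU.fromSpec U.ι (range_ι_subset_range_fromSpec hU) P,
    presOfLE_isFinite _ _ _ _ _⟩

theorem isFinitePresentation_of_sections (M : X.Modules) [M.IsQuasicoherent]
    (h : ∀ x : X, ∃ U : X.Opens, IsAffineOpen U ∧ x ∈ U ∧
      Module.FinitePresentation Γ(X, U) Γ(M, U)) :
    M.IsFinitePresentation := by
  rw [isFinitePresentation_iff_forall_exists]
  intro x
  obtain ⟨U, hU, hxU, hfin⟩ := h x
  exact ⟨U, hxU, exists_presentation_of_finitePresentation_affine M hU hfin⟩

theorem isFinitePresentation_iff_sections (M : X.Modules) [M.IsQuasicoherent] :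
    M.IsFinitePresentation ↔
      ∀ U : X.Opens, IsAffineOpen U → Module.FinitePresentation Γ(X, U) Γ(M, U) := by
  refine ⟨fun h U hU => finitePresentation_sections_of_isFinitePresentation M h hU, fun h => ?_⟩
  refine isFinitePresentation_of_sections M fun x => ?_
  obtain ⟨U, hU, hxU, -⟩ := exists_isAffineOpen_mem_and_subset (x := x) (U := ⊤) trivial
  exact ⟨U, hU, hxU, h U hU⟩

end Groth.Agent.LD.QC

namespace Groth.Agent.LD.QC
variable {X : Scheme.{u}}

theorem isFinitePresentation_of_presentation (M : X.Modules) (P : M.Presentation)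
    [hP : P.IsFinite] : M.IsFinitePresentation := by
  have h : P.quasicoherentData.IsFinitePresentation :=
    { isFinite_presentation := fun _ =>
        { isFiniteType_generators := ⟨hP.isFiniteType_generators.finite⟩
          isFiniteType_relations := ⟨hP.isFiniteType_relations.finite⟩ } }
  exact SheafOfModules.IsFinitePresentation.mk.{u, u, u} ⟨P.quasicoherentData, h⟩

theorem spec_isFinitePresentation_tilde_iff {R : CommRingCat.{u}} (M : ModuleCat.{u} R) :
    (tilde M).IsFinitePresentation ↔ Module.FinitePresentation R M := by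
  constructor
  · intro h
    have h1 : Module.FinitePresentation Γ(Spec R, ⊤) Γ(tilde M, ⊤) :=
      finitePresentation_sections_of_isFinitePresentation (tilde M) h (isAffineOpen_top (Spec R))
    have hbij : Function.Bijective (Algebra.linearMap R Γ(Spec R, ⊤)) :=
      ConcreteCategory.bijective_of_isIso (Scheme.ΓSpecIso R).inv
    have h2 : Module.FinitePresentation R Γ(Spec R, ⊤) :=
      Module.FinitePresentation.of_equiv (LinearEquiv.ofBijective _ hbij)
    have h3 : Module.FinitePresentation R Γ(tilde M, ⊤) :=
      Module.FinitePresentation.trans R _ Γ(Spec R, ⊤)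
    have h4 : Module.FinitePresentation R
      ((modulesSpecToSheaf.obj (tilde M)).presheaf.obj (op ⊤)) := h3
    exact Module.FinitePresentation.of_equiv (tilde.isoTop M).toLinearEquiv.symm
  · intro h
    obtain ⟨P, hP⟩ := spec_exists_presentation_of_finitePresentation M
    exact isFinitePresentation_of_presentation _ P

end Groth.Agent.LD.QC
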