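import Groth.Agent.Lib.Lead.QC.TensorRestrict
import Groth.Prelude.Def_SecTwist
import Groth.Prelude.Def_PicGrp
universe u
open CategoryTheory Limits AlgebraicGeometry TopologicalSpace Opposite TensorProduct MonoidalCategory

namespace Groth.Agent.LD.QC
variable {X Y : Scheme.{u}}

lemma tmul_eq_tensorSec (M N : X.Modules) (U : X.Opens) (m : Γ(M, U)) (n : Γ(N, U)) :
    SecTwist.tmul M N U m n = tensorSec M N U (m ⊗ₜ n) := rfl

/-- the restriction isomorphism on pure tensors. -/
lemma restrictTensorHom_tmul (f : X ⟶ Y) [IsOpenImmersion f] (M N : Y.Modules) (W : X.Opens)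
    (a : Γ(M.restrict f, W)) (b : Γ(N.restrict f, W)) :
    (restrictTensorHom f M N).app W (SecTwist.tmul (M.restrict f) (N.restrict f) W a b) =
      SecTwist.tmul M N (f ''ᵁ W) a b := by
  have h := sheafify_desc_unit (tensorPre' (M.restrict f) (N.restrict f))
    ((CohB1.tensorMod M N).restrict f) (restrictTensorPre f M N) W (a ⊗ₜ b)
  refine h.trans ?_
  change tensorSec M N (f ''ᵁ W) (restrictTensorEquiv f M N W (a ⊗ₜ b)) = _
  rw [restrictTensorEquiv_tmul]
  rfl

end Groth.Agent.LD.QC
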