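import Groth.Agent.Lib.Lead.QC.WeakAssInj
universe u
open CategoryTheory Limits AlgebraicGeometry TopologicalSpace Opposite IsLocalRing

namespace Groth.Agent.LD.QC

section AssPt
variable {X : Scheme.{u}}

theorem colon_bot_singleton_eq_ker {R M : Type*} [CommRing R] [AddCommGroup M] [Module R M]
    (m : M) : (Submodule.colon (⊥ : Submodule R M) {m} : Ideal R) =
      (LinearMap.ker (LinearMap.toSpanSingleton R M m) : Ideal R) := by
  ext r
  rw [Submodule.mem_colon_singleton, Submodule.mem_bot]
  rfl

/-- with Mathlib's (radical) notion of associated prime, associated points are the weakly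
associated points. -/
theorem isAssPoint_iff_isWeakAssPoint (F : X.Modules) (x : X) :
    Curv2.IsAssPoint F x ↔ Curv2.IsWeakAssPoint F x := by
  unfold Curv2.IsAssPoint Curv2.IsWeakAssPoint IsAssociatedPrime
  rw [Submodule.isAssociatedPrime_def]
  constructor
  · rintro ⟨-, m, hm⟩
    refine ⟨m, ?_⟩
    rw [← colon_bot_singleton_eq_ker]
    exact hm.symm
  · rintro ⟨m, hm⟩
    refine ⟨inferInstance, m, ?_⟩
    rw [colon_bot_singleton_eq_ker]
    exact hm.symm

end AssPt
end Groth.Agent.LD.QC
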