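import Groth.Agent.Lib.Lead.QC.StalkNbhd
import Groth.Agent.Lib.Lead.QC.IdealMod
import Groth.Agent.Lib.Lead.QC.SuppPullback

/-! # Supports in short exact sequences. -/

set_option autoImplicit false
universe u
open CategoryTheory Limits Opposite AlgebraicGeometry TopologicalSpace

namespace Groth.Agent.LD.QC

variable {X : Scheme.{u}}

lemma stalkMap_injective_of_mono {A B : X.Modules} (f : A ⟶ B) [Mono f] (x : X) :
    Function.Injective ((TopCat.Presheaf.stalkFunctor _ x).map f.mapPresheaf).hom := by
  rw [injective_iff_map_eq_zero]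
  intro a ha
  obtain ⟨V, hxV, s, rfl⟩ := TopCat.Presheaf.exists_germ_eq A.presheaf a
  rw [stalkMap_germ] at ha
  obtain ⟨W, hWV, hxW, hW⟩ := exists_res_eq_zero_of_germ_eq_zero B x hxV _ ha
  have h3 := TopCat.Presheaf.germ_res_apply A.presheaf (homOfLE hWV) x hxW s
  rw [← h3]
  have h4 : A.presheaf.map (homOfLE hWV).op s = 0 := by
    apply mono_app f W
    rw [app_res, hW]
    exact (map_zero (f.app W).hom).symm
  rw [h4]
  exact map_zero (A.presheaf.germ W x hxW).hom

lemma stalkMap_surjective_of_epi {B C : X.Modules} (g : B ⟶ C) [Epi g] (x : X) :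
    Function.Surjective ((TopCat.Presheaf.stalkFunctor _ x).map g.mapPresheaf).hom := by
  intro c
  obtain ⟨V, hxV, q, rfl⟩ := TopCat.Presheaf.exists_germ_eq C.presheaf c
  obtain ⟨W, hWV, hxW, s, hs⟩ := exists_local_lift g inferInstance V q x hxV
  refine ⟨B.presheaf.germ W x hxW s, ?_⟩
  rw [stalkMap_germ, hs]
  exact TopCat.Presheaf.germ_res_apply C.presheaf (homOfLE hWV) x hxW q

lemma stalk_exact {S : ShortComplex X.Modules} (hS : S.ShortExact) (x : X)
    (b : S.X₂.presheaf.stalk x)
    (hb : ((TopCat.Presheaf.stalkFunctor _ x).map S.g.mapPresheaf).hom b = 0) :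
    ∃ a : S.X₁.presheaf.stalk x,
      ((TopCat.Presheaf.stalkFunctor _ x).map S.f.mapPresheaf).hom a = b := by
  haveI := hS.mono_f
  obtain ⟨V, hxV, s, rfl⟩ := TopCat.Presheaf.exists_germ_eq S.X₂.presheaf b
  rw [stalkMap_germ] at hb
  obtain ⟨W, hWV, hxW, hW⟩ := exists_res_eq_zero_of_germ_eq_zero S.X₃ x hxV _ hb
  have h1 : S.g.app W (S.X₂.presheaf.map (homOfLE hWV).op s) = 0 := by
    rw [app_res, hW]
  obtain ⟨t, ht⟩ := exact_sections' S hS.exact W _ h1
  refine ⟨S.X₁.presheaf.germ W x hxW t, ?_⟩
  rw [stalkMap_germ, ht]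
  exact TopCat.Presheaf.germ_res_apply S.X₂.presheaf (homOfLE hWV) x hxW s

/-- the support of the middle term of a short exact sequence. -/
theorem support_of_shortExact {S : ShortComplex X.Modules} (hS : S.ShortExact) :
    CohB1.support S.X₂ = CohB1.support S.X₁ ∪ CohB1.support S.X₃ := by
  haveI := hS.mono_f
  haveI := hS.epi_g
  ext x
  constructor
  · intro hx
    by_contra hcon
    rw [Set.mem_union, not_or] at hcon
    obtain ⟨h1, h3⟩ := hcon
    have h1' : Subsingleton (S.X₁.presheaf.stalk x) := not_not.mp h1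
    have h3' : Subsingleton (S.X₃.presheaf.stalk x) := not_not.mp h3
    apply hx
    apply subsingleton_of_forall_eq_zero
    intro b
    obtain ⟨a, rfl⟩ := stalk_exact hS x b (h3'.elim _ _)
    rw [h1'.elim a 0]
    exact map_zero ((TopCat.Presheaf.stalkFunctor _ x).map S.f.mapPresheaf).hom
  · rintro (hx | hx)
    · intro hsub
      apply hx
      apply subsingleton_of_forall_eq_zero
      intro a
      apply stalkMap_injective_of_mono S.f x
      exact hsub.elim _ _
    · intro hsub
      apply hx
      apply subsingleton_of_forall_eq_zero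
      intro c
      obtain ⟨b, rfl⟩ := stalkMap_surjective_of_epi S.g x c
      rw [hsub.elim b 0]
      exact map_zero ((TopCat.Presheaf.stalkFunctor _ x).map S.g.mapPresheaf).hom

theorem support_subset_of_mono {A B : X.Modules} (f : A ⟶ B) [Mono f] :
    CohB1.support A ⊆ CohB1.support B := by
  intro x hx hsub
  apply hx
  apply subsingleton_of_forall_eq_zero
  intro a
  apply stalkMap_injective_of_mono f x
  exact hsub.elim _ _

theorem support_subset_of_epi {B C : X.Modules} (g : B ⟶ C) [Epi g] :
    CohB1.support C ⊆ CohB1.support B := by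
  intro x hx hsub
  apply hx
  apply subsingleton_of_forall_eq_zero
  intro c
  obtain ⟨b, rfl⟩ := stalkMap_surjective_of_epi g x c
  rw [hsub.elim b 0]
  exact map_zero ((TopCat.Presheaf.stalkFunctor _ x).map g.mapPresheaf).hom

theorem support_eq_of_iso {A B : X.Modules} (e : A ≅ B) : CohB1.support A = CohB1.support B :=
  Set.Subset.antisymm (support_subset_of_mono e.hom) (support_subset_of_mono e.inv)

theorem support_eq_empty_of_isZero {A : X.Modules} (h : IsZero A) : CohB1.support A = ∅ := by
  ext x
  simp only [Set.mem_empty_iff_false, iff_false]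
  intro hx
  apply hx
  exact (isZero_iff_subsingleton_stalks A).mp h x

theorem isZero_of_support_eq_empty {A : X.Modules} (h : CohB1.support A = ∅) : IsZero A := by
  apply (isZero_iff_subsingleton_stalks A).mpr
  intro x
  by_contra hx
  have : x ∈ CohB1.support A := hx
  rw [h] at this
  exact this

end Groth.Agent.LD.QC
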