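import Groth.Agent.Lib.Lead.QC.WeakAss
universe u
open CategoryTheory Limits AlgebraicGeometry TopologicalSpace Opposite IsLocalRing

namespace Groth.Agent.LD.QC

section WAInj
variable {X : Scheme.{u}}

/-- if the annihilator of a section lies in the prime of `x`, its germ at `x` is nonzero. -/
theorem germ_ne_zero_of_ann_le (M : X.Modules) [M.IsQuasicoherent] {U : X.Opens}
    (hU : IsAffineOpen U) (x : X) (hx : x ∈ U) (n : Γ(M, U))
    (h : ∀ b : Γ(X, U), b • n = 0 → b ∈ (hU.primeIdealOf ⟨x, hx⟩).asIdeal) :
    M.presheaf.germ U x hx n ≠ 0 := by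
  letI := stalkΓModule M x U hx
  haveI := isLocalizedModule_germ M hU x hx
  intro h0
  rw [← germLinear_apply] at h0
  obtain ⟨c, hc⟩ := (IsLocalizedModule.eq_zero_iff (hU.primeIdealOf ⟨x, hx⟩).asIdeal.primeCompl
    (germLinear M x U hx)).mp h0
  exact c.2 (h c.1 hc)

/-- a section of a quasi-coherent module over an affine open whose germs vanish at all weakly
associated points is zero. -/
theorem eq_zero_of_germ_eq_zero_at_weakAss (M : X.Modules) [M.IsQuasicoherent] {U : X.Opens}
    (hU : IsAffineOpen U) (n : Γ(M, U))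
    (h : ∀ (x : X) (hx : x ∈ U), Curv2.IsWeakAssPoint M x → M.presheaf.germ U x hx n = 0) :
    n = 0 := by
  by_contra hn
  obtain ⟨x, hx, hw, hann⟩ := exists_isWeakAssPoint_of_ne_zero' M hU n hn
  exact germ_ne_zero_of_ann_le M hU x hx n hann (h x hx hw)

/-- a section of a quasi-coherent module over any open whose germs vanish at all weakly
associated points is zero. -/
theorem eq_zero_of_germ_eq_zero_at_weakAss' (M : X.Modules) [M.IsQuasicoherent] (U : X.Opens)
    (n : Γ(M, U))
    (h : ∀ (x : X) (hx : x ∈ U), Curv2.IsWeakAssPoint M x → M.presheaf.germ U x hx n = 0) :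
    n = 0 := by
  apply TopCat.Presheaf.section_ext ((SheafOfModules.toSheaf _).obj M) U
  intro x hx
  obtain ⟨V, hV, hxV, hVU⟩ := exists_isAffineOpen_mem_and_subset (x := x) (U := U) hx
  have hVU' : V ≤ U := hVU
  have h0 : M.presheaf.map (homOfLE hVU').op n = 0 := by
    apply eq_zero_of_germ_eq_zero_at_weakAss M hV
    intro y hy hw
    rw [germ_res M y hVU' hy n]
    exact h y (hVU' hy) hw
  have := germ_res M x hVU' hxV n
  rw [h0, map_zero] at this
  refine Eq.trans this.symm ?_
  exact (map_zero (M.presheaf.germ U x hx).hom).symm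

end WAInj
end Groth.Agent.LD.QC
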