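import Groth.Agent.Lib.Lead.QC.WeakAssNoeth
import Groth.Agent.Lib.Lead.QC.Push
universe u
open CategoryTheory Limits AlgebraicGeometry TopologicalSpace Opposite IsLocalRing

namespace Groth.Agent.LD.QC

section WAPS
variable {X S : Scheme.{u}}

/-- weakly associated points of a direct image along an affine morphism are images of weakly
associated points (S1708). -/
theorem exists_isWeakAssPoint_of_pushforward (f : X ⟶ S) [IsAffineHom f] (F : X.Modules)
    [F.IsQuasicoherent] (s : S)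
    (hs : Curv2.IsWeakAssPoint ((Scheme.Modules.pushforward f).obj F) s) :
    ∃ x : X, f x = s ∧ Curv2.IsWeakAssPoint F x := by
  haveI : ((Scheme.Modules.pushforward f).obj F).IsQuasicoherent := qc_pushforward f F
  obtain ⟨V, hV, hsV, -⟩ := exists_isAffineOpen_mem_and_subset (x := s) (U := (⊤ : S.Opens)) trivial
  have hU : IsAffineOpen (f ⁻¹ᵁ V) := hV.preimage f
  rw [isWeakAssPoint_iff_mem_weakAss _ hV s hsV] at hs
  letI : Module Γ(X, f ⁻¹ᵁ V) Γ((Scheme.Modules.pushforward f).obj F, V) :=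
    inferInstanceAs (Module Γ(X, f ⁻¹ᵁ V) Γ(F, f ⁻¹ᵁ V))
  obtain ⟨q, hq, hqp⟩ := exists_weakAss_comap_eq (f.app V).hom
    (N := Γ((Scheme.Modules.pushforward f).obj F, V)) (fun a n => pushforward_smul f F V a n) _ hs
  have hq' : q ∈ FlatCA.weakAss Γ(X, f ⁻¹ᵁ V) Γ(F, f ⁻¹ᵁ V) := hq
  have hqprime : q.IsPrime := by
    rw [mem_weakAss_iff] at hq'
    obtain ⟨m, hm⟩ := hq'
    exact hm.1.1
  let q' : PrimeSpectrum Γ(X, f ⁻¹ᵁ V) := ⟨q, hqprime⟩
  have hx : hU.fromSpec q' ∈ f ⁻¹ᵁ V := fromSpec_mem hU q'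
  refine ⟨hU.fromSpec q', ?_, ?_⟩
  · have h1 := IsAffineOpen.comap_primeIdealOf_appLE V hV (f ⁻¹ᵁ V) hU le_rfl hx
    rw [primeIdealOf_fromSpec hU q' hx] at h1
    have h2 : hV.primeIdealOf ⟨f (hU.fromSpec q'), hx⟩ = hV.primeIdealOf ⟨s, hsV⟩ := by
      rw [← h1]
      apply PrimeSpectrum.ext
      rw [← hqp, Scheme.Hom.app_eq_appLE]
      rfl
    have h3 := congrArg hV.fromSpec h2
    rwa [hV.fromSpec_primeIdealOf, hV.fromSpec_primeIdealOf] at h3
  · rw [isWeakAssPoint_iff_mem_weakAss F hU _ hx, primeIdealOf_fromSpec hU q' hx]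
    exact hq'

/-- on a locally Noetherian source, images of weakly associated points under an affine morphism
are weakly associated to the direct image. -/
theorem isWeakAssPoint_pushforward_of_noetherian (f : X ⟶ S) [IsAffineHom f]
    [IsLocallyNoetherian X] (F : X.Modules) [F.IsQuasicoherent] (x : X)
    (hx : Curv2.IsWeakAssPoint F x) :
    Curv2.IsWeakAssPoint ((Scheme.Modules.pushforward f).obj F) (f x) := by
  haveI : ((Scheme.Modules.pushforward f).obj F).IsQuasicoherent := qc_pushforward f F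
  obtain ⟨V, hV, hsV, -⟩ := exists_isAffineOpen_mem_and_subset (x := f x) (U := (⊤ : S.Opens)) trivial
  have hU : IsAffineOpen (f ⁻¹ᵁ V) := hV.preimage f
  have hxU : x ∈ f ⁻¹ᵁ V := hsV
  haveI : IsNoetherianRing Γ(X, f ⁻¹ᵁ V) := IsLocallyNoetherian.component_noetherian ⟨_, hU⟩
  rw [isWeakAssPoint_iff_mem_weakAss _ hV (f x) hsV]
  rw [isWeakAssPoint_iff_mem_weakAss F hU x hxU] at hx
  letI : Module Γ(X, f ⁻¹ᵁ V) Γ((Scheme.Modules.pushforward f).obj F, V) :=
    inferInstanceAs (Module Γ(X, f ⁻¹ᵁ V) Γ(F, f ⁻¹ᵁ V))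
  have h1 := comap_mem_weakAss_of_noetherian (f.app V).hom
    (N := Γ((Scheme.Modules.pushforward f).obj F, V)) (fun a n => pushforward_smul f F V a n) _ hx
  have h2 := IsAffineOpen.comap_primeIdealOf_appLE V hV (f ⁻¹ᵁ V) hU le_rfl hxU
  have h3 : (hV.primeIdealOf ⟨f x, hsV⟩).asIdeal =
      Ideal.comap (f.app V).hom (hU.primeIdealOf ⟨x, hxU⟩).asIdeal := by
    rw [← h2, Scheme.Hom.app_eq_appLE]
    rfl
  rw [h3]
  exact h1

end WAPS
end Groth.Agent.LD.QC
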