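import Groth.Agent.Lib.Lead.QC.WeakAssAlg
universe u v
namespace Groth.Agent.LD.QC

section WASES
variable {R : Type u} [CommRing R] {N₁ N₂ N₃ : Type v} [AddCommGroup N₁] [Module R N₁]
  [AddCommGroup N₂] [Module R N₂] [AddCommGroup N₃] [Module R N₃]

theorem weakAss_subset_of_injective (i : N₁ →+ N₂) (hi : Function.Injective i)
    (hsm : ∀ (r : R) (n : N₁), i (r • n) = r • i n) :
    FlatCA.weakAss R N₁ ⊆ FlatCA.weakAss R N₂ := by
  intro p hp
  rw [mem_weakAss_iff] at hp ⊢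
  obtain ⟨m, hm⟩ := hp
  refine ⟨i m, ?_⟩
  have : (LinearMap.ker (LinearMap.toSpanSingleton R N₂ (i m)) : Ideal R) =
      LinearMap.ker (LinearMap.toSpanSingleton R N₁ m) := by
    ext r
    change r • i m = 0 ↔ r • m = 0
    rw [← hsm, ← map_zero i, hi.eq_iff]
  rw [this]; exact hm

theorem weakAss_subset_union_of_exact (i : N₁ →+ N₂) (π : N₂ →+ N₃)
    (hi : Function.Injective i)
    (hsmi : ∀ (r : R) (n : N₁), i (r • n) = r • i n)
    (hsmπ : ∀ (r : R) (n : N₂), π (r • n) = r • π n)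
    (hex : ∀ n : N₂, π n = 0 → ∃ t : N₁, i t = n) :
    FlatCA.weakAss R N₂ ⊆ FlatCA.weakAss R N₁ ∪ FlatCA.weakAss R N₃ := by
  intro p hp
  rw [Set.mem_union, mem_weakAss_iff, mem_weakAss_iff]
  rw [mem_weakAss_iff] at hp
  obtain ⟨m, hm⟩ := hp
  obtain ⟨⟨hpp, hIp⟩, hmin⟩ := hm
  by_cases hle : (LinearMap.ker (LinearMap.toSpanSingleton R N₃ (π m)) : Ideal R) ≤ p
  · right
    refine ⟨π m, ⟨hpp, hle⟩, ?_⟩
    rintro q ⟨hq, hIq⟩ hqp
    refine hmin ⟨hq, ?_⟩ hqp
    intro r hr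
    apply hIq
    change r • π m = 0
    change r • m = 0 at hr
    rw [← hsmπ, hr, map_zero]
  · left
    obtain ⟨f, hf, hfp⟩ := Set.not_subset.mp hle
    change f • π m = 0 at hf
    rw [← hsmπ] at hf
    obtain ⟨t, ht⟩ := hex _ hf
    have hIt : (LinearMap.ker (LinearMap.toSpanSingleton R N₂ m) : Ideal R) ≤
        LinearMap.ker (LinearMap.toSpanSingleton R N₁ t) := by
      intro r hr
      change r • m = 0 at hr
      change r • t = 0
      apply hi
      rw [hsmi, ht, map_zero, smul_comm, hr, smul_zero]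
    have htp : (LinearMap.ker (LinearMap.toSpanSingleton R N₁ t) : Ideal R) ≤ p := by
      intro r hr
      change r • t = 0 at hr
      have h2 : (r * f) • m = 0 := by
        rw [mul_smul, ← ht, ← hsmi, hr, map_zero]
      have h3 : r * f ∈ p := hIp h2
      exact (hpp.mem_or_mem h3).resolve_right hfp
    refine ⟨t, ⟨hpp, htp⟩, ?_⟩
    rintro q ⟨hq, hIq⟩ hqp
    exact hmin ⟨hq, hIt.trans hIq⟩ hqp

end WASES
end Groth.Agent.LD.QC
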