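import Groth.Agent.Lib.Lead.QC.LocFree2
import Mathlib.AlgebraicGeometry.Morphisms.FlatRank
universe u
open CategoryTheory Limits AlgebraicGeometry TopologicalSpace Opposite TensorProduct

namespace Groth.Agent.LD.QC
variable {X : Scheme.{u}}

/-- a quasi-coherent module is finite locally free iff its sections over affine opens are flat and
finitely presented. -/
theorem isFinLocFree_iff_sections (F : X.Modules) [F.IsQuasicoherent] :
    FlatMod.IsFinLocFree F ↔ ∀ U : X.Opens, IsAffineOpen U →
      Module.FinitePresentation Γ(X, U) Γ(F, U) ∧ Module.Flat Γ(X, U) Γ(F, U) := by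
  constructor
  · intro h U hU
    refine ⟨finitePresentation_sections_of_isFinitePresentation F
      (isFinitePresentation_of_isFinLocFree F h) hU, ?_⟩
    exact flat_sections_of_flat_stalks F hU fun x _ =>
      @Module.Flat.of_free _ _ _ _ _ (free_stalk_of_isFinLocFree F h x)
  · intro h
    have hfp : F.IsFinitePresentation := by
      rw [isFinitePresentation_iff_sections]
      exact fun U hU => (h U hU).1
    have hft : F.IsFiniteType := inferInstance
    refine isFinLocFree_of_free_stalks F hfp fun x => ?_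
    obtain ⟨U, hU, hxU, -⟩ := exists_isAffineOpen_mem_and_subset (x := x) (U := ⊤) trivial
    exact free_stalk_of_flat_stalk F hft x (flat_stalk_of_flat_sections F hU x hxU (h U hU).2)

end Groth.Agent.LD.QC

namespace Groth.Agent.LD.QC
variable {X S : Scheme.{u}}

noncomputable def pushUnitEquiv (f : X ⟶ S) (V : S.Opens) :
    @LinearEquiv Γ(S, V) Γ(S, V) _ _ (RingHom.id _) (RingHom.id _) _ _
      Γ((Scheme.Modules.pushforward f).obj (SheafOfModules.unit X.ringCatSheaf), V)
      Γ(X, f ⁻¹ᵁ V) _ _ _ (f.app V).hom.toAlgebra.toModule :=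
  letI := (f.app V).hom.toAlgebra
  { toFun := fun m => m
    invFun := fun m => m
    map_add' := fun _ _ => rfl
    map_smul' := fun _ _ => rfl
    left_inv := fun _ => rfl
    right_inv := fun _ => rfl }

instance qc_unit (X : Scheme.{u}) : (SheafOfModules.unit X.ringCatSheaf).IsQuasicoherent :=
  qc_of_iso (coproductUniqueIso (fun _ : Fin 1 => SheafOfModules.unit X.ringCatSheaf))
    (inferInstanceAs (freeMod X 1).IsQuasicoherent)

theorem affine_finLocFree_pushforward_iff (f : X ⟶ S) :
    (IsAffineHom f ∧ FlatMod.IsFinLocFree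
      ((Scheme.Modules.pushforward f).obj (SheafOfModules.unit X.ringCatSheaf))) ↔
      (IsFinite f ∧ Flat f ∧ LocallyOfFinitePresentation f) := by
  constructor
  · rintro ⟨hA, h⟩
    haveI := qc_of_isFinLocFree _ h
    have key := (isFinLocFree_iff_sections _).mp h
    have k1 : ∀ V : S.Opens, IsAffineOpen V → (f.app V).hom.Finite ∧ (f.app V).hom.Flat ∧
        (f.app V).hom.FinitePresentation := by
      intro V hV
      obtain ⟨hfp, hfl⟩ := key V hV
      letI := (f.app V).hom.toAlgebra
      haveI : Module.FinitePresentation Γ(S, V) Γ(X, f ⁻¹ᵁ V) :=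
        Module.FinitePresentation.of_equiv (pushUnitEquiv f V)
      haveI : Module.Flat Γ(S, V) Γ(X, f ⁻¹ᵁ V) :=
        Module.Flat.of_linearEquiv (pushUnitEquiv f V).symm
      refine ⟨?_, ?_, ?_⟩
      · exact (inferInstance : Module.Finite Γ(S, V) Γ(X, f ⁻¹ᵁ V))
      · exact (inferInstance : Module.Flat Γ(S, V) Γ(X, f ⁻¹ᵁ V))
      · exact (inferInstance : Algebra.FinitePresentation Γ(S, V) Γ(X, f ⁻¹ᵁ V))
    refine ⟨⟨fun V hV => (k1 V hV).1⟩, ?_, ?_⟩
    · rw [HasRingHomProperty.iff_exists_appLE (P := @Flat)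
        (RingHom.Flat.stableUnderComposition.stableUnderCompositionWithLocalizationAway
          RingHom.Flat.holdsForLocalizationAway).left]
      intro x
      obtain ⟨V, hV, hxV, -⟩ := exists_isAffineOpen_mem_and_subset (x := f x) (U := ⊤) trivial
      refine ⟨⟨V, hV⟩, ⟨f ⁻¹ᵁ V, hV.preimage f⟩, hxV, le_rfl, ?_⟩
      rw [← Scheme.Hom.app_eq_appLE]
      exact (k1 V hV).2.1
    · rw [HasRingHomProperty.iff_exists_appLE (P := @LocallyOfFinitePresentation)
        (RingHom.finitePresentation_stableUnderComposition.stableUnderCompositionWithLocalizationAway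
          RingHom.finitePresentation_holdsForLocalizationAway).left]
      intro x
      obtain ⟨V, hV, hxV, -⟩ := exists_isAffineOpen_mem_and_subset (x := f x) (U := ⊤) trivial
      refine ⟨⟨V, hV⟩, ⟨f ⁻¹ᵁ V, hV.preimage f⟩, hxV, le_rfl, ?_⟩
      rw [← Scheme.Hom.app_eq_appLE]
      exact (k1 V hV).2.2
  · rintro ⟨hfin, hflat, hfp⟩
    refine ⟨inferInstance, ?_⟩
    haveI := qc_pushforward f (SheafOfModules.unit X.ringCatSheaf)
    rw [isFinLocFree_iff_sections]
    intro V hV
    letI := (f.app V).hom.toAlgebra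
    have h1 : Module.Finite Γ(S, V) Γ(X, f ⁻¹ᵁ V) := f.finite_app V hV
    have h2 : Algebra.FinitePresentation Γ(S, V) Γ(X, f ⁻¹ᵁ V) := by
      have := f.finitePresentation_appLE hV (hV.preimage f) le_rfl
      rwa [← Scheme.Hom.app_eq_appLE] at this
    have h3 : Module.Flat Γ(S, V) Γ(X, f ⁻¹ᵁ V) := by
      have := HasRingHomProperty.appLE (P := @Flat) f inferInstance ⟨V, hV⟩
        ⟨f ⁻¹ᵁ V, hV.preimage f⟩ le_rfl
      rwa [← Scheme.Hom.app_eq_appLE] at this
    haveI := Module.FinitePresentation.of_finite_of_finitePresentation Γ(S, V) Γ(X, f ⁻¹ᵁ V)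
    exact ⟨Module.FinitePresentation.of_equiv (pushUnitEquiv f V).symm,
      Module.Flat.of_linearEquiv (pushUnitEquiv f V)⟩

end Groth.Agent.LD.QC
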