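import Groth.Agent.Lib.Lead.QC.WeakAssAlg
import Groth.Agent.Lib.Lead.QC.Stalk
import Groth.Agent.Lib.Lead.QC.Flat
import Groth.Prelude.Def_CurvBase
import Groth.Agent.Lib.Lead.QC.SuppPullback
universe u
open CategoryTheory Limits AlgebraicGeometry TopologicalSpace Opposite IsLocalRing

namespace Groth.Agent.LD.QC

section WA
variable {X : Scheme.{u}}

set_option maxHeartbeats 1600000 in
/-- **weakly associated points of a quasi-coherent module on an affine chart** -/
theorem isWeakAssPoint_iff_mem_weakAss (M : X.Modules) [M.IsQuasicoherent] {U : X.Opens}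
    (hU : IsAffineOpen U) (x : X) (hx : x ∈ U) :
    Curv2.IsWeakAssPoint M x ↔
      (hU.primeIdealOf ⟨x, hx⟩).asIdeal ∈ FlatCA.weakAss Γ(X, U) Γ(M, U) := by
  letI algBA : Algebra Γ(X, U) (X.presheaf.stalk x) :=
    TopCat.Presheaf.algebra_section_stalk X.presheaf ⟨x, hx⟩
  haveI hloc := hU.isLocalization_stalk ⟨x, hx⟩
  letI mB := stalkΓModule M x U hx
  haveI tower : IsScalarTower Γ(X, U) (X.presheaf.stalk x) (M.presheaf.stalk x) :=
    ⟨fun r a m => by
      change (X.presheaf.germ U x hx r * a) • m = X.presheaf.germ U x hx r • (a • m)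
      rw [mul_smul]⟩
  haveI hlm := isLocalizedModule_germ M hU x hx
  rw [mem_weakAss_iff]
  unfold Curv2.IsWeakAssPoint
  constructor
  · rintro ⟨m, hm⟩
    obtain ⟨⟨n, s⟩, hns⟩ := IsLocalizedModule.surj (hU.primeIdealOf ⟨x, hx⟩).asIdeal.primeCompl
      (germLinear M x U hx) m
    refine ⟨n, ?_⟩
    have hsu : IsUnit (algebraMap Γ(X, U) (X.presheaf.stalk x) s) :=
      IsLocalization.map_units (X.presheaf.stalk x) s
    have hker : (LinearMap.ker (LinearMap.toSpanSingleton (X.presheaf.stalk x)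
        (M.presheaf.stalk x) m) : Ideal (X.presheaf.stalk x)) =
        LinearMap.ker (LinearMap.toSpanSingleton (X.presheaf.stalk x)
          (M.presheaf.stalk x) (germLinear M x U hx n)) := by
      ext a
      change a • m = 0 ↔ a • (germLinear M x U hx n) = 0
      rw [← hns]
      change a • m = 0 ↔ a • ((s : Γ(X, U)) • m) = 0
      rw [← algebraMap_smul (X.presheaf.stalk x) (s : Γ(X, U)) m, smul_comm]
      constructor
      · intro h; rw [h, smul_zero]
      · intro h
        obtain ⟨u, hu⟩ := hsu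
        have := congrArg (fun z => (↑u⁻¹ : X.presheaf.stalk x) • z) h
        simp only [smul_zero] at this
        rwa [← hu, smul_smul, Units.inv_mul, one_smul] at this
    rw [hker, ker_toSpanSingleton_localized (hU.primeIdealOf ⟨x, hx⟩).asIdeal.primeCompl
      (germLinear M x U hx) n] at hm
    exact (radical_map_eq_maximalIdeal_iff (hU.primeIdealOf ⟨x, hx⟩).asIdeal
      (X.presheaf.stalk x) _).mp hm
  · rintro ⟨n, hn⟩
    refine ⟨germLinear M x U hx n, ?_⟩
    rw [ker_toSpanSingleton_localized (hU.primeIdealOf ⟨x, hx⟩).asIdeal.primeCompl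
      (germLinear M x U hx) n]
    exact (radical_map_eq_maximalIdeal_iff (hU.primeIdealOf ⟨x, hx⟩).asIdeal
      (X.presheaf.stalk x) _).mpr hn

/-- a nonzero section of a quasi-coherent module over an affine open produces a weakly
associated point whose prime contains the annihilator of the section. -/
theorem exists_isWeakAssPoint_of_ne_zero' (M : X.Modules) [M.IsQuasicoherent] {U : X.Opens}
    (hU : IsAffineOpen U) (n : Γ(M, U)) (hn : n ≠ 0) :
    ∃ (x : X) (hx : x ∈ U), Curv2.IsWeakAssPoint M x ∧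
      ∀ b : Γ(X, U), b • n = 0 → b ∈ (hU.primeIdealOf ⟨x, hx⟩).asIdeal := by
  have hI : (LinearMap.ker (LinearMap.toSpanSingleton Γ(X, U) Γ(M, U) n) : Ideal Γ(X, U)) ≠ ⊤ := by
    intro h
    apply hn
    have : (1 : Γ(X, U)) ∈ (LinearMap.ker (LinearMap.toSpanSingleton Γ(X, U) Γ(M, U) n) :
        Ideal Γ(X, U)) := h ▸ Submodule.mem_top
    have h1 : (1 : Γ(X, U)) • n = 0 := this
    rwa [one_smul] at h1
  obtain ⟨⟨p, hp⟩⟩ := Ideal.nonempty_minimalPrimes hI
  let p' : PrimeSpectrum Γ(X, U) := ⟨p, hp.isPrime⟩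
  have hy : hU.fromSpec p' ∈ U := fromSpec_mem hU p'
  refine ⟨hU.fromSpec p', hy, ?_, ?_⟩
  · rw [isWeakAssPoint_iff_mem_weakAss M hU _ hy, primeIdealOf_fromSpec hU p' hy, mem_weakAss_iff]
    exact ⟨n, hp⟩
  · intro b hb
    rw [primeIdealOf_fromSpec hU p' hy]
    exact hp.1.2 hb

/-- a nonzero section of a quasi-coherent module over an affine open produces a weakly
associated point. -/
theorem exists_isWeakAssPoint_of_ne_zero (M : X.Modules) [M.IsQuasicoherent] {U : X.Opens}
    (hU : IsAffineOpen U) (n : Γ(M, U)) (hn : n ≠ 0) :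
    ∃ x ∈ U, Curv2.IsWeakAssPoint M x := by
  have hI : (LinearMap.ker (LinearMap.toSpanSingleton Γ(X, U) Γ(M, U) n) : Ideal Γ(X, U)) ≠ ⊤ := by
    intro h
    apply hn
    have : (1 : Γ(X, U)) ∈ (LinearMap.ker (LinearMap.toSpanSingleton Γ(X, U) Γ(M, U) n) :
        Ideal Γ(X, U)) := h ▸ Submodule.mem_top
    have h1 : (1 : Γ(X, U)) • n = 0 := this
    rwa [one_smul] at h1
  obtain ⟨⟨p, hp⟩⟩ := Ideal.nonempty_minimalPrimes hI
  let p' : PrimeSpectrum Γ(X, U) := ⟨p, hp.isPrime⟩
  have hy : hU.fromSpec p' ∈ U := fromSpec_mem hU p'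
  refine ⟨hU.fromSpec p', hy, ?_⟩
  rw [isWeakAssPoint_iff_mem_weakAss M hU _ hy, primeIdealOf_fromSpec hU p' hy, mem_weakAss_iff]
  exact ⟨n, hp⟩

/-- **S8868** -/
theorem isZero_iff_no_weakAssPoint (F : X.Modules) [F.IsQuasicoherent] :
    IsZero F ↔ ∀ x : X, ¬ Curv2.IsWeakAssPoint F x := by
  constructor
  · intro h x ⟨m, hm⟩
    haveI := (isZero_iff_subsingleton_stalks F).mp h x
    have hker : (LinearMap.ker (LinearMap.toSpanSingleton (X.presheaf.stalk x)
        (F.presheaf.stalk x) m) : Ideal (X.presheaf.stalk x)) = ⊤ := by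
      ext a
      simp only [LinearMap.mem_ker, Submodule.mem_top, iff_true]
      exact Subsingleton.elim _ _
    rw [hker, Ideal.radical_top] at hm
    exact (IsLocalRing.maximalIdeal.isMaximal _).ne_top hm.symm
  · intro h
    rw [isZero_iff_subsingleton_stalks]
    intro x
    by_contra hns
    rw [not_subsingleton_iff_nontrivial] at hns
    obtain ⟨U, hU, hxU, -⟩ := exists_isAffineOpen_mem_and_subset (x := x) (U := (⊤ : X.Opens))
      (Set.mem_univ _)
    have hnt : ¬ Subsingleton Γ(F, U) := by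
      intro hsub
      letI := stalkΓModule F x U hxU
      haveI := isLocalizedModule_germ F hU x hxU
      obtain ⟨a, b, hab⟩ := hns
      apply hab
      obtain ⟨⟨na, sa⟩, hna⟩ := IsLocalizedModule.surj (hU.primeIdealOf ⟨x, hxU⟩).asIdeal.primeCompl
        (germLinear F x U hxU) a
      obtain ⟨⟨nb, sb⟩, hnb⟩ := IsLocalizedModule.surj (hU.primeIdealOf ⟨x, hxU⟩).asIdeal.primeCompl
        (germLinear F x U hxU) b
      have ha0 : a = 0 := by
        have : na = 0 := Subsingleton.elim _ _
        rw [this, map_zero] at hna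
        exact (IsLocalizedModule.smul_inj (germLinear F x U hxU) sa a 0).mp (by rw [hna, smul_zero])
      have hb0 : b = 0 := by
        have : nb = 0 := Subsingleton.elim _ _
        rw [this, map_zero] at hnb
        exact (IsLocalizedModule.smul_inj (germLinear F x U hxU) sb b 0).mp (by rw [hnb, smul_zero])
      rw [ha0, hb0]
    rw [not_subsingleton_iff_nontrivial] at hnt
    obtain ⟨n, hn⟩ := exists_ne (0 : Γ(F, U))
    obtain ⟨y, -, hy⟩ := exists_isWeakAssPoint_of_ne_zero F hU n hn
    exact h y hy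

end WA

end Groth.Agent.LD.QC
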