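import Groth.Agent.Lib.Lead.QC.WeakAssPush
import Groth.Agent.Lib.Lead.QC.AssPoint
universe u v
namespace Groth.Agent.LD.QC

section WANoeth

/-- over a Noetherian ring a weakly associated prime is the annihilator of an element. -/
theorem exists_ker_eq_of_mem_weakAss {B : Type u} [CommRing B] [IsNoetherianRing B]
    {N : Type v} [AddCommGroup N] [Module B N] (q : Ideal B) (hq : q ∈ FlatCA.weakAss B N) :
    ∃ m : N, q = (LinearMap.ker (LinearMap.toSpanSingleton B N m) : Ideal B) := by
  rw [mem_weakAss_iff] at hq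
  obtain ⟨m, hm⟩ := hq
  rw [← colon_bot_singleton_eq_ker] at hm
  obtain ⟨m', hm'⟩ := Submodule.exists_eq_colon_of_mem_minimalPrimes hm
  exact ⟨m', by rw [← colon_bot_singleton_eq_ker]; exact hm'⟩

/-- weakly associated primes of a module over a Noetherian ring contract to weakly associated
primes of the restriction of scalars. -/
theorem comap_mem_weakAss_of_noetherian {A B : Type u} [CommRing A] [CommRing B]
    [IsNoetherianRing B] (φ : A →+* B)
    {N : Type v} [AddCommGroup N] [Module A N] [Module B N]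
    (hsm : ∀ (a : A) (n : N), a • n = φ a • n) (q : Ideal B) (hq : q ∈ FlatCA.weakAss B N) :
    Ideal.comap φ q ∈ FlatCA.weakAss A N := by
  have hqp : q.IsPrime := by
    rw [mem_weakAss_iff] at hq
    obtain ⟨m, hm⟩ := hq
    exact hm.1.1
  obtain ⟨m, hm⟩ := exists_ker_eq_of_mem_weakAss q hq
  rw [mem_weakAss_iff]
  refine ⟨m, ?_⟩
  rw [ker_toSpanSingleton_restrictScalars φ hsm m, ← hm]
  haveI : (Ideal.comap φ q).IsPrime := Ideal.comap_isPrime φ q
  exact ⟨⟨inferInstance, le_rfl⟩, fun J hJ hJq => hJ.2⟩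

end WANoeth
end Groth.Agent.LD.QC
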