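import Groth.Agent.Lib.Lead.QC.CartierReduced
import Mathlib.RingTheory.Ideal.KrullsHeightTheorem
import Mathlib.AlgebraicGeometry.Noetherian
import Groth.Prelude.Def_CurvBase
universe u
open CategoryTheory Limits AlgebraicGeometry TopologicalSpace Opposite Topology

namespace Groth.Agent.LD.QC

section CH
variable {X : Scheme.{u}}

/-- the prime of a point of `U` contains `f` iff the point lies in the zero locus of `f`. -/
theorem mem_primeIdealOf_iff {U : X.Opens} (hU : IsAffineOpen U) (x : X) (hx : x ∈ U)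
    (f : Γ(X, U)) : f ∈ (hU.primeIdealOf ⟨x, hx⟩).asIdeal ↔ x ∉ X.basicOpen f := by
  have hfp : hU.fromSpec (hU.primeIdealOf ⟨x, hx⟩) = x := hU.fromSpec_primeIdealOf ⟨x, hx⟩
  have h2 : hU.primeIdealOf ⟨x, hx⟩ ∈ (hU.fromSpec ⁻¹ᵁ X.basicOpen f : (Spec Γ(X, U)).Opens) ↔
      x ∈ X.basicOpen f := by
    change hU.fromSpec (hU.primeIdealOf ⟨x, hx⟩) ∈ X.basicOpen f ↔ _
    rw [hfp]
  rw [← h2, hU.fromSpec_preimage_basicOpen]
  change _ ↔ ¬ (f ∉ (hU.primeIdealOf ⟨x, hx⟩).asIdeal)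
  rw [not_not]

set_option maxHeartbeats 800000 in
/-- at a generic point of a locally principal closed subscheme, the prime is minimal over the
generator. -/
theorem primeIdealOf_mem_minimalPrimes (D : X.IdealSheafData) (U : X.affineOpens)
    (f : Γ(X, U.1)) (hDU : D.ideal U = Ideal.span {f}) (ξ : X) (hξU : ξ ∈ U.1)
    (hξ : ξ ∈ D.support) (hgen : ∀ y ∈ (D.support : Set X), y ⤳ ξ → y = ξ) :
    (U.2.primeIdealOf ⟨ξ, hξU⟩).asIdeal ∈ (Ideal.span {f}).minimalPrimes := by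
  have hfp : f ∈ (U.2.primeIdealOf ⟨ξ, hξU⟩).asIdeal := by
    rw [mem_primeIdealOf_iff]
    rw [Scheme.IdealSheafData.mem_support_iff_of_mem (U := U) hξU, hDU,
      Scheme.zeroLocus_span, Scheme.zeroLocus_singleton] at hξ
    exact hξ
  refine ⟨⟨(U.2.primeIdealOf ⟨ξ, hξU⟩).2, (Ideal.span_singleton_le_iff_mem _).mpr hfp⟩, ?_⟩
  rintro q ⟨hq, hfq⟩ hqp
  let q' : PrimeSpectrum Γ(X, U.1) := ⟨q, hq⟩
  have hspec : q' ⤳ U.2.primeIdealOf ⟨ξ, hξU⟩ := (PrimeSpectrum.le_iff_specializes _ _).mp hqp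
  have h2 : U.2.fromSpec q' ⤳ U.2.fromSpec (U.2.primeIdealOf ⟨ξ, hξU⟩) :=
    hspec.map U.2.fromSpec.continuous
  rw [U.2.fromSpec_primeIdealOf ⟨ξ, hξU⟩] at h2
  have hyU : U.2.fromSpec q' ∈ U.1 := fromSpec_mem U.2 q'
  have hyD : U.2.fromSpec q' ∈ D.support := by
    rw [Scheme.IdealSheafData.mem_support_iff_of_mem (U := U) hyU, hDU,
      Scheme.zeroLocus_span, Scheme.zeroLocus_singleton]
    have := (mem_primeIdealOf_iff U.2 (U.2.fromSpec q') hyU f).mp (by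
      rw [primeIdealOf_fromSpec U.2 q' hyU]
      exact (Ideal.span_singleton_le_iff_mem _).mp hfq)
    exact this
  have h3 := hgen _ hyD h2
  have h4 : U.2.primeIdealOf ⟨U.2.fromSpec q', hyU⟩ = U.2.primeIdealOf ⟨ξ, hξU⟩ := by
    congr 1
    exact Subtype.ext h3
  rw [primeIdealOf_fromSpec U.2 q' hyU] at h4
  rw [← h4]

/-- **S1567** -/
theorem ringKrullDim_stalk_le_one [IsLocallyNoetherian X] (D : X.IdealSheafData)
    (hD : Curv2.IsLocPrincipal D) (ξ : X) (hξ : ξ ∈ (D.support : Set X))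
    (hgen : ∀ y ∈ (D.support : Set X), y ⤳ ξ → y = ξ) :
    ringKrullDim (X.presheaf.stalk ξ) ≤ 1 := by
  obtain ⟨U, hξU, f, hDU⟩ := hD ξ hξ
  haveI : IsNoetherianRing Γ(X, U.1) := IsLocallyNoetherian.component_noetherian U
  have hmin := primeIdealOf_mem_minimalPrimes D U f hDU ξ hξU hξ hgen
  have hht := Ideal.height_le_one_of_isPrincipal_of_mem_minimalPrimes (Ideal.span {f}) _ hmin
  letI : Algebra Γ(X, U.1) (X.presheaf.stalk ξ) :=
    TopCat.Presheaf.algebra_section_stalk X.presheaf ⟨ξ, hξU⟩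
  haveI := U.2.isLocalization_stalk ⟨ξ, hξU⟩
  rw [IsLocalization.AtPrime.ringKrullDim_eq_height (U.2.primeIdealOf ⟨ξ, hξU⟩).asIdeal
    (X.presheaf.stalk ξ)]
  exact_mod_cast hht

/-- **S1568** -/
theorem ringKrullDim_stalk_eq_one [IsLocallyNoetherian X] (D : X.IdealSheafData)
    (hD : BlowUp.IsEffCartierIdeal D) (ξ : X) (hξ : ξ ∈ (D.support : Set X))
    (hgen : ∀ y ∈ (D.support : Set X), y ⤳ ξ → y = ξ) :
    ringKrullDim (X.presheaf.stalk ξ) = 1 := by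
  obtain ⟨U, hξU, f, hf, hDU⟩ := hD ξ
  haveI : IsNoetherianRing Γ(X, U.1) := IsLocallyNoetherian.component_noetherian U
  have hmin := primeIdealOf_mem_minimalPrimes D U f hDU ξ hξU hξ hgen
  have hht := Ideal.height_le_one_of_isPrincipal_of_mem_minimalPrimes (Ideal.span {f}) _ hmin
  have hfp : f ∈ (U.2.primeIdealOf ⟨ξ, hξU⟩).asIdeal :=
    hmin.1.2 (Ideal.mem_span_singleton_self f)
  have hne : (U.2.primeIdealOf ⟨ξ, hξU⟩).asIdeal.height ≠ 0 := by
    rw [Ne, Ideal.height_eq_zero_iff]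
    intro hm
    exact Set.disjoint_left.mp (Ideal.disjoint_nonZeroDivisors_of_mem_minimalPrimes hm) hfp hf
  have h1 : (U.2.primeIdealOf ⟨ξ, hξU⟩).asIdeal.height = 1 :=
    le_antisymm hht (Order.one_le_iff_ne_zero.mpr hne)
  letI : Algebra Γ(X, U.1) (X.presheaf.stalk ξ) :=
    TopCat.Presheaf.algebra_section_stalk X.presheaf ⟨ξ, hξU⟩
  haveI := U.2.isLocalization_stalk ⟨ξ, hξU⟩
  rw [IsLocalization.AtPrime.ringKrullDim_eq_height (U.2.primeIdealOf ⟨ξ, hξU⟩).asIdeal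
    (X.presheaf.stalk ξ), h1]
  rfl

end CH

end Groth.Agent.LD.QC
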