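import Groth.Agent.Lib.Lead.QC.UnitIso
universe u
open CategoryTheory Limits AlgebraicGeometry TopologicalSpace Opposite TensorProduct

namespace Groth.Agent.LD.QC

section Alg
variable {A B M N : Type*} [CommRing A] [CommRing B] [Algebra A B] [AddCommGroup M] [Module A M]
  [AddCommGroup N] [Module A N] [Module B N] [IsScalarTower A B N] {g : M →ₗ[A] N}

theorem isBaseChange_surjective_of_surjective (h : IsBaseChange B g)
    (hs : Function.Surjective (algebraMap A B)) : Function.Surjective g := by
  intro n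
  refine h.inductionOn n (fun n => ∃ m, g m = n) ⟨0, map_zero g⟩ (fun m => ⟨m, rfl⟩) ?_ ?_
  · rintro b n ⟨m, rfl⟩
    obtain ⟨a, rfl⟩ := hs b
    exact ⟨a • m, by rw [map_smul, algebraMap_smul]⟩
  · rintro n₁ n₂ ⟨m₁, rfl⟩ ⟨m₂, rfl⟩
    exact ⟨m₁ + m₂, map_add g m₁ m₂⟩

theorem isBaseChange_ker_of_surjective (h : IsBaseChange B g)
    (hs : Function.Surjective (algebraMap A B)) :
    LinearMap.ker g = (RingHom.ker (algebraMap A B)) • (⊤ : Submodule A M) := by
  set I := RingHom.ker (algebraMap A B) with hI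
  apply le_antisymm
  · let Q := M ⧸ (I • (⊤ : Submodule A M))
    let e : B ≃+* A ⧸ I := (RingHom.quotientKerEquivOfSurjective hs).symm
    letI : Module B Q := Module.compHom Q e.toRingHom
    have he : ∀ a : A, e (algebraMap A B a) = Ideal.Quotient.mk I a := by
      intro a
      rw [RingEquiv.symm_apply_eq]
      rfl
    haveI : IsScalarTower A B Q := by
      refine ⟨fun a b q => ?_⟩
      change e (a • b) • q = a • (e b • q)
      rw [Algebra.smul_def, map_mul, he, mul_smul]
      rfl
    let ℓ : N →ₗ[B] Q := h.lift (I • (⊤ : Submodule A M)).mkQ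
    intro m hm
    have h1 : ℓ (g m) = (I • (⊤ : Submodule A M)).mkQ m := h.lift_eq _ m
    rw [LinearMap.mem_ker] at hm
    rw [hm, map_zero] at h1
    exact (Submodule.Quotient.mk_eq_zero _).mp h1.symm
  · rw [Submodule.smul_le]
    intro a ha m _
    rw [LinearMap.mem_ker, map_smul, ← algebraMap_smul B a (g m)]
    rw [RingHom.mem_ker] at ha
    rw [ha, zero_smul]

theorem isBaseChange_bijective_iff_of_surjective (h : IsBaseChange B g)
    (hs : Function.Surjective (algebraMap A B)) :
    Function.Bijective g ↔ ∀ a ∈ RingHom.ker (algebraMap A B), ∀ m : M, a • m = 0 := by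
  have hsurj := isBaseChange_surjective_of_surjective h hs
  have hker := isBaseChange_ker_of_surjective h hs
  constructor
  · intro hb a ha m
    have : a • m ∈ LinearMap.ker g := by
      rw [hker]
      exact Submodule.smul_mem_smul ha trivial
    rw [LinearMap.mem_ker] at this
    exact hb.1 (this.trans (map_zero g).symm)
  · intro hz
    refine ⟨?_, hsurj⟩
    rw [← LinearMap.ker_eq_bot, hker, eq_bot_iff, Submodule.smul_le]
    intro a ha m _
    rw [hz a ha m]
    exact Submodule.zero_mem _

end Alg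

section Closed
variable {Z X : Scheme.{u}} (i : Z ⟶ X) [IsClosedImmersion i]

theorem unitSec_closedImmersion (G : X.Modules) [G.IsQuasicoherent] {U : X.Opens}
    (hU : IsAffineOpen U) :
    Function.Surjective (unitSec i G U) ∧
      (Function.Bijective (unitSec i G U) ↔
        ∀ a ∈ RingHom.ker (i.app U).hom, ∀ s : Γ(G, U), a • s = 0) := by
  have e : i ⁻¹ᵁ U ≤ i ⁻¹ᵁ U := le_rfl
  have hU' : IsAffineOpen (i ⁻¹ᵁ U) := hU.preimage i
  letI := (i.appLE U (i ⁻¹ᵁ U) e).hom.toAlgebra
  letI := pbModule i G e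
  haveI := pbModule_isScalarTower i G e
  have hbc : IsBaseChange Γ(Z, i ⁻¹ᵁ U) (pbSecₗ i G e) := isBaseChange_pbSec i hU' hU e G
  have happ : i.appLE U (i ⁻¹ᵁ U) e = i.app U := (Scheme.Hom.app_eq_appLE i).symm
  have hs : Function.Surjective (algebraMap Γ(X, U) Γ(Z, i ⁻¹ᵁ U)) := by
    change Function.Surjective (i.appLE U (i ⁻¹ᵁ U) e).hom
    rw [happ]
    exact i.app_surjective U hU
  have hfun : (pbSecₗ i G e : Γ(G, U) → Γ((Scheme.Modules.pullback i).obj G, i ⁻¹ᵁ U)) =
      unitSec i G U := by
    funext m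
    change pbSec i G e m = _
    rw [pbSec, res_self]
  have hker : RingHom.ker (algebraMap Γ(X, U) Γ(Z, i ⁻¹ᵁ U)) = RingHom.ker (i.app U).hom := by
    change RingHom.ker (i.appLE U (i ⁻¹ᵁ U) e).hom = _
    rw [happ]
  rw [← hfun, ← hker]
  exact ⟨isBaseChange_surjective_of_surjective hbc hs,
    isBaseChange_bijective_iff_of_surjective hbc hs⟩

/-- **for a closed immersion `i` and quasi-coherent `G`, the unit `G → i_* i^* G` is an isomorphism
iff the ideal of `i` annihilates `G`.** -/
theorem isIso_unit_closedImmersion_iff (G : X.Modules) [G.IsQuasicoherent] :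
    IsIso ((Scheme.Modules.pullbackPushforwardAdjunction i).unit.app G) ↔
      ∀ (U : X.affineOpens) (a : Γ(X, U.1)), a ∈ i.ker.ideal U → ∀ s : Γ(G, U.1), a • s = 0 := by
  constructor
  · intro h U a ha s
    have h1 : IsIso (((Scheme.Modules.pullbackPushforwardAdjunction i).unit.app G).app U.1) :=
      inferInstance
    rw [ConcreteCategory.isIso_iff_bijective] at h1
    rw [Scheme.Hom.ker_apply] at ha
    exact ((unitSec_closedImmersion i G U.2).2.mp h1) a ha s
  · intro h
    apply isIso_of_local_bijective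
    intro x W hx
    obtain ⟨V, hV, hxV, hVW⟩ := exists_isAffineOpen_mem_and_subset (x := x) (U := W) hx
    refine ⟨V, hxV, hVW, ?_⟩
    apply (unitSec_closedImmersion i G hV).2.mpr
    intro a ha s
    apply h ⟨V, hV⟩ a ?_ s
    rw [Scheme.Hom.ker_apply]
    exact ha

end Closed

end Groth.Agent.LD.QC
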