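import Groth.Agent.Lib.Lead.QC.TensorPow
universe u
open CategoryTheory Limits AlgebraicGeometry TopologicalSpace Opposite TensorProduct

namespace Groth.Agent.LD.QC
variable {X : Scheme.{u}}

/-- around every point there is an affine open, inside a given neighbourhood, over which an
invertible module has a basis. -/
lemma exists_affine_basis (L : X.Modules) (hL : PicF.IsInvertible L) (x : X) (W : X.Opens)
    (hx : x ∈ W) : ∃ (U : X.Opens) (e : Γ(L, U)), IsAffineOpen U ∧ x ∈ U ∧ U ≤ W ∧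
      IsBasisOver L U e := by
  obtain ⟨U₀, e₀, hxU₀, he₀⟩ := (isInvertible_iff_exists_isBasisOver L).mp hL x
  obtain ⟨U, hU, hxU, hUW⟩ := exists_isAffineOpen_mem_and_subset (x := x) (U := W ⊓ U₀) ⟨hx, hxU₀⟩
  have hUW' : U ≤ W ⊓ U₀ := hUW
  exact ⟨U, _, hU, hxU, hUW'.trans inf_le_left, he₀.mono (hUW'.trans inf_le_right)⟩

/-- coordinates with respect to a basis. -/
lemma IsBasisOver.exists_coord {L : X.Modules} {U : X.Opens} {e : Γ(L, U)} (he : IsBasisOver L U e)
    (σ : Γ(L, U)) : ∃ f : Γ(X, U), σ = f • e := by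
  obtain ⟨f, hf⟩ := (he U le_rfl).2 σ
  have hf' : f • L.presheaf.map (homOfLE (le_refl U)).op e = σ := hf
  rw [res_self] at hf'
  exact ⟨f, hf'.symm⟩

lemma IsBasisOver.coord_injective {L : X.Modules} {U : X.Opens} {e : Γ(L, U)}
    (he : IsBasisOver L U e) {f g : Γ(X, U)} (h : f • e = g • e) : f = g := by
  apply (he U le_rfl).1
  change f • L.presheaf.map (homOfLE (le_refl U)).op e = g • L.presheaf.map (homOfLE (le_refl U)).op e
  rw [res_self]
  exact h

lemma twist_res {L : X.Modules} (s : unitMod X ⟶ L) (n : ℕ) (F : X.Modules) {U V : X.Opens}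
    (h : V ≤ U) (t : Γ(F, U)) :
    (CohB1.tensorMod F (CohB1.tensorPow L n)).presheaf.map (homOfLE h).op (SecTwist.twist s n F U t) =
      SecTwist.twist s n F V (F.presheaf.map (homOfLE h).op t) :=
  SecTwist.map_twist s n F (homOfLE h) t

lemma twist_eq {L : X.Modules} (s : unitMod X ⟶ L) (n : ℕ) (F : X.Modules) {U : X.Opens}
    (t : Γ(F, U)) (e : Γ(L, U)) (f : Γ(X, U)) (hs : SecTwist.val s U = f • e) :
    SecTwist.twist s n F U t =
      SecTwist.tmul F (CohB1.tensorPow L n) U (f ^ n • t) (secPow e n) := by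
  change SecTwist.tmul F (CohB1.tensorPow L n) U t (SecTwist.pow s n U) = _
  rw [pow_eq_secPow, hs, secPow_smul, tmul_smul_right, tmul_smul_left]

/-- a global section vanishing on `X_s` is killed by a power of `s` (`X` quasi-compact). -/
theorem exists_twist_eq_zero [CompactSpace X] (L : X.Modules) (hL : PicF.IsInvertible L)
    (s : unitMod X ⟶ L) (F : X.Modules) [F.IsQuasicoherent] (t : Γ(F, ⊤))
    (ht : F.presheaf.map (homOfLE (le_top : CohB1.genLocus L s ≤ ⊤)).op t = 0) :
    ∃ n : ℕ, 0 < n ∧ SecTwist.twist s n F ⊤ t = 0 := by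
  choose U e hU hxU _ he using fun x : X => exists_affine_basis L hL x ⊤ trivial
  choose f hf using fun x : X => (he x).exists_coord (SecTwist.val s (U x))
  have hD : ∀ x, CohB1.genLocus L s ⊓ U x = X.basicOpen (f x) := fun x =>
    genLocus_inf_eq_basicOpen s (he x) (f x) (hf x)
  have h0 : ∀ x, F.presheaf.map (homOfLE (X.basicOpen_le (f x))).op
      (F.presheaf.map (homOfLE (le_top : U x ≤ ⊤)).op t) = 0 := by
    intro x
    have hle : X.basicOpen (f x) ≤ CohB1.genLocus L s := by rw [← hD x]; exact inf_le_left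
    rw [res_res, ← res_res F (le_top : CohB1.genLocus L s ≤ ⊤) hle, ht, map_zero]
  choose n hn using fun x => affine_inj F (hU x) (f x) _ (h0 x)
  obtain ⟨t0, ht0⟩ := isCompact_univ.elim_finite_subcover (fun x : X => (U x : Set X))
    (fun x => (U x).2) (fun x _ => Set.mem_iUnion.mpr ⟨x, hxU x⟩)
  refine ⟨t0.sup n + 1, Nat.succ_pos _, ?_⟩
  apply section_eq_zero_of_cover (CohB1.tensorMod F (CohB1.tensorPow L (t0.sup n + 1)))
    (fun i : t0 => U i.1) (fun _ => le_top) ?_ (SecTwist.twist s (t0.sup n + 1) F ⊤ t)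
  rotate_left
  · intro x _
    obtain ⟨i, hi, hxi⟩ := Set.mem_iUnion₂.mp (ht0 (Set.mem_univ x))
    exact Opens.mem_iSup.mpr ⟨⟨i, hi⟩, hxi⟩
  · intro i
    rw [twist_res, twist_eq s _ F _ (e i.1) (f i.1) (hf i.1)]
    have hle : n i.1 ≤ t0.sup n + 1 := (Finset.le_sup i.2).trans (Nat.le_succ _)
    have : f i.1 ^ (t0.sup n + 1) • F.presheaf.map (homOfLE (le_top : U i.1 ≤ ⊤)).op t = 0 := by
      rw [← Nat.sub_add_cancel hle, pow_add, mul_smul, hn, smul_zero]
    rw [this]
    exact tmul_zero_left _ _ _ _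

end Groth.Agent.LD.QC
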