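import Groth.Agent.Lib.Lead.QC.PullRel
universe u
open CategoryTheory Limits AlgebraicGeometry TopologicalSpace Opposite TensorProduct

namespace Groth.Agent.LD.QC

/-- in a fibre product, the intersection of preimages of affine opens lying over an affine open of
the base is affine. -/
theorem isAffineOpen_pullback_inf {X Y Z : Scheme.{u}} {f : X ⟶ Z} {g : Y ⟶ Z}
    {U : X.Opens} (hU : IsAffineOpen U) {V : Y.Opens} (hV : IsAffineOpen V)
    {W : Z.Opens} (hW : IsAffineOpen W) (hUW : U ≤ f ⁻¹ᵁ W) (hVW : V ≤ g ⁻¹ᵁ W) :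
    IsAffineOpen (pullback.fst f g ⁻¹ᵁ U ⊓ pullback.snd f g ⁻¹ᵁ V) := by
  haveI : IsAffine U.toScheme := hU
  haveI : IsAffine V.toScheme := hV
  haveI : IsAffine W.toScheme := hW
  let f' : U.toScheme ⟶ W := f.resLE _ _ hUW
  let g' : V.toScheme ⟶ W := g.resLE _ _ hVW
  let p : pullback f' g' ⟶ pullback f g :=
    pullback.map _ _ _ _ U.ι V.ι W.ι (by simp [f']) (by simp [g'])
  have hp : p.opensRange = pullback.fst f g ⁻¹ᵁ U ⊓ pullback.snd f g ⁻¹ᵁ V := by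
    apply SetLike.coe_injective
    simp [p, Scheme.Pullback.range_map]
  rw [← hp]
  exact isAffineOpen_opensRange p

/-- **relative ampleness is stable under base change** (EGA II 4.6.13 (iii)). -/
theorem isRelAmple_baseChange {X Y Y' : Scheme.{u}} (f : X ⟶ Y) [QuasiCompact f] (g : Y' ⟶ Y)
    (L : X.Modules) (hL : RelAmple.IsRelAmple f L) :
    RelAmple.IsRelAmple (pullback.snd f g)
      ((Scheme.Modules.pullback (pullback.fst f g)).obj L) := by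
  refine ⟨inferInstance, fun V' => ?_⟩
  apply isAmple_preimage_of_basicOpen_cover (pullback.snd f g) _ V'.1 V'.2
  intro v' hv'
  obtain ⟨V, hV, hgv, -⟩ := exists_isAffineOpen_mem_and_subset (x := g v') (U := ⊤) trivial
  obtain ⟨h, hle, hvh⟩ := V'.2.exists_basicOpen_le (V := g ⁻¹ᵁ V) ⟨v', hgv⟩ hv'
  refine ⟨h, hvh, ?_⟩
  have hD : IsAffineOpen (Y'.basicOpen h) := V'.2.basicOpen h
  have hDV : Y'.basicOpen h ≤ g ⁻¹ᵁ V := hle
  have hW'W : pullback.snd f g ⁻¹ᵁ Y'.basicOpen h ≤ pullback.fst f g ⁻¹ᵁ (f ⁻¹ᵁ V) := by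
    intro z hz
    change f (pullback.fst f g z) ∈ V
    have h1 : f (pullback.fst f g z) = g (pullback.snd f g z) := by
      rw [← Scheme.Hom.comp_apply, ← Scheme.Hom.comp_apply, pullback.condition]
    rw [h1]
    exact hDV hz
  let p' := (pullback.fst f g).resLE (f ⁻¹ᵁ V) (pullback.snd f g ⁻¹ᵁ Y'.basicOpen h) hW'W
  have sq : (pullback.snd f g ⁻¹ᵁ Y'.basicOpen h).ι ≫ pullback.fst f g = p' ≫ (f ⁻¹ᵁ V).ι :=
    (Scheme.Hom.resLE_comp_ι _ _).symm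
  have hpt : ∀ y, (f ⁻¹ᵁ V).ι (p' y) =
      pullback.fst f g ((pullback.snd f g ⁻¹ᵁ Y'.basicOpen h).ι y) := by
    intro y
    rw [← Scheme.Hom.comp_apply, ← Scheme.Hom.comp_apply, sq]
  apply isAmple_of_iso ((pullbackRestrictIso (pullback.fst f g)
    (pullback.snd f g ⁻¹ᵁ Y'.basicOpen h).ι (f ⁻¹ᵁ V).ι p' sq).app L).symm
  haveI : CompactSpace (pullback.snd f g ⁻¹ᵁ Y'.basicOpen h : Scheme.{u}) :=
    isCompact_iff_compactSpace.mp (QuasiCompact.isCompact_preimage (f := pullback.snd f g) _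
      (Y'.basicOpen h).2 hD.isCompact)
  apply isAmple_pullback_of_affine_nhds p' _ (hL.2 ⟨V, hV⟩)
  intro x''
  obtain ⟨U₀, hU₀, hxU₀, hU₀W'⟩ := exists_isAffineOpen_mem_and_subset
    (x := pullback.fst f g ((pullback.snd f g ⁻¹ᵁ Y'.basicOpen h).ι x'')) (U := f ⁻¹ᵁ V)
    (hW'W x''.2)
  have hU₀W : U₀ ≤ f ⁻¹ᵁ V := hU₀W'
  have haff := isAffineOpen_pullback_inf (f := f) (g := g) hU₀ hD hV hU₀W hDV
  refine ⟨(f ⁻¹ᵁ V).ι ⁻¹ᵁ U₀, (pullback.snd f g ⁻¹ᵁ Y'.basicOpen h).ι ⁻¹ᵁ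
    (pullback.fst f g ⁻¹ᵁ U₀ ⊓ pullback.snd f g ⁻¹ᵁ Y'.basicOpen h), ?_, ?_, ?_⟩
  · change (f ⁻¹ᵁ V).ι (p' x'') ∈ U₀
    rw [hpt]
    exact hxU₀
  · rw [← Scheme.Hom.isAffineOpen_iff_of_isOpenImmersion
      (pullback.snd f g ⁻¹ᵁ Y'.basicOpen h).ι, Scheme.Hom.image_preimage_eq_opensRange_inf,
      Scheme.Opens.opensRange_ι, inf_eq_right.mpr inf_le_right]
    exact haff
  · intro y hy
    have h1 : (f ⁻¹ᵁ V).ι (p' y) ∈ U₀ := hy
    rw [hpt] at h1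
    exact ⟨h1, y.2⟩

/-- relative ampleness is invariant under isomorphism of modules. -/
theorem isRelAmple_of_iso {X Y : Scheme.{u}} (f : X ⟶ Y) {L L' : X.Modules} (e : L ≅ L')
    (h : RelAmple.IsRelAmple f L) : RelAmple.IsRelAmple f L' :=
  ⟨h.1, fun V => isAmple_of_iso ((Scheme.Modules.restrictFunctor (f ⁻¹ᵁ V.1).ι).mapIso e) (h.2 V)⟩

end Groth.Agent.LD.QC
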