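import Groth.Agent.Lib.Lead.QC.RestrictOpen
import Groth.Agent.Lib.Lead.QC.Extend
universe u
open CategoryTheory Limits AlgebraicGeometry TopologicalSpace Opposite

namespace Groth.Agent.LD.QC
variable {X : Scheme.{u}}

/-- **every invertible module on an affine scheme is ample.** -/
theorem isAmple_of_isAffine [IsAffine X] (L : X.Modules) (hL : PicF.IsInvertible L) :
    CohB1.IsAmple L := by
  haveI : L.IsQuasicoherent := qc_of_isInvertible L hL
  refine ⟨hL, inferInstance, fun x => ?_⟩
  obtain ⟨U, e, hU, hxU, -, he⟩ := exists_affine_basis L hL x ⊤ trivial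
  obtain ⟨_, ⟨_, ⟨g, rfl⟩, rfl⟩, hxg, hgU⟩ := (isBasis_basicOpen X).exists_subset_of_mem_open hxU U.2
  have hgU' : X.basicOpen g ≤ U := hgU
  obtain ⟨n, t, ht⟩ := compact_qs_surj L (U := ⊤) isCompact_univ isQuasiSeparated_univ g
    (L.presheaf.map (homOfLE hgU').op e)
  let s₀ := homOfSection L t
  have hu : IsUnit (X.presheaf.map (homOfLE (X.basicOpen_le g)).op g) :=
    RingedSpace.isUnit_res_basicOpen _ g
  have hb : IsBasisOver L (X.basicOpen g) (SecTwist.val s₀ (X.basicOpen g)) := by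
    rw [val_homOfSection]
    have ht' : L.presheaf.map (homOfLE (le_top : X.basicOpen g ≤ ⊤)).op t =
        (X.presheaf.map (homOfLE (X.basicOpen_le g)).op g) ^ n •
          L.presheaf.map (homOfLE hgU').op e := ht
    rw [ht']
    exact ((he.mono hgU').smul_iff _).mpr (hu.pow n)
  have hle : X.basicOpen g ≤ CohB1.genLocus L s₀ := (le_genLocus_iff_isBasisOver L s₀ _).mpr hb
  have e1 := genLocus_comp_iso s₀ (unitorL L).symm
  refine ⟨0, s₀ ≫ (unitorL L).symm.hom, ?_, ?_⟩
  · change x ∈ CohB1.genLocus (CohB1.tensorMod (unitMod X) L) (s₀ ≫ (unitorL L).symm.hom)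
    rw [e1]; exact hle hxg
  · change IsAffineOpen (CohB1.genLocus (CohB1.tensorMod (unitMod X) L)
      (s₀ ≫ (unitorL L).symm.hom))
    rw [e1]
    have := isAffineOpen_genLocus_inf L hL s₀ (isAffineOpen_top X)
    rwa [inf_top_eq] at this

end Groth.Agent.LD.QC
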