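import Groth.Agent.Lib.Lead.QC.LocalBase2
import Groth.Agent.Lib.Lead.QC.Counit
universe u
open CategoryTheory Limits AlgebraicGeometry TopologicalSpace Opposite

namespace Groth.Agent.LD.QC

lemma span_subset_of_smul_eq {R R' M : Type*} [Semiring R] [Semiring R'] [AddCommMonoid M]
    [Module R M] [Module R' M] (h : ∀ r : R, ∃ r' : R', ∀ m : M, r • m = r' • m) (S : Set M)
    {z : M} (hz : z ∈ Submodule.span R S) : z ∈ Submodule.span R' S := by
  induction hz using Submodule.span_induction with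
  | mem x hx => exact Submodule.subset_span hx
  | zero => exact Submodule.zero_mem _
  | add x y _ _ hx hy => exact Submodule.add_mem _ hx hy
  | smul r x _ hx =>
    obtain ⟨r', hr'⟩ := h r
    rw [hr']
    exact Submodule.smul_mem _ r' hx

variable {X : Scheme.{u}}

/-- if a local basis of `M` near `x` is a combination of restrictions of global sections,
one of these global sections generates `M` at `x`. -/
theorem exists_mem_genLocus_of_span (M : X.Modules) (x : X) {U : X.Opens} (hxU : x ∈ U)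
    (e : Γ(M, U)) (he : IsBasisOver M U e) {T : Type*} (t : T → Γ(M, ⊤))
    (hspan : e ∈ Submodule.span Γ(X, U)
      (Set.range fun i => M.presheaf.map (homOfLE (le_top : U ≤ ⊤)).op (t i))) :
    ∃ i, x ∈ CohB1.genLocus M (homOfSection M (t i)) := by
  by_contra hcon
  push Not at hcon
  let φ : Γ(X, U) →ₗ[Γ(X, U)] Γ(M, U) := LinearMap.toSpanSingleton Γ(X, U) Γ(M, U) e
  have hφ : Function.Bijective φ := by
    have := he U le_rfl
    simp only [res_self] at this
    exact this
  let Φ := LinearEquiv.ofBijective φ hφ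
  let I : Ideal Γ(X, U) := Ideal.comap (X.presheaf.germ U x hxU).hom
    (IsLocalRing.maximalIdeal (X.presheaf.stalk x))
  have hI : ∀ c : Γ(X, U), c ∈ I ↔ x ∉ X.basicOpen c := by
    intro c
    rw [Scheme.mem_basicOpen _ _ _ hxU]
    exact Iff.rfl
  have hle : Submodule.span Γ(X, U)
      (Set.range fun i => M.presheaf.map (homOfLE (le_top : U ≤ ⊤)).op (t i)) ≤
      Submodule.comap Φ.symm.toLinearMap I := by
    rw [Submodule.span_le]
    rintro _ ⟨i, rfl⟩
    change Φ.symm _ ∈ I
    obtain ⟨b, hb⟩ := he.exists_coord (M.presheaf.map (homOfLE (le_top : U ≤ ⊤)).op (t i))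
    have h1 : Φ.symm (M.presheaf.map (homOfLE (le_top : U ≤ ⊤)).op (t i)) = b := by
      rw [LinearEquiv.symm_apply_eq, hb]; rfl
    rw [h1, hI]
    have h2 := genLocus_inf_eq_basicOpen (homOfSection M (t i)) he b
      (by rw [val_homOfSection]; exact hb)
    rw [← h2]
    exact fun h => hcon i h.1
  have h3 := hle hspan
  change Φ.symm e ∈ I at h3
  have h4 : Φ.symm e = 1 := by
    rw [LinearEquiv.symm_apply_eq]
    change e = (1 : Γ(X, U)) • e
    rw [one_smul]
  rw [h4, hI] at h3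
  apply h3
  rw [X.basicOpen_of_isUnit isUnit_one]
  exact hxU

variable {Y : Scheme.{u}} (f : X ⟶ Y)

/-- if the counit `f^* f_* M ⟶ M` is epi for an invertible `M`, then over the preimage of an
affine open, `M` is base point free. -/
theorem exists_mem_genLocus_restrict_of_counit_epi [QuasiCompact f] [QuasiSeparated f]
    (M : X.Modules) (hM : PicF.IsInvertible M)
    (hε : Epi ((Scheme.Modules.pullbackPushforwardAdjunction f).counit.app M))
    (V : Y.Opens) (hV : IsAffineOpen V) (x' : (f ⁻¹ᵁ V).toScheme) :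
    ∃ s : unitMod (f ⁻¹ᵁ V).toScheme ⟶ M.restrict (f ⁻¹ᵁ V).ι, x' ∈ CohB1.genLocus _ s := by
  haveI : M.IsQuasicoherent := qc_of_isInvertible M hM
  let j := (f ⁻¹ᵁ V).ι
  have hM' : PicF.IsInvertible (M.restrict j) := isInvertible_restrict j hM
  obtain ⟨U', e', hU', hxU', -, he'⟩ := exists_affine_basis (M.restrict j) hM' x' ⊤ trivial
  have hU : IsAffineOpen (j ''ᵁ U') := hU'.image_of_isOpenImmersion j
  have hle : j ''ᵁ U' ≤ f ⁻¹ᵁ V := (f ⁻¹ᵁ V).ι_image_le U'
  have hspan := span_range_res_of_counit_epi f M hε hU hV hle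
  have himg : j ''ᵁ ⊤ ≤ f ⁻¹ᵁ V := (f ⁻¹ᵁ V).ι_image_top.le
  let t : Γ(M, f ⁻¹ᵁ V) → Γ(M.restrict j, ⊤) := fun a => M.presheaf.map (homOfLE himg).op a
  have hbij : Function.Bijective (j.appIso U').inv.hom :=
    (ConcreteCategory.isIso_iff_bijective (j.appIso U').inv).mp inferInstance
  have hsm : ∀ r : Γ(X, j ''ᵁ U'), ∃ r' : Γ((f ⁻¹ᵁ V).toScheme, U'),
      ∀ m : Γ(M.restrict j, U'), (show Γ(M.restrict j, U') from
        r • (show Γ(M, j ''ᵁ U') from m)) = r' • m := by
    intro r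
    obtain ⟨r', hr'⟩ := hbij.2 r
    refine ⟨r', fun m => ?_⟩
    rw [← hr']
    rfl
  have h1 : (show Γ(M, j ''ᵁ U') from e') ∈ Submodule.span Γ(X, j ''ᵁ U')
      (Set.range (fun a : Γ(M, f ⁻¹ᵁ V) => M.presheaf.map (homOfLE hle).op a)) := by
    rw [hspan]; trivial
  have h2 : (Set.range fun i => (M.restrict j).presheaf.map (homOfLE (le_top : U' ≤ ⊤)).op (t i)) =
      (Set.range (fun a : Γ(M, f ⁻¹ᵁ V) => M.presheaf.map (homOfLE hle).op a)) := by
    congr 1
    funext a
    exact res_res M himg (Scheme.Hom.image_mono j (le_top : U' ≤ ⊤)) a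
  have h3 : e' ∈ Submodule.span Γ((f ⁻¹ᵁ V).toScheme, U')
      (Set.range fun i => (M.restrict j).presheaf.map (homOfLE (le_top : U' ≤ ⊤)).op (t i)) := by
    rw [h2]
    letI i1 : Module Γ(X, j ''ᵁ U') Γ(M.restrict j, U') :=
      (show Module Γ(X, j ''ᵁ U') Γ(M, j ''ᵁ U') from inferInstance)
    exact span_subset_of_smul_eq (R := Γ(X, j ''ᵁ U')) (R' := Γ((f ⁻¹ᵁ V).toScheme, U'))
      (M := Γ(M.restrict j, U')) hsm _ h1
  obtain ⟨a, ha⟩ := exists_mem_genLocus_of_span (M.restrict j) x' hxU' e' he' t h3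
  exact ⟨_, ha⟩

end Groth.Agent.LD.QC
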