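import Groth.Agent.Lib.Lead.QC.CounitEpi2
import Groth.Agent.Lib.Lead.QC.CounitGen
universe u
open CategoryTheory Limits AlgebraicGeometry TopologicalSpace Opposite

namespace Groth.Agent.LD.QC
variable {X : Scheme.{u}}

/-- the morphism from a free module attached to a family of global sections. -/
noncomputable def homOfFamily (M : X.Modules) {I : Type u} (t : I → Γ(M, ⊤)) :
    (SheafOfModules.free I : X.Modules) ⟶ M :=
  Sigma.desc fun i => homOfSection M (t i)

lemma ι_homOfFamily (M : X.Modules) {I : Type u} (t : I → Γ(M, ⊤)) (i : I) :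
    SheafOfModules.ιFree (R := X.ringCatSheaf) i ≫ homOfFamily M t = homOfSection M (t i) :=
  Sigma.ι_desc _ i

/-- a family of global sections whose restrictions span the sections over a basis of opens
defines an epimorphism from a free module. -/
theorem epi_homOfFamily_of_span (M : X.Modules) {I : Type u} (t : I → Γ(M, ⊤))
    (h : ∀ (x : X) (U : X.Opens), x ∈ U → ∃ W : X.Opens, W ≤ U ∧ x ∈ W ∧
      Submodule.span Γ(X, W)
        (Set.range fun i => M.presheaf.map (homOfLE (le_top : W ≤ ⊤)).op (t i)) = ⊤) :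
    Epi (homOfFamily M t) := by
  refine @Preadditive.epi_of_cancel_zero X.Modules _ _ _ _ (homOfFamily M t) (fun {Q} q hq => ?_)
  have hkill : ∀ i, q.app ⊤ (t i) = 0 := by
    intro i
    have h1 : homOfSection M (t i) ≫ q = 0 := by
      have e1 := ι_homOfFamily M t i
      calc homOfSection M (t i) ≫ q
          = (SheafOfModules.ιFree (R := X.ringCatSheaf) i ≫ homOfFamily M t) ≫ q :=
            congrArg (fun z => z ≫ q) e1.symm
        _ = SheafOfModules.ιFree (R := X.ringCatSheaf) i ≫ (homOfFamily M t ≫ q) :=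
            Category.assoc _ _ _
        _ = SheafOfModules.ιFree (R := X.ringCatSheaf) i ≫ (0 : _ ⟶ Q) :=
            congrArg (fun z => SheafOfModules.ιFree (R := X.ringCatSheaf) i ≫ z) hq
        _ = 0 := comp_zero
    rw [homOfSection_comp] at h1
    have h2 := sectionOfHom_homOfSection Q (q.app ⊤ (t i))
    rw [h1] at h2
    rw [← h2]
    rfl
  apply Scheme.Modules.hom_ext
  intro U
  ext m
  change q.app U m = 0
  have hloc : ∀ x : U, ∃ (W : X.Opens) (hW : W ≤ U), x.1 ∈ W ∧
      Q.presheaf.map (homOfLE hW).op (q.app U m) = 0 := by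
    rintro ⟨x, hxU⟩
    obtain ⟨W, hWU, hxW, hspan⟩ := h x U hxU
    refine ⟨W, hWU, hxW, ?_⟩
    rw [← app_res q hWU m]
    have hm : M.presheaf.map (homOfLE hWU).op m ∈ Submodule.span Γ(X, W)
        (Set.range fun i => M.presheaf.map (homOfLE (le_top : W ≤ ⊤)).op (t i)) := by
      rw [hspan]; trivial
    have hker : Submodule.span Γ(X, W)
        (Set.range fun i => M.presheaf.map (homOfLE (le_top : W ≤ ⊤)).op (t i)) ≤
        LinearMap.ker (appLinear q W) := by
      rw [Submodule.span_le]
      rintro _ ⟨i, rfl⟩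
      change q.app W _ = 0
      rw [app_res q (le_top : W ≤ ⊤), hkill, map_zero]
    exact hker hm
  choose W hW hxW hres using hloc
  apply section_ext_of_cover Q W hW ?_ (q.app U m) 0
  · intro x
    rw [hres x, map_zero]
  · intro x hx
    exact Opens.mem_iSup.mpr ⟨⟨x, hx⟩, hxW ⟨x, hx⟩⟩

end Groth.Agent.LD.QC
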