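import Groth.Agent.Lib.Lead.QC.InvEpi
import Groth.Agent.Lib.Lead.QC.TensorComm

/-! # An inverse of an invertible module is invertible. -/

universe u
open CategoryTheory Limits AlgebraicGeometry TopologicalSpace Opposite MonoidalCategory

namespace Groth.Agent.LD.QC
variable {X : Scheme.{u}}

/-- the commutativity isomorphism of the tensor product of arbitrary `O_X`-modules (sheafified
braiding of presheaves of modules). -/
noncomputable def tensorCommGen (M N : X.Modules) : CohB1.tensorMod M N ≅ CohB1.tensorMod N M :=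
  (CohB1.sheafifyMod X).mapIso
    (show (CohB1.tensorPre M N : X.PresheafOfModules) ≅ (CohB1.tensorPre N M : X.PresheafOfModules)
      from (β_ (CohB1.toPMod M) (CohB1.toPMod N)))

/-- if `L` is invertible and `L ⊗ L' ≅ O`, then `L'` is invertible. -/
theorem isInvertible_of_tensor_iso {L L' : X.Modules} (hL : PicF.IsInvertible L)
    (ε : CohB1.tensorMod L L' ≅ unitMod X) : PicF.IsInvertible L' := by
  intro x
  obtain ⟨U, hxU, ⟨φ⟩⟩ := hL x
  refine ⟨U, hxU, ⟨?_⟩⟩
  exact twistIso L' L U φ.symm ≪≫
    (Scheme.Modules.restrictFunctor U.ι).mapIso (tensorCommGen L' L ≪≫ ε) ≪≫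
    Scheme.Modules.restrictUnitIso U.ι

end Groth.Agent.LD.QC
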