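import Groth.Agent.Lib.Lead.QC.LocalBase2
import Groth.Agent.Lib.Lead.QC.PullAmple
universe u
open CategoryTheory Limits AlgebraicGeometry TopologicalSpace Opposite

namespace Groth.Agent.LD.QC
variable {X : Scheme.{u}}

lemma eq_of_bot (M : X.Modules) (a b : Γ(M, ⊥)) : a = b :=
  section_ext_of_cover M (ι := PEmpty.{1}) (U := ⊥) (fun i => i.elim) (fun i => i.elim)
    bot_le a b (fun i => i.elim)

lemma eq_of_eq_bot (M : X.Modules) {W : X.Opens} (hW : W = ⊥) (a b : Γ(M, W)) : a = b := by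
  subst hW
  exact eq_of_bot M a b

/-- the idempotent function of a clopen piece. -/
theorem exists_function_of_disjoint (U₁ U₂ : X.Opens) (hd : U₁ ⊓ U₂ = ⊥) (hc : U₁ ⊔ U₂ = ⊤) :
    ∃ e : Γ(X, ⊤), X.basicOpen e = U₁ := by
  obtain ⟨z, hz₁, hz₂⟩ := glue2 (unitMod X) (S := U₁) (V := U₂) (1 : Γ(X, U₁)) (0 : Γ(X, U₂))
    (eq_of_eq_bot _ hd _ _)
  have htop : (⊤ : X.Opens) ≤ U₁ ⊔ U₂ := hc.ge
  let e : Γ(X, ⊤) := (unitMod X).presheaf.map (homOfLE htop).op z
  have h1 : X.presheaf.map (homOfLE (le_top : U₁ ≤ ⊤)).op e = 1 := by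
    have : (unitMod X).presheaf.map (homOfLE (le_top : U₁ ≤ ⊤)).op e =
        (unitMod X).presheaf.map (homOfLE (le_sup_left : U₁ ≤ U₁ ⊔ U₂)).op z :=
      res_res (unitMod X) htop le_top z
    exact this.trans hz₁
  have h2 : X.presheaf.map (homOfLE (le_top : U₂ ≤ ⊤)).op e = 0 := by
    have : (unitMod X).presheaf.map (homOfLE (le_top : U₂ ≤ ⊤)).op e =
        (unitMod X).presheaf.map (homOfLE (le_sup_right : U₂ ≤ U₁ ⊔ U₂)).op z :=
      res_res (unitMod X) htop le_top z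
    exact this.trans hz₂
  refine ⟨e, ?_⟩
  have h3 : U₁ ⊓ X.basicOpen e = U₁ := by
    rw [← Scheme.basicOpen_res X e (homOfLE (le_top : U₁ ≤ ⊤)).op, h1]
    exact X.basicOpen_of_isUnit isUnit_one
  have h4 : U₂ ⊓ X.basicOpen e = ⊥ := by
    rw [← Scheme.basicOpen_res X e (homOfLE (le_top : U₂ ≤ ⊤)).op, h2]
    exact X.basicOpen_zero U₂
  calc X.basicOpen e = (U₁ ⊔ U₂) ⊓ X.basicOpen e := by rw [hc, top_inf_eq]
    _ = U₁ ⊓ X.basicOpen e ⊔ U₂ ⊓ X.basicOpen e := inf_sup_right _ _ _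
    _ = U₁ := by rw [h3, h4, sup_bot_eq]

/-- **a module on a disjoint union of two open pieces is ample as soon as it is ample on both
pieces.** -/
theorem isAmple_of_disjoint_cover (L : X.Modules) (U₁ U₂ : X.Opens) (hd : U₁ ⊓ U₂ = ⊥)
    (hc : U₁ ⊔ U₂ = ⊤) (h₁ : CohB1.IsAmple (L.restrict U₁.ι))
    (h₂ : CohB1.IsAmple (L.restrict U₂.ι)) : CohB1.IsAmple L := by
  obtain ⟨e₁, he₁⟩ := exists_function_of_disjoint U₁ U₂ hd hc
  obtain ⟨e₂, he₂⟩ := exists_function_of_disjoint U₂ U₁ (by rwa [inf_comm]) (by rwa [sup_comm])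
  haveI : CompactSpace X := by
    have c1 : IsCompact (U₁ : Set X) := isCompact_iff_compactSpace.mpr h₁.2.1
    have c2 : IsCompact (U₂ : Set X) := isCompact_iff_compactSpace.mpr h₂.2.1
    have : (Set.univ : Set X) = (U₁ : Set X) ∪ (U₂ : Set X) := by
      have := congrArg (fun O : X.Opens => (O : Set X)) hc
      simpa using this.symm
    exact ⟨by rw [this]; exact c1.union c2⟩
  apply isAmple_of_basicOpen_cover L (fun b : Bool => if b then e₁ else e₂)
  · rw [eq_top_iff]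
    intro x _
    have hx : x ∈ U₁ ⊔ U₂ := by rw [hc]; trivial
    rcases hx with hx | hx
    · refine TopologicalSpace.Opens.mem_iSup.mpr ⟨true, ?_⟩
      change x ∈ X.basicOpen e₁
      rw [he₁]; exact hx
    · refine TopologicalSpace.Opens.mem_iSup.mpr ⟨false, ?_⟩
      change x ∈ X.basicOpen e₂
      rw [he₂]; exact hx
  · intro b
    cases b
    · exact (isAmple_restrict_iff (X.basicOpen e₂).ι U₂
        (by rw [Scheme.Opens.opensRange_ι, he₂]) L).mpr h₂
    · exact (isAmple_restrict_iff (X.basicOpen e₁).ι U₁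
        (by rw [Scheme.Opens.opensRange_ι, he₁]) L).mpr h₁

/-- pullback of an ample module along an open immersion from a quasi-compact scheme. -/
theorem isAmple_pullback_of_isOpenImmersion {X' : Scheme.{u}} (g : X' ⟶ X) [IsOpenImmersion g]
    [CompactSpace X'] (L : X.Modules) (hL : CohB1.IsAmple L) :
    CohB1.IsAmple ((Scheme.Modules.pullback g).obj L) := by
  apply isAmple_pullback_of_affine_nhds g L hL
  intro x'
  obtain ⟨W', hW', hxW', -⟩ :=
    exists_isAffineOpen_mem_and_subset (X := X') (x := x') (U := ⊤) trivial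
  refine ⟨g ''ᵁ W', W', ⟨x', hxW', rfl⟩, hW', ?_⟩
  rw [Scheme.Hom.preimage_image_eq]

end Groth.Agent.LD.QC
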