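import Groth.Agent.Lib.Lead.QC.IdealMod
import Groth.Agent.Lib.Lead.QC.SubExt
import Groth.Agent.Lib.Lead.QC.Stalk
import Mathlib.AlgebraicGeometry.Morphisms.Affine
universe u
open CategoryTheory Limits AlgebraicGeometry TopologicalSpace Opposite

namespace Groth.Agent.LD.QC
variable {X : Scheme.{u}}

/-- the vanishing ideal of a closed set is the unit ideal over affine opens missing it. -/
lemma vanishingIdeal_ideal_eq_top (Z : Closeds X) (V : X.affineOpens)
    (h : Disjoint (V.1 : Set X) (Z : Set X)) :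
    (Scheme.IdealSheafData.vanishingIdeal Z).ideal V = ⊤ := by
  rw [Scheme.IdealSheafData.vanishingIdeal_ideal]
  have key : ∀ S : Set (PrimeSpectrum Γ(X, V.1)), S = ∅ → PrimeSpectrum.vanishingIdeal S = ⊤ :=
    fun S hS => hS ▸ PrimeSpectrum.vanishingIdeal_empty
  apply key
  ext p
  simp only [Set.mem_preimage, Set.mem_empty_iff_false, iff_false]
  intro hp
  have h2 : V.2.fromSpec p ∈ (V.1 : Set X) := by
    rw [← V.2.range_fromSpec]; exact ⟨p, rfl⟩
  exact Set.disjoint_left.mp h h2 hp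

/-- sections in the vanishing ideal vanish at the points of the closed set. -/
lemma notMem_basicOpen_of_mem_vanishingIdeal (Z : Closeds X) (V : X.affineOpens)
    (s : Γ(X, V.1)) (hs : s ∈ (Scheme.IdealSheafData.vanishingIdeal Z).ideal V) (y : X)
    (hyV : y ∈ V.1) (hyZ : y ∈ Z) : y ∉ X.basicOpen s := by
  have h1 : y ∈ ((Scheme.IdealSheafData.vanishingIdeal Z).support : Set X) ∩ V.1 := by
    refine ⟨?_, hyV⟩
    rw [Scheme.IdealSheafData.coe_support_vanishingIdeal]
    exact hyZ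
  rw [Scheme.IdealSheafData.coe_support_inter] at h1
  exact (X.mem_zeroLocus_iff _ y).mp h1.1 s hs

variable (hA : ∀ (I : X.Modules) (i : I ⟶ unitMod X), Mono i → I.IsQuasicoherent →
  Function.Surjective ((cokernel.π i).app ⊤))

include hA in
/-- **Step 1 of Serre's criterion.** -/
theorem exists_basicOpen_of_closedPoint (x : X) (hx : IsClosed ({x} : Set X)) (U : X.Opens)
    (hU : IsAffineOpen U) (hxU : x ∈ U) :
    ∃ f : Γ(X, ⊤), x ∈ X.basicOpen f ∧ X.basicOpen f ≤ U := by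
  classical
  let Z : Closeds X := ⟨(U : Set X)ᶜ ∪ {x}, (U.2.isClosed_compl).union hx⟩
  let J := Scheme.IdealSheafData.vanishingIdeal Z
  let ι := ClSub.idealModι J
  let π := cokernel.π ι
  let V₀ : X.Opens := ⟨({x} : Set X)ᶜ, hx.isOpen_compl⟩
  have hcov : U ⊔ V₀ = ⊤ := by
    ext y
    simp only [Opens.coe_sup, Opens.coe_top, Set.mem_union, SetLike.mem_coe, Set.mem_univ,
      iff_true]
    by_cases hy : y = x
    · left; rw [hy]; exact hxU
    · right; exact hy
  -- the section `1` over `U` dies in the quotient over `U ⊓ V₀`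
  have h0 : (cokernel ι).presheaf.map (homOfLE (inf_le_left : U ⊓ V₀ ≤ U)).op
      (π.app U (1 : Γ(X, U))) =
      (cokernel ι).presheaf.map (homOfLE (inf_le_right : U ⊓ V₀ ≤ V₀)).op (0 : Γ(cokernel ι, V₀)) := by
    rw [map_zero]
    apply section_ext_of_cover (cokernel ι)
      (fun V : {V : X.affineOpens // V.1 ≤ U ⊓ V₀} => V.1.1) (fun V => V.2)
    · intro y hy
      obtain ⟨W, hW, hyW, hWU⟩ := exists_isAffineOpen_mem_and_subset (x := y) (U := U ⊓ V₀) hy
      exact Opens.mem_iSup.mpr ⟨⟨⟨W, hW⟩, hWU⟩, hyW⟩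
    · rintro ⟨V, hV⟩
      rw [map_zero, res_res, ← app_res]
      have hd : Disjoint (V.1 : Set X) (Z : Set X) := by
        rw [Set.disjoint_left]
        intro y hyV hyZ
        have h1 := hV hyV
        rcases hyZ with hyU | hyx
        · exact hyU h1.1
        · exact h1.2 hyx
      have htop := vanishingIdeal_ideal_eq_top Z V hd
      have hmem : X.presheaf.map (homOfLE (hV.trans inf_le_left)).op (1 : Γ(X, U)) ∈ J.ideal V := by
        change _ ∈ (Scheme.IdealSheafData.vanishingIdeal Z).ideal V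
        rw [htop]; trivial
      obtain ⟨t, ht⟩ := (exists_idealModι_app_eq_iff J V _).mpr hmem
      exact (mem_range_mono_iff ι V.1 _).mp ⟨t, ht⟩
  obtain ⟨z, hz1, hz2⟩ := glue2 (cokernel ι) (π.app U (1 : Γ(X, U))) (0 : Γ(cokernel ι, V₀)) h0
  let σ : Γ(cokernel ι, ⊤) := (cokernel ι).presheaf.map (homOfLE hcov.ge).op z
  have hσ1 : (cokernel ι).presheaf.map (homOfLE (le_top : U ≤ ⊤)).op σ = π.app U (1 : Γ(X, U)) := by
    change (cokernel ι).presheaf.map _ ((cokernel ι).presheaf.map _ z) = _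
    rw [res_res]; exact hz1
  have hσ2 : (cokernel ι).presheaf.map (homOfLE (le_top : V₀ ≤ ⊤)).op σ = 0 := by
    change (cokernel ι).presheaf.map _ ((cokernel ι).presheaf.map _ z) = _
    rw [res_res]; exact hz2
  obtain ⟨f, hf⟩ := hA (ClSub.idealMod J) ι inferInstance inferInstance σ
  refine ⟨f, ?_, ?_⟩
  · -- `f - 1` lies in the ideal over `U`
    let g : Γ(X, U) := X.presheaf.map (homOfLE (le_top : U ≤ ⊤)).op f - 1
    have e1 : π.app U (X.presheaf.map (homOfLE (le_top : U ≤ ⊤)).op f) =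
        (cokernel ι).presheaf.map (homOfLE (le_top : U ≤ ⊤)).op (π.app ⊤ f) :=
      app_res π (le_top : U ≤ ⊤) f
    have h1 : π.app U g = 0 := by
      have hf' : π.app ⊤ f = σ := hf
      have e2 : π.app U g = π.app U (X.presheaf.map (homOfLE (le_top : U ≤ ⊤)).op f) -
          π.app U (1 : Γ(X, U)) := map_sub (π.app U).hom _ _
      rw [e2, e1, hf', hσ1, sub_self]
    obtain ⟨t, ht⟩ := (mem_range_mono_iff ι U _).mpr h1
    have h2 : g ∈ J.ideal ⟨U, hU⟩ :=
      (exists_idealModι_app_eq_iff J ⟨U, hU⟩ _).mp ⟨t, ht⟩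
    have h3 := notMem_basicOpen_of_mem_vanishingIdeal Z ⟨U, hU⟩ _ h2 x hxU (Or.inr rfl)
    have h4 : ¬ IsUnit (X.presheaf.germ U x hxU
        (X.presheaf.map (homOfLE (le_top : U ≤ ⊤)).op f - 1)) := by
      intro hu; exact h3 ((X.mem_basicOpen _ x hxU).mpr hu)
    have h5 : IsUnit (X.presheaf.germ U x hxU (X.presheaf.map (homOfLE (le_top : U ≤ ⊤)).op f)) := by
      rw [map_sub, map_one] at h4
      have h6 := IsLocalRing.isUnit_or_isUnit_of_isUnit_add
        (a := X.presheaf.germ U x hxU (X.presheaf.map (homOfLE (le_top : U ≤ ⊤)).op f))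
        (b := 1 - X.presheaf.germ U x hxU (X.presheaf.map (homOfLE (le_top : U ≤ ⊤)).op f))
        (by rw [add_sub_cancel]; exact isUnit_one)
      rcases h6 with h6 | h6
      · exact h6
      · exfalso
        apply h4
        have : X.presheaf.germ U x hxU (X.presheaf.map (homOfLE (le_top : U ≤ ⊤)).op f) - 1 =
            -(1 - X.presheaf.germ U x hxU (X.presheaf.map (homOfLE (le_top : U ≤ ⊤)).op f)) := by
          ring
        rw [this]
        exact h6.neg
    have h7 : x ∈ X.basicOpen (X.presheaf.map (homOfLE (le_top : U ≤ ⊤)).op f) :=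
      (X.mem_basicOpen _ x hxU).mpr h5
    rw [X.basicOpen_res] at h7
    exact h7.2
  · intro y hy
    by_contra hyU
    have hyx : y ≠ x := fun h => hyU (h ▸ hxU)
    have hyV₀ : y ∈ V₀ := hyx
    obtain ⟨W, hW, hyW, hWV₀⟩ := exists_isAffineOpen_mem_and_subset (x := y) (U := V₀) hyV₀
    have e1 : π.app W (X.presheaf.map (homOfLE (le_top : W ≤ ⊤)).op f) =
        (cokernel ι).presheaf.map (homOfLE (le_top : W ≤ ⊤)).op (π.app ⊤ f) :=
      app_res π (le_top : W ≤ ⊤) f
    have h1 : π.app W (X.presheaf.map (homOfLE (le_top : W ≤ ⊤)).op f) = 0 := by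
      have hf' : π.app ⊤ f = σ := hf
      rw [e1, hf', ← res_res (cokernel ι) (le_top : V₀ ≤ ⊤) hWV₀, hσ2, map_zero]
    obtain ⟨t, ht⟩ := (mem_range_mono_iff ι W _).mpr h1
    have h2 : X.presheaf.map (homOfLE (le_top : W ≤ ⊤)).op f ∈ J.ideal ⟨W, hW⟩ :=
      (exists_idealModι_app_eq_iff J ⟨W, hW⟩ _).mp ⟨t, ht⟩
    have h3 := notMem_basicOpen_of_mem_vanishingIdeal Z ⟨W, hW⟩ _ h2 y hyW (Or.inl hyU)
    apply h3
    rw [X.basicOpen_res]
    exact ⟨hyW, hy⟩

include hA in
/-- **Steps 2–3**: finitely many affine basic opens cover `X`. -/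
theorem exists_finset_affine_basicOpen_cover [CompactSpace X] :
    ∃ s : Finset Γ(X, ⊤), (∀ f ∈ s, IsAffineOpen (X.basicOpen f)) ∧
      ∀ x : X, ∃ f ∈ s, x ∈ X.basicOpen f := by
  classical
  let 𝒮 : Set Γ(X, ⊤) := {f | IsAffineOpen (X.basicOpen f)}
  have hcover : (⋃ f ∈ 𝒮, (X.basicOpen f : Set X)) = Set.univ := by
    by_contra hne
    have hopen : IsOpen (⋃ f ∈ 𝒮, (X.basicOpen f : Set X)) :=
      isOpen_biUnion fun f _ => (X.basicOpen f).2
    have hcl : IsClosed (⋃ f ∈ 𝒮, (X.basicOpen f : Set X))ᶜ := hopen.isClosed_compl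
    have hnonempty : (⋃ f ∈ 𝒮, (X.basicOpen f : Set X))ᶜ.Nonempty := by
      rw [Set.nonempty_compl]; exact hne
    obtain ⟨x, hxS, hx⟩ := hcl.exists_closed_singleton hnonempty
    obtain ⟨U, hU, hxU, -⟩ := exists_isAffineOpen_mem_and_subset (x := x) (U := ⊤) trivial
    obtain ⟨f, hxf, hfU⟩ := exists_basicOpen_of_closedPoint hA x hx U hU hxU
    apply hxS
    refine Set.mem_biUnion (x := f) ?_ hxf
    change IsAffineOpen (X.basicOpen f)
    have h1 : X.basicOpen f = X.basicOpen (X.presheaf.map (homOfLE (le_top : U ≤ ⊤)).op f) := by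
      rw [X.basicOpen_res]; exact (inf_eq_right.mpr hfU).symm
    rw [h1]
    exact hU.basicOpen _
  obtain ⟨t, ht𝒮, htfin, htcov⟩ := isCompact_univ.elim_finite_subcover_image
    (b := 𝒮) (c := fun f => (X.basicOpen f : Set X)) (fun f _ => (X.basicOpen f).2)
    (by rw [hcover])
  refine ⟨htfin.toFinset, fun f hf => ?_, fun x => ?_⟩
  · exact ht𝒮 (htfin.mem_toFinset.mp hf)
  · obtain ⟨f, hf, hxf⟩ := Set.mem_iUnion₂.mp (htcov (Set.mem_univ x))
    exact ⟨f, htfin.mem_toFinset.mpr hf, hxf⟩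

include hA in
/-- **Serre's criterion, abstract core.** -/
theorem isAffine_of_core [CompactSpace X]
    (hB : ∀ s : Finset Γ(X, ⊤), (∀ x : X, ∃ f ∈ s, x ∈ X.basicOpen f) →
      Ideal.span (s : Set Γ(X, ⊤)) = ⊤) : IsAffine X := by
  obtain ⟨s, hs1, hs2⟩ := exists_finset_affine_basicOpen_cover hA
  exact isAffine_of_isAffineOpen_basicOpen (s : Set Γ(X, ⊤)) (hB s hs2)
    (fun f hf => hs1 f (Finset.mem_coe.mp hf))

end Groth.Agent.LD.QC
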