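import Groth.Agent.Lib.Lead.QC.AnnIdeal
import Groth.Agent.Lib.Lead.QC.IdealMod
import Groth.Agent.Lib.Lead.QC.SubExt
import Groth.Agent.Lib.Lead.QC.SerreCore
universe u
open CategoryTheory Limits AlgebraicGeometry TopologicalSpace Opposite TensorProduct

namespace Groth.Agent.LD.QC

section Alg
variable {A A' M M' : Type*} [CommRing A] [CommRing A'] [Algebra A A'] (S : Submonoid A)
  [IsLocalization S A'] [AddCommGroup M] [Module A M] [AddCommGroup M'] [Module A M']
  [Module A' M'] [IsScalarTower A A' M'] (g : M →ₗ[A] M') [IsLocalizedModule S g]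

include S g in
theorem range_map_of_isLocalizedModule (u : M →ₗ[A] A) (u' : M' →ₗ[A'] A')
    (hu : ∀ m, u' (g m) = algebraMap A A' (u m)) :
    Ideal.map (algebraMap A A') (LinearMap.range u) = LinearMap.range u' := by
  apply le_antisymm
  · rw [Ideal.map_le_iff_le_comap]
    rintro _ ⟨m, rfl⟩
    rw [Ideal.mem_comap]
    exact ⟨g m, hu m⟩
  · rintro _ ⟨m', rfl⟩
    obtain ⟨⟨m, s⟩, hms⟩ := IsLocalizedModule.surj S g m'
    have hms' : (s : A) • m' = g m := hms
    have h1 : algebraMap A A' s * u' m' = algebraMap A A' (u m) := by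
      rw [← hu, ← hms', ← algebraMap_smul A' (s : A) m', map_smul, smul_eq_mul]
    obtain ⟨v, hv⟩ := IsLocalization.map_units A' s
    have h2 : u' m' = algebraMap A A' (u m) * ↑v⁻¹ := by
      rw [← h1, ← hv, mul_comm, ← mul_assoc, Units.inv_mul, one_mul]
    rw [h2]
    exact Ideal.mul_mem_right _ _ (Ideal.mem_map_of_mem _ ⟨m, rfl⟩)

end Alg

variable {X : Scheme.{u}}

/-- `u.app U` for `u : F ⟶ O_X`, as a linear map into the ring of sections. -/
noncomputable def toUnitLinear {F : X.Modules} (u : F ⟶ unitMod X) (U : X.Opens) :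
    Γ(F, U) →ₗ[Γ(X, U)] Γ(X, U) where
  toFun := u.app U
  map_add' := map_add _
  map_smul' := fun r t => Scheme.Modules.Hom.app_smul u r t

lemma toUnitLinear_apply {F : X.Modules} (u : F ⟶ unitMod X) (U : X.Opens) (t : Γ(F, U)) :
    toUnitLinear u U t = u.app U t := rfl

/-- the ideal sheaf which is the image of a morphism `F ⟶ O_X`, `F` quasi-coherent. -/
noncomputable def idealOfHom (F : X.Modules) [F.IsQuasicoherent] (u : F ⟶ unitMod X) :
    X.IdealSheafData where
  ideal U := LinearMap.range (toUnitLinear u U.1)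
  map_ideal_basicOpen U f := by
    letI : Algebra Γ(X, U.1) Γ(X, X.basicOpen f) := resAlgebra (X.basicOpen_le f)
    letI : Module Γ(X, U.1) Γ(F, X.basicOpen f) := resModule F (X.basicOpen_le f)
    haveI : IsScalarTower Γ(X, U.1) Γ(X, X.basicOpen f) Γ(F, X.basicOpen f) :=
      resModule_isScalarTower F (X.basicOpen_le f)
    haveI : IsLocalization.Away f Γ(X, X.basicOpen f) := U.2.isLocalization_basicOpen f
    haveI : IsLocalizedModule.Away f (resLinear F (X.basicOpen_le f)) :=
      isLocalizedModule_basicOpen F U.2 f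
    change Ideal.map (algebraMap Γ(X, U.1) Γ(X, X.basicOpen f))
      (LinearMap.range (toUnitLinear u U.1)) =
        LinearMap.range (toUnitLinear u (X.basicOpen f))
    refine range_map_of_isLocalizedModule (Submonoid.powers f)
      (resLinear F (X.basicOpen_le f)) _ _ ?_
    intro m
    exact app_res u (X.basicOpen_le f) m

lemma mem_idealOfHom_iff (F : X.Modules) [F.IsQuasicoherent] (u : F ⟶ unitMod X)
    (U : X.affineOpens) (s : Γ(X, U.1)) :
    s ∈ (idealOfHom F u).ideal U ↔ ∃ t : Γ(F, U.1), u.app U.1 t = s := Iff.rfl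

theorem isFiniteTypeIdeal_idealOfHom (F : X.Modules) [F.IsQuasicoherent] (u : F ⟶ unitMod X)
    (hF : F.IsFiniteType) : BlowUp.IsFiniteTypeIdeal (idealOfHom F u) := by
  intro U
  haveI : Module.Finite Γ(X, U.1) Γ(F, U.1) := finite_sections_of_isFiniteType F hF U.2
  change (LinearMap.range (toUnitLinear u U.1)).FG
  rw [LinearMap.range_eq_map]
  exact Submodule.FG.map _ Module.Finite.fg_top

/-- **a finite type ideal cutting out the complement of an affine open** on a qcqs scheme:
`I` is of finite type, `I|_U = O_U` and `I ⊆ J(X ∖ U)`. -/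
theorem exists_ft_ideal [CompactSpace X] [QuasiSeparatedSpace X] (U : X.Opens)
    (hU : IsAffineOpen U) :
    ∃ I : X.IdealSheafData, BlowUp.IsFiniteTypeIdeal I ∧
      (∀ W : X.affineOpens, W.1 ≤ U → I.ideal W = ⊤) ∧
      I ≤ Scheme.IdealSheafData.vanishingIdeal ⟨(U : Set X)ᶜ, U.2.isClosed_compl⟩ := by
  classical
  let Z : Closeds X := ⟨(U : Set X)ᶜ, U.2.isClosed_compl⟩
  let J := Scheme.IdealSheafData.vanishingIdeal Z
  have htop : ∀ W : X.affineOpens, W.1 ≤ U → J.ideal W = ⊤ := by
    intro W hW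
    apply vanishingIdeal_ideal_eq_top Z W
    rw [Set.disjoint_left]
    intro y hyW hyZ
    exact hyZ (hW hyW)
  have hfin : ∀ W : X.Opens, IsAffineOpen W → W ≤ U →
      Module.Finite Γ(X, W) Γ(ClSub.idealMod J, W) := by
    intro W hW hWU
    have e := idealModSectionsEquiv J ⟨W, hW⟩
    rw [htop ⟨W, hW⟩ hWU] at e
    exact Module.Finite.equiv (e ≪≫ₗ Submodule.topEquiv).symm
  obtain ⟨F, u₀, hu₀, hF, hFft, hbij⟩ :=
    exists_sub_finiteType (ClSub.idealMod J) U hU.isCompact hfin
  haveI := hF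
  refine ⟨idealOfHom F (u₀ ≫ ClSub.idealModι J), isFiniteTypeIdeal_idealOfHom F _ hFft, ?_, ?_⟩
  · intro W hW
    rw [Ideal.eq_top_iff_one, mem_idealOfHom_iff]
    have h1 : (1 : Γ(X, W.1)) ∈ J.ideal W := by rw [htop W hW]; trivial
    obtain ⟨c, hc⟩ := (exists_idealModι_app_eq_iff J W _).mpr h1
    obtain ⟨t, ht⟩ := (hbij W.1 hW).2 c
    refine ⟨t, ?_⟩
    change (show Γ(X, W.1) from (ClSub.idealModι J).app W.1 (u₀.app W.1 t)) = 1
    rw [ht]; exact hc
  · intro V s hs
    obtain ⟨t, ht⟩ := (mem_idealOfHom_iff F _ V s).mp hs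
    exact (exists_idealModι_app_eq_iff J V s).mp ⟨u₀.app V.1 t, ht⟩

end Groth.Agent.LD.QC
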