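import Groth.Agent.Lib.Lead.QC.IdealMod
import Groth.Agent.Lib.Lead.QC.Stalk
import Groth.Agent.Lib.Lead.QC.AnnIdeal
import Groth.Agent.Lib.Lead.QC.FinType

/-! # The support of `O_X / I`. -/

set_option autoImplicit false
universe u
open CategoryTheory Limits Opposite AlgebraicGeometry TopologicalSpace

namespace Groth.Agent.LD.QC
variable {X : Scheme.{u}} (I : X.IdealSheafData)

lemma toSubscheme_app_surjective (U : X.affineOpens) :
    Function.Surjective ((ClSub.toSubscheme I).app U.1) := I.subschemeι_app_surjective U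

lemma toSubscheme_app_eq_zero_iff (U : X.affineOpens) (s : Γ(X, U.1)) :
    (ClSub.toSubscheme I).app U.1 s = 0 ↔ s ∈ I.ideal U := by
  rw [← I.ker_subschemeι_app U]
  exact Iff.rfl

lemma toSubscheme_app_smul (U : X.Opens) (r s : Γ(X, U)) :
    r • (ClSub.toSubscheme I).app U s = (ClSub.toSubscheme I).app U (r * s) :=
  (Scheme.Modules.Hom.app_smul (ClSub.toSubscheme I) r s).symm

theorem isFiniteType_quotMod : (ClSub.quotMod I).IsFiniteType := by
  rw [isFiniteType_iff_finite_sections]
  intro U hU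
  refine ⟨⟨{(ClSub.toSubscheme I).app U (1 : Γ(X, U))}, ?_⟩⟩
  rw [Finset.coe_singleton, eq_top_iff]
  intro m _
  obtain ⟨s, rfl⟩ := toSubscheme_app_surjective I ⟨U, hU⟩ m
  rw [Submodule.mem_span_singleton]
  refine ⟨s, ?_⟩
  rw [toSubscheme_app_smul, mul_one]

theorem isCoh_quotMod : Coh.IsCoh (ClSub.quotMod I) := ⟨inferInstance, isFiniteType_quotMod I⟩

theorem support_quotMod : CohB1.support (ClSub.quotMod I) = (I.support : Set X) := by
  ext x
  obtain ⟨U, hU, hxU, -⟩ := exists_isAffineOpen_mem_and_subset (x := x) (U := ⊤) trivial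
  rw [SetLike.mem_coe, Scheme.IdealSheafData.mem_support_iff_of_mem (U := ⟨U, hU⟩) hxU,
    mem_zeroLocus_iff_le_primeIdealOf hU _ x hxU]
  change ¬ Subsingleton ((ClSub.quotMod I).presheaf.stalk x) ↔ _
  rw [← mem_support_iff_not_subsingleton_stalk (ClSub.quotMod I) hU x hxU,
    Module.mem_support_iff_exists_annihilator]
  constructor
  · rintro ⟨m, hm⟩ r hr
    apply hm
    rw [Submodule.mem_annihilator_span_singleton]
    obtain ⟨s, rfl⟩ := toSubscheme_app_surjective I ⟨U, hU⟩ m
    rw [toSubscheme_app_smul, toSubscheme_app_eq_zero_iff I ⟨U, hU⟩]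
    exact Ideal.mul_mem_right _ _ hr
  · intro h
    refine ⟨(ClSub.toSubscheme I).app U (1 : Γ(X, U)), fun r hr => h ?_⟩
    rw [Submodule.mem_annihilator_span_singleton, toSubscheme_app_smul, mul_one,
      toSubscheme_app_eq_zero_iff I ⟨U, hU⟩] at hr
    exact hr

/-- on any scheme, every closed subset is the support of a quasi-coherent module of finite type. -/
theorem exists_isCoh_support_eq (Z : Closeds X) :
    ∃ G : X.Modules, Coh.IsCoh G ∧ CohB1.support G = (Z : Set X) :=
  ⟨ClSub.quotMod (Scheme.IdealSheafData.vanishingIdeal Z), isCoh_quotMod _, by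
    rw [support_quotMod, Scheme.IdealSheafData.coe_support_vanishingIdeal]⟩

end Groth.Agent.LD.QC
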