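import Groth.Agent.Lib.Lead.QC.CartierWeakAss
import Mathlib.RingTheory.LocalProperties.Reduced
universe u
open CategoryTheory Limits AlgebraicGeometry TopologicalSpace Opposite IsLocalRing

namespace Groth.Agent.LD.QC

section Alg
variable {B : Type*} [CommRing B] [IsReduced B]

/-- in a reduced ring, a prime minimal over the annihilator of an element is a minimal prime. -/
theorem mem_minimalPrimes_of_mem_minimalPrimes_ann (p : Ideal B) (b : B)
    (hp : p ∈ Ideal.minimalPrimes
      (LinearMap.ker (LinearMap.toSpanSingleton B B b) : Ideal B)) : p ∈ minimalPrimes B := by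
  haveI : p.IsPrime := hp.isPrime
  let A := Localization.AtPrime p
  set β : A := algebraMap B A b with hβ
  have hker := ker_toSpanSingleton_localized (A := A) p.primeCompl (Algebra.linearMap B A) b
  have hrad := (radical_map_eq_maximalIdeal_iff p A _).mpr hp
  rw [← hker] at hrad
  change Ideal.radical (LinearMap.ker (LinearMap.toSpanSingleton A A β) : Ideal A) =
    maximalIdeal A at hrad
  -- step 1
  have h1 : ∀ c ∈ maximalIdeal A, c * β = 0 := by
    intro c hc
    rw [← hrad] at hc
    obtain ⟨n, hn⟩ := hc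
    have hn' : c ^ n • β = 0 := hn
    rw [smul_eq_mul] at hn'
    have : (c * β) ^ (n + 1) = 0 := by
      have e : (c * β) ^ (n + 1) = (c ^ n * β) * (c * β ^ n) := by ring
      rw [e, hn', zero_mul]
    exact pow_eq_zero_iff (n.succ_ne_zero) |>.mp this
  -- step 2
  have h2 : β ∉ maximalIdeal A := by
    intro hβm
    have hb0 : β = 0 := by
      have := h1 β hβm
      exact pow_eq_zero_iff (two_ne_zero) |>.mp (by rw [pow_two]; exact this)
    have htop : (LinearMap.ker (LinearMap.toSpanSingleton A A β) : Ideal A) = ⊤ := by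
      ext a
      simp only [LinearMap.mem_ker, Submodule.mem_top, iff_true]
      change a • β = 0
      rw [hb0, smul_zero]
    rw [htop, Ideal.radical_top] at hrad
    exact (IsLocalRing.maximalIdeal.isMaximal A).ne_top hrad.symm
  have hβu : IsUnit β := by
    by_contra hnu
    exact h2 ((IsLocalRing.mem_maximalIdeal β).mpr hnu)
  -- step 3
  have h3 : maximalIdeal A = ⊥ := by
    rw [eq_bot_iff]
    intro c hc
    have := h1 c hc
    exact (hβu.mul_left_eq_zero).mp this
  have hmin : maximalIdeal A ∈ (⊥ : Ideal A).minimalPrimes := by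
    refine ⟨⟨inferInstance, bot_le⟩, ?_⟩
    rintro q ⟨_, _⟩ _
    rw [h3]
    exact bot_le
  have h4 := IsLocalization.minimalPrimes_map p.primeCompl A (⊥ : Ideal B)
  rw [Ideal.map_bot] at h4
  rw [h4, Set.mem_preimage, IsLocalization.AtPrime.under_maximalIdeal A p] at hmin
  exact hmin

end Alg

section Sch
variable {X : Scheme.{u}}

/-- the prime of a maximal point is a minimal prime. -/
theorem primeIdealOf_mem_minimalPrimes_of_maximal {U : X.Opens} (hU : IsAffineOpen U) (x : X)
    (hx : x ∈ U) (hmax : ∀ y : X, y ⤳ x → y = x) :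
    (hU.primeIdealOf ⟨x, hx⟩).asIdeal ∈ minimalPrimes Γ(X, U) := by
  rw [minimalPrimes_eq_minimals]
  refine ⟨(hU.primeIdealOf ⟨x, hx⟩).2, ?_⟩
  intro q hq hqp
  let q' : PrimeSpectrum Γ(X, U) := ⟨q, hq⟩
  have hspec : q' ⤳ hU.primeIdealOf ⟨x, hx⟩ := (PrimeSpectrum.le_iff_specializes _ _).mp hqp
  have h2 : hU.fromSpec q' ⤳ hU.fromSpec (hU.primeIdealOf ⟨x, hx⟩) :=
    hspec.map hU.fromSpec.continuous
  rw [hU.fromSpec_primeIdealOf ⟨x, hx⟩] at h2
  have h3 := hmax _ h2
  have h4 : q' = hU.primeIdealOf ⟨x, hx⟩ := by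
    apply hU.fromSpec.isOpenEmbedding.injective
    rw [h3]
    exact (hU.fromSpec_primeIdealOf ⟨x, hx⟩).symm
  rw [← h4]

set_option maxHeartbeats 800000 in
/-- **S8869** -/
theorem isWeakAssPoint_structureModule_iff_of_reduced [IsReduced X] (x : X) :
    Curv2.IsWeakAssPoint (Coh.structureModule X) x ↔ ∀ y : X, y ⤳ x → y = x := by
  obtain ⟨U, hU, hxU, -⟩ := exists_isAffineOpen_mem_and_subset (x := x) (U := (⊤ : X.Opens))
    (Set.mem_univ _)
  rw [isWeakAssPoint_iff_mem_weakAss (Coh.structureModule X) hU x hxU, mem_weakAss_iff]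
  constructor
  · rintro ⟨b, hb⟩
    have hmin : (hU.primeIdealOf ⟨x, hxU⟩).asIdeal ∈ minimalPrimes Γ(X, U) :=
      mem_minimalPrimes_of_mem_minimalPrimes_ann _ (show Γ(X, U) from b) hb
    have := maximal_fromSpec_of_minimalPrimes hU (hU.primeIdealOf ⟨x, hxU⟩) hmin
    rwa [hU.fromSpec_primeIdealOf ⟨x, hxU⟩] at this
  · intro hmax
    have hmin := primeIdealOf_mem_minimalPrimes_of_maximal hU x hxU hmax
    refine ⟨(show Γ(Coh.structureModule X, U) from (1 : Γ(X, U))), ?_⟩
    have hker : (LinearMap.ker (LinearMap.toSpanSingleton Γ(X, U) Γ(Coh.structureModule X, U)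
        (show Γ(Coh.structureModule X, U) from (1 : Γ(X, U)))) : Ideal Γ(X, U)) = ⊥ := by
      rw [eq_bot_iff]
      intro a ha
      have : a * (1 : Γ(X, U)) = 0 := ha
      rw [mul_one] at this
      exact this
    rw [hker]
    exact hmin

end Sch

end Groth.Agent.LD.QC
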