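import Groth.Agent.Lib.Lead.QC.PullInv
import Groth.Agent.Lib.Lead.QC.TensorDescAll
import Groth.Agent.Lib.Lead.QC.TensorExact

/-! # The projection formula `f_* F ⊗ L ≅ f_* (F ⊗ f^* L)` for an invertible module `L`. -/

universe u
open CategoryTheory Limits AlgebraicGeometry TopologicalSpace Opposite TensorProduct

namespace Groth.Agent.LD.QC

variable {X Y : Scheme.{u}} (f : X ⟶ Y) (F : X.Modules) (L : Y.Modules)

/-- the bilinear maps `(s, l) ↦ s ⊗ f^* l`. -/
noncomputable def projB (V : Y.Opens) :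
    Γ((Scheme.Modules.pushforward f).obj F, V) →ₗ[Γ(Y, V)] Γ(L, V) →ₗ[Γ(Y, V)]
      Γ((Scheme.Modules.pushforward f).obj
        (CohB1.tensorMod F ((Scheme.Modules.pullback f).obj L)), V) :=
  LinearMap.mk₂ Γ(Y, V)
    (fun s l => (show Γ((Scheme.Modules.pushforward f).obj
        (CohB1.tensorMod F ((Scheme.Modules.pullback f).obj L)), V) from
      SecTwist.tmul F ((Scheme.Modules.pullback f).obj L) (f ⁻¹ᵁ V)
        (show Γ(F, f ⁻¹ᵁ V) from s) (unitSec f L V l)))
    (fun s s' l => by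
      change SecTwist.tmul F _ (f ⁻¹ᵁ V) ((show Γ(F, f ⁻¹ᵁ V) from s) +
        (show Γ(F, f ⁻¹ᵁ V) from s')) _ = SecTwist.tmul _ _ _ _ _ + SecTwist.tmul _ _ _ _ _
      rw [tmul_add_left]
      rfl)
    (fun c s l => by
      change SecTwist.tmul F _ (f ⁻¹ᵁ V) ((f.app V c) • (show Γ(F, f ⁻¹ᵁ V) from s)) _ =
        (f.app V c) • SecTwist.tmul _ _ _ _ _
      rw [tmul_smul_left])
    (fun s l l' => by
      change SecTwist.tmul F _ (f ⁻¹ᵁ V) _ (unitSec f L V (l + l')) =
        SecTwist.tmul _ _ _ _ _ + SecTwist.tmul _ _ _ _ _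
      rw [unitSec_add, tmul_add_right]
      rfl)
    (fun c s l => by
      change SecTwist.tmul F _ (f ⁻¹ᵁ V) _ (unitSec f L V (c • l)) =
        (f.app V c) • SecTwist.tmul _ _ _ _ _
      rw [unitSec_smul, tmul_smul_right])

/-- the projection morphism `f_* F ⊗ L ⟶ f_* (F ⊗ f^* L)`. -/
noncomputable def projHom :
    CohB1.tensorMod ((Scheme.Modules.pushforward f).obj F) L ⟶
      (Scheme.Modules.pushforward f).obj
        (CohB1.tensorMod F ((Scheme.Modules.pullback f).obj L)) :=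
  tensorDescAll _ L _ (fun V => projB f F L V) (by
    intro U V h s l
    change (CohB1.tensorMod F ((Scheme.Modules.pullback f).obj L)).presheaf.map
        (homOfLE (show f ⁻¹ᵁ V ≤ f ⁻¹ᵁ U from fun _ hx => h hx)).op
        (SecTwist.tmul _ _ _ (show Γ(F, f ⁻¹ᵁ U) from s) (unitSec f L U l)) =
      SecTwist.tmul _ _ _ _ (unitSec f L V _)
    rw [tmul_res, unitSec_res]
    rfl)

lemma projHom_app_tmul (V : Y.Opens) (s : Γ((Scheme.Modules.pushforward f).obj F, V))
    (l : Γ(L, V)) :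
    (projHom f F L).app V (SecTwist.tmul _ L V s l) =
      (show Γ((Scheme.Modules.pushforward f).obj
        (CohB1.tensorMod F ((Scheme.Modules.pullback f).obj L)), V) from
      SecTwist.tmul F ((Scheme.Modules.pullback f).obj L) (f ⁻¹ᵁ V)
        (show Γ(F, f ⁻¹ᵁ V) from s) (unitSec f L V l)) := by
  rw [projHom, tensorDescAll_app_tmul]
  rfl

/-- **the projection formula**, for an invertible module. -/
theorem isIso_projHom (hL : PicF.IsInvertible L) : IsIso (projHom f F L) := by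
  haveI := qc_of_isInvertible L hL
  apply isIso_of_local_bijective
  intro y W hyW
  obtain ⟨V, e, hyV, he⟩ := (isInvertible_iff_exists_isBasisOver L).mp hL y
  refine ⟨V ⊓ W, ⟨hyV, hyW⟩, inf_le_right, ?_⟩
  have hV' : V ⊓ W ≤ V := inf_le_left
  have hpre : f ⁻¹ᵁ (V ⊓ W) ≤ f ⁻¹ᵁ V := fun _ hx => hV' hx
  have h1 := bijective_tmul_of_isBasisOver ((Scheme.Modules.pushforward f).obj F) L he (V ⊓ W) hV'
  have he' := he.pullback f (le_refl (f ⁻¹ᵁ V))
  have h2 := bijective_tmul_of_isBasisOver F ((Scheme.Modules.pullback f).obj L) he'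
    (f ⁻¹ᵁ (V ⊓ W)) hpre
  have h3 : (fun t : Γ(F, f ⁻¹ᵁ (V ⊓ W)) =>
      SecTwist.tmul F ((Scheme.Modules.pullback f).obj L) (f ⁻¹ᵁ (V ⊓ W)) t
        (((Scheme.Modules.pullback f).obj L).presheaf.map (homOfLE hpre).op
          (pbSec f L (le_refl (f ⁻¹ᵁ V)) e))) =
      (fun z => (projHom f F L).app (V ⊓ W) z) ∘
        (fun t : Γ((Scheme.Modules.pushforward f).obj F, V ⊓ W) =>
          SecTwist.tmul _ L (V ⊓ W) t (L.presheaf.map (homOfLE hV').op e)) := by
    funext t
    rw [Function.comp_apply, projHom_app_tmul, unitSec_res]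
    unfold pbSec
    rw [res_self]
  rw [h3] at h2
  exact (Function.Bijective.of_comp_iff _ h1).mp h2

/-- `f_* F ⊗ L ≅ f_* (F ⊗ f^* L)`. -/
noncomputable def projIso (hL : PicF.IsInvertible L) :
    CohB1.tensorMod ((Scheme.Modules.pushforward f).obj F) L ≅
      (Scheme.Modules.pushforward f).obj
        (CohB1.tensorMod F ((Scheme.Modules.pullback f).obj L)) :=
  haveI := isIso_projHom f F L hL
  asIso (projHom f F L)

/-- naturality of the projection morphism in `F`. -/
theorem projHom_naturality (hL : PicF.IsInvertible L) {F F' : X.Modules} (φ : F ⟶ F') :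
    KoszTw.tensorMap ((Scheme.Modules.pushforward f).map φ) (𝟙 L) ≫ projHom f F' L =
      projHom f F L ≫ (Scheme.Modules.pushforward f).map
        (KoszTw.tensorMap φ (𝟙 ((Scheme.Modules.pullback f).obj L))) := by
  apply hom_ext_tmul_of_isInvertible hL
  intro V s l
  rw [Scheme.Modules.Hom.comp_app, Scheme.Modules.Hom.comp_app, ConcreteCategory.comp_apply,
    ConcreteCategory.comp_apply]
  rw [KoszTw.tensorMap_tmul, projHom_app_tmul, projHom_app_tmul]
  change _ = (KoszTw.tensorMap φ (𝟙 _)).app (f ⁻¹ᵁ V) (SecTwist.tmul F _ (f ⁻¹ᵁ V) _ _)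
  rw [KoszTw.tensorMap_tmul]
  rfl

end Groth.Agent.LD.QC
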