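import Mathlib
import Groth.Agent.Lib.Lead.QC.SubExt
import Groth.Agent.Lib.Lead.QC.SubExtRestrict
import Groth.Agent.Lib.Lead.QC.Coh
import Groth.Agent.Lib.Lead.QC.Epi
import Groth.Agent.Lib.Lead.QC.Iso
import Groth.Agent.Lib.Lead.QC.SuppPullback
import Groth.Agent.Lib.Lead.QC.StalkNbhd
import Groth.Prelude.Def_Coh

/-! # The kernel of `M ⟶ j_* j^* M` for an open `U` ("sections supported off `U`"). -/

set_option autoImplicit false
universe u
open CategoryTheory Limits Opposite AlgebraicGeometry TopologicalSpace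

namespace Groth.Agent.LD.QC

variable {X : Scheme.{u}}

/-- the unit `M ⟶ j_* (M|_U)`. -/
noncomputable abbrev unitU (M : X.Modules) (U : X.Opens) :
    M ⟶ (Scheme.Modules.pushforward U.ι).obj (M.restrict U.ι) :=
  (Scheme.Modules.restrictAdjunction U.ι).unit.app M

lemma section_eq_zero_of_isZero_restrict (M : X.Modules) (O : X.Opens)
    (h : IsZero ((Scheme.Modules.restrictFunctor O.ι).obj M)) {W : X.Opens} (hW : W ≤ O)
    (s : Γ(M, W)) : s = 0 := by
  have h1 : O.ι ''ᵁ (O.ι ⁻¹ᵁ W) ≤ W := O.ι.image_preimage_le W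
  have h2 : W ≤ O.ι ''ᵁ (O.ι ⁻¹ᵁ W) := by
    intro y hy
    exact ⟨⟨y, hW hy⟩, hy, rfl⟩
  have h3 : M.presheaf.map (homOfLE h1).op s = 0 :=
    section_eq_zero_of_isZero (M.restrict O.ι) h (U := O.ι ⁻¹ᵁ W)
      (show Γ(M.restrict O.ι, O.ι ⁻¹ᵁ W) from M.presheaf.map (homOfLE h1).op s)
  have h4 : s = M.presheaf.map (homOfLE h2).op (M.presheaf.map (homOfLE h1).op s) := by
    rw [res_res]
    exact (res_self M le_rfl s).symm
  rw [h4, h3]
  exact map_zero (M.presheaf.map (homOfLE h2).op).hom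

lemma subsingleton_stalk_of_isZero_restrict (M : X.Modules) (O : X.Opens)
    (h : IsZero ((Scheme.Modules.restrictFunctor O.ι).obj M)) {y : X} (hy : y ∈ O) :
    Subsingleton (M.presheaf.stalk y) := by
  apply subsingleton_of_forall_eq_zero
  intro c
  obtain ⟨V, hyV, t, rfl⟩ := TopCat.Presheaf.exists_germ_eq M.presheaf c
  have h1 := TopCat.Presheaf.germ_res_apply M.presheaf
    (homOfLE (inf_le_left : V ⊓ O ≤ V)) y ⟨hyV, hy⟩ t
  have h2 : M.presheaf.map (homOfLE (inf_le_left : V ⊓ O ≤ V)).op t = 0 :=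
    section_eq_zero_of_isZero_restrict M O h inf_le_right _
  rw [← h1, h2]
  exact map_zero (M.presheaf.germ (V ⊓ O) y ⟨hyV, hy⟩).hom

/-- the kernel of the unit has zero stalks on `U`. -/
lemma subsingleton_stalk_kernel_unitU (M : X.Modules) (U : X.Opens) {x : X} (hxU : x ∈ U) :
    Subsingleton ((kernel (unitU M U)).presheaf.stalk x) := by
  set η := unitU M U with hη
  apply subsingleton_of_forall_eq_zero
  intro c
  obtain ⟨V, hxV, t, rfl⟩ := TopCat.Presheaf.exists_germ_eq (kernel η).presheaf c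
  have h1 := TopCat.Presheaf.germ_res_apply (kernel η).presheaf
    (homOfLE (inf_le_left : V ⊓ U ≤ V)) x ⟨hxV, hxU⟩ t
  rw [← h1]
  have h2 : (kernel η).presheaf.map (homOfLE (inf_le_left : V ⊓ U ≤ V)).op t = 0 := by
    apply mono_app (kernel.ι η) (V ⊓ U)
    have h3 := kernel_ι_app_comp η V t
    have hle : V ⊓ U ≤ U.ι ''ᵁ (U.ι ⁻¹ᵁ V) := by
      intro y hy
      exact ⟨⟨y, hy.2⟩, hy.1, rfl⟩
    have h4 : η.app V ((kernel.ι η).app V t) =
        M.presheaf.map (homOfLE (U.ι.image_preimage_le V)).op ((kernel.ι η).app V t) := rfl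
    rw [h4] at h3
    have h5 : M.presheaf.map (homOfLE hle).op
        (M.presheaf.map (homOfLE (U.ι.image_preimage_le V)).op
          ((kernel.ι η).app V t)) = 0 := by
      rw [h3]
      exact map_zero (M.presheaf.map (homOfLE hle).op).hom
    have h6 : (kernel.ι η).app (V ⊓ U)
        ((kernel η).presheaf.map (homOfLE (inf_le_left : V ⊓ U ≤ V)).op t) =
        M.presheaf.map (homOfLE (inf_le_left : V ⊓ U ≤ V)).op ((kernel.ι η).app V t) :=
      app_res (kernel.ι η) inf_le_left t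
    rw [h6, ← res_res M (U.ι.image_preimage_le V) hle, h5]
    exact (map_zero ((kernel.ι η).app (V ⊓ U)).hom).symm
  rw [h2]
  exact map_zero ((kernel η).presheaf.germ (V ⊓ U) x ⟨hxV, hxU⟩).hom

/-- the quotient by the kernel of the unit has zero stalks at the points of an open `V₀` such that
`M` has zero stalks on `U ⊓ V₀`. -/
lemma subsingleton_stalk_coker_kernel_unitU (M : X.Modules) (U V₀ : X.Opens)
    (h : ∀ y : X, y ∈ U → y ∈ V₀ → Subsingleton (M.presheaf.stalk y)) {x : X} (hxV₀ : x ∈ V₀) :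
    Subsingleton ((cokernel (kernel.ι (unitU M U))).presheaf.stalk x) := by
  set η := unitU M U with hη
  apply subsingleton_of_forall_eq_zero
  intro c
  obtain ⟨V, hxV, q, rfl⟩ :=
    TopCat.Presheaf.exists_germ_eq (cokernel (kernel.ι η)).presheaf c
  obtain ⟨W, hWV, hxW, s, hs⟩ := exists_local_lift (cokernel.π (kernel.ι η))
    inferInstance V q x hxV
  have hle : W ⊓ V₀ ≤ V := inf_le_left.trans hWV
  have h1 := TopCat.Presheaf.germ_res_apply (cokernel (kernel.ι η)).presheaf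
    (homOfLE hle) x ⟨hxW, hxV₀⟩ q
  rw [← h1]
  have h2 : (cokernel (kernel.ι η)).presheaf.map (homOfLE hle).op q =
      (cokernel.π (kernel.ι η)).app (W ⊓ V₀)
        (M.presheaf.map (homOfLE (inf_le_left : W ⊓ V₀ ≤ W)).op s) := by
    rw [app_res, hs, res_res]
  rw [h2]
  have h3 : η.app (W ⊓ V₀) (M.presheaf.map (homOfLE (inf_le_left : W ⊓ V₀ ≤ W)).op s) = 0 := by
    have h4 : η.app (W ⊓ V₀) (M.presheaf.map (homOfLE (inf_le_left : W ⊓ V₀ ≤ W)).op s) =
        M.presheaf.map (homOfLE (U.ι.image_preimage_le (W ⊓ V₀))).op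
          (M.presheaf.map (homOfLE (inf_le_left : W ⊓ V₀ ≤ W)).op s) := rfl
    rw [h4]
    apply section_eq_zero_of_germ
    intro y hy
    obtain ⟨⟨y', hy'U⟩, hy'W, rfl⟩ := hy
    have hsub : Subsingleton (M.presheaf.stalk (U.ι ⟨y', hy'U⟩)) := h y' hy'U hy'W.2
    exact hsub.elim _ _
  obtain ⟨t, ht⟩ := exists_kernel_section η (W ⊓ V₀) _ h3
  rw [← ht]
  have h5 : (kernel.ι η ≫ cokernel.π (kernel.ι η)).app (W ⊓ V₀) t = 0 := by
    rw [cokernel.condition]; rfl
  have h6 : (cokernel.π (kernel.ι η)).app (W ⊓ V₀) ((kernel.ι η).app (W ⊓ V₀) t) = 0 := h5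
  rw [h6]
  exact map_zero ((cokernel (kernel.ι η)).presheaf.germ (W ⊓ V₀) x ⟨hxW, hxV₀⟩).hom

theorem exists_sub_vanishing (U V : X.Opens) [QuasiCompact U.ι]
    (F : X.Modules) (hF : F.IsQuasicoherent)
    (h : IsZero ((Scheme.Modules.restrictFunctor (U ⊓ V).ι).obj F)) :
    ∃ (A : X.Modules) (i : A ⟶ F), Mono i ∧ A.IsQuasicoherent ∧
      IsZero ((Scheme.Modules.restrictFunctor U.ι).obj A) ∧
      IsZero ((Scheme.Modules.restrictFunctor V.ι).obj (cokernel i)) := by
  haveI := hF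
  have hPq : ((Scheme.Modules.pushforward U.ι).obj (F.restrict U.ι)).IsQuasicoherent := by
    haveI := qc_restrict U.ι F
    exact qc_pushforward U.ι (F.restrict U.ι)
  refine ⟨kernel (unitU F U), kernel.ι (unitU F U), inferInstance,
    qc_kernel (unitU F U) hF hPq, ?_, ?_⟩
  · exact isZero_restrict_of_stalks _ U (fun y hy => subsingleton_stalk_kernel_unitU F U hy)
  · refine isZero_restrict_of_stalks _ V (fun y hy =>
      subsingleton_stalk_coker_kernel_unitU F U V (fun z hzU hzV => ?_) hy)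
    exact subsingleton_stalk_of_isZero_restrict F (U ⊓ V) h ⟨hzU, hzV⟩

end Groth.Agent.LD.QC
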