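import Mathlib
import Groth.Agent.Lib.Lead.QC.ProjFormula
import Groth.Agent.Lib.Lead.QC.TensorComm
import Groth.Agent.Lib.Lead.QC.InvBasis
import Groth.Agent.Lib.Lead.QC.PullInv
import Groth.Agent.Lib.Lead.QC.UnitKer
import Groth.Agent.Lib.Lead.QC.SuppPullback
import Groth.Agent.Lib.Lead.QCQS.Main
import Groth.Agent.Lib.Lead.RP.Compare2
import Groth.Agent.Lib.Lead.SC.LerayDeg
import Groth.Agent.Lib.Lead.EZ.ExtLocFree

/-! # `H^p(X, f^* L) ≅ H^p(Y, L)` when `f_* O_X ≅ O_Y`, `R^i f_* O_X = 0`, `L` invertible. -/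

set_option autoImplicit false
universe u
open CategoryTheory Limits AlgebraicGeometry TopologicalSpace Opposite

namespace Groth.Agent.LD.QC

variable {X Y : Scheme.{u}}

theorem isZero_of_locally_isZero_restrict (M : X.Modules)
    (h : ∀ y : X, ∃ V : X.Opens, y ∈ V ∧ IsZero ((Scheme.Modules.restrictFunctor V.ι).obj M)) :
    IsZero M := by
  apply isZero_of_subsingleton_stalks
  intro y
  obtain ⟨V, hy, hz⟩ := h y
  exact subsingleton_stalk_of_isZero_restrict M V hz hy

/-- higher direct images of `f^* L` vanish when those of `O_X` do. -/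
theorem isZero_Rpush_pullback_invertible (f : X ⟶ Y) [HasInjectiveResolutions X.Modules]
    (L : Y.Modules) (hL : PicF.IsInvertible L) (n : ℕ)
    (hR : IsZero ((Coh.Rpush f n).obj (Coh.structureModule X))) :
    IsZero ((Coh.Rpush f n).obj ((Scheme.Modules.pullback f).obj L)) := by
  haveI := qc_of_isInvertible L hL
  apply isZero_of_locally_isZero_restrict
  intro y
  obtain ⟨V, e, hyV, he⟩ := (isInvertible_iff_exists_isBasisOver L).mp hL y
  refine ⟨V, hyV, ?_⟩
  haveI := QCQS.hasInjRes (f ⁻¹ᵁ V).toScheme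
  have he' : IsBasisOver ((Scheme.Modules.pullback f).obj L) (f ⁻¹ᵁ V) (pbSec f L le_rfl e) :=
    he.pullback f le_rfl
  -- `(f^* L)|_{f⁻¹ V} ≅ O|_{f⁻¹ V}`
  let φ : ((Scheme.Modules.pullback f).obj L).restrict (f ⁻¹ᵁ V).ι ≅
      (Coh.structureModule X).restrict (f ⁻¹ᵁ V).ι :=
    (isoOfBasis _ (f ⁻¹ᵁ V) _ he').symm ≪≫
      (Scheme.Modules.restrictUnitIso (f ⁻¹ᵁ V).ι).symm
  obtain ⟨e1⟩ := QCQS.nonempty_restrict_Rpush_iso f V ((Scheme.Modules.pullback f).obj L) n
  obtain ⟨e2⟩ := QCQS.nonempty_restrict_Rpush_iso f V (Coh.structureModule X) n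
  have hz : IsZero ((((Scheme.Modules.pushforward f).rightDerived n).obj
      (Coh.structureModule X)).restrict V.ι) :=
    Functor.map_isZero (Scheme.Modules.restrictFunctor V.ι) hR
  exact hz.of_iso (e1 ≪≫
    (((Scheme.Modules.pushforward (f ∣_ V)).rightDerived n).mapIso φ) ≪≫ e2.symm)

/-- `f_* f^* L ≅ L` when `f_* O_X ≅ O_Y`. -/
theorem nonempty_push_pullback_iso (f : X ⟶ Y)
    (h0 : (Scheme.Modules.pushforward f).obj (unitMod X) ≅ unitMod Y)
    (L : Y.Modules) (hL : PicF.IsInvertible L) :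
    Nonempty ((Scheme.Modules.pushforward f).obj ((Scheme.Modules.pullback f).obj L) ≅ L) := by
  haveI := qc_of_isInvertible L hL
  haveI := qc_of_isInvertible _ (isInvertible_pullback f hL)
  haveI := isIso_projHom f (unitMod X) L hL
  exact ⟨(Scheme.Modules.pushforward f).mapIso (unitorL ((Scheme.Modules.pullback f).obj L)).symm ≪≫
    (asIso (projHom f (unitMod X) L)).symm ≪≫ tensorIso' h0 (Iso.refl L) ≪≫ unitorL L⟩

theorem nonempty_HH_pullback_addEquiv (f : X ⟶ Y) [HasInjectiveResolutions X.Modules]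
    (hR : ∀ i : ℕ, IsZero ((Coh.Rpush f (i + 1)).obj (Coh.structureModule X)))
    (h0 : Nonempty ((Coh.push f).obj (Coh.structureModule X) ≅ Coh.structureModule Y))
    (L : Y.Modules) (hL : PicF.IsInvertible L) (p : ℕ) :
    Nonempty (Coh.HH X ((Scheme.Modules.pullback f).obj L) p ≃+ Coh.HH Y L p) := by
  obtain ⟨h0⟩ := h0
  obtain ⟨e1⟩ := nonempty_push_pullback_iso f h0 L hL
  have hvan : ∀ q : ℕ, IsZero (((SC.pushAb f.base).rightDerived (q + 1)).obj
      (Coh.toAb ((Scheme.Modules.pullback f).obj L))) := by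
    intro q
    obtain ⟨e⟩ := RP.nonempty_toAb_Rpush_iso f ((Scheme.Modules.pullback f).obj L) (q + 1)
    have hz := isZero_Rpush_pullback_invertible f L hL (q + 1) (hR q)
    exact (Functor.map_isZero (RP.τ Y) hz).of_iso e.symm
  obtain ⟨e2⟩ := SC.leray_global f.base (Coh.toAb ((Scheme.Modules.pullback f).obj L)) hvan p
  exact ⟨e2.trans (EZ.HHaddEquivOfIso e1 p)⟩

end Groth.Agent.LD.QC
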