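import Groth.Agent.Lib.Lead.QC.PullbackUnit
import Groth.Agent.Lib.Lead.QC.SheafIso
import Groth.Agent.Lib.Lead.QC.FreeHom
universe u
open CategoryTheory Limits AlgebraicGeometry TopologicalSpace Opposite TensorProduct

namespace Groth.Agent.LD.QC

section UnitO
variable {X S : Scheme.{u}} (f : X ⟶ S)

/-- the canonical map `O_S ⟶ f_* O_X`. -/
noncomputable def toPushUnit : unitMod S ⟶ (Scheme.Modules.pushforward f).obj (unitMod X) :=
  SheafOfModules.unitToPushforwardObjUnit f.toRingCatSheafHom

lemma toPushUnit_app (U : S.Opens) (a : Γ(S, U)) :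
    (toPushUnit f).app U a = f.app U a := rfl

/-- the canonical isomorphism `f^* O_S ≅ O_X` (in `SheafOfModules`). -/
noncomputable def pullbackUnitIso' :
    (SheafOfModules.pullback f.toRingCatSheafHom).obj (SheafOfModules.unit S.ringCatSheaf) ≅
      SheafOfModules.unit X.ringCatSheaf :=
  asIso (SheafOfModules.pullbackObjUnitToUnit (F := Opens.map f.base) f.toRingCatSheafHom)

/-- the canonical isomorphism `f^* O_S ≅ O_X`. -/
noncomputable def pullbackUnitIso : (Scheme.Modules.pullback f).obj (unitMod S) ≅ unitMod X :=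
  pullbackUnitIso' f

lemma unit_unitMod :
    (Scheme.Modules.pullbackPushforwardAdjunction f).unit.app (unitMod S) ≫
      (Scheme.Modules.pushforward f).map (pullbackUnitIso f).hom = toPushUnit f := by
  have h := SheafOfModules.pullbackPushforwardAdjunction_homEquiv_pullbackObjUnitToUnit
    (F := Opens.map f.base) f.toRingCatSheafHom
  rw [Adjunction.homEquiv_unit] at h
  exact h

theorem isIso_unit_unitMod (hf : ∀ U : S.Opens, Function.Bijective (f.app U)) :
    IsIso ((Scheme.Modules.pullbackPushforwardAdjunction f).unit.app (unitMod S)) := by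
  have h1 : IsIso (toPushUnit f) := by
    rw [Scheme.Modules.Hom.isIso_iff_isIso_app]
    intro U
    rw [ConcreteCategory.isIso_iff_bijective]
    exact hf U
  have h2 := unit_unitMod f
  have h3 : (Scheme.Modules.pullbackPushforwardAdjunction f).unit.app (unitMod S) =
      toPushUnit f ≫ (Scheme.Modules.pushforward f).map (pullbackUnitIso f).inv := by
    rw [← h2, Category.assoc, ← Functor.map_comp, Iso.hom_inv_id, CategoryTheory.Functor.map_id]
    exact (Category.comp_id _).symm
  rw [h3]
  infer_instance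

end UnitO


section Additive

theorem isIso_app_of_decomp {C D : Type*} [Category C] [Category D] [Preadditive C] [Preadditive D]
    {F G : C ⥤ D} [F.Additive] [G.Additive] (α : F ⟶ G) {ι : Type*} [Fintype ι] (P : C)
    (N : ι → C) (inj : ∀ i, N i ⟶ P) (proj : ∀ i, P ⟶ N i)
    (total : ∑ i, proj i ≫ inj i = 𝟙 P) (h : ∀ i, IsIso (α.app (N i))) : IsIso (α.app P) := by
  refine ⟨∑ i, G.map (proj i) ≫ inv (α.app (N i)) ≫ F.map (inj i), ?_, ?_⟩
  · rw [Preadditive.comp_sum]
    have : ∀ i, α.app P ≫ G.map (proj i) ≫ inv (α.app (N i)) ≫ F.map (inj i) =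
        F.map (proj i ≫ inj i) := by
      intro i
      rw [← Category.assoc, ← α.naturality, Category.assoc, IsIso.hom_inv_id_assoc,
        Functor.map_comp]
    simp_rw [this]
    rw [← Functor.map_sum, total, CategoryTheory.Functor.map_id]
  · rw [Preadditive.sum_comp]
    have : ∀ i, (G.map (proj i) ≫ inv (α.app (N i)) ≫ F.map (inj i)) ≫ α.app P =
        G.map (proj i ≫ inj i) := by
      intro i
      rw [Category.assoc, Category.assoc, α.naturality, IsIso.inv_hom_id_assoc, Functor.map_comp]
    simp_rw [this]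
    rw [← Functor.map_sum, total, CategoryTheory.Functor.map_id]

variable {X : Scheme.{u}}

/-- the projections of the free module. -/
noncomputable def freeModProj (n : ℕ) (i : Fin n) : freeMod X n ⟶ unitMod X :=
  Sigma.desc fun j => if j = i then 𝟙 _ else 0

lemma freeMod_total (n : ℕ) :
    ∑ i, freeModProj (X := X) n i ≫ Sigma.ι (fun _ : Fin n => unitMod X) i = 𝟙 (freeMod X n) := by
  apply Sigma.hom_ext
  intro j
  rw [Preadditive.comp_sum]
  have : ∀ i, Sigma.ι (fun _ : Fin n => unitMod X) j ≫ freeModProj n i ≫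
      Sigma.ι (fun _ : Fin n => unitMod X) i =
      if j = i then Sigma.ι (fun _ : Fin n => unitMod X) i else 0 := by
    intro i
    rw [← Category.assoc, freeModProj, Sigma.ι_desc]
    split_ifs <;> simp
  simp_rw [this]
  simp

theorem isIso_app_freeMod {D : Type*} [Category D] [Preadditive D]
    {F G : X.Modules ⥤ D} [F.Additive] [G.Additive] (α : F ⟶ G) (n : ℕ)
    (h : IsIso (α.app (unitMod X))) : IsIso (α.app (freeMod X n)) :=
  isIso_app_of_decomp α (freeMod X n) (fun _ : Fin n => unitMod X)
    (fun i => Sigma.ι (fun _ : Fin n => unitMod X) i) (freeModProj n) (freeMod_total n) (fun _ => h)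

end Additive

section Local
variable {X S : Scheme.{u}} (f : X ⟶ S)

lemma res_bijective_of_eq (M : X.Modules) {U U' : X.Opens} (h : U' ≤ U) (h' : U ≤ U') :
    Function.Bijective (M.presheaf.map (homOfLE h).op) := by
  refine ⟨res_injective_of_le_of_le M h h', fun y => ⟨M.presheaf.map (homOfLE h').op y, ?_⟩⟩
  rw [res_res, res_self]

/-- the unit on sections over an open contained in `V` is computed by the restricted morphism. -/
theorem unitSec_bijective_of_restrict (N : S.Modules) (V : S.Opens) (W : (V : Scheme.{u}).Opens)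
    (h : Function.Bijective (unitSec (f ∣_ V) (N.restrict V.ι) W)) :
    Function.Bijective (unitSec f N (V.ι ''ᵁ W)) := by
  have sq : (f ⁻¹ᵁ V).ι ≫ f = (f ∣_ V) ≫ V.ι := (morphismRestrict_ι f V).symm
  have e : (f ∣_ V) ⁻¹ᵁ W ≤ (f ∣_ V) ⁻¹ᵁ W := le_rfl
  have e1 := image_le_preimage_image f (f ⁻¹ᵁ V).ι V.ι (f ∣_ V) sq e
  have e2 : f ⁻¹ᵁ (V.ι ''ᵁ W) ≤ (f ⁻¹ᵁ V).ι ''ᵁ ((f ∣_ V) ⁻¹ᵁ W) :=
    (image_morphismRestrict_preimage f V W).ge
  have key : ∀ m : Γ(N, V.ι ''ᵁ W),
      unitSec (f ∣_ V) (N.restrict V.ι) W m =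
        ((pullbackRestrictIso f (f ⁻¹ᵁ V).ι V.ι (f ∣_ V) sq).hom.app N).app ((f ∣_ V) ⁻¹ᵁ W)
          (((Scheme.Modules.pullback f).obj N).presheaf.map (homOfLE e1).op
            (unitSec f N (V.ι ''ᵁ W) m)) := by
    intro m
    have h1 := pullbackRestrictIso_pbSec f (f ⁻¹ᵁ V).ι V.ι (f ∣_ V) sq N e m
    rw [pbSec, pbSec, res_self] at h1
    exact h1.symm
  have hΘ : Function.Bijective
      (((pullbackRestrictIso f (f ⁻¹ᵁ V).ι V.ι (f ∣_ V) sq).hom.app N).app ((f ∣_ V) ⁻¹ᵁ W)) := by
    rw [← ConcreteCategory.isIso_iff_bijective]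
    infer_instance
  have hres := res_bijective_of_eq ((Scheme.Modules.pullback f).obj N) e1 e2
  have hcomp : unitSec (f ∣_ V) (N.restrict V.ι) W =
      (((pullbackRestrictIso f (f ⁻¹ᵁ V).ι V.ι (f ∣_ V) sq).hom.app N).app ((f ∣_ V) ⁻¹ᵁ W)) ∘
        (((Scheme.Modules.pullback f).obj N).presheaf.map (homOfLE e1).op) ∘
          (unitSec f N (V.ι ''ᵁ W)) := funext key
  rw [hcomp] at h
  have h2 := (Function.Bijective.of_comp_iff' hΘ _).mp h
  exact (Function.Bijective.of_comp_iff' hres _).mp h2

end Local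

section Main
variable {X S : Scheme.{u}} (f : X ⟶ S)

theorem isIso_unit_of_iso {N N' : S.Modules} (e : N ≅ N')
    (h : IsIso ((Scheme.Modules.pullbackPushforwardAdjunction f).unit.app N)) :
    IsIso ((Scheme.Modules.pullbackPushforwardAdjunction f).unit.app N') := by
  have hn := (Scheme.Modules.pullbackPushforwardAdjunction f).unit.naturality e.inv
  have h2 : (Scheme.Modules.pullbackPushforwardAdjunction f).unit.app N' =
      e.inv ≫ (Scheme.Modules.pullbackPushforwardAdjunction f).unit.app N ≫
        (Scheme.Modules.pullback f ⋙ Scheme.Modules.pushforward f).map e.hom := by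
    have hn' : e.inv ≫ (Scheme.Modules.pullbackPushforwardAdjunction f).unit.app N =
      (Scheme.Modules.pullbackPushforwardAdjunction f).unit.app N' ≫
        (Scheme.Modules.pullback f ⋙ Scheme.Modules.pushforward f).map e.inv := hn
    rw [← Category.assoc, hn', Category.assoc, ← Functor.map_comp, Iso.inv_hom_id,
      CategoryTheory.Functor.map_id]
    exact (Category.comp_id _).symm
  rw [h2]
  infer_instance

theorem isIso_unit_freeMod (hf : ∀ U : S.Opens, Function.Bijective (f.app U)) (n : ℕ) :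
    IsIso ((Scheme.Modules.pullbackPushforwardAdjunction f).unit.app (freeMod S n)) :=
  isIso_app_freeMod (Scheme.Modules.pullbackPushforwardAdjunction f).unit n
    (isIso_unit_unitMod f hf)

lemma morphismRestrict_app_bijective (hf : ∀ U : S.Opens, Function.Bijective (f.app U))
    (V : S.Opens) (W : (V : Scheme.{u}).Opens) : Function.Bijective ((f ∣_ V).app W) := by
  rw [morphismRestrict_app]
  have h1 := hf (V.ι ''ᵁ W)
  have h2 : Function.Bijective
      (X.presheaf.map (eqToHom (image_morphismRestrict_preimage f V W)).op) := by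
    rw [← ConcreteCategory.isIso_iff_bijective]
    infer_instance
  exact h2.comp h1

/-- **if `O_S → f_* O_X` is bijective, then `N → f_* f^* N` is an isomorphism for every finite
locally free `N`.** -/
theorem isIso_unit_of_isFinLocFree (hf : ∀ U : S.Opens, Function.Bijective (f.app U))
    (N : S.Modules) (hN : FlatMod.IsFinLocFree N) :
    IsIso ((Scheme.Modules.pullbackPushforwardAdjunction f).unit.app N) := by
  apply isIso_of_local_bijective
  intro x W hx
  obtain ⟨V, n, hxV, ⟨e⟩⟩ := hN x
  refine ⟨V.ι ''ᵁ (V.ι ⁻¹ᵁ W), ⟨⟨x, hxV⟩, hx, rfl⟩, V.ι.image_preimage_le W, ?_⟩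
  have h1 : IsIso ((Scheme.Modules.pullbackPushforwardAdjunction (f ∣_ V)).unit.app
      (N.restrict V.ι)) :=
    isIso_unit_of_iso (f ∣_ V) e.symm
      (isIso_unit_freeMod (f ∣_ V) (morphismRestrict_app_bijective f hf V) n)
  apply unitSec_bijective_of_restrict f N V (V.ι ⁻¹ᵁ W)
  have h2 : IsIso (((Scheme.Modules.pullbackPushforwardAdjunction (f ∣_ V)).unit.app
      (N.restrict V.ι)).app (V.ι ⁻¹ᵁ W)) := inferInstance
  rw [ConcreteCategory.isIso_iff_bijective] at h2
  exact h2

end Main

end Groth.Agent.LD.QC
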