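import Groth.Agent.Lib.Lead.QC.AmpleBasis
import Groth.Agent.Lib.Lead.QC.EpiLocal
universe u
open CategoryTheory Limits AlgebraicGeometry TopologicalSpace Opposite

namespace Groth.Agent.LD.QC
variable {X : Scheme.{u}}

/-- on an affine open `U`, a family spanning the sections of a quasi-coherent module over `U`
generates it locally on every open of `U`. -/
theorem exists_local_comb (F : X.Modules) [F.IsQuasicoherent] {U : X.Opens} (hU : IsAffineOpen U)
    {k : ℕ} (t : Fin k → Γ(F, U)) (ht : Submodule.span Γ(X, U) (Set.range t) = ⊤)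
    (V : X.Opens) (hV : V ≤ U) (g : Γ(F, V)) (y : X) (hy : y ∈ V) :
    ∃ (W : X.Opens) (hW : W ≤ V), y ∈ W ∧ ∃ a : Fin k → Γ(X, W),
      F.presheaf.map (homOfLE hW).op g =
        ∑ j, a j • F.presheaf.map (homOfLE (hW.trans hV)).op (t j) := by
  obtain ⟨h, hhV, hyh⟩ := hU.exists_basicOpen_le ⟨y, hy⟩ (hV hy)
  refine ⟨X.basicOpen h, hhV, hyh, ?_⟩
  obtain ⟨n, m, hm⟩ := affine_surj F hU h (F.presheaf.map (homOfLE hhV).op g)
  have hmem : m ∈ Submodule.span Γ(X, U) (Set.range t) := by rw [ht]; trivial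
  obtain ⟨b, hb⟩ := (Submodule.mem_span_range_iff_exists_fun Γ(X, U)).mp hmem
  have hu : IsUnit (X.presheaf.map (homOfLE (X.basicOpen_le h)).op h) :=
    RingedSpace.isUnit_res_basicOpen _ h
  obtain ⟨u, hu'⟩ := hu
  refine ⟨fun j => (↑(u⁻¹ ^ n) : Γ(X, X.basicOpen h)) *
    X.presheaf.map (homOfLE (X.basicOpen_le h)).op (b j), ?_⟩
  have h1 : F.presheaf.map (homOfLE hhV).op g =
      (↑(u⁻¹ ^ n) : Γ(X, X.basicOpen h)) •
        ((X.presheaf.map (homOfLE (X.basicOpen_le h)).op h) ^ n •
          F.presheaf.map (homOfLE hhV).op g) := by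
    rw [smul_smul, ← hu', ← Units.val_pow_eq_pow_val, ← Units.val_mul, ← mul_pow,
      inv_mul_cancel, one_pow, Units.val_one, one_smul]
  rw [h1, ← hm, ← hb, map_sum, Finset.smul_sum]
  refine Finset.sum_congr rfl fun j _ => ?_
  rw [Scheme.Modules.map_smul, smul_smul]

end Groth.Agent.LD.QC

namespace Groth.Agent.LD.QC
variable {X : Scheme.{u}}

/-- if `t ⊗ s^n` extends to a global section then so does `t ⊗ s^(n+1)`. -/
theorem extension_succ (L : X.Modules) [L.IsQuasicoherent] (s : unitMod X ⟶ L) (F : X.Modules)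
    [F.IsQuasicoherent] {U : X.Opens} (t : Γ(F, U)) (n : ℕ)
    (t' : Γ(CohB1.tensorMod F (CohB1.tensorPow L n), ⊤))
    (ht' : (CohB1.tensorMod F (CohB1.tensorPow L n)).presheaf.map (homOfLE (le_top : U ≤ ⊤)).op t' =
      SecTwist.twist s n F U t) :
    ∃ t'' : Γ(CohB1.tensorMod F (CohB1.tensorPow L (n + 1)), ⊤),
      (CohB1.tensorMod F (CohB1.tensorPow L (n + 1))).presheaf.map
        (homOfLE (le_top : U ≤ ⊤)).op t'' = SecTwist.twist s (n + 1) F U t := by
  refine ⟨(tensorAssoc F (CohB1.tensorPow L n) L).hom.app ⊤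
    (SecTwist.tmul (CohB1.tensorMod F (CohB1.tensorPow L n)) L ⊤ t' (SecTwist.val s ⊤)), ?_⟩
  have h1 : L.presheaf.map (homOfLE (le_top : U ≤ ⊤)).op (SecTwist.val s ⊤) = SecTwist.val s U :=
    SecTwist.map_val s (homOfLE le_top)
  have h2 := app_res (tensorAssoc F (CohB1.tensorPow L n) L).hom (le_top : U ≤ ⊤)
    (SecTwist.tmul (CohB1.tensorMod F (CohB1.tensorPow L n)) L ⊤ t' (SecTwist.val s ⊤))
  refine h2.symm.trans ?_
  rw [tmul_res, ht', h1]
  exact tensorAssoc_hom_app_tmul F (CohB1.tensorPow L n) L U t (SecTwist.pow s n U) (SecTwist.val s U)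

/-- if `t ⊗ s^n` extends to a global section then so does `t ⊗ s^m` for all `m ≥ n`. -/
theorem extension_of_le (L : X.Modules) [L.IsQuasicoherent] (s : unitMod X ⟶ L) (F : X.Modules)
    [F.IsQuasicoherent] {U : X.Opens} (t : Γ(F, U)) (n : ℕ)
    (h : ∃ t' : Γ(CohB1.tensorMod F (CohB1.tensorPow L n), ⊤),
      (CohB1.tensorMod F (CohB1.tensorPow L n)).presheaf.map (homOfLE (le_top : U ≤ ⊤)).op t' =
        SecTwist.twist s n F U t) (m : ℕ) (hm : n ≤ m) :
    ∃ t' : Γ(CohB1.tensorMod F (CohB1.tensorPow L m), ⊤),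
      (CohB1.tensorMod F (CohB1.tensorPow L m)).presheaf.map (homOfLE (le_top : U ≤ ⊤)).op t' =
        SecTwist.twist s m F U t := by
  induction m, hm using Nat.le_induction with
  | base => exact h
  | succ m _ ih =>
    obtain ⟨t', ht'⟩ := ih
    exact extension_succ L s F t m t' ht'

end Groth.Agent.LD.QC

namespace Groth.Agent.LD.QC
variable {X : Scheme.{u}}

lemma tmul_sum_smul_left (M N : X.Modules) (U : X.Opens) {k : ℕ} (a : Fin k → Γ(X, U))
    (m : Fin k → Γ(M, U)) (n : Γ(N, U)) :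
    SecTwist.tmul M N U (∑ j, a j • m j) n = ∑ j, a j • SecTwist.tmul M N U (m j) n := by
  have key : ∀ S : Finset (Fin k), SecTwist.tmul M N U (∑ j ∈ S, a j • m j) n =
      ∑ j ∈ S, a j • SecTwist.tmul M N U (m j) n := by
    intro S
    induction S using Finset.induction_on with
    | empty => simp only [Finset.sum_empty]; exact tmul_zero_left M N U n
    | insert j S hj ih =>
      rw [Finset.sum_insert hj, Finset.sum_insert hj]
      refine (tmul_add_left M N U (a j • m j) (∑ x ∈ S, a x • m x) n).trans ?_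
      exact congrArg₂ (· + ·) (tmul_smul_left M N U (a j) (m j) n) ih
  exact key Finset.univ

/-- evaluation of the morphism attached to finitely many global sections. -/
lemma homOfSections_app_ι (G : X.Modules) {K : ℕ} (σ : Fin K → Γ(G, ⊤)) (W : X.Opens)
    (c : Fin K) (a : Γ(X, W)) :
    (homOfSections G σ).app W ((Sigma.ι (fun _ : Fin K => unitMod X) c).app W a) =
      a • G.presheaf.map (homOfLE (le_top : W ≤ ⊤)).op (σ c) := by
  have h1 : (homOfSections G σ).app W ((Sigma.ι (fun _ : Fin K => unitMod X) c).app W a) =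
      (homOfSection G (σ c)).app W a := by
    rw [← ConcreteCategory.comp_apply, ← Scheme.Modules.Hom.comp_app, homOfSections, Sigma.ι_desc]
  rw [h1, unitHom_app, homOfSection_app_one]

end Groth.Agent.LD.QC

namespace Groth.Agent.LD.QC
variable {X : Scheme.{u}}

set_option maxHeartbeats 1600000 in
/-- **Global generation by twisting**: if finitely many sections `s i` of an invertible module `M`
have affine non-vanishing loci covering `X`, then for every quasi-coherent module `F` of finite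
type, `F ⊗ M^N` is a quotient of a finite free module for all large `N`. -/
theorem exists_epi_free_twist [CompactSpace X] [QuasiSeparatedSpace X] (M : X.Modules)
    (hM : PicF.IsInvertible M) {r : ℕ} (s : Fin r → (unitMod X ⟶ M))
    (haff : ∀ i, IsAffineOpen (CohB1.genLocus M (s i)))
    (hcov : ∀ x : X, ∃ i, x ∈ CohB1.genLocus M (s i))
    (F : X.Modules) [F.IsQuasicoherent] (hFT : F.IsFiniteType) :
    ∃ N₀ : ℕ, ∀ N : ℕ, N₀ ≤ N →
      ∃ (K : ℕ) (p : FlatMod.freeMod X K ⟶ CohB1.tensorMod F (CohB1.tensorPow M N)), Epi p := by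
  classical
  haveI : M.IsQuasicoherent := qc_of_isInvertible M hM
  -- generators over each affine locus
  have hfin : ∀ i, Module.Finite Γ(X, CohB1.genLocus M (s i)) Γ(F, CohB1.genLocus M (s i)) :=
    fun i => finite_sections_of_isFiniteType F hFT (haff i)
  choose k t ht using fun i => (hfin i).exists_fin
  -- extensions
  choose n _ hn using fun (i : Fin r) (j : Fin (k i)) =>
    exists_extension_twist M hM (s i) F (t i j)
  refine ⟨Finset.univ.sup fun i => Finset.univ.sup fun j => n i j, fun N hN => ?_⟩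
  have hle : ∀ i j, n i j ≤ N := fun i j =>
    (Finset.le_sup (f := fun j => n i j) (Finset.mem_univ j)).trans
      ((Finset.le_sup (f := fun i => Finset.univ.sup fun j => n i j) (Finset.mem_univ i)).trans hN)
  choose σ hσ using fun (i : Fin r) (j : Fin (k i)) =>
    extension_of_le M (s i) F (t i j) (n i j) (hn i j) N (hle i j)
  let J := Σ i : Fin r, Fin (k i)
  let e : J ≃ Fin (Fintype.card J) := Fintype.equivFin J
  let G := CohB1.tensorMod F (CohB1.tensorPow M N)
  let τ : Fin (Fintype.card J) → Γ(G, ⊤) := fun a => σ (e.symm a).1 (e.symm a).2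
  refine ⟨Fintype.card J, homOfSections G τ, ?_⟩
  apply epi_of_local_lift
  intro V g x hx
  obtain ⟨i, hxi⟩ := hcov x
  set U := CohB1.genLocus M (s i) with hU
  have hbasis : IsBasisOver (CohB1.tensorPow M N) U (SecTwist.pow (s i) N U) := by
    rw [pow_eq_secPow]
    exact (isBasisOver_val_of_le (s i) le_rfl).secPow N
  obtain ⟨g', hg'⟩ := (bijective_tmul_of_isBasisOver F (CohB1.tensorPow M N) hbasis (V ⊓ U)
    inf_le_right).2 (G.presheaf.map (homOfLE (inf_le_left : V ⊓ U ≤ V)).op g)
  obtain ⟨W, hW, hxW, a, ha⟩ := exists_local_comb F (haff i) (t i) (ht i) (V ⊓ U) inf_le_right g' x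
    ⟨hx, hxi⟩
  have hWV : W ≤ V := hW.trans inf_le_left
  have hWU : W ≤ U := hW.trans inf_le_right
  refine ⟨W, hWV, hxW,
    ∑ j : Fin (k i), (Sigma.ι (fun _ : Fin (Fintype.card J) => unitMod X) (e ⟨i, j⟩)).app W (a j), ?_⟩
  rw [map_sum]
  -- compute the right-hand side
  have h1 : G.presheaf.map (homOfLE hWV).op g =
      SecTwist.tmul F (CohB1.tensorPow M N) W (F.presheaf.map (homOfLE hW).op g')
        ((CohB1.tensorPow M N).presheaf.map (homOfLE hWU).op (SecTwist.pow (s i) N U)) := by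
    have h2 := congrArg (G.presheaf.map (homOfLE hW).op) hg'
    simp only [res_res] at h2
    rw [← h2, tmul_res, res_res]
  rw [h1, ha]
  refine Eq.trans ?_ (tmul_sum_smul_left F (CohB1.tensorPow M N) W a
    (fun j => F.presheaf.map (homOfLE (hW.trans inf_le_right)).op (t i j)) _).symm
  refine Finset.sum_congr rfl fun j _ => ?_
  rw [homOfSections_app_ι]
  have h3 : τ (e ⟨i, j⟩) = σ i j := by
    change σ (e.symm (e ⟨i, j⟩)).1 (e.symm (e ⟨i, j⟩)).2 = σ i j
    rw [e.symm_apply_apply]
  rw [h3]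
  have h4 : G.presheaf.map (homOfLE (le_top : W ≤ ⊤)).op (σ i j) =
      G.presheaf.map (homOfLE hWU).op (SecTwist.twist (s i) N F U (t i j)) := by
    rw [← hσ i j, res_res]
  rw [h4]
  congr 1
  exact tmul_res F (CohB1.tensorPow M N) hWU (t i j) (SecTwist.pow (s i) N U)

end Groth.Agent.LD.QC
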