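import Groth.Agent.Lib.Lead.QC.CounitEpi
universe u
open CategoryTheory Limits AlgebraicGeometry TopologicalSpace Opposite

namespace Groth.Agent.LD.QC
variable {X Y : Scheme.{u}} (f : X ⟶ Y)

/-- **the counit `f^* f_* G ⟶ G` is an epimorphism as soon as, locally over `Y`, `G` is generated
by its sections** (over arbitrary index types). -/
theorem epi_counit_of_local_epi_free (G : X.Modules)
    (h : ∀ x : X, ∃ V : Y.Opens, x ∈ f ⁻¹ᵁ V ∧ ∃ (K : Type u)
      (p : (SheafOfModules.free K : (f ⁻¹ᵁ V).toScheme.Modules) ⟶ G.restrict (f ⁻¹ᵁ V).ι),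
        Epi p) :
    Epi ((Scheme.Modules.pullbackPushforwardAdjunction f).counit.app G) := by
  let ε : (Scheme.Modules.pullback f).obj ((Scheme.Modules.pushforward f).obj G) ⟶ G :=
    (Scheme.Modules.pullbackPushforwardAdjunction f).counit.app G
  change Epi ε
  refine @Preadditive.epi_of_cancel_zero X.Modules _ _ _ _ ε (fun {Q} q hq => ?_)
  -- sections over preimages are killed by q
  have hkill : ∀ (V : Y.Opens) (τ : Γ(G, f ⁻¹ᵁ V)), q.app (f ⁻¹ᵁ V) τ = 0 := by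
    intro V τ
    have h1 := counit_unitSec f G V τ
    have h2 : (ε ≫ q).app (f ⁻¹ᵁ V) (unitSec f ((Scheme.Modules.pushforward f).obj G) V
        (show Γ((Scheme.Modules.pushforward f).obj G, V) from τ)) = q.app (f ⁻¹ᵁ V) τ := by
      change q.app (f ⁻¹ᵁ V) (ε.app (f ⁻¹ᵁ V) _) = _
      rw [h1]
    rw [← h2, hq]
    rfl
  apply Scheme.Modules.hom_ext
  intro U
  ext m
  change q.app U m = 0
  -- local vanishing
  have hloc : ∀ x : U, ∃ (W : X.Opens) (hW : W ≤ U), x.1 ∈ W ∧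
      Q.presheaf.map (homOfLE hW).op (q.app U m) = 0 := by
    rintro ⟨x, hxU⟩
    obtain ⟨V, hxV, K, p, hp⟩ := h x
    let j := (f ⁻¹ᵁ V).ι
    let x' : (f ⁻¹ᵁ V).toScheme := ⟨x, hxV⟩
    have hle0 : j ''ᵁ (j ⁻¹ᵁ U) ≤ U := by
      rintro _ ⟨z, hz, rfl⟩; exact hz
    let m' : Γ(G.restrict j, j ⁻¹ᵁ U) := G.presheaf.map (homOfLE hle0).op m
    obtain ⟨W', hW', hxW', g, hg⟩ := exists_local_lift p hp (j ⁻¹ᵁ U) m' x' hxU
    have hWle : j ''ᵁ W' ≤ U := (Scheme.Hom.image_mono j hW').trans hle0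
    let q' : G.restrict j ⟶ Q.restrict j := (Scheme.Modules.restrictFunctor j).map q
    have hpq : p ≫ q' = 0 := by
      apply Cofan.IsColimit.hom_ext (SheafOfModules.isColimitFreeCofan
        (R := (f ⁻¹ᵁ V).toScheme.ringCatSheaf) K)
      intro k
      change SheafOfModules.ιFree (R := (f ⁻¹ᵁ V).toScheme.ringCatSheaf) k ≫ p ≫ q' =
        SheafOfModules.ιFree (R := (f ⁻¹ᵁ V).toScheme.ringCatSheaf) k ≫ 0
      rw [comp_zero, ← Category.assoc]
      let s : unitMod (f ⁻¹ᵁ V).toScheme ⟶ G.restrict j :=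
        SheafOfModules.ιFree (R := (f ⁻¹ᵁ V).toScheme.ringCatSheaf) k ≫ p
      change s ≫ q' = 0
      have hz : (0 : unitMod (f ⁻¹ᵁ V).toScheme ⟶ Q.restrict j) =
          homOfSection (Q.restrict j) 0 := by
        apply unitHom_ext
        rw [sectionOfHom_homOfSection]
        rfl
      rw [hz]
      apply unitHom_ext
      rw [sectionOfHom_homOfSection]
      change q.app (j ''ᵁ ⊤) (show Γ(G, j ''ᵁ ⊤) from sectionOfHom s) = 0
      have htop : j ''ᵁ ⊤ ≤ f ⁻¹ᵁ V := (f ⁻¹ᵁ V).ι_image_top.le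
      have htop' : f ⁻¹ᵁ V ≤ j ''ᵁ ⊤ := (f ⁻¹ᵁ V).ι_image_top.ge
      let σ : Γ(G, j ''ᵁ ⊤) := sectionOfHom s
      have h3 : σ = G.presheaf.map (homOfLE htop).op (G.presheaf.map (homOfLE htop').op σ) := by
        rw [res_res, res_self]
      change q.app (j ''ᵁ ⊤) σ = 0
      rw [h3, app_res q htop, hkill, map_zero]
    have h4 : q.app (j ''ᵁ W') (G.presheaf.map (homOfLE hWle).op m) = 0 := by
      have h5 : (show Γ(G, j ''ᵁ W') from (G.restrict j).presheaf.map (homOfLE hW').op m') =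
          G.presheaf.map (homOfLE hWle).op m :=
        res_res G hle0 (Scheme.Hom.image_mono j hW') m
      rw [← h5, ← hg]
      let FK : (f ⁻¹ᵁ V).toScheme.Modules :=
        SheafOfModules.free (R := (f ⁻¹ᵁ V).toScheme.ringCatSheaf) K
      let p' : FK ⟶ G.restrict j := p
      have hpq' : p' ≫ q' = 0 := hpq
      change (p' ≫ q').app W' g = 0
      rw [hpq']
      rfl
    refine ⟨j ''ᵁ W', hWle, ⟨x', hxW', rfl⟩, ?_⟩
    rw [← app_res q hWle m, h4]
  choose W hW hxW hres using hloc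
  apply section_ext_of_cover Q W hW ?_ (q.app U m) 0
  · intro x
    rw [hres x, map_zero]
  · intro x hx
    exact Opens.mem_iSup.mpr ⟨⟨x, hx⟩, hxW ⟨x, hx⟩⟩

/-- **relative ampleness from generation of twisted ideals** (EGA II 4.6.8 (c) ⇒ (a)), without
any finiteness on `X`: it suffices to test the vanishing ideals of complements of affine opens. -/
theorem isRelAmple_of_counit_epi [QuasiCompact f] [QuasiSeparated f] (L : X.Modules)
    (hL : PicF.IsInvertible L)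
    (h : ∀ I : X.IdealSheafData, ∃ n : ℕ, 0 < n ∧
      Epi ((Scheme.Modules.pullbackPushforwardAdjunction f).counit.app
        (CohB1.tensorMod (ClSub.idealMod I) (CohB1.tensorPow L n)))) :
    RelAmple.IsRelAmple f L := by
  refine ⟨inferInstance, fun V => ?_⟩
  haveI : CompactSpace (f ⁻¹ᵁ V.1 : Scheme.{u}) :=
    isCompact_iff_compactSpace.mp (QuasiCompact.isCompact_preimage (f := f) _ V.1.2 V.2.isCompact)
  refine ⟨isInvertible_restrict (f ⁻¹ᵁ V.1).ι hL, inferInstance, fun x' => ?_⟩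
  obtain ⟨U, e₁, hU, hxU, hUW, he₁⟩ := exists_affine_basis L hL ((f ⁻¹ᵁ V.1).ι x')
    (f ⁻¹ᵁ V.1) x'.2
  let Z : Closeds X := ⟨(U : Set X)ᶜ, U.2.isClosed_compl⟩
  let I := Scheme.IdealSheafData.vanishingIdeal Z
  obtain ⟨n, hn, hepi⟩ := h I
  obtain ⟨m, rfl⟩ : ∃ m, n = m + 1 := Nat.exists_eq_succ_of_ne_zero hn.ne'
  have hM : PicF.IsInvertible (CohB1.tensorPow L (m + 1)) := isInvertible_tensorPow hL _
  haveI : (CohB1.tensorPow L (m + 1)).IsQuasicoherent := qc_of_isInvertible _ hM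
  have hspan := span_range_res_of_counit_epi f
    (CohB1.tensorMod (ClSub.idealMod I) (CohB1.tensorPow L (m + 1))) hepi hU V.2 hUW
  have h1 : (1 : Γ(X, U)) ∈ I.ideal ⟨U, hU⟩ := by
    rw [vanishingIdeal_ideal_eq_top Z ⟨U, hU⟩ disjoint_compl_right]; trivial
  obtain ⟨σ, hσ1, hσ2⟩ := exists_section_of_span_twist (CohB1.tensorPow L (m + 1)) I
    (f ⁻¹ᵁ V.1) U hU hUW _ hxU (secPow e₁ (m + 1)) (he₁.secPow (m + 1)) h1 le_rfl hspan
  obtain ⟨s, hs1, hs2⟩ := exists_affine_genLocus_of_section (CohB1.tensorPow L (m + 1)) hM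
    (f ⁻¹ᵁ V.1) U hU hUW σ x' hσ1 hσ2
  refine ⟨m, s ≫ (restrictTensorPowIso (f ⁻¹ᵁ V.1).ι L (m + 1)).symm.hom, ?_, ?_⟩
  · rw [genLocus_comp_iso s (restrictTensorPowIso (f ⁻¹ᵁ V.1).ι L (m + 1)).symm]
    exact hs1
  · rw [genLocus_comp_iso s (restrictTensorPowIso (f ⁻¹ᵁ V.1).ι L (m + 1)).symm]
    exact hs2

end Groth.Agent.LD.QC
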