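import Mathlib
import Groth.Agent.Lib.Lead.SC.Efface
import Groth.Agent.Lib.Lead.QC.SubSup
import Groth.Agent.Lib.Lead.QC.StalkNbhd
import Groth.Agent.Lib.Lead.QC.Stalk
import Groth.Agent.Lib.Lead.QC.AModPush
import Groth.Agent.Lib.Lead.QC.SubExt
import Groth.Agent.Lib.Lead.QC.LocFree2
import Groth.Agent.Lib.Lead.QC.Gen
import Groth.Agent.Lib.Lead.QC.Coh
import Groth.Agent.Lib.Lead.QC.FinType
import Groth.Agent.Lib.Lead.QC.Closure
import Groth.Agent.Lib.Lead.QC.Compact
import Groth.Agent.H4.GenSec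
import Groth.Agent.Lib.Helper3.ZClosLib
import Groth.Agent.Lib.Helper5.Lim.ModuleBridge
import Groth.Prelude.Def_Coh

/-! # Torsion-free coherent covers on Noetherian integral schemes with affine diagonal. -/

set_option autoImplicit false
universe u
open CategoryTheory Limits Opposite AlgebraicGeometry TopologicalSpace

namespace Groth.Agent.LD.TF
open Groth.Agent.LD.QC Groth.Agent.LD.SC

variable {Y : Scheme.{u}}

/-- sectionwise torsion-freeness over affine opens. -/
def TFsec (M : Y.Modules) : Prop :=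
  ∀ (V : Y.Opens), IsAffineOpen V → ∀ (a : Γ(Y, V)) (m : Γ(M, V)), a ≠ 0 → a • m = 0 → m = 0

/-- sectionwise torsion-freeness implies torsion-freeness of the stalks. -/
theorem noZeroSMulDivisors_stalk (M : Y.Modules) (h : TFsec M) (y : Y) :
    NoZeroSMulDivisors (Y.presheaf.stalk y) (M.presheaf.stalk y) := by
  refine ⟨fun {c x} hcx => ?_⟩
  obtain ⟨V₁, hy₁, a, rfl⟩ := TopCat.Presheaf.exists_germ_eq Y.presheaf c
  obtain ⟨V₂, hy₂, m, rfl⟩ := TopCat.Presheaf.exists_germ_eq M.presheaf x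
  have hyW : y ∈ V₁ ⊓ V₂ := ⟨hy₁, hy₂⟩
  obtain ⟨a', ha'⟩ : ∃ a' : Γ(Y, V₁ ⊓ V₂), a' = Y.presheaf.map (homOfLE inf_le_left).op a :=
    ⟨_, rfl⟩
  obtain ⟨m', hm'⟩ : ∃ m' : Γ(M, V₁ ⊓ V₂), m' = M.presheaf.map (homOfLE inf_le_right).op m :=
    ⟨_, rfl⟩
  have hga : Y.presheaf.germ (V₁ ⊓ V₂) y hyW a' = Y.presheaf.germ V₁ y hy₁ a := by
    rw [ha']; exact sgerm_res y inf_le_left hyW a
  have hgm : M.presheaf.germ (V₁ ⊓ V₂) y hyW m' = M.presheaf.germ V₂ y hy₂ m := by
    rw [hm']; exact germ_res M y inf_le_right hyW m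
  have e1 : Y.presheaf.germ (V₁ ⊓ V₂) y hyW a' • M.presheaf.germ (V₁ ⊓ V₂) y hyW m' = 0 := by
    rw [hga, hgm]; exact hcx
  have key : M.presheaf.germ (V₁ ⊓ V₂) y hyW (a' • m') = 0 :=
    (germ_smul M y (V₁ ⊓ V₂) hyW a' m').trans e1
  obtain ⟨W', hW', hyW', h0⟩ := exists_res_eq_zero_of_germ_eq_zero M y hyW (a' • m') key
  obtain ⟨W, hWaff, hyWW, hWW'⟩ := exists_isAffineOpen_mem_and_subset (x := y) (U := W') hyW'
  have hWW'' : W ≤ W' := hWW'
  have hWle : W ≤ V₁ ⊓ V₂ := le_trans hWW'' hW'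
  have h1 : M.presheaf.map (homOfLE hWle).op (a' • m') = 0 := by
    have e2 := res_res M hW' hWW'' (a' • m')
    rw [h0, map_zero] at e2
    exact e2.symm
  have h2 : Y.presheaf.map (homOfLE hWle).op a' • M.presheaf.map (homOfLE hWle).op m' = 0 :=
    (smul_res M hWle a' m').symm.trans h1
  by_cases hz : Y.presheaf.map (homOfLE hWle).op a' = 0
  · left
    have e3 : Y.presheaf.germ W y hyWW (Y.presheaf.map (homOfLE hWle).op a') =
        Y.presheaf.germ V₁ y hy₁ a := (sgerm_res y hWle hyWW a').trans hga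
    rw [← e3, hz, map_zero]
  · right
    have hm0 := h W hWaff _ _ hz h2
    have e3 : M.presheaf.germ W y hyWW (M.presheaf.map (homOfLE hWle).op m') =
        M.presheaf.germ V₂ y hy₂ m := (germ_res M y hWle hyWW m').trans hgm
    rw [← e3, hm0, map_zero]

/-- subobjects of sectionwise torsion-free modules are sectionwise torsion-free. -/
theorem tfsec_of_mono {A B : Y.Modules} (i : A ⟶ B) [Mono i] (hB : TFsec B) : TFsec A := by
  intro V hV a m ha h0
  have hinj := Groth.Agent.H3.ZClosLib.app_injective_of_mono i V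
  apply hinj
  have e := Scheme.Modules.Hom.app_smul i a m
  rw [h0, map_zero] at e
  rw [map_zero]
  exact hB V hV a _ ha e.symm

/-- binary biproducts of sectionwise torsion-free modules are sectionwise torsion-free. -/
theorem tfsec_biprod (A B : Y.Modules) (hA : TFsec A) (hB : TFsec B) : TFsec (A ⊞ B) := by
  intro V hV a m ha h0
  have h1 : (biprod.fst : A ⊞ B ⟶ A).app V m = 0 := by
    have e := Scheme.Modules.Hom.app_smul (biprod.fst : A ⊞ B ⟶ A) a m
    rw [h0, map_zero] at e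
    exact hA V hV a _ ha e.symm
  have h2 : (biprod.snd : A ⊞ B ⟶ B).app V m = 0 := by
    have e := Scheme.Modules.Hom.app_smul (biprod.snd : A ⊞ B ⟶ B) a m
    rw [h0, map_zero] at e
    exact hB V hV a _ ha e.symm
  have htot : m = (biprod.inl : A ⟶ A ⊞ B).app V ((biprod.fst : A ⊞ B ⟶ A).app V m) +
      (biprod.inr : B ⟶ A ⊞ B).app V ((biprod.snd : A ⊞ B ⟶ B).app V m) := by
    have e : (𝟙 (A ⊞ B) : A ⊞ B ⟶ A ⊞ B) = biprod.fst ≫ biprod.inl + biprod.snd ≫ biprod.inr :=
      biprod.total.symm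
    have e2 := congrArg (fun φ : A ⊞ B ⟶ A ⊞ B => φ.app V m) e
    exact e2
  rw [htot, h1, h2, map_zero, map_zero, add_zero]

/-- the direct image of a finite free module from an affine open of an integral scheme with
affine diagonal is sectionwise torsion-free. -/
theorem tfsec_push_free [IsIntegral Y]
    (hd : ∀ V W : Y.Opens, IsAffineOpen V → IsAffineOpen W → IsAffineOpen (V ⊓ W))
    {a : Y.Opens} (ha : IsAffineOpen a) (n : ℕ) :
    TFsec ((Scheme.Modules.pushforward a.ι).obj (FlatMod.freeMod (a : Scheme.{u}) n)) := by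
  haveI := isAffineHom_ι hd ha
  intro V hV r m hr h0
  have hWaff : IsAffineOpen (a.ι ⁻¹ᵁ V) := hV.preimage a.ι
  by_cases hW : Nonempty ↥(a.ι ⁻¹ᵁ V)
  · obtain ⟨w⟩ := hW
    haveI : Nonempty ↥(a : Scheme.{u}) := ⟨w.1⟩
    haveI hInt : IsIntegral (a : Scheme.{u}) := isIntegral_of_isOpenImmersion a.ι
    haveI hdom : IsDomain Γ((a : Scheme.{u}), a.ι ⁻¹ᵁ V) :=
      @IsIntegral.component_integral _ hInt (a.ι ⁻¹ᵁ V) ⟨w⟩
    obtain ⟨e⟩ := freeMod_sections_equiv (X := (a : Scheme.{u})) hWaff n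
    obtain ⟨m', hm'⟩ :
        ∃ m' : Γ(FlatMod.freeMod (a : Scheme.{u}) n, a.ι ⁻¹ᵁ V), m' = m := ⟨m, rfl⟩
    have h1 : (a.ι.app V r) • m' = 0 := by
      subst hm'
      exact (pushforward_smul a.ι (FlatMod.freeMod (a : Scheme.{u}) n) V r m').symm.trans h0
    have hr' : a.ι.app V r ≠ 0 := by
      intro hz
      apply hr
      have hinj := map_injective_of_isIntegral Y (H := ⟨⟨a.ι w.1, ⟨w.1, w.2, rfl⟩⟩⟩)
        (homOfLE (Set.image_preimage_subset _ _) : a.ι ''ᵁ a.ι ⁻¹ᵁ V ⟶ V)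
      apply hinj
      rw [map_zero]
      exact hz
    have h2 : (a.ι.app V r) • e m' = 0 := by rw [← map_smul, h1, map_zero]
    have h3 : e m' = 0 := by
      funext k
      have hk : (a.ι.app V r) * (e m' k) = 0 := by
        have := congrFun h2 k
        simpa [Pi.smul_apply, smul_eq_mul] using this
      exact (mul_eq_zero.mp hk).resolve_left hr'
    have h4 : m' = 0 := by
      have := congrArg e.symm h3
      simpa using this
    rw [← hm']
    exact h4
  · exact section_eq_zero_of_stalks (FlatMod.freeMod (a : Scheme.{u}) n) (a.ι ⁻¹ᵁ V)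
      (fun y hy => absurd ⟨⟨y, hy⟩⟩ hW) le_rfl m

/-- a sectionwise torsion-free quasi-coherent module mapping onto `j_*(F|_a)`. -/
theorem exists_tf_epi_pushRes [IsIntegral Y]
    (hd : ∀ V W : Y.Opens, IsAffineOpen V → IsAffineOpen W → IsAffineOpen (V ⊓ W))
    (F : Y.Modules) [F.IsQuasicoherent] (hF : F.IsFiniteType)
    {a : Y.Opens} (ha : IsAffineOpen a) :
    ∃ (T : Y.Modules) (q : T ⟶ pushRes F a), T.IsQuasicoherent ∧ TFsec T ∧ Epi q := by
  haveI := isAffineHom_ι hd ha
  haveI : IsAffine (a : Scheme.{u}) := ha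
  haveI : QuasiCompact a.ι := inferInstance
  have hNq : (F.restrict a.ι).IsQuasicoherent := inferInstance
  have hNft : (F.restrict a.ι).IsFiniteType := isFiniteType_restrict a.ι F hF
  haveI : Module.Finite Γ((a : Scheme.{u}), ⊤) Γ(F.restrict a.ι, ⊤) :=
    finite_sections_of_isFiniteType (F.restrict a.ι) hNft (isAffineOpen_top _)
  obtain ⟨n, t, ht⟩ := Module.Finite.exists_fin (R := Γ((a : Scheme.{u}), ⊤))
    (M := Γ(F.restrict a.ι, ⊤))
  haveI : Epi (homOfSections (F.restrict a.ι) t) :=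
    Groth.Agent.H4.GenSec.epi_homOfSections_of_isAffine (F.restrict a.ι) t ht
  refine ⟨(Scheme.Modules.pushforward a.ι).obj (FlatMod.freeMod (a : Scheme.{u}) n),
    (Scheme.Modules.pushforward a.ι).map (homOfSections (F.restrict a.ι) t),
    qc_pushforward _ _, tfsec_push_free hd ha n, ?_⟩
  exact epi_pushforward_of_affine a.ι inferInstance hNq _

/-- the inductive construction over a finite family of affine opens. -/
theorem key [IsIntegral Y]
    (hd : ∀ V W : Y.Opens, IsAffineOpen V → IsAffineOpen W → IsAffineOpen (V ⊓ W))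
    (F : Y.Modules) [F.IsQuasicoherent] (hF : F.IsFiniteType) :
    ∀ s : Finset Y.Opens, (∀ U ∈ s, IsAffineOpen U) →
      ∃ (M' T' : Y.Modules) (i : F ⟶ M') (q : T' ⟶ M'), M'.IsQuasicoherent ∧
        T'.IsQuasicoherent ∧ TFsec T' ∧ Epi q ∧
        ∀ U ∈ s, ∀ V : Y.Opens, V ≤ U → Function.Injective (i.app V) := by
  classical
  intro s
  induction s using Finset.induction_on with
  | empty =>
    intro _
    haveI := isAffineHom_ι hd (isAffineOpen_bot Y)
    haveI : QuasiCompact (⊥ : Y.Opens).ι := inferInstance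
    obtain ⟨T, q, hTq, hTtf, hq⟩ := exists_tf_epi_pushRes hd F hF (isAffineOpen_bot Y)
    refine ⟨pushRes F ⊥, T, toPushRes F ⊥, q, qc_pushforward _ _, hTq, hTtf, hq, ?_⟩
    intro U hU
    simp at hU
  | insert a s ha ih =>
    intro hs
    obtain ⟨M', T', i, q, hMq, hTq, hTtf, hq, hinj⟩ :=
      ih (fun U hU => hs U (Finset.mem_insert_of_mem hU))
    have haff : IsAffineOpen a := hs a (Finset.mem_insert_self a s)
    haveI := isAffineHom_ι hd haff
    haveI : QuasiCompact a.ι := inferInstance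
    obtain ⟨T, qa, hTaq, hTatf, hqa⟩ := exists_tf_epi_pushRes hd F hF haff
    haveI := hq
    haveI := hqa
    refine ⟨M' ⊞ pushRes F a, T' ⊞ T, biprod.lift i (toPushRes F a), biprod.map q qa,
      qc_biprod _ _ hMq (qc_pushforward _ _), qc_biprod _ _ hTq hTaq,
      tfsec_biprod _ _ hTtf hTatf, inferInstance, ?_⟩
    intro U hU V hVU x y hxy
    rcases Finset.mem_insert.mp hU with rfl | hU
    · apply toPushRes_app_injective F hVU
      have := congrArg ((biprod.snd : M' ⊞ pushRes F U ⟶ pushRes F U).app V) hxy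
      rw [← comp_app_apply, ← comp_app_apply, biprod.lift_snd] at this
      exact this
    · apply hinj U hU V hVU
      have := congrArg ((biprod.fst : M' ⊞ pushRes F a ⟶ M').app V) hxy
      rw [← comp_app_apply, ← comp_app_apply, biprod.lift_fst] at this
      exact this

/-- on a quasi-compact quasi-separated scheme, a quasi-coherent module mapping onto a module of
finite type contains a submodule of finite type which still maps onto it. -/
theorem exists_finiteType_sub_epi [CompactSpace Y] [QuasiSeparatedSpace Y] (H F : Y.Modules)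
    [H.IsQuasicoherent] [F.IsQuasicoherent] (hF : F.IsFiniteType) (π : H ⟶ F) [Epi π] :
    ∃ (H' : Y.Modules) (u : H' ⟶ H), Mono u ∧ H'.IsQuasicoherent ∧ H'.IsFiniteType ∧
      Epi (u ≫ π) := by
  classical
  obtain ⟨t, ht, e⟩ := (isCompact_and_isOpen_iff_finite_and_eq_biUnion_affineOpens
    (X := Y) (U := Set.univ)).mp ⟨isCompact_univ, isOpen_univ⟩
  have hgen : ∀ U : Y.affineOpens, ∃ S : Finset Γ(F, U.1),
      Submodule.span Γ(Y, U.1) (S : Set Γ(F, U.1)) = ⊤ := by
    intro U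
    haveI := finite_sections_of_isFiniteType F hF U.2
    exact Module.Finite.fg_top
  choose S hS using hgen
  have hsurj : ∀ (U : Y.affineOpens) (f : Γ(F, U.1)), ∃ h : Γ(H, U.1), π.app U.1 h = f :=
    fun U f => epi_app_affine inferInstance inferInstance π U.2 f
  choose lift hlift using hsurj
  obtain ⟨H', u, hu, hH'q, hH'ft, hmem⟩ := exists_sub_finiteType_of_sections H
    (ι := Σ U : Y.affineOpens, Γ(F, U.1)) (ht.toFinset.sigma S) (fun p => p.1)
    (fun p => lift p.1 p.2)
  refine ⟨H', u, hu, hH'q, hH'ft, ?_⟩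
  haveI := hH'q
  apply Groth.Agent.H5.Lim.epi_of_surjective_affine_cover
  intro x
  have hx : x ∈ (Set.univ : Set Y) := trivial
  rw [e] at hx
  obtain ⟨U, hU, hxU⟩ := Set.mem_iUnion₂.mp hx
  refine ⟨U.1, U.2, hxU, ?_⟩
  have hrange : LinearMap.range (appLinear (u ≫ π) U.1) = ⊤ := by
    rw [eq_top_iff, ← hS U, Submodule.span_le]
    intro f hf
    obtain ⟨g, hg⟩ := hmem ⟨U, f⟩
      (Finset.mem_sigma.mpr ⟨ht.mem_toFinset.mpr hU, Finset.mem_coe.mp hf⟩)
    have hg' : u.app U.1 g = lift U f := hg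
    refine ⟨g, ?_⟩
    have e1 : appLinear (u ≫ π) U.1 g = π.app U.1 (u.app U.1 g) := rfl
    rw [e1, hg', hlift]
  intro f
  obtain ⟨g, hg⟩ := (LinearMap.range_eq_top.mp hrange) f
  exact ⟨g, hg⟩

/-- **torsion-free coherent covers** on a Noetherian integral scheme with affine diagonal. -/
theorem exists_tf_cover [IsNoetherian Y] [IsIntegral Y]
    (hd : ∀ V W : Y.Opens, IsAffineOpen V → IsAffineOpen W → IsAffineOpen (V ⊓ W))
    (F : Y.Modules) (hF : Coh.IsCoh F) :
    ∃ (F' : Y.Modules) (π : F' ⟶ F), Coh.IsCoh F' ∧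
      (∀ y : Y, NoZeroSMulDivisors (Y.presheaf.stalk y) (F'.presheaf.stalk y)) ∧ Epi π := by
  classical
  haveI := hF.1
  obtain ⟨t, ht, e⟩ := (isCompact_and_isOpen_iff_finite_and_eq_biUnion_affineOpens
    (X := Y) (U := Set.univ)).mp ⟨isCompact_univ, isOpen_univ⟩
  obtain ⟨M', T', i, q, hMq, hTq, hTtf, hq, hinj⟩ :=
    key hd F hF.2 (ht.toFinset.image (fun U => U.1)) (by
      intro U hU
      obtain ⟨U', -, rfl⟩ := Finset.mem_image.mp hU
      exact U'.2)
  have hall : ∀ W : Y.Opens, Function.Injective (i.app W) := by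
    intro W x y hxy
    refine TopCat.Sheaf.eq_of_locally_eq' ⟨_, F.isSheaf⟩ (fun U : t => W ⊓ U.1.1) W
      (fun U => homOfLE inf_le_left) ?_ x y ?_
    · intro z hz
      have hz' : z ∈ (Set.univ : Set Y) := trivial
      rw [e] at hz'
      obtain ⟨U, hU, hzU⟩ := Set.mem_iUnion₂.mp hz'
      exact Opens.mem_iSup.mpr ⟨⟨U, hU⟩, hz, hzU⟩
    · intro U
      apply hinj U.1.1 (Finset.mem_image.mpr ⟨U.1, ht.mem_toFinset.mpr U.2, rfl⟩)
        (W ⊓ U.1.1) inf_le_right
      have h1 := app_res i (inf_le_left : W ⊓ U.1.1 ≤ W) x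
      have h2 := app_res i (inf_le_left : W ⊓ U.1.1 ≤ W) y
      exact h1.trans ((congrArg _ hxy).trans h2.symm)
  haveI : Mono i := Groth.Agent.H3.ZClosLib.mono_of_app_injective i hall
  haveI := hq
  haveI : Epi (pullback.fst i q) := inferInstance
  haveI : Mono (pullback.snd i q) := inferInstance
  have hHq : (pullback i q).IsQuasicoherent := by
    apply qc_limit
    rintro (_ | _ | _)
    · exact hMq
    · exact hF.1
    · exact hTq
  haveI := hHq
  have hHtf : TFsec (pullback i q) := tfsec_of_mono (pullback.snd i q) hTtf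
  obtain ⟨H', u, hu, hH'q, hH'ft, hepi⟩ :=
    exists_finiteType_sub_epi (pullback i q) F hF.2 (pullback.fst i q)
  haveI := hu
  refine ⟨H', u ≫ pullback.fst i q, ⟨hH'q, hH'ft⟩, ?_, hepi⟩
  intro y
  exact noZeroSMulDivisors_stalk H' (tfsec_of_mono u hHtf) y

end Groth.Agent.LD.TF
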