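import Mathlib
import Groth.Agent.Lib.Lead.QC.TorsionFreeCover
import Groth.Agent.Lib.Lead.QC.CounitEpi
import Groth.Agent.Lib.Lead.QC.AmpleGG
import Groth.Agent.Lib.Lead.QC.InvEpi
import Groth.Agent.Lib.Lead.QC.AmpleFamily
import Groth.Agent.Lib.Lead.QC.TensorPow
import Groth.Agent.Lib.Lead.QC.TensorQC
import Groth.Agent.Lib.Lead.QC.LocFree2
import Groth.Agent.Lib.Lead.QC.PullInv
import Groth.Agent.Lib.Lead.QC.Push
import Groth.Agent.Lib.Lead.QC.Pullback
import Groth.Agent.Lib.Lead.QC.SepAmple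
import Groth.Agent.Lib.Helper5.Glue.F
import Groth.Prelude.Def_PerfAux
import Groth.Prelude.Def_LCI2

/-! # The resolution property passes up along morphisms with a relatively ample module. -/

set_option autoImplicit false
universe u
open CategoryTheory Limits Opposite AlgebraicGeometry TopologicalSpace

namespace Groth.Agent.LD.RP2
open Groth.Agent.LD.QC

variable {X : Scheme.{u}}

/-- a finite locally free quasi-coherent module is free over arbitrarily small affine opens. -/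
theorem exists_affine_equiv_of_isFinLocFree (M : X.Modules) [M.IsQuasicoherent]
    (h : FlatMod.IsFinLocFree M) (W₀ : X.Opens) (x : X) (hx : x ∈ W₀) :
    ∃ (U : X.Opens) (n : ℕ), IsAffineOpen U ∧ x ∈ U ∧ U ≤ W₀ ∧
      Nonempty (Γ(M, U) ≃ₗ[Γ(X, U)] (Fin n → Γ(X, U))) := by
  obtain ⟨W, n, hxW, ⟨e⟩⟩ := h x
  obtain ⟨U, hU, hxU, hUW⟩ :=
    exists_isAffineOpen_mem_and_subset (x := x) (U := W ⊓ W₀) ⟨hxW, hx⟩
  have hr : Set.range hU.fromSpec ⊆ Set.range W.ι := by
    rw [hU.range_fromSpec, Scheme.Opens.range_ι]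
    exact fun y hy => (hUW hy).1
  have h1 := freeMod_of_range_subset M W.ι hU.fromSpec hr n e
  exact ⟨U, n, hU, hxU, fun y hy => (hUW hy).2,
    (restrict_fromSpec_iso_freeMod_iff M hU n).mp h1⟩

/-- the tensor product of a finite locally free module with an invertible module is finite
locally free. -/
theorem isFinLocFree_tensorMod_of_isInvertible (E D : X.Modules) (hE : FlatMod.IsFinLocFree E)
    (hD : PicF.IsInvertible D) : FlatMod.IsFinLocFree (CohB1.tensorMod E D) := by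
  haveI := qc_of_isFinLocFree E hE
  haveI := qc_of_isInvertible D hD
  haveI := tensorMod_isQuasicoherent E D
  rw [isFinLocFree_iff]
  intro x
  obtain ⟨U', e, hxU', he⟩ := (isInvertible_iff_exists_isBasisOver D).mp hD x
  obtain ⟨U, n, hU, hxU, hUU', ⟨φ⟩⟩ := exists_affine_equiv_of_isFinLocFree E hE U' x hxU'
  refine ⟨U, n, hU, hxU, ⟨?_⟩⟩
  have hbij := bijective_tmul_of_isBasisOver E D he U hUU'
  let τ : Γ(E, U) →ₗ[Γ(X, U)] Γ(CohB1.tensorMod E D, U) :=
    { toFun := fun t => SecTwist.tmul E D U t (D.presheaf.map (homOfLE hUU').op e)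
      map_add' := fun a b => tmul_add_left E D U a b _
      map_smul' := fun a t => tmul_smul_left E D U a t _ }
  exact (LinearEquiv.ofBijective τ hbij).symm.trans φ

variable {Y : Scheme.{u}}

/-- a morphism carrying a relatively ample module is quasi-separated. -/
theorem quasiSeparated_of_isRelAmple (f : X ⟶ Y) (L : X.Modules)
    (hL : RelAmple.IsRelAmple f L) : QuasiSeparated f := by
  rw [HasAffineProperty.eq_targetAffineLocally (P := @QuasiSeparated)]
  intro V
  have hA := hL.2 V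
  haveI : Scheme.IsSeparated (f ⁻¹ᵁ V.1 : Scheme.{u}) :=
    isSeparated_of_affine_genLocus _ hA.1 hA.2.2
  show QuasiSeparatedSpace (f ⁻¹ᵁ V.1 : Scheme.{u})
  infer_instance

/-- the basic construction: if `T` on `X` is generated, over the members of a finite affine cover
subordinate to affine opens of `Y`, by finitely many sections coming from `Y`, then `T` is a
quotient of the pullback of a finite locally free module on `Y`. -/
theorem exists_finLocFree_epi_of_span (f : X ⟶ Y) [QuasiCompact f]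
    [QuasiSeparated f] [CompactSpace Y] [QuasiSeparatedSpace Y]
    (hY : PerfAux.HasResolutionProperty Y) (T : X.Modules) [T.IsQuasicoherent]
    {ι : Type*} (s : Finset ι) (V : ι → Y.affineOpens) (U : ι → X.Opens)
    (hU : ∀ i, IsAffineOpen (U i)) (hUV : ∀ i, U i ≤ f ⁻¹ᵁ (V i).1)
    (hcov : ∀ x : X, ∃ i ∈ s, x ∈ U i)
    (S : ∀ i, Finset Γ(T, f ⁻¹ᵁ (V i).1))
    (hS : ∀ i ∈ s, Submodule.span Γ(X, U i)
      ((fun τ : Γ(T, f ⁻¹ᵁ (V i).1) => T.presheaf.map (homOfLE (hUV i)).op τ) ''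
        (S i : Set Γ(T, f ⁻¹ᵁ (V i).1))) = ⊤) :
    ∃ (E : Y.Modules) (ψ : (Scheme.Modules.pullback f).obj E ⟶ T),
      FlatMod.IsFinLocFree E ∧ Epi ψ := by
  classical
  haveI hPq : ((Scheme.Modules.pushforward f).obj T).IsQuasicoherent := qc_pushforward f T
  obtain ⟨N, u, hu, hNq, hNft, hmem⟩ := exists_sub_finiteType_of_sections
    ((Scheme.Modules.pushforward f).obj T)
    (ι := Σ i : ι, Γ(T, f ⁻¹ᵁ (V i).1)) (s.sigma S) (fun p => V p.1)
    (fun p => (show Γ((Scheme.Modules.pushforward f).obj T, (V p.1).1) from p.2))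
  obtain ⟨E, π, hE, hπ⟩ := hY N hNq hNft
  haveI := hπ
  haveI hEq : E.IsQuasicoherent := qc_of_isFinLocFree E hE
  haveI := hNq
  haveI : ((Scheme.Modules.pullback f).obj E).IsQuasicoherent := qc_pullback f E
  obtain ⟨ψ, hψ⟩ : ∃ ψ : (Scheme.Modules.pullback f).obj E ⟶ T,
      ψ = (Scheme.Modules.pullback f).map (π ≫ u) ≫
        (Scheme.Modules.pullbackPushforwardAdjunction f).counit.app T := ⟨_, rfl⟩
  refine ⟨E, ψ, hE, ?_⟩
  apply Groth.Agent.H5.Lim.epi_of_surjective_affine_cover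
  intro x
  obtain ⟨i, his, hxi⟩ := hcov x
  refine ⟨U i, hU i, hxi, ?_⟩
  have hrange : LinearMap.range (appLinear ψ (U i)) = ⊤ := by
    rw [eq_top_iff, ← hS i his, Submodule.span_le]
    rintro _ ⟨τ, hτ, rfl⟩
    obtain ⟨g, hg⟩ := hmem ⟨i, τ⟩ (Finset.mem_sigma.mpr ⟨his, Finset.mem_coe.mp hτ⟩)
    obtain ⟨e', he'⟩ := epi_app_affine hEq hNq π (V i).2 g
    refine ⟨pbSec f E (hUV i) e', ?_⟩
    have e1 : appLinear ψ (U i) (pbSec f E (hUV i) e') =
      ψ.app (U i) (pbSec f E (hUV i) e') := rfl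
    rw [e1, hψ]
    change ((Scheme.Modules.pullbackPushforwardAdjunction f).counit.app T).app (U i)
      (((Scheme.Modules.pullback f).map (π ≫ u)).app (U i) (pbSec f E (hUV i) e')) = _
    rw [pbSec_naturality]
    have e2 : (π ≫ u).app (V i).1 e' =
        (show Γ((Scheme.Modules.pushforward f).obj T, (V i).1) from τ) := by
      change u.app (V i).1 (π.app (V i).1 e') = _
      rw [he']
      exact hg
    rw [e2]
    exact counit_pbSec f T (hUV i) τ
  intro m
  obtain ⟨g, hg⟩ := (LinearMap.range_eq_top.mp hrange) m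
  exact ⟨g, hg⟩

/-- **the resolution property passes up along a morphism with a relatively ample module.** -/
theorem resolutionProperty_of_isRelAmple (f : X ⟶ Y) [CompactSpace Y] [QuasiSeparatedSpace Y]
    (hY : PerfAux.HasResolutionProperty Y) (L : X.Modules) (hL : RelAmple.IsRelAmple f L) :
    PerfAux.HasResolutionProperty X := by
  classical
  intro M hMq hMft
  haveI : M.IsQuasicoherent := hMq
  haveI : QuasiCompact f := hL.1
  haveI : QuasiSeparated f := quasiSeparated_of_isRelAmple f L hL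
  haveI : CompactSpace X := QuasiCompact.compactSpace_of_compactSpace f
  have hLinv := isInvertible_of_isRelAmple f L hL
  obtain ⟨n₀, -, hn₀⟩ := exists_epi_counit_of_isRelAmple f L hL M hMft
  have hε := hn₀ n₀ le_rfl
  obtain ⟨N, hN⟩ : ∃ N, N = CohB1.tensorPow L n₀ := ⟨_, rfl⟩
  rw [← hN] at hε
  have hNinv : PicF.IsInvertible N := by
    rw [hN]; exact isInvertible_tensorPow hLinv n₀
  haveI : N.IsQuasicoherent := qc_of_isInvertible N hNinv
  obtain ⟨T, hT⟩ : ∃ T, T = CohB1.tensorMod M N := ⟨_, rfl⟩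
  rw [← hT] at hε
  haveI hTq : T.IsQuasicoherent := by
    rw [hT]; exact tensorMod_isQuasicoherent M N
  have hTft : T.IsFiniteType := by
    rw [hT]; exact isFiniteType_tensorMod_of_isInvertible M hMft N hNinv
  have hVU : ∀ x : X, ∃ (V : Y.affineOpens) (U : X.Opens),
      IsAffineOpen U ∧ x ∈ U ∧ U ≤ f ⁻¹ᵁ V.1 := by
    intro x
    obtain ⟨V, hV, hxV, -⟩ := exists_isAffineOpen_mem_and_subset (x := f x) (U := ⊤) trivial
    obtain ⟨U, hU, hxU, hUV⟩ :=
      exists_isAffineOpen_mem_and_subset (x := x) (U := f ⁻¹ᵁ V) hxV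
    exact ⟨⟨V, hV⟩, U, hU, hxU, hUV⟩
  choose V U hU hxU hUV using hVU
  obtain ⟨Z, hZ⟩ := isCompact_univ.elim_finite_subcover
    (fun x : X => ((U x : X.Opens) : Set X))
    (fun x => (U x).2) (fun x _ => Set.mem_iUnion.mpr ⟨x, hxU x⟩)
  have hgen : ∀ x : X, ∃ S : Finset Γ(T, f ⁻¹ᵁ (V x).1), Submodule.span Γ(X, U x)
      ((fun τ : Γ(T, f ⁻¹ᵁ (V x).1) => T.presheaf.map (homOfLE (hUV x)).op τ) ''
        (S : Set Γ(T, f ⁻¹ᵁ (V x).1))) = ⊤ := by
    intro x
    haveI := finite_sections_of_isFiniteType T hTft (hU x)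
    have h1 := span_range_res_of_counit_epi f T hε (hU x) (V x).2 (hUV x)
    have h2 : (Submodule.span Γ(X, U x) (Set.range (fun a : Γ(T, f ⁻¹ᵁ (V x).1) =>
        T.presheaf.map (homOfLE (hUV x)).op a))).FG := by
      rw [h1]; exact Module.Finite.fg_top
    obtain ⟨s', hs', hs'eq⟩ := (Submodule.fg_span_iff_fg_span_finset_subset _).mp h2
    rw [← Set.image_univ] at hs'
    obtain ⟨S, -, hS⟩ := Finset.subset_set_image_iff.mp hs'
    refine ⟨S, ?_⟩
    rw [← Finset.coe_image, hS, ← hs'eq]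
    exact h1
  choose S hS using hgen
  obtain ⟨E, ψ, hE, hψ⟩ := exists_finLocFree_epi_of_span f hY T Z V U hU hUV
    (fun x => by
      obtain ⟨z, hzZ, hxz⟩ := Set.mem_iUnion₂.mp (hZ (Set.mem_univ x))
      exact ⟨z, hzZ, hxz⟩) S (fun x _ => hS x)
  obtain ⟨D, hD, ⟨ε⟩⟩ := Groth.Agent.H5.Glue.exists_inverse N hNinv
  haveI : D.IsQuasicoherent := qc_of_isInvertible D hD
  let α : CohB1.tensorMod (CohB1.tensorMod M N) D ≅ M :=
    tensorAssoc M N D ≪≫ tensorIso' (Iso.refl M) ε ≪≫ SecTwist.unitorR M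
  have h2 := epi_tensorMap_of_isInvertible ψ hψ D hD
  subst hT
  exact ⟨CohB1.tensorMod ((Scheme.Modules.pullback f).obj E) D,
    KoszTw.tensorMap ψ (𝟙 D) ≫ α.hom,
    isFinLocFree_tensorMod_of_isInvertible _ D (isFinLocFree_pullback f E hE) hD,
    @epi_comp _ _ _ _ _ _ h2 _ inferInstance⟩

end Groth.Agent.LD.RP2
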