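import Groth.Agent.Lib.Lead.QC.UnitIso
import Groth.Agent.Lib.Lead.QC.FreeHom
import Mathlib.CategoryTheory.Idempotents.Basic
import Mathlib.Algebra.Module.Projective

/-! # Retracts of finite free modules versus finite projective modules over global functions. -/

universe u
open CategoryTheory Limits AlgebraicGeometry TopologicalSpace Opposite

namespace Groth.Agent.LD.QC
variable {X : Scheme.{u}}

/-- global sections as a functor to modules over the ring of global functions. -/
noncomputable def ΓFun (X : Scheme.{u}) : X.Modules ⥤ ModuleCat.{u} Γ(X, ⊤) where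
  obj M := ModuleCat.of Γ(X, ⊤) Γ(M, ⊤)
  map {M N} φ := ModuleCat.ofHom
    { toFun := fun x => φ.app ⊤ x
      map_add' := fun x y => map_add (φ.app ⊤).hom x y
      map_smul' := fun r x => φ.app_smul r x }
  map_id M := by
    ext x
    rfl
  map_comp φ ψ := by
    ext x
    rfl

lemma ΓFun_map_apply {M N : X.Modules} (φ : M ⟶ N) (x : Γ(M, ⊤)) :
    ((ΓFun X).map φ).hom x = φ.app ⊤ x := rfl

lemma sum_app {M N : X.Modules} {ι : Type*} (s : Finset ι) (f : ι → (M ⟶ N)) (U : X.Opens)
    (x : Γ(M, U)) : (∑ i ∈ s, f i).app U x = ∑ i ∈ s, (f i).app U x := by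
  classical
  induction s using Finset.induction_on with
  | empty => simp
  | insert a s ha ih =>
    rw [Finset.sum_insert ha, Finset.sum_insert ha, Scheme.Modules.Hom.add_app]
    change (f a).app U x + (∑ i ∈ s, f i).app U x = _
    rw [ih]

/-- the basis sections of the free module. -/
noncomputable def eSec (n : ℕ) (j : Fin n) : Γ(freeMod X n, ⊤) :=
  sectionOfHom (Sigma.ι (fun _ : Fin n => unitMod X) j)

/-- the coordinates of a section of the free module. -/
noncomputable def coord (n : ℕ) (j : Fin n) : Γ(freeMod X n, ⊤) →ₗ[Γ(X, ⊤)] Γ(X, ⊤) where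
  toFun x := (freeModProj (X := X) n j).app ⊤ x
  map_add' x y := map_add ((freeModProj (X := X) n j).app ⊤).hom x y
  map_smul' r x := (freeModProj (X := X) n j).app_smul r x

lemma ι_app_eq_smul (n : ℕ) (j : Fin n) (a : Γ(X, ⊤)) :
    (Sigma.ι (fun _ : Fin n => unitMod X) j).app ⊤ a = a • eSec (X := X) n j := by
  rw [eSec, sectionOfHom, ← Scheme.Modules.Hom.app_smul]
  congr 1
  exact (mul_one a).symm

lemma eq_sum_coord_smul (n : ℕ) (x : Γ(freeMod X n, ⊤)) :
    x = ∑ j, coord (X := X) n j x • eSec n j := by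
  have h := congrArg (fun φ : freeMod X n ⟶ freeMod X n => φ.app ⊤ x) (freeMod_total (X := X) n)
  simp only at h
  rw [sum_app] at h
  have h2 : (𝟙 (freeMod X n) : freeMod X n ⟶ freeMod X n).app ⊤ x = x := rfl
  rw [h2] at h
  refine h.symm.trans (Finset.sum_congr rfl fun j _ => ?_)
  change (Sigma.ι (fun _ : Fin n => unitMod X) j).app ⊤ ((freeModProj (X := X) n j).app ⊤ x) = _
  rw [ι_app_eq_smul]
  rfl

lemma coord_eSec (n : ℕ) (i j : Fin n) :
    coord (X := X) n i (eSec n j) = if j = i then 1 else 0 := by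
  change (freeModProj (X := X) n i).app ⊤ ((Sigma.ι (fun _ : Fin n => unitMod X) j).app ⊤
    (1 : Γ(X, ⊤))) = _
  have h : Sigma.ι (fun _ : Fin n => unitMod X) j ≫ freeModProj (X := X) n i =
      if j = i then 𝟙 _ else 0 := by
    rw [freeModProj, Sigma.ι_desc]
  have h2 := congrArg (fun φ : unitMod X ⟶ unitMod X => φ.app ⊤ (1 : Γ(X, ⊤))) h
  simp only at h2
  rw [Scheme.Modules.Hom.comp_app] at h2
  rw [ConcreteCategory.comp_apply] at h2
  rw [h2]
  split_ifs
  · rfl
  · rfl

lemma linearMap_ext_freeMod {N' : Type*} [AddCommGroup N'] [Module Γ(X, ⊤) N'] {n : ℕ}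
    (f g : Γ(freeMod X n, ⊤) →ₗ[Γ(X, ⊤)] N') (h : ∀ j, f (eSec n j) = g (eSec n j)) : f = g := by
  ext x
  rw [eq_sum_coord_smul n x, map_sum, map_sum]
  refine Finset.sum_congr rfl fun j _ => ?_
  rw [map_smul, map_smul, h j]

lemma sectionsOfHom_eq {M : X.Modules} {n : ℕ} (k : freeMod X n ⟶ M) (j : Fin n) :
    sectionsOfHom k j = k.app ⊤ (eSec n j) := rfl

/-- `Γ` is bijective on morphisms out of a finite free module. -/
theorem ΓFun_map_bijective_freeMod (n : ℕ) (M : X.Modules) :
    Function.Bijective (fun k : freeMod X n ⟶ M => (ΓFun X).map k) := by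
  constructor
  · intro k k' h
    apply hom_ext_sections
    funext j
    rw [sectionsOfHom_eq, sectionsOfHom_eq]
    exact congrArg (fun φ : (ΓFun X).obj (freeMod X n) ⟶ (ΓFun X).obj M => φ.hom (eSec n j)) h
  · intro h
    refine ⟨homOfSections M (fun j => h.hom (eSec n j)), ?_⟩
    apply ModuleCat.hom_ext
    apply linearMap_ext_freeMod
    intro j
    exact congrFun (sectionsOfHom_homOfSections M (fun j => h.hom (eSec n j))) j

/-- the property of being a retract of a finite free module. -/
def IsRetractFree (M : X.Modules) : Prop :=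
  ∃ (n : ℕ) (i : M ⟶ freeMod X n) (r : freeMod X n ⟶ M), i ≫ r = 𝟙 M

/-- `Γ` is bijective on morphisms out of a retract of a finite free module. -/
theorem ΓFun_map_bijective_of_retract {M : X.Modules} (hM : IsRetractFree M) (N : X.Modules) :
    Function.Bijective (fun k : M ⟶ N => (ΓFun X).map k) := by
  obtain ⟨n, i, r, hir⟩ := hM
  obtain ⟨hinj, hsurj⟩ := ΓFun_map_bijective_freeMod n N
  constructor
  · intro f g h
    have h1 : r ≫ f = r ≫ g := by
      apply hinj
      change (ΓFun X).map (r ≫ f) = (ΓFun X).map (r ≫ g)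
      rw [(ΓFun X).map_comp, (ΓFun X).map_comp]
      exact congrArg (fun t => (ΓFun X).map r ≫ t) h
    have h2 : i ≫ r ≫ f = i ≫ r ≫ g := by rw [h1]
    rwa [← Category.assoc, ← Category.assoc, hir, Category.id_comp, Category.id_comp] at h2
  · intro h
    obtain ⟨k, hk⟩ := hsurj ((ΓFun X).map r ≫ h)
    refine ⟨i ≫ k, ?_⟩
    change (ΓFun X).map (i ≫ k) = h
    have hk' : (ΓFun X).map k = (ΓFun X).map r ≫ h := hk
    rw [(ΓFun X).map_comp, hk', ← Category.assoc, ← (ΓFun X).map_comp, hir, (ΓFun X).map_id,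
      Category.id_comp]

/-- sections of a finite free module form a finite free module. -/
theorem finite_free_ΓFun_freeMod (n : ℕ) :
    Module.Finite Γ(X, ⊤) Γ(freeMod X n, ⊤) ∧ Module.Projective Γ(X, ⊤) Γ(freeMod X n, ⊤) := by
  let φ : (Fin n → Γ(X, ⊤)) →ₗ[Γ(X, ⊤)] Γ(freeMod X n, ⊤) :=
    { toFun := fun c => ∑ j, c j • eSec n j
      map_add' := fun c c' => by
        simp only [Pi.add_apply, add_smul, Finset.sum_add_distrib]
      map_smul' := fun r c => by
        simp only [Pi.smul_apply, smul_eq_mul, mul_smul, RingHom.id_apply, Finset.smul_sum] }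
  let ψ : Γ(freeMod X n, ⊤) →ₗ[Γ(X, ⊤)] (Fin n → Γ(X, ⊤)) := LinearMap.pi fun j => coord n j
  have h1 : φ.comp ψ = LinearMap.id := by
    ext x
    exact (eq_sum_coord_smul n x).symm
  have h2 : ψ.comp φ = LinearMap.id := by
    refine LinearMap.ext fun c => funext fun i => ?_
    change coord n i (∑ j, c j • eSec n j) = c i
    rw [map_sum]
    simp_rw [map_smul, coord_eSec]
    simp
  let e : (Fin n → Γ(X, ⊤)) ≃ₗ[Γ(X, ⊤)] Γ(freeMod X n, ⊤) := LinearEquiv.ofLinear φ ψ h1 h2
  exact ⟨Module.Finite.equiv e, Module.Projective.of_equiv e⟩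

/-- sections of a retract of a finite free module are finite projective. -/
theorem finite_projective_of_retract {M : X.Modules} (hM : IsRetractFree M) :
    Module.Finite Γ(X, ⊤) Γ(M, ⊤) ∧ Module.Projective Γ(X, ⊤) Γ(M, ⊤) := by
  obtain ⟨n, i, r, hir⟩ := hM
  obtain ⟨hf, hp⟩ := finite_free_ΓFun_freeMod (X := X) n
  haveI : Module.Finite Γ(X, ⊤) ((ΓFun X).obj (freeMod X n)) := hf
  haveI : Module.Projective Γ(X, ⊤) ((ΓFun X).obj (freeMod X n)) := hp
  have hcomp : ((ΓFun X).map r).hom.comp ((ΓFun X).map i).hom = LinearMap.id := by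
    have h0 : (ΓFun X).map i ≫ (ΓFun X).map r = 𝟙 _ := by
      rw [← (ΓFun X).map_comp, hir, (ΓFun X).map_id]
    exact congrArg ModuleCat.Hom.hom h0
  have hsurj : Function.Surjective ((ΓFun X).map r).hom := fun y =>
    ⟨((ΓFun X).map i).hom y, LinearMap.congr_fun hcomp y⟩
  constructor
  · exact Module.Finite.of_surjective ((ΓFun X).map r).hom hsurj
  · exact Module.Projective.of_split ((ΓFun X).map i).hom ((ΓFun X).map r).hom hcomp

/-- every finite projective module over the global functions is the module of sections of a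
retract of a finite free module. -/
theorem exists_retract_of_finite_projective (N : ModuleCat.{u} Γ(X, ⊤))
    [Module.Finite Γ(X, ⊤) N] [Module.Projective Γ(X, ⊤) N] :
    ∃ M : X.Modules, IsRetractFree M ∧ Nonempty ((ΓFun X).obj M ≅ N) := by
  obtain ⟨n, y, hy⟩ := Module.Finite.exists_fin (R := Γ(X, ⊤)) (M := N)
  -- the surjection from sections of the free module
  let p : Γ(freeMod X n, ⊤) →ₗ[Γ(X, ⊤)] N :=
    ∑ j, (coord (X := X) n j).smulRight (y j)
  have hp_e : ∀ j, p (eSec n j) = y j := by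
    intro j
    change (∑ i, (coord (X := X) n i).smulRight (y i)) (eSec n j) = y j
    rw [LinearMap.sum_apply]
    simp_rw [LinearMap.smulRight_apply, coord_eSec]
    simp
  have hp : Function.Surjective p := by
    rw [← LinearMap.range_eq_top, eq_top_iff, ← hy, Submodule.span_le]
    rintro _ ⟨j, rfl⟩
    exact ⟨eSec n j, hp_e j⟩
  obtain ⟨s, hs⟩ := Module.projective_lifting_property p LinearMap.id hp
  -- the idempotent
  obtain ⟨ε, hε⟩ := (ΓFun_map_bijective_freeMod n (freeMod X n)).2
    (ModuleCat.ofHom (s.comp p))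
  have hε' : (ΓFun X).map ε = ModuleCat.ofHom (s.comp p) := hε
  have hidem : ε ≫ ε = ε := by
    apply (ΓFun_map_bijective_freeMod n (freeMod X n)).1
    change (ΓFun X).map (ε ≫ ε) = (ΓFun X).map ε
    rw [(ΓFun X).map_comp, hε']
    apply ModuleCat.hom_ext
    refine LinearMap.ext fun z => ?_
    change s (p (s (p z))) = s (p z)
    rw [show p (s (p z)) = p z from LinearMap.congr_fun hs (p z)]
  obtain ⟨M, i, r, hir, hri⟩ := IsIdempotentComplete.idempotents_split (freeMod X n) ε hidem
  refine ⟨M, ⟨n, i, r, hir⟩, ⟨?_⟩⟩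
  have hri' : ∀ z, ((ΓFun X).map i).hom (((ΓFun X).map r).hom z) = s (p z) := by
    intro z
    have h0 : (ΓFun X).map r ≫ (ΓFun X).map i = ModuleCat.ofHom (s.comp p) := by
      rw [← (ΓFun X).map_comp, hri, hε']
    exact congrArg (fun t : (ΓFun X).obj (freeMod X n) ⟶ (ΓFun X).obj (freeMod X n) => t.hom z) h0
  have hir' : ∀ x, ((ΓFun X).map r).hom (((ΓFun X).map i).hom x) = x := by
    intro x
    have h0 : (ΓFun X).map i ≫ (ΓFun X).map r = 𝟙 _ := by
      rw [← (ΓFun X).map_comp, hir, (ΓFun X).map_id]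
    exact congrArg (fun t : (ΓFun X).obj M ⟶ (ΓFun X).obj M => t.hom x) h0
  have hs' : ∀ y, p (s y) = y := fun y => LinearMap.congr_fun hs y
  refine
    { hom := ModuleCat.ofHom (p.comp ((ΓFun X).map i).hom)
      inv := ModuleCat.ofHom (((ΓFun X).map r).hom.comp s)
      hom_inv_id := ?_
      inv_hom_id := ?_ }
  · apply ModuleCat.hom_ext
    refine LinearMap.ext fun x => ?_
    change ((ΓFun X).map r).hom (s (p (((ΓFun X).map i).hom x))) = x
    rw [← hri', hir', hir']
  · apply ModuleCat.hom_ext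
    refine LinearMap.ext fun y => ?_
    change p (((ΓFun X).map i).hom (((ΓFun X).map r).hom (s y))) = y
    rw [hri', hs', hs']

/-- the equivalence between retracts of finite free modules and finite projective modules over
the ring of global functions. -/
theorem nonempty_equivalence_retractFree (X : Scheme.{u}) :
    Nonempty ((ObjectProperty.FullSubcategory fun M : X.Modules => IsRetractFree M) ≌
      (ObjectProperty.FullSubcategory fun N : ModuleCat.{u} Γ(X, ⊤) =>
        Module.Finite Γ(X, ⊤) N ∧ Module.Projective Γ(X, ⊤) N)) := by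
  let P : ObjectProperty X.Modules := fun M => IsRetractFree M
  let Q : ObjectProperty (ModuleCat.{u} Γ(X, ⊤)) := fun N =>
    Module.Finite Γ(X, ⊤) N ∧ Module.Projective Γ(X, ⊤) N
  let Φ : P.FullSubcategory ⥤ Q.FullSubcategory :=
    Q.lift (P.ι ⋙ ΓFun X) (fun A => finite_projective_of_retract A.property)
  haveI : Φ.Faithful := ⟨fun {A B} f g h => by
    apply ObjectProperty.hom_ext
    apply (ΓFun_map_bijective_of_retract A.property B.obj).1
    exact congrArg (fun t : Φ.obj A ⟶ Φ.obj B => t.hom) h⟩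
  haveI : Φ.Full := ⟨fun {A B} g => by
    obtain ⟨k, hk⟩ := (ΓFun_map_bijective_of_retract A.property B.obj).2 g.hom
    refine ⟨ObjectProperty.homMk k, ?_⟩
    apply ObjectProperty.hom_ext
    exact hk⟩
  haveI : Φ.EssSurj := ⟨fun N => by
    haveI := N.property.1
    haveI := N.property.2
    obtain ⟨M, hM, ⟨e⟩⟩ := exists_retract_of_finite_projective N.obj
    exact ⟨⟨M, hM⟩, ⟨Q.isoMk e⟩⟩⟩
  haveI : Φ.IsEquivalence := {}
  exact ⟨Φ.asEquivalence⟩

end Groth.Agent.LD.QC
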