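import Groth.Agent.Lib.Lead.QC.TensorExact
import Groth.Agent.Lib.Lead.QC.TensorDesc

/-! # Untwisting: the natural isomorphism `(M ⊗ L) ⊗ L' ≅ M` for `L ⊗ L' ≅ O`. -/

universe u
open CategoryTheory Limits AlgebraicGeometry TopologicalSpace Opposite

namespace Groth.Agent.LD.QC
variable {X : Scheme.{u}}

/-- morphisms out of `(G ⊗ M) ⊗ M'`, `M`, `M'` invertible, are determined on double pure
tensors. -/
theorem hom_ext_tmul₂ {G H M M' : X.Modules} (hM : PicF.IsInvertible M)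
    (hM' : PicF.IsInvertible M')
    (ψ ψ' : CohB1.tensorMod (CohB1.tensorMod G M) M' ⟶ H)
    (h : ∀ (U : X.Opens) (g : Γ(G, U)) (m : Γ(M, U)) (m' : Γ(M', U)),
      ψ.app U (SecTwist.tmul _ M' U (SecTwist.tmul G M U g m) m') =
        ψ'.app U (SecTwist.tmul _ M' U (SecTwist.tmul G M U g m) m')) : ψ = ψ' := by
  apply hom_ext_tmul_of_isInvertible hM'
  intro U w m'
  choose V hV hxV e he g hg using fun x : U => exists_local_tmul (G := G) hM U w x.1 x.2
  apply section_ext_of_cover H V hV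
  · intro x hx
    exact Opens.mem_iSup.2 ⟨⟨x, hx⟩, hxV ⟨x, hx⟩⟩
  · intro x
    rw [← app_res, ← app_res, tmul_res, hg x, h]

section Back
variable (L L' : X.Modules) [L.IsQuasicoherent] [L'.IsQuasicoherent]
  (e : CohB1.tensorMod L L' ≅ unitMod X)

/-- `(M ⊗ L) ⊗ L' ≅ M` for `L ⊗ L' ≅ O`. -/
noncomputable def backIso (M : X.Modules) [M.IsQuasicoherent] :
    CohB1.tensorMod (CohB1.tensorMod M L) L' ≅ M :=
  tensorAssoc M L L' ≪≫ tensorIso' (Iso.refl M) e ≪≫ SecTwist.unitorR M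

lemma backIso_hom_app_tmul (M : X.Modules) [M.IsQuasicoherent] (U : X.Opens) (m : Γ(M, U))
    (l : Γ(L, U)) (l' : Γ(L', U)) :
    (backIso L L' e M).hom.app U (SecTwist.tmul _ L' U (SecTwist.tmul M L U m l) l') =
      (show Γ(X, U) from e.hom.app U (SecTwist.tmul L L' U l l')) • m := by
  change (SecTwist.unitorR M).hom.app U ((KoszTw.tensorMap (𝟙 M) e.hom).app U
    ((tensorAssoc M L L').hom.app U _)) = _
  rw [tensorAssoc_hom_app_tmul, KoszTw.tensorMap_tmul]
  exact SecTwist.unitorR_tmul M U _ _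

/-- naturality of the untwisting isomorphism. -/
theorem backIso_naturality (hL : PicF.IsInvertible L) (hL' : PicF.IsInvertible L')
    {M N : X.Modules} [M.IsQuasicoherent] [N.IsQuasicoherent] (φ : M ⟶ N) :
    KoszTw.tensorMap (KoszTw.tensorMap φ (𝟙 L)) (𝟙 L') ≫ (backIso L L' e N).hom =
      (backIso L L' e M).hom ≫ φ := by
  apply hom_ext_tmul₂ hL hL'
  intro U m l l'
  change (backIso L L' e N).hom.app U ((KoszTw.tensorMap (KoszTw.tensorMap φ (𝟙 L)) (𝟙 L')).app U _) =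
    φ.app U ((backIso L L' e M).hom.app U _)
  rw [KoszTw.tensorMap_tmul, KoszTw.tensorMap_tmul, backIso_hom_app_tmul, backIso_hom_app_tmul,
    Scheme.Modules.Hom.app_smul]
  rfl

include e in
/-- a section of `g ⊗ L` gives a section of `g`. -/
theorem exists_section_of_twist (hL : PicF.IsInvertible L) (hL' : PicF.IsInvertible L')
    {M N : X.Modules} [M.IsQuasicoherent] [N.IsQuasicoherent] (g : M ⟶ N)
    (σ : CohB1.tensorMod N L ⟶ CohB1.tensorMod M L)
    (hσ : σ ≫ KoszTw.tensorMap g (𝟙 L) = 𝟙 _) : ∃ s : N ⟶ M, s ≫ g = 𝟙 N := by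
  refine ⟨(backIso L L' e N).inv ≫ KoszTw.tensorMap σ (𝟙 L') ≫ (backIso L L' e M).hom, ?_⟩
  rw [Category.assoc, Category.assoc, ← backIso_naturality L L' e hL hL' g, ← Category.assoc
    (KoszTw.tensorMap σ (𝟙 L')), ← tensorMap_comp_id, hσ, KoszTw.tensorMap_id, Category.id_comp,
    Iso.inv_hom_id]

end Back

end Groth.Agent.LD.QC
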