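import Groth.Agent.Lib.Lead.QC.BasisFam
import Groth.Agent.Lib.Lead.QC.LocFree2

/-! # Pullback of local bases, and the projection formula for finite locally free modules. -/

universe u
open CategoryTheory Limits AlgebraicGeometry TopologicalSpace Opposite TensorProduct

namespace Groth.Agent.LD.QC

lemma bijective_sum_tmul_of_bijective {R S N : Type*} [CommRing R] [CommRing S] [Algebra R S]
    [AddCommGroup N] [Module R N] {n : ℕ} (m : Fin n → N)
    (h : Function.Bijective (fun a : Fin n → R => ∑ i, a i • m i)) :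
    Function.Bijective (fun a : Fin n → S => ∑ i, a i ⊗ₜ[R] m i) := by
  classical
  have h' : Function.Bijective (Fintype.linearCombination R m) := by
    have : ⇑(Fintype.linearCombination R m) = fun a : Fin n → R => ∑ i, a i • m i := by
      funext a
      rw [Fintype.linearCombination_apply]
    rw [this]
    exact h
  let ψ₀ : (Fin n → R) ≃ₗ[R] N := LinearEquiv.ofBijective (Fintype.linearCombination R m) h'
  let b : Module.Basis (Fin n) R N := Module.Basis.ofEquivFun ψ₀.symm
  have hb : ∀ i, b i = m i := by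
    intro i
    rw [Module.Basis.coe_ofEquivFun]
    change ψ₀ (Pi.single i 1) = m i
    change Fintype.linearCombination R m (Pi.single i 1) = m i
    rw [Fintype.linearCombination_apply_single, one_smul]
  let b' := Algebra.TensorProduct.basis S b
  have : (fun a : Fin n → S => ∑ i, a i ⊗ₜ[R] m i) = fun a => b'.equivFun.symm a := by
    funext a
    rw [Module.Basis.equivFun_symm_apply]
    refine Finset.sum_congr rfl (fun i _ => ?_)
    rw [Algebra.TensorProduct.basis_apply, hb, TensorProduct.smul_tmul', smul_eq_mul, mul_one]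
  rw [this]
  exact b'.equivFun.symm.bijective

section Pull
variable {X X' : Scheme.{u}} (g : X' ⟶ X)

lemma IsBasisFam.mono {L : X.Modules} {U V : X.Opens} {n : ℕ} {e : Fin n → Γ(L, U)}
    (he : IsBasisFam L U e) (h : V ≤ U) :
    IsBasisFam L V (fun i => L.presheaf.map (homOfLE h).op (e i)) := by
  intro W hW
  have := he W (hW.trans h)
  simp only [res_res]
  exact this

/-- **the pullback of a local basis is a local basis.** -/
theorem IsBasisFam.pullback {M : X.Modules} [M.IsQuasicoherent] {V : X.Opens} {n : ℕ}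
    {e : Fin n → Γ(M, V)} (he : IsBasisFam M V e) {U' : X'.Opens} (hU' : U' ≤ g ⁻¹ᵁ V) :
    IsBasisFam ((Scheme.Modules.pullback g).obj M) U' (fun i => pbSec g M hU' (e i)) := by
  apply isBasisFam_of_local
  intro x' hx' W hxW
  obtain ⟨V₀, hV₀, hgx, hV₀V'⟩ := exists_isAffineOpen_mem_and_subset (x := g x') (U := V) (hU' hx')
  have hV₀V : V₀ ≤ V := hV₀V'
  obtain ⟨U₀, hU₀, hxU₀, hU₀le⟩ := exists_isAffineOpen_mem_and_subset (x := x')
    (U := U' ⊓ W ⊓ g ⁻¹ᵁ V₀) ⟨⟨hx', hxW⟩, hgx⟩
  have h1 : U₀ ≤ U' := fun y hy => (hU₀le hy).1.1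
  have h2 : U₀ ≤ W := fun y hy => (hU₀le hy).1.2
  have h3 : U₀ ≤ g ⁻¹ᵁ V₀ := fun y hy => (hU₀le hy).2
  refine ⟨U₀, h1, hxU₀, h2, ?_⟩
  simp only [← pbSec_res g M hU' h3 h1 hV₀V]
  letI := (g.appLE V₀ U₀ h3).hom.toAlgebra
  obtain ⟨Φ, hΦ⟩ := exists_pullback_sections_equiv_pbSec g hU₀ hV₀ h3 M
  have hb : Function.Bijective (fun a : Fin n → Γ(X, V₀) =>
      ∑ i, a i • M.presheaf.map (homOfLE hV₀V).op (e i)) := by
    have := he.mono hV₀V V₀ le_rfl
    simp only [res_self] at this
    exact this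
  have h4 := bijective_sum_tmul_of_bijective (S := Γ(X', U₀)) _ hb
  have h5 : (fun a : Fin n → Γ(X', U₀) =>
      ∑ i, a i • pbSec g M h3 (M.presheaf.map (homOfLE hV₀V).op (e i))) =
      fun a => Φ.symm (∑ i, a i ⊗ₜ[Γ(X, V₀)] M.presheaf.map (homOfLE hV₀V).op (e i)) := by
    funext a
    rw [LinearEquiv.eq_symm_apply, map_sum]
    refine Finset.sum_congr rfl (fun i _ => ?_)
    rw [map_smul, hΦ, TensorProduct.smul_tmul', smul_eq_mul, mul_one]
  exact h5 ▸ Φ.symm.bijective.comp h4

end Pull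

section Exists
variable {X : Scheme.{u}}

/-- a finite locally free module has local bases. -/
theorem exists_isBasisFam_of_isFinLocFree (E : X.Modules) (hE : FlatMod.IsFinLocFree E) (x : X) :
    ∃ (U : X.Opens) (n : ℕ) (e : Fin n → Γ(E, U)), x ∈ U ∧ IsBasisFam E U e := by
  obtain ⟨U, n, hxU, ⟨φ⟩⟩ := hE x
  let D := (FreeData.free (U : Scheme.{u}) n).ofIso φ.symm
  exact ⟨U, n, _, hxU, isBasisFam_of_freeData E U D⟩

/-- twisting by a module with a basis over `U`. -/
theorem bijective_tmul_of_isBasisFam (F P : X.Modules) {U : X.Opens} {n : ℕ}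
    {e : Fin n → Γ(P, U)} (he : IsBasisFam P U e) (V : X.Opens) (hV : V ≤ U) :
    Function.Bijective (fun t : Fin n → Γ(F, V) =>
      ∑ i, SecTwist.tmul F P V (t i) (P.presheaf.map (homOfLE hV).op (e i))) := by
  obtain ⟨D, hD⟩ := he.exists_freeData
  have h := bijective_tmul_of_freeData F P U D V hV
  simp only [hD, basisOfIso_homOfSecOver] at h
  exact h

end Exists

section Proj
variable {X Y : Scheme.{u}} (f : X ⟶ Y) (F : X.Modules) (E : Y.Modules)

/-- **the projection formula**, for a finite locally free module. -/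
theorem isIso_projHom_of_isFinLocFree (hE : FlatMod.IsFinLocFree E) : IsIso (projHom f F E) := by
  haveI := qc_of_isFinLocFree E hE
  apply isIso_of_local_bijective
  intro y W hyW
  obtain ⟨V, n, e, hyV, he⟩ := exists_isBasisFam_of_isFinLocFree E hE y
  refine ⟨V ⊓ W, ⟨hyV, hyW⟩, inf_le_right, ?_⟩
  have hV' : V ⊓ W ≤ V := inf_le_left
  have hpre : f ⁻¹ᵁ (V ⊓ W) ≤ f ⁻¹ᵁ V := fun _ hx => hV' hx
  have h1 := bijective_tmul_of_isBasisFam ((Scheme.Modules.pushforward f).obj F) E he (V ⊓ W) hV'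
  have he' := he.pullback f (le_refl (f ⁻¹ᵁ V))
  have h2 := bijective_tmul_of_isBasisFam F ((Scheme.Modules.pullback f).obj E) he'
    (f ⁻¹ᵁ (V ⊓ W)) hpre
  have h3 : (fun t : Fin n → Γ(F, f ⁻¹ᵁ (V ⊓ W)) =>
      ∑ i, SecTwist.tmul F ((Scheme.Modules.pullback f).obj E) (f ⁻¹ᵁ (V ⊓ W)) (t i)
        (((Scheme.Modules.pullback f).obj E).presheaf.map (homOfLE hpre).op
          (pbSec f E (le_refl (f ⁻¹ᵁ V)) (e i)))) =
      (fun z => (projHom f F E).app (V ⊓ W) z) ∘
        (fun t : Fin n → Γ((Scheme.Modules.pushforward f).obj F, V ⊓ W) =>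
          ∑ i, SecTwist.tmul _ E (V ⊓ W) (t i) (E.presheaf.map (homOfLE hV').op (e i))) := by
    funext t
    rw [Function.comp_apply]
    refine Eq.trans ?_ (map_sum ((projHom f F E).app (V ⊓ W)).hom _ _).symm
    refine Finset.sum_congr rfl (fun i _ => ?_)
    rw [projHom_app_tmul, unitSec_res]
    unfold pbSec
    rw [res_self]
  rw [h3] at h2
  exact (Function.Bijective.of_comp_iff _ h1).mp h2

end Proj

end Groth.Agent.LD.QC
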