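import Groth.Agent.Lib.Lead.QC.GlobGenTwist
import Groth.Agent.Lib.Lead.QC.TensorExact
import Groth.Agent.Lib.Lead.SC.GenCrit

/-! # Finitely many spanning global sections of a globally generated module; `∐ M ≅ O^k ⊗ M`. -/

universe u
open CategoryTheory Limits AlgebraicGeometry TopologicalSpace Opposite

namespace Groth.Agent.LD.QC
variable {X : Scheme.{u}}

lemma sectionOfHom_zero (Q : X.Modules) : sectionOfHom (0 : unitMod X ⟶ Q) = 0 := rfl

lemma homOfSection_zero (Q : X.Modules) : homOfSection Q (0 : Γ(Q, ⊤)) = 0 := by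
  rw [← sectionOfHom_zero Q, homOfSection_sectionOfHom]

lemma ι_homOfSections (G : X.Modules) {b : ℕ} (σ : Fin b → Γ(G, ⊤)) (j : Fin b) :
    Sigma.ι (fun _ : Fin b => unitMod X) j ≫ homOfSections G σ = homOfSection G (σ j) :=
  Sigma.ι_desc _ j

/-- a globally generated module whose global sections are spanned by finitely many sections is
generated by these. -/
theorem epi_homOfSections_of_span (G : X.Modules)
    (hG : Epi (homOfFamily G (fun a : Γ(G, ⊤) => a))) {b : ℕ} (σ : Fin b → Γ(G, ⊤))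
    (hσ : ∀ a : Γ(G, ⊤), ∃ c : Fin b → Γ(X, ⊤), a = ∑ j, c j • σ j) :
    Epi (homOfSections G σ) := by
  refine @Preadditive.epi_of_cancel_zero X.Modules _ _ _ _ (homOfSections G σ) (fun {Q} q hq => ?_)
  have hkill : ∀ j, q.app ⊤ (σ j) = 0 := by
    intro j
    have h1 : homOfSection G (σ j) ≫ q = 0 := by
      rw [← ι_homOfSections G σ j, Category.assoc, hq, comp_zero]
    rw [homOfSection_comp] at h1
    have h2 := sectionOfHom_homOfSection Q (q.app ⊤ (σ j))
    rw [h1] at h2
    rw [← h2]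
    rfl
  have hall : ∀ a : Γ(G, ⊤), q.app ⊤ a = 0 := by
    intro a
    obtain ⟨c, rfl⟩ := hσ a
    rw [map_sum]
    refine Finset.sum_eq_zero (fun j _ => ?_)
    rw [Scheme.Modules.Hom.app_smul, hkill j, smul_zero]
  have h0 : homOfFamily G (fun a : Γ(G, ⊤) => a) ≫ q = 0 := by
    refine Cofan.IsColimit.hom_ext (SheafOfModules.isColimitFreeCofan _) _ _ (fun a => ?_)
    change SheafOfModules.ιFree (R := X.ringCatSheaf) a ≫ homOfFamily G (fun a : Γ(G, ⊤) => a) ≫ q =
      SheafOfModules.ιFree (R := X.ringCatSheaf) a ≫ 0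
    have e1 : homOfSection G a ≫ q = 0 := by
      have e2 := homOfSection_comp q a
      rw [hall a, homOfSection_zero] at e2
      exact e2
    rw [← Category.assoc, ι_homOfFamily]
    exact e1.trans comp_zero.symm
  haveI := hG
  exact (cancel_epi (homOfFamily G (fun a : Γ(G, ⊤) => a))).1 (h0.trans comp_zero.symm)

/-- the morphism attached to spanning sections is surjective on global sections. -/
theorem surjective_homOfSections_app_top (G : X.Modules) {b : ℕ} (σ : Fin b → Γ(G, ⊤))
    (hσ : ∀ a : Γ(G, ⊤), ∃ c : Fin b → Γ(X, ⊤), a = ∑ j, c j • σ j) :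
    Function.Surjective ((homOfSections G σ).app ⊤) := by
  intro a
  obtain ⟨c, rfl⟩ := hσ a
  refine ⟨∑ j, (Sigma.ι (fun _ : Fin b => unitMod X) j).app ⊤ (c j), ?_⟩
  rw [map_sum]
  refine Finset.sum_congr rfl (fun j _ => ?_)
  rw [homOfSections_app_ι, res_self]

/-- `∐ M ⟶ O^k ⊗ M` is an isomorphism for invertible `M`. -/
theorem isIso_sigmaToTensor (M : X.Modules) [M.IsQuasicoherent] (hM : PicF.IsInvertible M)
    (k : ℕ) : IsIso (sigmaToTensor M k) := by
  classical
  haveI := epi_sigmaToTensor M hM k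
  let r : CohB1.tensorMod (FlatMod.freeMod X k) M ⟶ ∐ fun _ : Fin k => M :=
    ∑ j, KoszTw.tensorMap (freeProj X k j) (𝟙 M) ≫ (unitorL M).hom ≫
      Sigma.ι (fun _ : Fin k => M) j
  have hsr : sigmaToTensor M k ≫ r = 𝟙 _ := by
    apply Sigma.hom_ext
    intro i
    rw [← Category.assoc, sigmaToTensor, Sigma.ι_desc, Category.comp_id, Preadditive.comp_sum]
    have h : ∀ j : Fin k, ((unitorL M).inv ≫
        KoszTw.tensorMap (Sigma.ι (fun _ : Fin k => unitMod X) i) (𝟙 M)) ≫
        KoszTw.tensorMap (freeProj X k j) (𝟙 M) ≫ (unitorL M).hom ≫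
          Sigma.ι (fun _ : Fin k => M) j =
        if j = i then Sigma.ι (fun _ : Fin k => M) i else 0 := by
      intro j
      rw [Category.assoc, ← Category.assoc (KoszTw.tensorMap _ _), ← tensorMap_comp_id, freeProj,
        Sigma.ι_desc]
      by_cases hij : i = j
      · subst hij
        rw [if_pos rfl, if_pos rfl, tensorMap_id_id, Category.id_comp, Iso.inv_hom_id_assoc]
      · rw [if_neg hij, if_neg (Ne.symm hij), tensorMap_zero_id hM, zero_comp, comp_zero]
    rw [Finset.sum_congr rfl (fun j _ => h j), Finset.sum_ite_eq' Finset.univ i]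
    simp
  haveI : IsSplitMono (sigmaToTensor M k) := ⟨⟨⟨r, hsr⟩⟩⟩
  exact isIso_of_epi_of_isSplitMono _

end Groth.Agent.LD.QC
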