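import Groth.Agent.Lib.Lead.QC.PullAmple
universe u
open CategoryTheory Limits AlgebraicGeometry TopologicalSpace Opposite TensorProduct

namespace Groth.Agent.LD.QC
variable {X X' Y : Scheme.{u}}

/-- restriction of a pullback to the preimage of an open is the pullback of the restriction. -/
noncomputable def pullbackMorphismRestrictIso (g : X' ⟶ X) (W : X.Opens) (L : X.Modules) :
    ((Scheme.Modules.pullback g).obj L).restrict (g ⁻¹ᵁ W).ι ≅
      (Scheme.Modules.pullback (g ∣_ W)).obj (L.restrict W.ι) :=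
  (pullbackRestrictIso g (g ⁻¹ᵁ W).ι W.ι (g ∣_ W) (morphismRestrict_ι g W).symm).app L

/-- reduction of relative ampleness of a pullback to the absolute case over affine opens. -/
theorem isRelAmple_pullback_of_forall (f : X ⟶ Y) (g : X' ⟶ X) [QuasiCompact (g ≫ f)]
    (L : X.Modules)
    (H : ∀ V : Y.affineOpens, CohB1.IsAmple
      ((Scheme.Modules.pullback (g ∣_ (f ⁻¹ᵁ V.1))).obj (L.restrict (f ⁻¹ᵁ V.1).ι))) :
    RelAmple.IsRelAmple (g ≫ f) ((Scheme.Modules.pullback g).obj L) := by
  refine ⟨inferInstance, fun V => ?_⟩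
  exact isAmple_of_iso (pullbackMorphismRestrictIso g (f ⁻¹ᵁ V.1) L).symm (H V)

end Groth.Agent.LD.QC
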