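import Mathlib
import Groth.Agent.Lib.Lead.QC.InvBasis
import Groth.Agent.Lib.Lead.QC.TensorPow
import Groth.Agent.Lib.Lead.QC.SheafIso
import Groth.Agent.Lib.Lead.QC.Iso
import Groth.Agent.Lib.Lead.QC.FreeHom

/-! # Invertible modules with nonzero sections on integral schemes whose global functions form a
field. -/

set_option autoImplicit false
universe u
open CategoryTheory Limits Opposite AlgebraicGeometry TopologicalSpace

namespace Groth.Agent.LD.QC

variable {X : Scheme.{u}}

lemma IsBasisOver.coeff_eq_zero {L : X.Modules} {U : X.Opens} {e : Γ(L, U)}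
    (he : IsBasisOver L U e) {V : X.Opens} (hV : V ≤ U) (c : Γ(X, V))
    (h : c • L.presheaf.map (homOfLE hV).op e = 0) : c = 0 := by
  apply (he V hV).1
  change c • L.presheaf.map (homOfLE hV).op e = (0 : Γ(X, V)) • L.presheaf.map (homOfLE hV).op e
  rw [h, zero_smul]

lemma IsBasisOver.self_smul {L : X.Modules} {U : X.Opens} {e : Γ(L, U)}
    (he : IsBasisOver L U e) (ℓ : Γ(L, U)) : ∃ c : Γ(X, U), c • e = ℓ := by
  obtain ⟨c, hc⟩ := (he U le_rfl).2 ℓ
  refine ⟨c, ?_⟩
  rw [← hc]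
  change c • e = c • L.presheaf.map (homOfLE (le_refl U)).op e
  rw [res_self]

section Integral
variable [IsIntegral X]

/-- **rigidity**: on an integral scheme, a morphism between invertible modules which kills a basis
element over a nonempty open is zero. -/
theorem hom_eq_zero_of_app_basis_eq_zero {M N : X.Modules} (hM : PicF.IsInvertible M)
    (hN : PicF.IsInvertible N) (φ : M ⟶ N) {U : X.Opens} (hU : (U : Set X).Nonempty)
    {e : Γ(M, U)} (he : IsBasisOver M U e) (h0 : φ.app U e = 0) : φ = 0 := by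
  rw [isInvertible_iff_exists_isBasisOver] at hM hN
  apply Scheme.Modules.hom_ext
  intro W
  ext ℓ
  change φ.app W ℓ = 0
  apply section_eq_zero_of_germ
  intro y hy
  obtain ⟨U₁, e₁, hy₁, he₁⟩ := hM y
  obtain ⟨U₂, e₂, hy₂, he₂⟩ := hN y
  let V : X.Opens := W ⊓ U₁ ⊓ U₂
  have hyV : y ∈ V := ⟨⟨hy, hy₁⟩, hy₂⟩
  have hVW : V ≤ W := inf_le_left.trans inf_le_left
  have hV₁ : V ≤ U₁ := inf_le_left.trans inf_le_right
  have hV₂ : V ≤ U₂ := inf_le_right
  have hg := TopCat.Presheaf.germ_res_apply N.presheaf (homOfLE hVW) y hyV (φ.app W ℓ)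
  rw [← hg, ← app_res φ hVW ℓ]
  -- it suffices that `φ` kills `e₁|_V`
  have key : φ.app V (M.presheaf.map (homOfLE hV₁).op e₁) = 0 := by
    obtain ⟨c, hc⟩ := (he₂ V hV₂).2 (φ.app V (M.presheaf.map (homOfLE hV₁).op e₁))
    have hc' : c • N.presheaf.map (homOfLE hV₂).op e₂ =
        φ.app V (M.presheaf.map (homOfLE hV₁).op e₁) := hc
    rw [← hc']
    suffices hc0 : c = 0 by rw [hc0, zero_smul]
    -- restrict to `T = V ⊓ U`, nonempty by irreducibility
    let T : X.Opens := V ⊓ U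
    obtain ⟨z, hzV, hzU⟩ := nonempty_preirreducible_inter V.isOpen U.isOpen ⟨y, hyV⟩ hU
    have hzT : z ∈ T := ⟨hzV, hzU⟩
    have hTV : T ≤ V := inf_le_left
    have hTU : T ≤ U := inf_le_right
    apply @map_injective_of_isIntegral X _ T V (homOfLE hTV) ⟨⟨z, hzT⟩⟩
    rw [map_zero]
    apply (he₂.mono hV₂).coeff_eq_zero hTV
    -- the restriction of `φ(e₁|_V)` to `T` vanishes
    have h1 : N.presheaf.map (homOfLE hTV).op (c • N.presheaf.map (homOfLE hV₂).op e₂) =
        (X.presheaf.map (homOfLE hTV).op).hom c •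
          N.presheaf.map (homOfLE hTV).op (N.presheaf.map (homOfLE hV₂).op e₂) :=
      Scheme.Modules.map_smul N (homOfLE hTV) c _
    rw [← h1, hc', ← app_res φ hTV, res_res]
    obtain ⟨b, hb⟩ := (he T hTU).2 (M.presheaf.map (homOfLE (hTV.trans hV₁)).op e₁)
    have hb' : b • M.presheaf.map (homOfLE hTU).op e =
        M.presheaf.map (homOfLE (hTV.trans hV₁)).op e₁ := hb
    rw [← hb', Scheme.Modules.Hom.app_smul, app_res φ hTU e, h0]
    have : N.presheaf.map (homOfLE hTU).op (0 : Γ(N, U)) = 0 :=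
      map_zero (N.presheaf.map (homOfLE hTU).op).hom
    rw [this, smul_zero]
  obtain ⟨b, hb⟩ := (he₁ V hV₁).2 (M.presheaf.map (homOfLE hVW).op ℓ)
  have hb' : b • M.presheaf.map (homOfLE hV₁).op e₁ = M.presheaf.map (homOfLE hVW).op ℓ := hb
  rw [← hb', Scheme.Modules.Hom.app_smul, key, smul_zero]
  exact map_zero (N.presheaf.germ V y hyV).hom

end Integral

/-- if near every point the section `s(1)` is a unit multiple of a basis, `s` is an isomorphism. -/
theorem isIso_of_unit_coeff {L : X.Modules} (s : unitMod X ⟶ L)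
    (h : ∀ y : X, ∃ (U : X.Opens) (e : Γ(L, U)) (c : Γ(X, U)), y ∈ U ∧ IsBasisOver L U e ∧
      IsUnit c ∧ c • e = s.app U (1 : Γ(X, U))) : IsIso s := by
  apply isIso_of_local_bijective
  intro y W hyW
  obtain ⟨U, e, c, hyU, he, hc, hce⟩ := h y
  refine ⟨U ⊓ W, ⟨hyU, hyW⟩, inf_le_right, ?_⟩
  have hVU : U ⊓ W ≤ U := inf_le_left
  set V : X.Opens := U ⊓ W with hV
  have h1 : ∀ b : Γ(X, V), s.app V b =
      (b * (X.presheaf.map (homOfLE hVU).op).hom c) • L.presheaf.map (homOfLE hVU).op e := by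
    intro b
    rw [unitHom_app, ← unitHom_app_one_res L s hVU, ← hce, mul_smul]
    congr 1
    exact Scheme.Modules.map_smul L (homOfLE hVU) c e
  have hcV : IsUnit ((X.presheaf.map (homOfLE hVU).op).hom c) := hc.map _
  have h2 : ⇑(ConcreteCategory.hom (s.app V)) =
      (fun a : Γ(X, V) => a • L.presheaf.map (homOfLE hVU).op e) ∘
        (fun b : Γ(X, V) => b * (X.presheaf.map (homOfLE hVU).op).hom c) := by
    funext b
    exact h1 b
  have hmul : Function.Bijective
      (fun b : Γ(X, V) => b * (X.presheaf.map (homOfLE hVU).op).hom c) := by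
    obtain ⟨u, hu⟩ := hcV
    refine ⟨fun a b hab => ?_, fun a => ⟨a * ((↑u⁻¹ : (Γ(X, V))ˣ) : Γ(X, V)), ?_⟩⟩
    · have hab' : a * (X.presheaf.map (homOfLE hVU).op).hom c =
          b * (X.presheaf.map (homOfLE hVU).op).hom c := hab
      rw [← hu] at hab'
      exact (Units.mul_left_inj u).mp hab'
    · change a * ((↑u⁻¹ : (Γ(X, V))ˣ) : Γ(X, V)) * (X.presheaf.map (homOfLE hVU).op).hom c = a
      rw [← hu, mul_assoc, Units.inv_mul, mul_one]
  rw [h2]
  exact (he V hVU).comp hmul

end Groth.Agent.LD.QC
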