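import Groth.Agent.Lib.Lead.QC.QuotSupp
import Groth.Agent.Lib.Lead.QC.ClosedUnit

/-! # The integral closed subscheme of an irreducible closed subset. -/

set_option autoImplicit false
universe u
open CategoryTheory Limits Opposite AlgebraicGeometry TopologicalSpace

namespace Groth.Agent.LD.QC
variable {X : Scheme.{u}}

theorem isReduced_subscheme_of_isRadical' (I : X.IdealSheafData)
    (h : ∀ U : X.affineOpens, (I.ideal U).IsRadical) : AlgebraicGeometry.IsReduced I.subscheme := by
  have : ∀ U, AlgebraicGeometry.IsReduced (I.subschemeCover.openCover.X U) := fun U => by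
    have := (Ideal.isRadical_iff_quotient_reduced _).mp (h U)
    exact (affine_isReduced_iff (.of (Γ(X, (U : X.affineOpens).1) ⧸ I.ideal U))).mpr this
  exact AlgebraicGeometry.IsReduced.of_openCover (X := I.subscheme) I.subschemeCover.openCover

variable (Y : Closeds X)

/-- the reduced closed subscheme on a closed subset. -/
noncomputable abbrev redSub : Scheme.{u} := (Scheme.IdealSheafData.vanishingIdeal Y).subscheme

noncomputable abbrev redSubι : redSub Y ⟶ X := (Scheme.IdealSheafData.vanishingIdeal Y).subschemeι

theorem isReduced_redSub : AlgebraicGeometry.IsReduced (redSub Y) := by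
  apply isReduced_subscheme_of_isRadical'
  intro U
  rw [Scheme.IdealSheafData.vanishingIdeal_ideal]
  exact PrimeSpectrum.isRadical_vanishingIdeal _

theorem range_redSubι : Set.range (redSubι Y) = (Y : Set X) := by
  rw [Scheme.IdealSheafData.range_subschemeι, Scheme.IdealSheafData.coe_support_vanishingIdeal]

theorem irreducibleSpace_redSub (hirr : IsIrreducible (Y : Set X)) :
    IrreducibleSpace (redSub Y) := by
  have hemb : Topology.IsEmbedding (redSubι Y) := (redSubι Y).isEmbedding
  let e : (redSub Y) ≃ₜ Set.range (redSubι Y) := hemb.toHomeomorph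
  haveI : IrreducibleSpace (Set.range (redSubι Y)) := by
    rw [range_redSubι]
    exact Subtype.irreducibleSpace hirr
  exact e.irreducibleSpace_iff.mpr inferInstance

theorem isIntegral_redSub (hirr : IsIrreducible (Y : Set X)) : IsIntegral (redSub Y) := by
  haveI := irreducibleSpace_redSub Y hirr
  haveI := isReduced_redSub Y
  exact isIntegral_of_irreducibleSpace_of_isReduced _

/-- the generic point of the reduced subscheme maps to the generic point of the closed subset. -/
theorem closure_redSubι_genericPoint (hirr : IsIrreducible (Y : Set X)) :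
    haveI := irreducibleSpace_redSub Y hirr
    closure {redSubι Y (genericPoint (redSub Y))} = (Y : Set X) := by
  haveI := irreducibleSpace_redSub Y hirr
  have hcl : Topology.IsClosedEmbedding (redSubι Y) := (redSubι Y).isClosedEmbedding
  have h1 : closure ({genericPoint (redSub Y)} : Set (redSub Y)) = Set.univ :=
    (genericPoint_spec (redSub Y)).def
  have h2 := hcl.closure_image_eq ({genericPoint (redSub Y)} : Set (redSub Y))
  rw [Set.image_singleton] at h2
  rw [h2, h1, Set.image_univ, range_redSubι]

end Groth.Agent.LD.QC

namespace Groth.Agent.LD.QC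
variable {X : Scheme.{u}}

/-- the direct image along an embedding reflects monomorphisms. -/
theorem mono_of_mono_pushforward {Z : Scheme.{u}} (i : Z ⟶ X) [IsPreimmersion i]
    {A B : Z.Modules} (φ : A ⟶ B) (h : Mono ((Scheme.Modules.pushforward i).map φ)) : Mono φ := by
  apply mono_of_injective_app
  intro V
  obtain ⟨U, hU, hUV⟩ := i.isEmbedding.isInducing.isOpen_iff.mp V.2
  obtain rfl : i ⁻¹ᵁ (⟨U, hU⟩ : X.Opens) = V := Opens.ext hUV
  exact mono_app ((Scheme.Modules.pushforward i).map φ) ⟨U, hU⟩

/-- `O_X / I` is killed by `I`. -/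
theorem quotMod_killed (I : X.IdealSheafData) (U : X.affineOpens) (a : Γ(X, U.1))
    (ha : a ∈ I.ideal U) (t : Γ(ClSub.quotMod I, U.1)) : a • t = 0 := by
  obtain ⟨s, rfl⟩ := toSubscheme_app_surjective I U t
  rw [toSubscheme_app_smul, toSubscheme_app_eq_zero_iff I U]
  exact Ideal.mul_mem_right _ _ ha

/-- quasi-coherent submodules of `O_X / I` are direct images of ideal sheaves of the closed subscheme. -/
theorem exists_ideal_of_sub_quotMod (I : X.IdealSheafData) (K₁ : X.Modules)
    [K₁.IsQuasicoherent] (k : K₁ ⟶ ClSub.quotMod I) [Mono k] :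
    ∃ (T : I.subscheme.Modules) (ι : T ⟶ Coh.structureModule I.subscheme), Mono ι ∧
      T.IsQuasicoherent ∧ Nonempty ((Scheme.Modules.pushforward I.subschemeι).obj T ≅ K₁) := by
  let i := I.subschemeι
  let adj := Scheme.Modules.pullbackPushforwardAdjunction i
  haveI hunit : IsIso (adj.unit.app K₁) := by
    rw [isIso_unit_closedImmersion_iff]
    intro U a ha s
    rw [Scheme.IdealSheafData.ker_subschemeι] at ha
    apply mono_app k U.1
    rw [Scheme.Modules.Hom.app_smul, quotMod_killed I U a ha]
    exact (map_zero (k.app U.1).hom).symm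
  let ι : (Scheme.Modules.pullback i).obj K₁ ⟶ Coh.structureModule I.subscheme :=
    (Scheme.Modules.pullback i).map k ≫ adj.counit.app (Coh.structureModule I.subscheme)
  have hfac : adj.unit.app K₁ ≫ (Scheme.Modules.pushforward i).map ι = k := by
    have h1 := adj.unit.naturality k
    have h2 := adj.right_triangle_components (Coh.structureModule I.subscheme)
    dsimp only [ι]
    rw [Functor.map_comp, ← Category.assoc]
    erw [← h1]
    rw [Category.assoc]
    erw [h2]
    exact Category.comp_id _
  have hmono : Mono ((Scheme.Modules.pushforward i).map ι) := by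
    have h3 : (Scheme.Modules.pushforward i).map ι = inv (adj.unit.app K₁) ≫ k := by
      rw [← hfac, IsIso.inv_hom_id_assoc]
    rw [h3]
    exact mono_comp _ _
  exact ⟨(Scheme.Modules.pullback i).obj K₁, ι, mono_of_mono_pushforward i ι hmono,
    qc_pullback i K₁, ⟨(asIso (adj.unit.app K₁)).symm⟩⟩

end Groth.Agent.LD.QC
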