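import Groth.Agent.Lib.Lead.QC.IntegralSub
import Groth.Agent.Lib.Lead.QC.SuppSES

/-! # Submodules of `O_X / I_Y` for irreducible `Y` are "torsion-free". -/

set_option autoImplicit false
universe u
open CategoryTheory Limits Opposite AlgebraicGeometry TopologicalSpace

namespace Groth.Agent.LD.QC
variable {X : Scheme.{u}}

/-- a nonzero quasi-coherent module has a nonzero section over some affine open. -/
theorem exists_affine_section_ne_zero (A : X.Modules) [A.IsQuasicoherent] (hA : ¬ IsZero A) :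
    ∃ (U : X.Opens) (_ : IsAffineOpen U) (s : Γ(A, U)), s ≠ 0 := by
  have hne : (CohB1.support A).Nonempty := by
    by_contra h
    exact hA (isZero_of_support_eq_empty (Set.not_nonempty_iff_eq_empty.mp h))
  obtain ⟨x, hx⟩ := hne
  obtain ⟨U, hU, hxU, -⟩ := exists_isAffineOpen_mem_and_subset (x := x) (U := ⊤) trivial
  have h1 := (mem_support_iff_not_subsingleton_stalk A hU x hxU).mpr hx
  by_contra hcon
  push Not at hcon
  haveI : Subsingleton Γ(A, U) := ⟨fun a b => (hcon U hU a).trans (hcon U hU b).symm⟩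
  rw [Module.support_eq_empty_iff.mpr inferInstance] at h1
  exact h1

/-- **torsion-freeness**: if `0 ≠ A ⊆ B ⊆ O_X / I_Y` with `Y = closure {ξ}`, then `B / A` vanishes at
`ξ`. -/
theorem notMem_support_cokernel_of_sub_quotMod (Yc : Closeds X) (ξ : X)
    (hξ : closure {ξ} = (Yc : Set X)) (A B : X.Modules) [A.IsQuasicoherent] [B.IsQuasicoherent]
    (a : A ⟶ B) [Mono a] (b : B ⟶ ClSub.quotMod (Scheme.IdealSheafData.vanishingIdeal Yc)) [Mono b]
    (hA : ¬ IsZero A) : ξ ∉ CohB1.support (cokernel a) := by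
  obtain ⟨U, hU, a₀, ha₀⟩ := exists_affine_section_ne_zero A hA
  -- the image of `a₀` in `O/I`
  have hne : b.app U (a.app U a₀) ≠ 0 := by
    intro h0
    apply ha₀
    apply mono_app a U
    apply mono_app b U
    refine h0.trans ?_
    rw [map_zero, map_zero]
  obtain ⟨α, hα⟩ : ∃ α : Γ(X, U), (ClSub.toSubscheme (Scheme.IdealSheafData.vanishingIdeal Yc)).app U α =
      b.app U (a.app U a₀) :=
    toSubscheme_app_surjective (Scheme.IdealSheafData.vanishingIdeal Yc) ⟨U, hU⟩ (b.app U (a.app U a₀))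
  have hαI : α ∉ (Scheme.IdealSheafData.vanishingIdeal Yc).ideal ⟨U, hU⟩ := by
    intro hmem
    apply hne
    rw [← hα]
    exact (toSubscheme_app_eq_zero_iff (Scheme.IdealSheafData.vanishingIdeal Yc) ⟨U, hU⟩ α).mpr hmem
  -- a point of `Y ∩ U` where `α` does not vanish
  rw [Scheme.IdealSheafData.vanishingIdeal_ideal] at hαI
  have hαI' : ¬ ∀ x ∈ (hU.fromSpec ⁻¹' (Yc : Set X)), α ∈ x.asIdeal :=
    fun h => hαI ((PrimeSpectrum.mem_vanishingIdeal _ _).mpr h)
  push Not at hαI'
  obtain ⟨x, hxY, hxα⟩ := hαI'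
  have hxY' : hU.fromSpec x ∈ closure ({ξ} : Set X) := by rw [hξ]; exact hxY
  have hxU : hU.fromSpec x ∈ U := by
    have : hU.fromSpec x ∈ Set.range hU.fromSpec := ⟨x, rfl⟩
    rw [hU.range_fromSpec] at this
    exact this
  have hξU : ξ ∈ U := by
    obtain ⟨z, hzU, hzξ⟩ := mem_closure_iff.mp hxY' U U.2 hxU
    rw [Set.mem_singleton_iff] at hzξ
    exact hzξ ▸ hzU
  -- `α` is not in the prime of `ξ`
  have hspec : @Specializes (Spec Γ(X, U)) _ (hU.primeIdealOf ⟨ξ, hξU⟩) x := by
    rw [← hU.fromSpec.isEmbedding.isInducing.specializes_iff, hU.fromSpec_primeIdealOf ⟨ξ, hξU⟩,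
      specializes_iff_mem_closure]
    exact hxY'
  have hαξ : α ∉ (hU.primeIdealOf ⟨ξ, hξU⟩).asIdeal := by
    intro hmem
    exact hxα ((PrimeSpectrum.le_iff_specializes _ _).mpr hspec hmem)
  -- `α` kills all sections of the cokernel over `U`
  have hCq : (cokernel a).IsQuasicoherent := qc_cokernel a inferInstance inferInstance
  have hkill : ∀ c : Γ(cokernel a, U), α • c = 0 := by
    intro c
    obtain ⟨b₀, rfl⟩ := epi_app_affine inferInstance hCq (cokernel.π a) hU c
    obtain ⟨β, hβ⟩ : ∃ β : Γ(X, U), (ClSub.toSubscheme (Scheme.IdealSheafData.vanishingIdeal Yc)).app U β =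
        b.app U b₀ :=
      toSubscheme_app_surjective (Scheme.IdealSheafData.vanishingIdeal Yc) ⟨U, hU⟩ (b.app U b₀)
    have h1 : α • b₀ = a.app U (β • a₀) := by
      apply mono_app b U
      rw [Scheme.Modules.Hom.app_smul, Scheme.Modules.Hom.app_smul, Scheme.Modules.Hom.app_smul,
        ← hβ, ← hα, toSubscheme_app_smul, toSubscheme_app_smul, mul_comm]
    rw [← Scheme.Modules.Hom.app_smul, h1]
    have h2 : (a ≫ cokernel.π a).app U (β • a₀) = 0 := by
      rw [cokernel.condition]; rfl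
    exact h2
  intro hsupp
  have h3 := (mem_support_iff_not_subsingleton_stalk (cokernel a) hU ξ hξU).mpr hsupp
  exact (Module.notMem_support_iff'.mpr (fun c => ⟨α, hαξ, hkill c⟩)) h3

end Groth.Agent.LD.QC
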