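import Groth.Agent.Lib.Lead.QC.Iso
import Groth.Agent.Lib.Lead.QC.Coh
universe u
open CategoryTheory Limits AlgebraicGeometry TopologicalSpace Opposite

namespace Groth.Agent.LD.QC
variable {X : Scheme.{u}}

/-- ACC for quasi-coherent submodules of a coherent module on a Noetherian scheme. -/
theorem acc_qc_subobjects [IsNoetherian X] (M : X.Modules) (hqc : M.IsQuasicoherent)
    (hft : M.IsFiniteType) (F : ℕ →o Subobject M)
    (hF : ∀ n, ((F n : Subobject M) : X.Modules).IsQuasicoherent) :
    ∃ n : ℕ, ∀ m : ℕ, n ≤ m → F m = F n := by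
  -- finite affine cover
  obtain ⟨t, ht, e⟩ := isCompact_and_isOpen_iff_finite_and_eq_biUnion_affineOpens.mp
    ⟨(isCompact_univ : IsCompact (Set.univ : Set X)), isOpen_univ⟩
  have := ht.to_subtype
  cases nonempty_fintype t
  -- the chains of submodules of sections
  let N : ∀ (U : X.Opens), ℕ →o Submodule Γ(X, U) Γ(M, U) := fun U =>
    { toFun := fun n => LinearMap.range (appLinear (F n).arrow U)
      monotone' := by
        intro a b hab
        rintro _ ⟨s, rfl⟩
        refine ⟨(Subobject.ofLE _ _ (F.monotone hab)).app U s, ?_⟩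
        have h1 : Subobject.ofLE _ _ (F.monotone hab) ≫ (F b).arrow = (F a).arrow :=
          Subobject.ofLE_arrow _
        rw [appLinear_apply, appLinear_apply, ← h1]
        rfl }
  have hstab : ∀ U : t, ∃ n, ∀ m, n ≤ m → N U.1.1 n = N U.1.1 m := by
    intro U
    have hU : IsAffineOpen U.1.1 := U.1.2
    have : IsNoetherianRing Γ(X, U.1.1) := IsLocallyNoetherian.component_noetherian ⟨U.1.1, hU⟩
    have : Module.Finite Γ(X, U.1.1) Γ(M, U.1.1) := finite_sections_of_isFiniteType M hft hU
    have : IsNoetherian Γ(X, U.1.1) Γ(M, U.1.1) := isNoetherian_of_isNoetherianRing_of_finite _ _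
    exact monotone_stabilizes_iff_noetherian.mpr this (N U.1.1)
  choose n hn using hstab
  refine ⟨Finset.univ.sup n, fun m hm => ?_⟩
  have hle : F (Finset.univ.sup n) ≤ F m := F.monotone hm
  refine le_antisymm ?_ hle
  haveI := hF (Finset.univ.sup n)
  haveI := hF m
  haveI : IsIso (Subobject.ofLE _ _ hle) := by
    apply isIso_of_mono_of_surjective_affine_cover
    intro x
    have hx : x ∈ (Set.univ : Set X) := trivial
    rw [e] at hx
    obtain ⟨U, hU⟩ := Set.mem_iUnion.mp hx
    obtain ⟨hUt, hxU⟩ := Set.mem_iUnion.mp hU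
    refine ⟨U.1, U.2, hxU, fun s => ?_⟩
    have h1 : N U.1 (Finset.univ.sup n) = N U.1 m := by
      have a1 := hn ⟨U, hUt⟩ (Finset.univ.sup n) (Finset.le_sup (Finset.mem_univ _))
      have a2 := hn ⟨U, hUt⟩ m ((Finset.le_sup (Finset.mem_univ _)).trans hm)
      exact a1.symm.trans a2
    have h2 : appLinear (F m).arrow U.1 s ∈ N U.1 m := ⟨s, rfl⟩
    rw [← h1] at h2
    obtain ⟨r, hr⟩ := h2
    refine ⟨r, ?_⟩
    apply mono_app (F m).arrow U.1
    have h3 : Subobject.ofLE _ _ hle ≫ (F m).arrow = (F (Finset.univ.sup n)).arrow :=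
      Subobject.ofLE_arrow _
    have h4 : (F m).arrow.app U.1 ((Subobject.ofLE _ _ hle).app U.1 r) =
        (F (Finset.univ.sup n)).arrow.app U.1 r := by
      rw [← h3]; rfl
    exact h4.trans hr
  exact Subobject.le_of_comm (inv (Subobject.ofLE _ _ hle)) (by
    rw [IsIso.inv_comp_eq, Subobject.ofLE_arrow])

end Groth.Agent.LD.QC
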