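import Groth.Agent.Lib.Lead.QC.NonzeroHom
import Groth.Agent.Lib.Lead.QC.ACC
import Groth.Agent.Lib.Lead.Misc.SerreInd

/-! # Serre classes of coherent modules and supports (dévissage). -/

set_option autoImplicit false
universe u
open CategoryTheory Limits Opposite AlgebraicGeometry TopologicalSpace ZeroObject

namespace Groth.Agent.LD.QC
variable {X : Scheme.{u}}

/-- `P` is a Serre class on coherent modules. -/
def IsSerreCoh (P : ObjectProperty X.Modules) : Prop :=
  ∀ S : ShortComplex X.Modules, S.ShortExact → Coh.IsCoh S.X₁ → Coh.IsCoh S.X₂ →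
    Coh.IsCoh S.X₃ → (P S.X₂ ↔ P S.X₁ ∧ P S.X₃)

theorem isCoh_of_iso {A B : X.Modules} (e : A ≅ B) (h : Coh.IsCoh A) : Coh.IsCoh B :=
  ⟨qc_of_iso e h.1, @isFiniteType_of_iso _ _ _ e h.1 h.2⟩

theorem isCoh_kernel [IsLocallyNoetherian X] {A B : X.Modules} (f : A ⟶ B) (hA : Coh.IsCoh A)
    (hB : Coh.IsCoh B) : Coh.IsCoh (kernel f) :=
  ⟨qc_kernel f hA.1 hB.1, isFiniteType_of_mono (kernel.ι f) (qc_kernel f hA.1 hB.1) hA.1 hA.2⟩

theorem isCoh_cokernel {A B : X.Modules} (f : A ⟶ B) (hA : Coh.IsCoh A)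
    (hB : Coh.IsCoh B) : Coh.IsCoh (cokernel f) :=
  ⟨qc_cokernel f hA.1 hB.1, isFiniteType_of_epi (cokernel.π f) hB.1 (qc_cokernel f hA.1 hB.1) hB.2⟩

theorem isCoh_of_mono [IsLocallyNoetherian X] {A B : X.Modules} (i : A ⟶ B) [Mono i]
    (hA : A.IsQuasicoherent) (hB : Coh.IsCoh B) : Coh.IsCoh A :=
  ⟨hA, isFiniteType_of_mono i hA hB.1 hB.2⟩

theorem isCoh_of_isZero [IsLocallyNoetherian X] {Z A : X.Modules} (hA : Coh.IsCoh A)
    (hZ : IsZero Z) : Coh.IsCoh Z :=
  isCoh_of_iso ((isZero_kernel_of_mono (𝟙 A)).iso hZ) (isCoh_kernel (𝟙 A) hA hA)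

section Serre
variable {P : ObjectProperty X.Modules} (hP : IsSerreCoh P)
include hP

theorem IsSerreCoh.of_iso' {A B : X.Modules} (e : A ≅ B) (hA : Coh.IsCoh A)
    (hZ : Coh.IsCoh (0 : X.Modules)) :
    P A ↔ P (0 : X.Modules) ∧ P B := by
  have hex : (ShortComplex.mk (0 : (0 : X.Modules) ⟶ A) e.hom zero_comp).ShortExact :=
    { exact := (ShortComplex.exact_iff_mono _ rfl).mpr (inferInstanceAs (Mono e.hom))
      mono_f := inferInstanceAs (Mono (0 : (0 : X.Modules) ⟶ A))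
      epi_g := inferInstanceAs (Epi e.hom) }
  exact hP _ hex hZ hA (isCoh_of_iso e hA)

theorem IsSerreCoh.zero [IsLocallyNoetherian X] {A : X.Modules} (hA : Coh.IsCoh A) (hPA : P A) :
    P (0 : X.Modules) :=
  ((hP.of_iso' (Iso.refl A) hA (isCoh_of_isZero hA (isZero_zero _))).mp hPA).1

theorem IsSerreCoh.of_iso [IsLocallyNoetherian X] {A B : X.Modules} (e : A ≅ B)
    (hA : Coh.IsCoh A) (hPA : P A) : P B :=
  ((hP.of_iso' e hA (isCoh_of_isZero hA (isZero_zero _))).mp hPA).2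

theorem IsSerreCoh.of_isZero [IsLocallyNoetherian X] {A Z : X.Modules}
    (hA : Coh.IsCoh A) (hPA : P A) (hZ : IsZero Z) : P Z :=
  hP.of_iso ((isZero_zero _).iso hZ) (isCoh_of_isZero hA (isZero_zero _)) (hP.zero hA hPA)

theorem IsSerreCoh.of_mono [IsLocallyNoetherian X] {A B : X.Modules} (i : A ⟶ B) [Mono i]
    (hA : Coh.IsCoh A) (hB : Coh.IsCoh B) (hPB : P B) : P A := by
  have hses : (ShortComplex.mk i (cokernel.π i) (cokernel.condition i)).ShortExact :=
    { exact := ShortComplex.exact_of_g_is_cokernel _ (cokernelIsCokernel i)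
      mono_f := inferInstanceAs (Mono i)
      epi_g := inferInstanceAs (Epi (cokernel.π i)) }
  exact ((hP _ hses hA hB (isCoh_cokernel i hA hB)).mp hPB).1

theorem IsSerreCoh.of_epi [IsLocallyNoetherian X] {A B : X.Modules} (p : A ⟶ B) [Epi p]
    (hA : Coh.IsCoh A) (hB : Coh.IsCoh B) (hPA : P A) : P B := by
  have hses : (ShortComplex.mk (kernel.ι p) p (kernel.condition p)).ShortExact :=
    { exact := ShortComplex.exact_of_f_is_kernel _ (kernelIsKernel p)
      mono_f := inferInstanceAs (Mono (kernel.ι p))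
      epi_g := inferInstanceAs (Epi p) }
  exact ((hP _ hses (isCoh_kernel p hA hB) hA hB).mp hPA).2

/-- **Dévissage by supports**: a Serre class of coherent modules containing `F` contains every
coherent module supported in `Supp F`. -/
theorem IsSerreCoh.of_support_subset [IsNoetherian X] {F E : X.Modules}
    (hF : Coh.IsCoh F) (hE : Coh.IsCoh E) (hPF : P F)
    (hs : CohB1.support E ⊆ CohB1.support F) : P E := by
  have key := Misc.serre_induction (C := X.Modules) Coh.IsCoh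
    (fun A B e h => isCoh_of_iso e h)
    (fun f hA hB => isCoh_kernel f hA hB)
    (fun f hA hB => isCoh_cokernel f hA hB)
    (fun A => Coh.IsCoh A ∧ P A)
    (fun A B e h => ⟨isCoh_of_iso e h.1, hP.of_iso e h.1 h.2⟩)
    (fun Z hZ => ⟨isCoh_of_isZero hF hZ, hP.of_isZero hF hPF hZ⟩)
    (fun S hS h1 h2 h3 p1 p3 => ⟨h2, (hP S hS h1 h2 h3).mpr ⟨p1.2, p3.2⟩⟩)
    E hE
    (fun f hf => acc_qc_subobjects E hE.1 hE.2 f (fun n => (hf n).1))
    ?_
  · exact key.2
  · intro Q π hπ hQ hQ0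
    haveI := hπ
    have hQF : CohB1.support Q ⊆ CohB1.support F := (support_subset_of_epi π).trans hs
    obtain ⟨F', ι, ψ, hι, hF', hψ⟩ := exists_sub_nonzero_hom F Q hF.1 hQ.1 hQ.2 hQ0 hQF
    haveI := hι
    have hF'c : Coh.IsCoh F' := isCoh_of_mono ι hF' hF
    have hPF' : P F' := hP.of_mono ι hF'c hF hPF
    have hNc : Coh.IsCoh (Abelian.image ψ) :=
      isCoh_kernel _ hQ (isCoh_cokernel ψ hF'c hQ)
    refine ⟨Abelian.image ψ, Abelian.image.ι ψ, inferInstance, hNc, ?_, hNc, ?_⟩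
    · intro hz
      apply hψ
      rw [← Abelian.image.fac ψ, hz.eq_of_tgt (Abelian.factorThruImage ψ) 0, zero_comp]
    · exact hP.of_epi (Abelian.factorThruImage ψ) hF'c hNc hPF'

end Serre

end Groth.Agent.LD.QC
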