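import Groth.Agent.Lib.Lead.QC.Coh
import Groth.Agent.Lib.Lead.QC.Closure
import Groth.Agent.Lib.Lead.SC.GenCrit
import Groth.Agent.Lib.Lead.CohLES.Finite

/-! # Finite constant direct sums of quasi-coherent modules of finite type. -/

universe u
open CategoryTheory Limits AlgebraicGeometry TopologicalSpace Opposite

namespace Groth.Agent.LD.QC
variable {X : Scheme.{u}}

theorem qc_sigma_fin (N : X.Modules) [hN : N.IsQuasicoherent] (K : ℕ) :
    (∐ fun _ : Fin K => N).IsQuasicoherent :=
  qc_finColimit (Discrete.functor fun _ : Fin K => N) (fun _ => hN)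

theorem appLinear_sum {M N : X.Modules} {ι : Type*} (s : Finset ι) (φ : ι → (M ⟶ N))
    (U : X.Opens) : appLinear (∑ j ∈ s, φ j) U = ∑ j ∈ s, appLinear (φ j) U := by
  classical
  induction s using Finset.induction_on with
  | empty =>
    rw [Finset.sum_empty, Finset.sum_empty]
    ext x
    rfl
  | insert a s ha ih =>
    rw [Finset.sum_insert ha, Finset.sum_insert ha, ← ih]
    ext x
    rfl

theorem isFiniteType_sigma_fin (N : X.Modules) [hN : N.IsQuasicoherent] (hft : N.IsFiniteType)
    (K : ℕ) : (∐ fun _ : Fin K => N).IsFiniteType := by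
  haveI := qc_sigma_fin N K
  rw [isFiniteType_iff_finite_sections]
  intro U hU
  haveI : Module.Finite Γ(X, U) Γ(N, U) := finite_sections_of_isFiniteType N hft hU
  apply CL.finite_of_total (fun _ : Fin K => Γ(N, U))
    (fun j => appLinear (Limits.Sigma.ι (fun _ : Fin K => N) j) U)
    (fun j => appLinear (SC.sigmaProj N K j) U)
  have h := congrArg (fun φ => appLinear φ U) (SC.sigmaProj_total N K)
  simp only [appLinear_sum] at h
  refine Eq.trans ?_ (h.trans ?_)
  · apply Finset.sum_congr rfl
    intro j _
    ext x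
    rfl
  · ext x
    rfl

end Groth.Agent.LD.QC
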