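import Groth.Agent.Lib.Lead.QC.Devissage

/-! # Dévissage: the inductive steps. -/

set_option autoImplicit false
universe u
open CategoryTheory Limits Opposite AlgebraicGeometry TopologicalSpace ZeroObject

namespace Groth.Agent.LD.QC
variable {X : Scheme.{u}}

/-- at a point where the middle term has a simple stalk, one of the outer terms of a short exact
sequence has vanishing stalk. -/
theorem dichotomy_of_isSimpleModule (S : ShortComplex X.Modules) (hS : S.ShortExact) (ξ : X)
    [IsSimpleModule (X.presheaf.stalk ξ) (S.X₂.presheaf.stalk ξ)] :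
    ξ ∉ CohB1.support S.X₁ ∨ ξ ∉ CohB1.support S.X₃ := by
  haveI := hS.mono_f
  haveI := hS.epi_g
  have hinj := stalkMap_injective_of_mono S.f ξ
  have hsurj := stalkMap_surjective_of_epi S.g ξ
  have hzero : ∀ a : S.X₁.presheaf.stalk ξ,
      ((TopCat.Presheaf.stalkFunctor _ ξ).map S.g.mapPresheaf).hom
        (((TopCat.Presheaf.stalkFunctor _ ξ).map S.f.mapPresheaf).hom a) = 0 := by
    intro a
    have h1 : (TopCat.Presheaf.stalkFunctor Ab ξ).map S.f.mapPresheaf ≫
        (TopCat.Presheaf.stalkFunctor Ab ξ).map S.g.mapPresheaf = 0 := by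
      rw [← Functor.map_comp]
      have h2 : S.f.mapPresheaf ≫ S.g.mapPresheaf = 0 := by
        change (Scheme.Modules.toPresheaf X).map S.f ≫ (Scheme.Modules.toPresheaf X).map S.g = 0
        rw [← Functor.map_comp, S.zero, Functor.map_zero]
      rw [h2, Functor.map_zero]
    exact congr($h1 a)
  rcases eq_bot_or_eq_top (LinearMap.range (Algz.stalkMapₗ S.f ξ)) with hbot | htop
  · left
    intro hx
    apply hx
    apply subsingleton_of_forall_eq_zero
    intro a
    apply hinj
    have : Algz.stalkMapₗ S.f ξ a ∈ LinearMap.range (Algz.stalkMapₗ S.f ξ) := ⟨a, rfl⟩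
    rw [hbot, Submodule.mem_bot] at this
    exact this.trans (map_zero _).symm
  · right
    intro hx
    apply hx
    apply subsingleton_of_forall_eq_zero
    intro c
    obtain ⟨b, rfl⟩ := hsurj c
    have : b ∈ LinearMap.range (Algz.stalkMapₗ S.f ξ) := by rw [htop]; trivial
    obtain ⟨a, rfl⟩ := this
    exact hzero a

section Step
variable [IsNoetherian X] (P : X.Modules → Prop) (Y₀ : Set X)

/-- if every coherent submodule of `G` has `P` and `P` passes to cokernels, then every nonzero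
coherent `Q` supported in `Supp G` has a nonzero coherent submodule with `P`. -/
theorem exists_sub_of_subs
    (hcok : ∀ S : ShortComplex X.Modules, S.ShortExact → Coh.IsCoh S.X₁ → Coh.IsCoh S.X₂ →
      Coh.IsCoh S.X₃ → CohB1.support S.X₂ ⊆ Y₀ → P S.X₁ → P S.X₂ → P S.X₃)
    (G Q : X.Modules) (hG : Coh.IsCoh G) (hQ : Coh.IsCoh Q) (hQ0 : ¬ IsZero Q)
    (hsupp : CohB1.support Q ⊆ CohB1.support G) (hGY₀ : CohB1.support G ⊆ Y₀)
    (hsub : ∀ (K : X.Modules) (k : K ⟶ G), Mono k → Coh.IsCoh K → P K) :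
    ∃ (N : X.Modules) (j : N ⟶ Q), Mono j ∧ Coh.IsCoh N ∧ ¬ IsZero N ∧ P N := by
  obtain ⟨G', ι, ψ, hι, hG', hψ⟩ := exists_sub_nonzero_hom G Q hG.1 hQ.1 hQ.2 hQ0 hsupp
  haveI := hι
  have hG'c : Coh.IsCoh G' := isCoh_of_mono ι hG' hG
  have hKc : Coh.IsCoh (kernel ψ) := isCoh_kernel ψ hG'c hQ
  have hNc : Coh.IsCoh (Abelian.image ψ) := isCoh_kernel _ hQ (isCoh_cokernel ψ hG'c hQ)
  have hPG' : P G' := hsub G' ι hι hG'c
  have hPK : P (kernel ψ) := hsub (kernel ψ) (kernel.ι ψ ≫ ι) (mono_comp _ _) hKc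
  have hzero : kernel.ι ψ ≫ Abelian.factorThruImage ψ = 0 := by
    rw [← cancel_mono (Abelian.image.ι ψ), Category.assoc, Abelian.image.fac, kernel.condition,
      zero_comp]
  have hses : (ShortComplex.mk (kernel.ι ψ) (Abelian.factorThruImage ψ) hzero).ShortExact :=
    { exact := by
        apply ShortComplex.exact_of_f_is_kernel
        exact isKernelOfComp (Abelian.image.ι ψ) ψ (kernelIsKernel ψ) hzero (Abelian.image.fac ψ)
      mono_f := inferInstanceAs (Mono (kernel.ι ψ))
      epi_g := inferInstanceAs (Epi (Abelian.factorThruImage ψ)) }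
  refine ⟨Abelian.image ψ, Abelian.image.ι ψ, inferInstance, hNc, ?_, ?_⟩
  · intro hz
    apply hψ
    rw [← Abelian.image.fac ψ, hz.eq_of_tgt (Abelian.factorThruImage ψ) 0, zero_comp]
  · exact hcok _ hses hKc hG'c hNc
      (((support_subset_of_mono ι).trans hGY₀)) hPK hPG'

/-- coherent submodules of a coherent module whose generic stalk is simple have `P`, given `P` below. -/
theorem sub_of_simple_stalk
    (hker : ∀ S : ShortComplex X.Modules, S.ShortExact → Coh.IsCoh S.X₁ → Coh.IsCoh S.X₂ →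
      Coh.IsCoh S.X₃ → CohB1.support S.X₂ ⊆ Y₀ → P S.X₂ → P S.X₃ → P S.X₁)
    (Y : Set X) (ξ : X) (hξ : ξ ∈ Y) (G : X.Modules) (hG : Coh.IsCoh G)
    (hGs : CohB1.support G = Y) (hYY₀ : Y ⊆ Y₀)
    [IsSimpleModule (X.presheaf.stalk ξ) (G.presheaf.stalk ξ)] (hPG : P G)
    (IH : ∀ M : X.Modules, Coh.IsCoh M → CohB1.support M ⊆ Y → CohB1.support M ≠ Y → P M)
    (K : X.Modules) (k : K ⟶ G) (hk : Mono k) (hK : Coh.IsCoh K) : P K := by
  haveI := hk
  have hCc : Coh.IsCoh (cokernel k) := isCoh_cokernel k hK hG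
  have hses : (ShortComplex.mk k (cokernel.π k) (cokernel.condition k)).ShortExact :=
    { exact := ShortComplex.exact_of_g_is_cokernel _ (cokernelIsCokernel k)
      mono_f := inferInstanceAs (Mono k)
      epi_g := inferInstanceAs (Epi (cokernel.π k)) }
  haveI : IsSimpleModule (X.presheaf.stalk ξ)
      ((ShortComplex.mk k (cokernel.π k) (cokernel.condition k)).X₂.presheaf.stalk ξ) :=
    inferInstanceAs (IsSimpleModule (X.presheaf.stalk ξ) (G.presheaf.stalk ξ))
  rcases dichotomy_of_isSimpleModule _ hses ξ with h1 | h3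
  · have hKY : CohB1.support K ⊆ Y := hGs ▸ support_subset_of_mono k
    exact IH K hK hKY (fun h => h1 (h ▸ hξ))
  · have hCY : CohB1.support (cokernel k) ⊆ Y := hGs ▸ support_subset_of_epi (cokernel.π k)
    have hPC : P (cokernel k) := IH _ hCc hCY (fun h => h3 (h ▸ hξ))
    exact hker _ hses hK hG hCc (hGs ▸ hYY₀) hPG hPC

end Step

end Groth.Agent.LD.QC
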