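import Groth.Agent.Lib.Lead.QC.SuppPullback
import Groth.Agent.Lib.Lead.QC.Flat
universe u
open CategoryTheory Limits AlgebraicGeometry TopologicalSpace Opposite TensorProduct

namespace Groth.Agent.LD.QC

section StalkPullback
variable {X Y : Scheme.{u}} (f : X ⟶ Y)

set_option maxHeartbeats 1600000 in
/-- **the stalk of the pullback of a quasi-coherent module is the base change of the stalk.** -/
theorem exists_stalk_pullback_isBaseChange (G : Y.Modules) [G.IsQuasicoherent] (x : X) :
    letI := stalkModuleOver f ((Scheme.Modules.pullback f).obj G) x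
    letI : Algebra (Y.presheaf.stalk (f x)) (X.presheaf.stalk x) := (f.stalkMap x).hom.toAlgebra
    haveI : IsScalarTower (Y.presheaf.stalk (f x)) (X.presheaf.stalk x)
        (((Scheme.Modules.pullback f).obj G).presheaf.stalk x) :=
      IsScalarTower.of_algebraMap_smul fun r m => rfl
    ∃ σ : G.presheaf.stalk (f x) →ₗ[Y.presheaf.stalk (f x)]
        ((Scheme.Modules.pullback f).obj G).presheaf.stalk x,
      IsBaseChange (X.presheaf.stalk x) σ := by
  obtain ⟨U, V, hU, hV, hx, e⟩ := exists_affine_nhds_le_preimage f x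
  have hy : f x ∈ V := e hx
  haveI := qc_pullback f G
  set P := (Scheme.Modules.pullback f).obj G with hP
  -- rings
  letI algAB : Algebra Γ(Y, V) Γ(X, U) := (f.appLE V U e).hom.toAlgebra
  letI algAA' : Algebra Γ(Y, V) (Y.presheaf.stalk (f x)) :=
    TopCat.Presheaf.algebra_section_stalk Y.presheaf ⟨f x, hy⟩
  letI algBB' : Algebra Γ(X, U) (X.presheaf.stalk x) :=
    TopCat.Presheaf.algebra_section_stalk X.presheaf ⟨x, hx⟩
  letI algA'B' : Algebra (Y.presheaf.stalk (f x)) (X.presheaf.stalk x) :=
    (f.stalkMap x).hom.toAlgebra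
  letI algAB' : Algebra Γ(Y, V) (X.presheaf.stalk x) :=
    ((X.presheaf.germ U x hx).hom.comp (f.appLE V U e).hom).toAlgebra
  haveI tABB' : IsScalarTower Γ(Y, V) Γ(X, U) (X.presheaf.stalk x) :=
    IsScalarTower.of_algebraMap_eq fun a => rfl
  haveI tAA'B' : IsScalarTower Γ(Y, V) (Y.presheaf.stalk (f x)) (X.presheaf.stalk x) :=
    IsScalarTower.of_algebraMap_eq fun a => (stalkMap_germ_appLE f e x hx a).symm
  -- modules
  letI mAN : Module Γ(Y, V) Γ(P, U) := pbModule f G e
  haveI tABN : IsScalarTower Γ(Y, V) Γ(X, U) Γ(P, U) := pbModule_isScalarTower f G e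
  letI mAM' : Module Γ(Y, V) (G.presheaf.stalk (f x)) := stalkΓModule G (f x) V hy
  haveI tAA'M' : IsScalarTower Γ(Y, V) (Y.presheaf.stalk (f x)) (G.presheaf.stalk (f x)) :=
    IsScalarTower.of_algebraMap_smul fun r m => rfl
  letI mBT : Module Γ(X, U) (P.presheaf.stalk x) := stalkΓModule P x U hx
  letI mA'T : Module (Y.presheaf.stalk (f x)) (P.presheaf.stalk x) := stalkModuleOver f P x
  letI mAT : Module Γ(Y, V) (P.presheaf.stalk x) :=
    Module.compHom (P.presheaf.stalk x) (algebraMap Γ(Y, V) (X.presheaf.stalk x))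
  haveI tBB'T : IsScalarTower Γ(X, U) (X.presheaf.stalk x) (P.presheaf.stalk x) :=
    IsScalarTower.of_algebraMap_smul fun r m => rfl
  haveI tA'B'T : IsScalarTower (Y.presheaf.stalk (f x)) (X.presheaf.stalk x)
      (P.presheaf.stalk x) := IsScalarTower.of_algebraMap_smul fun r m => rfl
  haveI tAB'T : IsScalarTower Γ(Y, V) (X.presheaf.stalk x) (P.presheaf.stalk x) :=
    IsScalarTower.of_algebraMap_smul fun r m => rfl
  haveI tABT : IsScalarTower Γ(Y, V) Γ(X, U) (P.presheaf.stalk x) :=
    IsScalarTower.of_algebraMap_smul fun r m => rfl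
  haveI tAA'T : IsScalarTower Γ(Y, V) (Y.presheaf.stalk (f x)) (P.presheaf.stalk x) :=
    IsScalarTower.of_algebraMap_smul fun r m => by
      change f.stalkMap x (Y.presheaf.germ V (f x) hy r) • m =
        X.presheaf.germ U x hx (f.appLE V U e r) • m
      rw [stalkMap_germ_appLE f e x hx r]
  -- localizations
  haveI locA : IsLocalization.AtPrime (Y.presheaf.stalk (f x))
      (hV.primeIdealOf ⟨f x, hy⟩).asIdeal := hV.isLocalization_stalk ⟨f x, hy⟩
  haveI locB : IsLocalization.AtPrime (X.presheaf.stalk x)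
      (hU.primeIdealOf ⟨x, hx⟩).asIdeal := hU.isLocalization_stalk ⟨x, hx⟩
  haveI locM : IsLocalizedModule (hV.primeIdealOf ⟨f x, hy⟩).asIdeal.primeCompl
      (germLinear G (f x) V hy) := isLocalizedModule_germ G hV (f x) hy
  haveI locN : IsLocalizedModule (hU.primeIdealOf ⟨x, hx⟩).asIdeal.primeCompl
      (germLinear P x U hx) := isLocalizedModule_germ P hU x hx
  have bcM : IsBaseChange (Y.presheaf.stalk (f x)) (germLinear G (f x) V hy) :=
    IsLocalizedModule.isBaseChange (hV.primeIdealOf ⟨f x, hy⟩).asIdeal.primeCompl _ _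
  have bcN : IsBaseChange (X.presheaf.stalk x) (germLinear P x U hx) :=
    IsLocalizedModule.isBaseChange (hU.primeIdealOf ⟨x, hx⟩).asIdeal.primeCompl _ _
  have bcpb : IsBaseChange Γ(X, U) (pbSecₗ f G e) := isBaseChange_pbSec f hU hV e G
  have bcψ : IsBaseChange (X.presheaf.stalk x)
      (((germLinear P x U hx).restrictScalars Γ(Y, V)).comp (pbSecₗ f G e)) :=
    IsBaseChange.comp bcpb bcN
  set ψ : Γ(G, V) →ₗ[Γ(Y, V)] P.presheaf.stalk x :=
    ((germLinear P x U hx).restrictScalars Γ(Y, V)).comp (pbSecₗ f G e) with hψ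
  have hunits : ∀ s : (hV.primeIdealOf ⟨f x, hy⟩).asIdeal.primeCompl,
      IsUnit (algebraMap Γ(Y, V) (Module.End Γ(Y, V) (P.presheaf.stalk x)) s) := by
    intro s
    have h1 : IsUnit (Y.presheaf.germ V (f x) hy s.1) := isUnit_germ_of_notMem hV (f x) hy s.1 s.2
    have h2 : IsUnit (f.stalkMap x (Y.presheaf.germ V (f x) hy s.1)) := h1.map (f.stalkMap x).hom
    obtain ⟨v, hv⟩ := h2
    rw [Module.End.isUnit_iff]
    have hact : ∀ m : P.presheaf.stalk x,
        (algebraMap Γ(Y, V) (Module.End Γ(Y, V) (P.presheaf.stalk x)) s) m = (v : X.presheaf.stalk x) • m := by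
      intro m
      rw [hv]
      change X.presheaf.germ U x hx (f.appLE V U e s.1) • m = _
      rw [← stalkMap_germ_appLE f e x hx s.1]
    refine ⟨fun a b hab => ?_, fun b => ⟨(↑v⁻¹ : X.presheaf.stalk x) • b, ?_⟩⟩
    · rw [hact, hact] at hab
      have := congrArg (fun z => (↑v⁻¹ : X.presheaf.stalk x) • z) hab
      simpa [smul_smul] using this
    · rw [hact, smul_smul, Units.mul_inv, one_smul]
  let σA : G.presheaf.stalk (f x) →ₗ[Γ(Y, V)] P.presheaf.stalk x :=
    IsLocalizedModule.lift (hV.primeIdealOf ⟨f x, hy⟩).asIdeal.primeCompl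
      (germLinear G (f x) V hy) ψ hunits
  let σ : G.presheaf.stalk (f x) →ₗ[Y.presheaf.stalk (f x)] P.presheaf.stalk x :=
    σA.extendScalarsOfIsLocalization (hV.primeIdealOf ⟨f x, hy⟩).asIdeal.primeCompl
      (Y.presheaf.stalk (f x))
  refine ⟨σ, ?_⟩
  apply IsBaseChange.of_comp bcM
  have hcomp : (σ.restrictScalars Γ(Y, V)).comp (germLinear G (f x) V hy) = ψ :=
    IsLocalizedModule.lift_comp _ _ ψ hunits
  rw [hcomp]
  exact bcψ

end StalkPullback

section FlatThird
variable {C A B M : Type u} [CommRing C] [CommRing A] [CommRing B] [Algebra C A] [Algebra A B]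
  [Algebra C B] [IsScalarTower C A B] [AddCommGroup M] [Module A M] [Module C M]
  [IsScalarTower C A M]

lemma assoc_comm_lTensor {Q P : Type u} [AddCommGroup Q] [AddCommGroup P] [Module C Q] [Module C P]
    (ι : Q →ₗ[C] P) (z : (B ⊗[A] M) ⊗[C] Q) :
    AlgebraTensorModule.assoc C A A B M P (ι.lTensor (B ⊗[A] M) z) =
      (AlgebraTensorModule.lTensor A M ι).lTensor B (AlgebraTensorModule.assoc C A A B M Q z) := by
  induction z using TensorProduct.induction_on with
  | zero => simp
  | add x y hx hy => simp only [map_add, hx, hy]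
  | tmul w q =>
    induction w using TensorProduct.induction_on with
    | zero => simp
    | add x y hx hy => simp only [add_tmul, map_add, hx, hy]
    | tmul b m => rfl

/-- `B ⊗_A M` is flat over `C` when `B` is `A`-flat and `M` is `C`-flat. -/
theorem flat_tensor_of_flat [Module.Flat A B] [Module.Flat C M] : Module.Flat C (B ⊗[A] M) := by
  rw [Module.Flat.iff_lTensor_preserves_injective_linearMap'.{u, u, u}]
  intro Q P _ _ _ _ ι hι
  have h1 : Function.Injective (AlgebraTensorModule.lTensor A M ι) :=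
    Module.Flat.lTensor_preserves_injective_linearMap (M := M) ι hι
  have h2 : Function.Injective ((AlgebraTensorModule.lTensor A M ι).lTensor B) :=
    Module.Flat.lTensor_preserves_injective_linearMap (M := B) _ h1
  intro z z' hzz
  apply (AlgebraTensorModule.assoc C A A B M Q).injective
  apply h2
  rw [← assoc_comm_lTensor, ← assoc_comm_lTensor, hzz]

/-- `M` is flat over `C` when `B ⊗_A M` is and `B` is faithfully flat over `A`. -/
theorem flat_of_flat_tensor_of_faithfullyFlat [Module.FaithfullyFlat A B]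
    (h : Module.Flat C (B ⊗[A] M)) : Module.Flat C M := by
  rw [Module.Flat.iff_lTensor_preserves_injective_linearMap'.{u, u, u}]
  intro Q P _ _ _ _ ι hι
  have h1 : Function.Injective (ι.lTensor (B ⊗[A] M)) :=
    Module.Flat.lTensor_preserves_injective_linearMap (M := B ⊗[A] M) ι hι
  have h2 : Function.Injective ((AlgebraTensorModule.lTensor A M ι).lTensor B) := by
    intro w w' hww
    obtain ⟨z, rfl⟩ := (AlgebraTensorModule.assoc C A A B M Q).surjective w
    obtain ⟨z', rfl⟩ := (AlgebraTensorModule.assoc C A A B M Q).surjective w'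
    rw [← assoc_comm_lTensor, ← assoc_comm_lTensor] at hww
    rw [h1 ((AlgebraTensorModule.assoc C A A B M P).injective hww)]
  exact (Module.FaithfullyFlat.lTensor_injective_iff_injective A B
    (AlgebraTensorModule.lTensor A M ι)).mp h2


variable {N : Type u} [AddCommGroup N] [Module A N] [Module B N] [Module C N]
  [IsScalarTower A B N] [IsScalarTower C B N] {σ : M →ₗ[A] N}

theorem flat_of_isBaseChange_of_flat (h : IsBaseChange B σ) [Module.Flat A B]
    [Module.Flat C M] : Module.Flat C N := by
  haveI := flat_tensor_of_flat (C := C) (A := A) (B := B) (M := M)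
  exact Module.Flat.of_linearEquiv (h.equiv.restrictScalars C).symm

theorem flat_of_isBaseChange_of_faithfullyFlat (h : IsBaseChange B σ)
    [Module.FaithfullyFlat A B] [Module.Flat C N] : Module.Flat C M := by
  apply flat_of_flat_tensor_of_faithfullyFlat (C := C) (A := A) (B := B) (M := M)
  exact Module.Flat.of_linearEquiv (h.equiv.restrictScalars C)

end FlatThird

section FlatStalk
variable {X Y S : Scheme.{u}} (h : X ⟶ Y) (q : Y ⟶ S)

set_option maxHeartbeats 1600000 in
/-- flatness over a third scheme and pullback along a morphism flat at `x`. -/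
theorem isFlatOverAt_pullback_iff (G : Y.Modules) [G.IsQuasicoherent] (x : X)
    (hflat : (h.stalkMap x).hom.Flat) :
    FlatMod.IsFlatOverAt q G (h x) ↔
      FlatMod.IsFlatOverAt (h ≫ q) ((Scheme.Modules.pullback h).obj G) x := by
  set P := (Scheme.Modules.pullback h).obj G with hP
  letI algCA : Algebra (S.presheaf.stalk (q (h x))) (Y.presheaf.stalk (h x)) :=
    (q.stalkMap (h x)).hom.toAlgebra
  letI algAB : Algebra (Y.presheaf.stalk (h x)) (X.presheaf.stalk x) := (h.stalkMap x).hom.toAlgebra
  letI algCB : Algebra (S.presheaf.stalk (q (h x))) (X.presheaf.stalk x) :=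
    ((h ≫ q).stalkMap x).hom.toAlgebra
  haveI tCAB : IsScalarTower (S.presheaf.stalk (q (h x))) (Y.presheaf.stalk (h x))
      (X.presheaf.stalk x) := IsScalarTower.of_algebraMap_eq fun c => by
    change ((h ≫ q).stalkMap x) c = (h.stalkMap x) ((q.stalkMap (h x)) c)
    rw [Scheme.Hom.stalkMap_comp]
    rfl
  letI mCM : Module (S.presheaf.stalk (q (h x))) (G.presheaf.stalk (h x)) :=
    FlatMod.moduleStalkOver q G (h x)
  haveI tCAM : IsScalarTower (S.presheaf.stalk (q (h x))) (Y.presheaf.stalk (h x))
      (G.presheaf.stalk (h x)) := IsScalarTower.of_algebraMap_smul fun r m => rfl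
  letI mAT : Module (Y.presheaf.stalk (h x)) (P.presheaf.stalk x) := stalkModuleOver h P x
  letI mCT : Module (S.presheaf.stalk (q (h x))) (P.presheaf.stalk x) :=
    FlatMod.moduleStalkOver (h ≫ q) P x
  haveI tABT : IsScalarTower (Y.presheaf.stalk (h x)) (X.presheaf.stalk x) (P.presheaf.stalk x) :=
    IsScalarTower.of_algebraMap_smul fun r m => rfl
  haveI tCBT : IsScalarTower (S.presheaf.stalk (q (h x))) (X.presheaf.stalk x)
      (P.presheaf.stalk x) := IsScalarTower.of_algebraMap_smul fun r m => rfl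
  obtain ⟨σ, hσ⟩ := exists_stalk_pullback_isBaseChange h G x
  haveI hfl : Module.Flat (Y.presheaf.stalk (h x)) (X.presheaf.stalk x) := hflat
  haveI : IsLocalHom (algebraMap (Y.presheaf.stalk (h x)) (X.presheaf.stalk x)) :=
    inferInstanceAs (IsLocalHom (h.stalkMap x).hom)
  haveI : Module.FaithfullyFlat (Y.presheaf.stalk (h x)) (X.presheaf.stalk x) :=
    Module.FaithfullyFlat.of_flat_of_isLocalHom
  constructor
  · intro hM
    haveI : Module.Flat (S.presheaf.stalk (q (h x))) (G.presheaf.stalk (h x)) := hM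
    have : Module.Flat (S.presheaf.stalk (q (h x))) (P.presheaf.stalk x) :=
      flat_of_isBaseChange_of_flat hσ
    exact this
  · intro hN
    haveI : Module.Flat (S.presheaf.stalk (q (h x))) (P.presheaf.stalk x) := hN
    have : Module.Flat (S.presheaf.stalk (q (h x))) (G.presheaf.stalk (h x)) :=
      flat_of_isBaseChange_of_faithfullyFlat hσ
    exact this

end FlatStalk

end Groth.Agent.LD.QC
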