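import Mathlib
import Groth.Agent.Lib.Lead.QC.SubExt
import Groth.Agent.Lib.Lead.QC.SubExtRestrict
import Groth.Agent.Lib.Lead.QC.Coh
import Groth.Agent.Lib.Lead.QC.Epi
import Groth.Agent.Lib.Lead.QC.Iso
import Groth.Prelude.Def_CohB1

/-! # Splitting a coherent module along a decomposition of its support. -/

set_option autoImplicit false
universe u
open CategoryTheory Limits Opposite AlgebraicGeometry TopologicalSpace

namespace Groth.Agent.LD.QC

variable {X : Scheme.{u}}

theorem exists_support_ses [IsNoetherian X] (M : X.Modules) (hM : Coh.IsCoh M)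
    (Z Z' : Set X) (hZ : IsClosed Z) (hZ' : IsClosed Z') (h : CohB1.support M = Z ∪ Z') :
    ∃ S : ShortComplex X.Modules, S.ShortExact ∧ Nonempty (S.X₂ ≅ M) ∧ Coh.IsCoh S.X₁ ∧
      Coh.IsCoh S.X₃ ∧ CohB1.support S.X₁ ⊆ Z' ∧ CohB1.support S.X₃ ⊆ Z := by
  obtain ⟨hMq, hMf⟩ := hM
  haveI := hMq
  let U : X.Opens := ⟨Z'ᶜ, hZ'.isOpen_compl⟩
  let η : M ⟶ (Scheme.Modules.pushforward U.ι).obj (M.restrict U.ι) :=
    (Scheme.Modules.restrictAdjunction U.ι).unit.app M
  have hPq : ((Scheme.Modules.pushforward U.ι).obj (M.restrict U.ι)).IsQuasicoherent := by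
    haveI := qc_restrict U.ι M
    exact qc_pushforward U.ι (M.restrict U.ι)
  have hKq : (kernel η).IsQuasicoherent := qc_kernel η hMq hPq
  have hKf : (kernel η).IsFiniteType := isFiniteType_of_mono (kernel.ι η) hKq hMq hMf
  have hQq : (cokernel (kernel.ι η)).IsQuasicoherent := qc_cokernel (kernel.ι η) hKq hMq
  have hQf : (cokernel (kernel.ι η)).IsFiniteType :=
    isFiniteType_of_epi (cokernel.π (kernel.ι η)) hMq hQq hMf
  refine ⟨ShortComplex.mk (kernel.ι η) (cokernel.π (kernel.ι η)) (cokernel.condition _),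
    { exact := ShortComplex.exact_of_g_is_cokernel _ (cokernelIsCokernel _)
      mono_f := inferInstanceAs (Mono (kernel.ι η))
      epi_g := inferInstanceAs (Epi (cokernel.π (kernel.ι η))) },
    ⟨Iso.refl _⟩, ⟨hKq, hKf⟩, ⟨hQq, hQf⟩, ?_, ?_⟩
  · -- the kernel is supported in `Z'`
    intro x hx
    by_contra hxZ'
    apply hx
    have hxU : x ∈ U := hxZ'
    have hz : ∀ c : (kernel η).presheaf.stalk x, c = 0 := by
      intro c
      obtain ⟨V, hxV, t, rfl⟩ := TopCat.Presheaf.exists_germ_eq (kernel η).presheaf c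
      have h1 := TopCat.Presheaf.germ_res_apply (kernel η).presheaf
        (homOfLE (inf_le_left : V ⊓ U ≤ V)) x ⟨hxV, hxU⟩ t
      rw [← h1]
      have h2 : (kernel η).presheaf.map (homOfLE (inf_le_left : V ⊓ U ≤ V)).op t = 0 := by
        apply mono_app (kernel.ι η) (V ⊓ U)
        rw [map_zero]
        have h3 := kernel_ι_app_comp η V t
        have hle : V ⊓ U ≤ U.ι ''ᵁ (U.ι ⁻¹ᵁ V) := by
          intro y hy
          exact ⟨⟨y, hy.2⟩, hy.1, rfl⟩
        have h4 : η.app V ((kernel.ι η).app V t) =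
            M.presheaf.map (homOfLE (U.ι.image_preimage_le V)).op ((kernel.ι η).app V t) := rfl
        rw [h4] at h3
        have h5 : M.presheaf.map (homOfLE hle).op
            (M.presheaf.map (homOfLE (U.ι.image_preimage_le V)).op
              ((kernel.ι η).app V t)) = 0 := by
          rw [h3]
          exact map_zero (M.presheaf.map (homOfLE hle).op).hom
        have h6 : (kernel.ι η).app (V ⊓ U)
            ((kernel η).presheaf.map (homOfLE (inf_le_left : V ⊓ U ≤ V)).op t) =
            M.presheaf.map (homOfLE (inf_le_left : V ⊓ U ≤ V)).op ((kernel.ι η).app V t) :=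
          app_res (kernel.ι η) inf_le_left t
        rw [h6, ← res_res M (U.ι.image_preimage_le V) hle]
        exact h5
      rw [h2, map_zero]
    exact ⟨fun a b => by rw [hz a, hz b]⟩
  · -- the cokernel is supported in `Z`
    intro x hx
    by_contra hxZ
    apply hx
    let V₀ : X.Opens := ⟨Zᶜ, hZ.isOpen_compl⟩
    have hxV₀ : x ∈ V₀ := hxZ
    have hz : ∀ c : (cokernel (kernel.ι η)).presheaf.stalk x, c = 0 := by
      intro c
      obtain ⟨V, hxV, q, rfl⟩ :=
        TopCat.Presheaf.exists_germ_eq (cokernel (kernel.ι η)).presheaf c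
      obtain ⟨W, hWV, hxW, s, hs⟩ := exists_local_lift (cokernel.π (kernel.ι η))
        inferInstance V q x hxV
      -- shrink to `W ⊓ V₀`
      have hle : W ⊓ V₀ ≤ V := inf_le_left.trans hWV
      have h1 := TopCat.Presheaf.germ_res_apply (cokernel (kernel.ι η)).presheaf
        (homOfLE hle) x ⟨hxW, hxV₀⟩ q
      rw [← h1]
      have h2 : (cokernel (kernel.ι η)).presheaf.map (homOfLE hle).op q =
          (cokernel.π (kernel.ι η)).app (W ⊓ V₀)
            (M.presheaf.map (homOfLE (inf_le_left : W ⊓ V₀ ≤ W)).op s) := by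
        rw [app_res, hs, res_res]
      rw [h2]
      -- the restricted section lies in the kernel
      have h3 : η.app (W ⊓ V₀) (M.presheaf.map (homOfLE (inf_le_left : W ⊓ V₀ ≤ W)).op s) = 0 := by
        have h4 : η.app (W ⊓ V₀) (M.presheaf.map (homOfLE (inf_le_left : W ⊓ V₀ ≤ W)).op s) =
            M.presheaf.map (homOfLE (U.ι.image_preimage_le (W ⊓ V₀))).op
              (M.presheaf.map (homOfLE (inf_le_left : W ⊓ V₀ ≤ W)).op s) := rfl
        rw [h4]
        apply section_eq_zero_of_germ
        intro y hy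
        obtain ⟨⟨y', hy'U⟩, hy'W, rfl⟩ := hy
        have hyZ : (y' : X) ∉ Z := hy'W.2
        have hyZ' : (y' : X) ∉ Z' := hy'U
        have hns : (y' : X) ∉ CohB1.support M := by
          rw [h]
          exact fun hc => hc.elim hyZ hyZ'
        have hsub : Subsingleton (M.presheaf.stalk (U.ι ⟨y', hy'U⟩)) := not_not.mp hns
        exact hsub.elim _ _
      obtain ⟨t, ht⟩ := exists_kernel_section η (W ⊓ V₀) _ h3
      rw [← ht]
      have h5 : (kernel.ι η ≫ cokernel.π (kernel.ι η)).app (W ⊓ V₀) t = 0 := by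
        rw [cokernel.condition]; rfl
      have h6 : (cokernel.π (kernel.ι η)).app (W ⊓ V₀) ((kernel.ι η).app (W ⊓ V₀) t) = 0 := h5
      rw [h6, map_zero]
    exact ⟨fun a b => by rw [hz a, hz b]⟩

end Groth.Agent.LD.QC
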