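import Groth.Agent.Lib.Lead.QC.SerreSupp
import Groth.Agent.Lib.Lead.QC.SuppSplit
import Groth.Prelude.Def_Algz2

/-! # Dévissage of coherent modules on a Noetherian scheme: the master induction. -/

set_option autoImplicit false
universe u
open CategoryTheory Limits Opposite AlgebraicGeometry TopologicalSpace ZeroObject

namespace Groth.Agent.LD.QC
variable {X : Scheme.{u}}

theorem isClosed_support_of_isCoh {M : X.Modules} (hM : Coh.IsCoh M) :
    IsClosed (CohB1.support M) := isClosed_support_of_isFiniteType M hM.2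

/-- **Master dévissage.** -/
theorem devissage_master [IsNoetherian X] (P : X.Modules → Prop)
    (hPiso : ∀ A B : X.Modules, (A ≅ B) → Coh.IsCoh A → P A → P B)
    (Y₀ : Set X)
    (hP0 : ∀ Z : X.Modules, IsZero Z → P Z)
    (hPext : ∀ S : ShortComplex X.Modules, S.ShortExact → Coh.IsCoh S.X₁ → Coh.IsCoh S.X₂ →
      Coh.IsCoh S.X₃ → CohB1.support S.X₂ ⊆ Y₀ → P S.X₁ → P S.X₃ → P S.X₂)
    (hstep : ∀ (Y : Set X), IsClosed Y → IsIrreducible Y → Y ⊆ Y₀ →
      (∀ M : X.Modules, Coh.IsCoh M → CohB1.support M ⊆ Y → CohB1.support M ≠ Y → P M) →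
      ∀ Q : X.Modules, Coh.IsCoh Q → CohB1.support Q = Y →
        ∃ (N : X.Modules) (j : N ⟶ Q), Mono j ∧ Coh.IsCoh N ∧ ¬ IsZero N ∧ P N)
    (M : X.Modules) (hM : Coh.IsCoh M) (hs : CohB1.support M ⊆ Y₀) : P M := by
  -- Noetherian induction on the closed set containing the support
  have main : ∀ Y : Closeds X, (Y : Set X) ⊆ Y₀ →
      ∀ E : X.Modules, Coh.IsCoh E → CohB1.support E ⊆ (Y : Set X) → P E := by
    intro Y
    induction Y using WellFoundedLT.induction with
    | ind Y IH =>
    intro hYY₀ E hE hEY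
    have IH' : ∀ N : X.Modules, Coh.IsCoh N → CohB1.support N ⊆ (Y : Set X) →
        CohB1.support N ≠ (Y : Set X) → P N := by
      intro N hN hNY hne
      let Y' : Closeds X := ⟨CohB1.support N, isClosed_support_of_isCoh hN⟩
      have hlt : Y' < Y := lt_of_le_of_ne hNY (fun h => hne (congrArg (fun Z : Closeds X => (Z : Set X)) h))
      exact IH Y' hlt (hNY.trans hYY₀) N hN (subset_refl _)
    let Coh' : X.Modules → Prop := fun A => Coh.IsCoh A ∧ CohB1.support A ⊆ (Y : Set X)
    have key := Misc.serre_induction (C := X.Modules) Coh'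
      (fun A B e h => ⟨isCoh_of_iso e h.1, (support_eq_of_iso e) ▸ h.2⟩)
      (fun {A B} f hA hB => ⟨isCoh_kernel f hA.1 hB.1,
        (support_subset_of_mono (kernel.ι f)).trans hA.2⟩)
      (fun {A B} f hA hB => ⟨isCoh_cokernel f hA.1 hB.1,
        (support_subset_of_epi (cokernel.π f)).trans hB.2⟩)
      (fun A => Coh' A ∧ P A)
      (fun A B e h => ⟨⟨isCoh_of_iso e h.1.1, (support_eq_of_iso e) ▸ h.1.2⟩,
        hPiso A B e h.1.1 h.2⟩)
      (fun Z hZ => ⟨⟨isCoh_of_isZero hE hZ, by
        rw [support_eq_empty_of_isZero hZ]; exact Set.empty_subset _⟩, hP0 Z hZ⟩)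
      (fun S hS h1 h2 h3 p1 p3 => ⟨h2, hPext S hS h1.1 h2.1 h3.1 (h2.2.trans hYY₀) p1.2 p3.2⟩)
      E ⟨hE, hEY⟩
      (fun f hf => acc_qc_subobjects E hE.1 hE.2 f (fun n => (hf n).1.1))
      ?_
    · exact key.2
    · intro Q π hπ hQ hQ0
      obtain ⟨hQc, hQY⟩ := hQ
      by_cases hQeq : CohB1.support Q = (Y : Set X)
      · by_cases hirr : IsIrreducible (Y : Set X)
        · obtain ⟨N, j, hj, hN, hN0, hPN⟩ := hstep (Y : Set X) Y.isClosed hirr hYY₀ IH' Q hQc hQeq
          haveI := hj
          exact ⟨N, j, hj, ⟨hN, (support_subset_of_mono j).trans hQY⟩, hN0,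
            ⟨hN, (support_subset_of_mono j).trans hQY⟩, hPN⟩
        · -- reducible support: split
          have hne : (Y : Set X).Nonempty := by
            rw [← hQeq]
            by_contra h
            exact hQ0 (isZero_of_support_eq_empty (Set.not_nonempty_iff_eq_empty.mp h))
          have hpre : ¬ IsPreirreducible (Y : Set X) := fun h => hirr ⟨hne, h⟩
          rw [isPreirreducible_iff_isClosed_union_isClosed] at hpre
          push Not at hpre
          obtain ⟨z₁, z₂, hz₁, hz₂, hYz, hYz₁, hYz₂⟩ := hpre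
          have hQe : CohB1.support Q = (CohB1.support Q ∩ z₁) ∪ (CohB1.support Q ∩ z₂) := by
            rw [← Set.inter_union_distrib_left]
            exact (Set.inter_eq_left.mpr (hQeq ▸ hYz)).symm
          have hcl := isClosed_support_of_isCoh hQc
          obtain ⟨S, hS, ⟨e⟩, hS₁, hS₃, hs₁, hs₃⟩ := exists_support_ses Q hQc
            (CohB1.support Q ∩ z₁) (CohB1.support Q ∩ z₂) (hcl.inter hz₁) (hcl.inter hz₂) hQe
          haveI := hS.mono_f
          by_cases hz : IsZero S.X₁
          · exfalso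
            -- then `Q ≅ S.X₃` has support in `z₁`
            haveI : IsIso S.g := hS.isIso_g_iff.mpr hz
            have h1 : CohB1.support Q = CohB1.support S.X₃ :=
              (support_eq_of_iso e).symm.trans (support_eq_of_iso (asIso S.g))
            apply hYz₁
            rw [← hQeq, h1]
            exact hs₃.trans Set.inter_subset_right
          · have hsub : CohB1.support S.X₁ ⊆ (Y : Set X) :=
              (hs₁.trans Set.inter_subset_left).trans hQY
            have hne' : CohB1.support S.X₁ ≠ (Y : Set X) := by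
              intro h
              apply hYz₂
              rw [← h]
              exact hs₁.trans Set.inter_subset_right
            exact ⟨S.X₁, S.f ≫ e.hom, mono_comp _ _, ⟨hS₁, hsub⟩, hz, ⟨hS₁, hsub⟩,
              IH' S.X₁ hS₁ hsub hne'⟩
      · exact ⟨Q, 𝟙 Q, inferInstance, ⟨hQc, hQY⟩, hQ0, ⟨hQc, hQY⟩, IH' Q hQc hQY hQeq⟩
  exact main ⟨CohB1.support M, isClosed_support_of_isCoh hM⟩ hs M hM (subset_refl _)

end Groth.Agent.LD.QC
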