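import Groth.Agent.Lib.Lead.QC.LocNoeth

/-! # Extension of finite type quasi-coherent submodules on locally Noetherian spaces
(EGA I 9.4.7 a)). -/

universe u
open CategoryTheory Limits AlgebraicGeometry TopologicalSpace Opposite

namespace Groth.Agent.LD.QC
variable {X Y : Scheme.{u}}

/-- `subExt` is saturated: membership can be checked on the part meeting the image of `j`. -/
theorem subExt_sat (j : Y ⟶ X) [IsOpenImmersion j] {G : X.Modules} {C : Y.Modules}
    (π : G.restrict j ⟶ C) (W O : X.Opens) (hOW : O ≤ W) (hjO : j ⁻¹ᵁ W ≤ j ⁻¹ᵁ O)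
    (s : Γ(G, W))
    (h : ∃ t : Γ(subExt j π, O), (subExtι j π).app O t = G.presheaf.map (homOfLE hOW).op s) :
    ∃ t : Γ(subExt j π, W), (subExtι j π).app W t = s := by
  have h1 : j ''ᵁ (j ⁻¹ᵁ W) ≤ O := by
    rintro _ ⟨y, hy, rfl⟩
    exact hjO hy
  have h2 : j ⁻¹ᵁ O ≤ j ⁻¹ᵁ W := fun y hy => hOW hy
  have key := (mem_subExt_iff' j π O (j ⁻¹ᵁ W) h1 h2 (G.presheaf.map (homOfLE hOW).op s)).mp h
  rw [res_res] at key
  exact (mem_subExt_iff j π W s).mpr key

/-- `exists_sub_finite_affine` with the saturation property. -/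
theorem exists_sub_finite_affine' [QuasiSeparatedSpace X] (G : X.Modules) [G.IsQuasicoherent]
    {V : X.Opens} (hV : IsAffineOpen V) (O : X.Opens)
    (hOV : IsCompact ((O ⊓ V : X.Opens) : Set X))
    (hfin : ∀ W : X.Opens, IsAffineOpen W → W ≤ O → Module.Finite Γ(X, W) Γ(G, W)) :
    ∃ (F : X.Modules) (u : F ⟶ G), Mono u ∧ F.IsQuasicoherent ∧
      (∀ W : X.Opens, W ≤ O → Function.Bijective (u.app W)) ∧
      Module.Finite Γ(X, V) Γ(F, V) ∧
      (∀ (W : X.Opens) (s : Γ(G, W)),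
        (∃ t, u.app (W ⊓ V) t = G.presheaf.map (homOfLE (inf_le_left : W ⊓ V ≤ W)).op s) →
          ∃ t, u.app W t = s) := by
  obtain ⟨N₁, hN₁, hcov⟩ := exists_fg_submodule_sections G hV O hOV hfin
  refine ⟨subGen G hV N₁, subGenι G hV N₁, inferInstance, subGen_qc G hV N₁, fun W hW => ?_,
    subGen_finite G hV N₁ hN₁, fun W s h => ?_⟩
  · exact subGenι_bijective G hV N₁ fun x hx => hcov x ⟨hW hx.1, hx.2⟩
  · refine subExt_sat hV.fromSpec _ W (W ⊓ V) inf_le_left ?_ s h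
    intro y hy
    refine ⟨hy, ?_⟩
    have : hV.fromSpec y ∈ hV.fromSpec.opensRange := ⟨y, rfl⟩
    rwa [hV.opensRange_fromSpec] at this

end Groth.Agent.LD.QC

namespace Groth.Agent.LD.QC
variable {X : Scheme.{u}}

/-- the Zorn data: a quasi-coherent subsheaf `S` of `F`, agreeing with `F` on `O`, of finite type
on an open `V ⊇ O` and saturated with respect to `V`. -/
structure ExtD (F : X.Modules) (O : X.Opens) where
  V : X.Opens
  S : SubSh F
  hOV : O ≤ V
  qc : S.toModules.IsQuasicoherent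
  top : ∀ W : X.Opens, W ≤ O → S.N W = ⊤
  fin : ∀ W : X.Opens, IsAffineOpen W → W ≤ V → Module.Finite Γ(X, W) (S.N W)
  sat : ∀ (W : X.Opens) (s : Γ(F, W)),
    F.presheaf.map (homOfLE (inf_le_left : W ⊓ V ≤ W)).op s ∈ S.N (W ⊓ V) → s ∈ S.N W

namespace ExtD
variable {F : X.Modules} {O : X.Opens}

/-- the extension order. -/
def r (d d' : ExtD F O) : Prop := d.V ≤ d'.V ∧ ∀ W : X.Opens, W ≤ d.V → d.S.N W = d'.S.N W

lemma r_trans {a b c : ExtD F O} (h1 : r a b) (h2 : r b c) : r a c :=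
  ⟨h1.1.trans h2.1, fun W hW => (h1.2 W hW).trans (h2.2 W (hW.trans h1.1))⟩

/-- larger elements have smaller subsheaves. -/
lemma le_of_r {d d' : ExtD F O} (h : r d' d) (W : X.Opens) : d.S.N W ≤ d'.S.N W := by
  intro s hs
  apply d'.sat
  rw [h.2 _ inf_le_right]
  exact d.S.res _ s hs

/-- in a chain, `d` is the smallest on opens whose trace on the union lies in `d.V`. -/
lemma le_of_chain {c : Set (ExtD F O)} (hc : IsChain r c) {d : ExtD F O} (hd : d ∈ c)
    (W : X.Opens) (hW : ∀ d' ∈ c, W ⊓ d'.V ≤ d.V) {d' : ExtD F O} (hd' : d' ∈ c) :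
    d.S.N W ≤ d'.S.N W := by
  by_cases hdd : d = d'
  · subst hdd; exact le_rfl
  rcases hc hd hd' hdd with h | h
  · intro s hs
    apply d'.sat
    rw [← h.2 _ (hW d' hd')]
    exact d.S.res _ s hs
  · exact le_of_r h W

end ExtD

open ExtD in
/-- upper bound of a nonempty chain. -/
theorem ExtD.exists_ub (hX : LocNoeth X) {F : X.Modules} {O : X.Opens} (c : Set (ExtD F O))
    (hc : IsChain ExtD.r c) (d₁ : ExtD F O) (hd₁ : d₁ ∈ c) :
    ∃ ub : ExtD F O, ∀ a ∈ c, ExtD.r a ub := by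
  haveI : Nonempty c := ⟨⟨d₁, hd₁⟩⟩
  let Vs : X.Opens := ⨆ d : c, d.1.V
  let Ss : SubSh F := infSub (fun d : c => d.1.S)
  have hdir : Directed (· ⊆ ·) (fun d : c => (d.1.V : Set X)) := by
    intro a b
    by_cases hab : a.1 = b.1
    · have hab' : a = b := Subtype.ext hab
      subst hab'
      exact ⟨a, le_rfl, le_rfl⟩
    rcases hc a.2 b.2 hab with h | h
    · exact ⟨b, h.1, le_rfl⟩
    · exact ⟨a, le_rfl, h.1⟩
  -- Claim A
  have claimA : ∀ (d : ExtD F O), d ∈ c → ∀ W : X.Opens, (∀ d' ∈ c, W ⊓ d'.V ≤ d.V) →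
      Ss.N W = d.S.N W := by
    intro d hd W hW
    apply le_antisymm
    · intro s hs
      exact (mem_infSub _ W s).mp hs ⟨d, hd⟩
    · intro s hs
      rw [mem_infSub]
      rintro ⟨d', hd'⟩
      exact le_of_chain hc hd W hW hd' hs
  -- compact subsets of the union lie in one member
  have hcpt : ∀ K : X.Opens, IsCompact (K : Set X) → K ≤ Vs → ∃ d ∈ c, K ≤ d.V := by
    intro K hK hKV
    obtain ⟨d, hd⟩ := hK.elim_directed_cover (fun d : c => (d.1.V : Set X))
      (fun d => d.1.V.2) (by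
        intro x hx
        obtain ⟨d, hd⟩ := Opens.mem_iSup.mp (hKV hx)
        exact Set.mem_iUnion.mpr ⟨d, hd⟩) hdir
    exact ⟨d.1, d.2, hd⟩
  refine ⟨⟨Vs, Ss, d₁.hOV.trans (le_iSup (fun d : c => d.1.V) ⟨d₁, hd₁⟩), ?_, ?_, ?_, ?_⟩, ?_⟩
  · -- quasi-coherent
    apply qc_of_locally
    intro x
    obtain ⟨W, -, hxW, hWc⟩ := exists_affine_herCompact hX x
    refine ⟨W, hxW, ?_⟩
    obtain ⟨d, hd, hWd⟩ := hcpt (W ⊓ Vs) (hWc _ inf_le_left) inf_le_right
    have heq : ∀ W' : X.Opens, W' ≤ W → Ss.N W' = d.S.N W' := by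
      intro W' hW'
      apply claimA d hd
      intro d' hd'
      refine le_trans ?_ hWd
      exact inf_le_inf hW' (le_iSup (fun d : c => d.1.V) ⟨d', hd'⟩)
    obtain ⟨e⟩ := SubSh.restrict_iso_of_eq Ss d.S W heq
    haveI := d.qc
    exact qc_of_iso e.symm (qc_restrict W.ι d.S.toModules)
  · -- top on O
    intro W hW
    rw [eq_top_iff]
    intro s _
    rw [mem_infSub]
    intro d
    rw [d.1.top W hW]
    exact Submodule.mem_top
  · -- finite on affines in Vs
    intro W hW hWV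
    obtain ⟨d, hd, hWd⟩ := hcpt W hW.isCompact hWV
    have heq : Ss.N W = d.S.N W := claimA d hd W fun d' _ => inf_le_left.trans hWd
    rw [heq]
    exact d.fin W hW hWd
  · -- saturated
    intro W s hs
    rw [mem_infSub] at hs ⊢
    intro d
    apply d.1.sat
    have hle : W ⊓ d.1.V ≤ W ⊓ Vs := inf_le_inf le_rfl (le_iSup (fun d : c => d.1.V) d)
    have := d.1.S.res hle _ (hs d)
    rwa [res_res] at this
  · -- upper bound
    intro a ha
    refine ⟨le_iSup (fun d : c => d.1.V) ⟨a, ha⟩, fun W hW => ?_⟩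
    exact (claimA a ha W fun d' _ => inf_le_left.trans hW).symm

end Groth.Agent.LD.QC

namespace Groth.Agent.LD.QC
variable {X : Scheme.{u}}

/-- the base element: all of `F`. -/
noncomputable def ExtD.base {F : X.Modules} [hF : F.IsQuasicoherent] (O : X.Opens)
    (hfin : ∀ W : X.Opens, IsAffineOpen W → W ≤ O → Module.Finite Γ(X, W) Γ(F, W)) :
    ExtD F O where
  V := O
  S := topSub F
  hOV := le_rfl
  qc := by
    haveI : Mono (𝟙 F) := inferInstance
    obtain ⟨e, -⟩ := exists_iso_of_range_eq (topSub F).ι (𝟙 F) (by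
      intro W
      rw [SubSh.range_ι]
      ext s
      constructor
      · intro _
        exact ⟨s, rfl⟩
      · intro _
        exact Submodule.mem_top)
    exact qc_of_iso e.symm hF
  top _ _ := rfl
  fin W hW hWO := by
    haveI := hfin W hW hWO
    exact Module.Finite.equiv (Submodule.topEquiv (R := Γ(X, W)) (M := Γ(F, W))).symm
  sat _ _ _ := Submodule.mem_top

/-- the extension step. -/
theorem ExtD.exists_step (hX : LocNoeth X) {F : X.Modules} {O : X.Opens} (m : ExtD F O)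
    {W : X.Opens} (hW : IsAffineOpen W) (hWc : HerCompact (W : Set X)) :
    ∃ d : ExtD F O, ExtD.r m d ∧ W ≤ d.V := by
  haveI := quasiSeparatedSpace_of_locNoeth hX
  let G : X.Modules := m.S.toModules
  haveI hG : G.IsQuasicoherent := m.qc
  have hfinG : ∀ W' : X.Opens, IsAffineOpen W' → W' ≤ m.V → Module.Finite Γ(X, W') Γ(G, W') := by
    intro W' hW' hW'V
    haveI := m.fin W' hW' hW'V
    exact Module.Finite.equiv (m.S.sectionsEquiv W').symm
  obtain ⟨F₁, u, hu, hF₁, hbij, hfinW, hsat⟩ :=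
    exists_sub_finite_affine' G hW m.V (hWc _ inf_le_right) hfinG
  haveI : Mono (u ≫ m.S.ι) := mono_comp _ _
  have hfinF₁ : ∀ W' : X.Opens, IsAffineOpen W' → W' ≤ m.V ⊔ W →
      Module.Finite Γ(X, W') Γ(F₁, W') := by
    intro W' hW' hW'V
    apply finite_sections_of_locally F₁ hW'
    intro x hxW'
    rcases (Opens.mem_sup.mp (hW'V hxW') : x ∈ m.V ∨ x ∈ W) with h | h
    · obtain ⟨W'', hW'', hxW'', hW''V⟩ :=
        exists_isAffineOpen_mem_and_subset (x := x) (U := m.V) h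
      refine ⟨W'', hW'', hxW'', ?_⟩
      haveI := hfinG W'' hW'' hW''V
      exact Module.Finite.equiv
        (LinearEquiv.ofBijective (appLinear u W'') (hbij W'' hW''V)).symm
    · exact ⟨W, hW, h, hfinW⟩
  refine ⟨⟨m.V ⊔ W, rangeSub (u ≫ m.S.ι), m.hOV.trans le_sup_left, ?_, ?_, ?_, ?_⟩, ⟨le_sup_left, ?_⟩,
    le_sup_right⟩
  · obtain ⟨e, -⟩ := exists_iso_rangeSub (u ≫ m.S.ι)
    exact qc_of_iso e.symm hF₁
  · intro W' hW'
    rw [eq_top_iff]
    intro s _
    rw [mem_rangeSub]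
    have hs : s ∈ m.S.N W' := by rw [m.top W' hW']; exact Submodule.mem_top
    obtain ⟨g, hg⟩ := (m.S.mem_iff W' s).mp hs
    obtain ⟨t, ht⟩ := (hbij W' (hW'.trans m.hOV)).2 g
    exact ⟨t, by rw [← hg, ← ht]; rfl⟩
  · intro W' hW' hW'V
    haveI := hfinF₁ W' hW' hW'V
    exact Module.Finite.range (appLinear (u ≫ m.S.ι) W')
  · intro W' s hs
    rw [mem_rangeSub] at hs ⊢
    obtain ⟨t, ht⟩ := hs
    -- step 1: `s` lies in `m.S`
    have hs1 : s ∈ m.S.N W' := by
      apply m.sat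
      have hle : W' ⊓ m.V ≤ W' ⊓ (m.V ⊔ W) := inf_le_inf le_rfl le_sup_left
      have h1 := congrArg (F.presheaf.map (homOfLE hle).op) ht
      rw [res_res, ← app_res] at h1
      rw [m.S.mem_iff]
      exact ⟨u.app _ (F₁.presheaf.map (homOfLE hle).op t), h1⟩
    obtain ⟨g, hg⟩ := (m.S.mem_iff W' s).mp hs1
    -- step 2: `g` restricted to `W' ⊓ W` lies in the range of `u`
    have hle2 : W' ⊓ W ≤ W' ⊓ (m.V ⊔ W) := inf_le_inf le_rfl le_sup_right
    have h2 := congrArg (F.presheaf.map (homOfLE hle2).op) ht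
    rw [res_res, ← app_res, ← hg, ← app_res] at h2
    have h3 : u.app (W' ⊓ W) (F₁.presheaf.map (homOfLE hle2).op t) =
        G.presheaf.map (homOfLE (inf_le_left : W' ⊓ W ≤ W')).op g :=
      mono_app m.S.ι (W' ⊓ W) h2
    obtain ⟨t₀, ht₀⟩ := hsat W' g ⟨_, h3⟩
    exact ⟨t₀, by rw [← hg, ← ht₀]; rfl⟩
  · intro W' hW'
    ext s
    rw [mem_rangeSub, m.S.mem_iff]
    constructor
    · rintro ⟨g, hg⟩
      obtain ⟨t, ht⟩ := (hbij W' hW').2 g
      exact ⟨t, by rw [← hg, ← ht]; rfl⟩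
    · rintro ⟨t, ht⟩
      exact ⟨u.app W' t, ht⟩

/-- **EGA I 9.4.7 a)**: on a scheme whose underlying space is locally Noetherian, a quasi-coherent
module which is of finite type over an open `O` contains a quasi-coherent submodule of finite type
agreeing with it over `O`. -/
theorem exists_sub_finiteType_locNoeth (hX : LocNoeth X) (G : X.Modules) [G.IsQuasicoherent]
    (O : X.Opens)
    (hfin : ∀ W : X.Opens, IsAffineOpen W → W ≤ O → Module.Finite Γ(X, W) Γ(G, W)) :
    ∃ (F : X.Modules) (u : F ⟶ G), Mono u ∧ F.IsQuasicoherent ∧ F.IsFiniteType ∧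
      (∀ W : X.Opens, W ≤ O → Function.Bijective (u.app W)) := by
  obtain ⟨m, hm⟩ := exists_maximal_of_chains_bounded (r := ExtD.r (F := G) (O := O)) (by
    intro c hc
    by_cases hne : c.Nonempty
    · obtain ⟨d₁, hd₁⟩ := hne
      exact ExtD.exists_ub hX c hc d₁ hd₁
    · refine ⟨ExtD.base O hfin, fun a ha => ?_⟩
      exact absurd ⟨a, ha⟩ hne) (fun h1 h2 => ExtD.r_trans h1 h2)
  have hV : m.V = ⊤ := by
    rw [eq_top_iff]
    intro x _
    obtain ⟨W, hW, hxW, hWc⟩ := exists_affine_herCompact hX x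
    obtain ⟨d, hmd, hWd⟩ := ExtD.exists_step hX m hW hWc
    exact (hm d hmd).1 (hWd hxW)
  haveI := m.qc
  refine ⟨m.S.toModules, m.S.ι, inferInstance, m.qc, ?_, fun W hW => ⟨mono_app _ W, fun s => ?_⟩⟩
  · rw [isFiniteType_iff_finite_sections]
    intro W hW
    haveI := m.fin W hW (hV ▸ le_top)
    exact Module.Finite.equiv (m.S.sectionsEquiv W).symm
  · apply (m.S.mem_iff W s).mp
    rw [m.top W hW]
    exact Submodule.mem_top

end Groth.Agent.LD.QC
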