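import Groth.Agent.Lib.Lead.QC.BlowUpMul
import Mathlib.AlgebraicGeometry.FunctionField
import Mathlib.AlgebraicGeometry.ResidueField
universe u
open CategoryTheory Limits AlgebraicGeometry TopologicalSpace Opposite

namespace Groth.Agent.LD.QC

section BP
variable {X X' : Scheme.{u}} {𝓘 : X.IdealSheafData} {b : X' ⟶ X}

theorem comap_support_compl_eq (𝓘 : X.IdealSheafData) (b : X' ⟶ X) :
    (𝓘.comap b).support.compl = b ⁻¹ᵁ 𝓘.support.compl := by
  ext z
  change z ∉ (𝓘.comap b).support ↔ b z ∉ 𝓘.support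
  rw [Scheme.IdealSheafData.support_comap]
  rfl

theorem IsBlowUp.isOpenImmersion_compl (hb : BlowUp.IsBlowUp b 𝓘) :
    IsOpenImmersion ((b ⁻¹ᵁ 𝓘.support.compl).ι ≫ b) := by
  haveI := IsBlowUp.isIso_restrict_compl hb
  rw [← morphismRestrict_ι]
  infer_instance

theorem IsBlowUp.isAffineHom_compl (hb : BlowUp.IsBlowUp b 𝓘) :
    IsAffineHom (b ⁻¹ᵁ 𝓘.support.compl).ι := by
  rw [← comap_support_compl_eq]
  exact isAffineHom_compl_of_locPrincipal _ (fun x _ => by
    obtain ⟨U, hx, a, _, h⟩ := hb.1 x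
    exact ⟨U, hx, a, h⟩)

theorem IsBlowUp.isSchemeTheoreticallyDominant_compl (hb : BlowUp.IsBlowUp b 𝓘) :
    IsSchemeTheoreticallyDominant (b ⁻¹ᵁ 𝓘.support.compl).ι := by
  rw [← comap_support_compl_eq]
  exact isSchemeTheoreticallyDominant_compl_of_effCartier _ hb.1

/-- **S8851**: a blow-up of a reduced scheme is reduced. -/
theorem IsBlowUp.isReduced [IsReduced X] (hb : BlowUp.IsBlowUp b 𝓘) : IsReduced X' := by
  haveI := IsBlowUp.isOpenImmersion_compl hb
  haveI := IsBlowUp.isAffineHom_compl hb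
  haveI := IsBlowUp.isSchemeTheoreticallyDominant_compl hb
  haveI : IsReduced (b ⁻¹ᵁ 𝓘.support.compl : Scheme) :=
    isReduced_of_isOpenImmersion ((b ⁻¹ᵁ 𝓘.support.compl).ι ≫ b)
  exact IsSchemeTheoreticallyDominant.isReduced (b ⁻¹ᵁ 𝓘.support.compl).ι

theorem irreducibleSpace_of_denseRange {A B : Type*} [TopologicalSpace A] [TopologicalSpace B]
    [IrreducibleSpace A] (f : A → B) (hf : Continuous f) (hd : DenseRange f) :
    IrreducibleSpace B := by
  rw [irreducibleSpace_def]
  have h1 : IsIrreducible (Set.range f) := by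
    rw [← Set.image_univ]
    exact (IrreducibleSpace.isIrreducible_univ A).image f hf.continuousOn
  have h2 := h1.closure
  rwa [hd.closure_range] at h2

/-- **S2348**: a blow-up of an integral scheme in a nonzero ideal is integral and birational. -/
theorem IsBlowUp.isIntegral_and_birational [IsIntegral X] (hI : 𝓘 ≠ ⊥)
    (hb : BlowUp.IsBlowUp b 𝓘) :
    ∃ (_ : IsIntegral X'), ∃ _ : b (genericPoint X') = genericPoint X,
      Function.Bijective (b.residueFieldMap (genericPoint X')).hom := by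
  haveI hoi := IsBlowUp.isOpenImmersion_compl hb
  haveI := IsBlowUp.isAffineHom_compl hb
  haveI := IsBlowUp.isSchemeTheoreticallyDominant_compl hb
  haveI := IsBlowUp.isIso_restrict_compl hb
  haveI := IsBlowUp.isReduced hb
  set U' : X'.Opens := b ⁻¹ᵁ 𝓘.support.compl with hU'
  -- nonemptiness
  have hne : ∃ y : X, y ∉ 𝓘.support := by
    by_contra hcon
    push Not at hcon
    apply hI
    rw [← Scheme.IdealSheafData.support_eq_top_iff]
    ext y
    simpa using hcon y
  obtain ⟨y, hy⟩ := hne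
  haveI : Nonempty (𝓘.support.compl : X.Opens) := ⟨⟨y, hy⟩⟩
  haveI : Nonempty (U' : Scheme) := ⟨(inv (b ∣_ 𝓘.support.compl)) ⟨y, hy⟩⟩
  haveI : IsIntegral (U' : Scheme) := isIntegral_of_isOpenImmersion (U'.ι ≫ b)
  haveI : IrreducibleSpace X' :=
    irreducibleSpace_of_denseRange U'.ι U'.ι.continuous U'.ι.denseRange
  haveI hint : IsIntegral X' := isIntegral_of_irreducibleSpace_of_isReduced X'
  have hgen : U'.ι (genericPoint U') = genericPoint X' := genericPoint_eq_of_isOpenImmersion U'.ι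
  have hgen2 : (U'.ι ≫ b) (genericPoint U') = genericPoint X :=
    genericPoint_eq_of_isOpenImmersion (U'.ι ≫ b)
  have key : ∀ z : (U' : Scheme), Function.Bijective (b.residueFieldMap (U'.ι z)).hom := by
    intro z
    have h1 : (U'.ι ≫ b).residueFieldMap z =
        b.residueFieldMap (U'.ι z) ≫ U'.ι.residueFieldMap z := Scheme.residueFieldMap_comp _ _ _
    haveI i1 : IsIso ((U'.ι ≫ b).residueFieldMap z) := inferInstance
    haveI i2 : IsIso (U'.ι.residueFieldMap z) := inferInstance
    haveI i3 : IsIso (b.residueFieldMap (U'.ι z) ≫ U'.ι.residueFieldMap z) := h1 ▸ i1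
    haveI : IsIso (b.residueFieldMap (U'.ι z)) :=
      IsIso.of_isIso_comp_right (b.residueFieldMap (U'.ι z)) (U'.ι.residueFieldMap z)
    exact ConcreteCategory.bijective_of_isIso (b.residueFieldMap (U'.ι z))
  refine ⟨hint, ?_, ?_⟩
  · rw [← hgen]
    exact hgen2
  · rw [← hgen]
    exact key _

end BP

end Groth.Agent.LD.QC
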