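import Groth.Agent.Lib.Lead.QC.TwistEquiv
import Groth.Agent.Lib.Lead.KT.ExtCompare
import Mathlib.Algebra.Homology.DerivedCategory.Ext.MapBijective

/-! # `Ext` groups and twisting by an invertible module. -/

universe w u
open CategoryTheory Limits AlgebraicGeometry TopologicalSpace Opposite Abelian

namespace Groth.Agent.LD.QC

section General
variable {C : Type*} [Category C] [Abelian C] [HasExt.{w} C]

/-- an isomorphism in the first variable induces an isomorphism of `Ext` groups. -/
noncomputable def extEquivLeft {A A' : C} (e : A ≅ A') (B : C) (n : ℕ) :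
    Ext A B n ≃+ Ext A' B n where
  toFun x := (Ext.mk₀ e.inv).comp x (zero_add n)
  invFun y := (Ext.mk₀ e.hom).comp y (zero_add n)
  left_inv x := by
    change (Ext.mk₀ e.hom).comp ((Ext.mk₀ e.inv).comp x (zero_add n)) (zero_add n) = x
    rw [← Ext.comp_assoc_of_second_deg_zero, Ext.mk₀_comp_mk₀, e.hom_inv_id, Ext.mk₀_id_comp]
  right_inv y := by
    change (Ext.mk₀ e.inv).comp ((Ext.mk₀ e.hom).comp y (zero_add n)) (zero_add n) = y
    rw [← Ext.comp_assoc_of_second_deg_zero, Ext.mk₀_comp_mk₀, e.inv_hom_id, Ext.mk₀_id_comp]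
  map_add' x y := Ext.comp_add _ _ _ _

/-- an isomorphism in the second variable induces an isomorphism of `Ext` groups. -/
noncomputable def extEquivRight (A : C) {B B' : C} (e : B ≅ B') (n : ℕ) :
    Ext A B n ≃+ Ext A B' n where
  toFun x := x.comp (Ext.mk₀ e.hom) (add_zero n)
  invFun y := y.comp (Ext.mk₀ e.inv) (add_zero n)
  left_inv x := by
    change (x.comp (Ext.mk₀ e.hom) (add_zero n)).comp (Ext.mk₀ e.inv) (add_zero n) = x
    rw [Ext.comp_assoc_of_third_deg_zero, Ext.mk₀_comp_mk₀, e.hom_inv_id, Ext.comp_mk₀_id]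
  right_inv y := by
    change (y.comp (Ext.mk₀ e.inv) (add_zero n)).comp (Ext.mk₀ e.hom) (add_zero n) = y
    rw [Ext.comp_assoc_of_third_deg_zero, Ext.mk₀_comp_mk₀, e.inv_hom_id, Ext.comp_mk₀_id]
  map_add' x y := Ext.add_comp _ _ _ _

end General

variable {X : Scheme.{u}}

section
variable (L L' : X.Modules) (e : CohB1.tensorMod L L' ≅ unitMod X)

include e in
/-- `- ⊗ L` for `L` invertible is an equivalence. -/
lemma twF_isEquivalence : (twF L).IsEquivalence :=
  (twEquiv L L' e).isEquivalence_functor

instance twF_additive (L : X.Modules) : (twF L).Additive :=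
  inferInstanceAs (((ModSite.tensorBi X.sheaf).flip.obj (L : ModSite.Mod X.sheaf)).Additive)

instance twF_preservesFiniteColimits (L : X.Modules) : PreservesFiniteColimits (twF L) :=
  inferInstanceAs (PreservesFiniteColimits
    ((ModSite.tensorBi X.sheaf).flip.obj (L : ModSite.Mod X.sheaf)))

variable [HasExt.{w} X.Modules]

include e in
/-- **twisting by an invertible module induces bijections on `Ext` groups.** -/
theorem twF_mapExt_bijective (A B : X.Modules) (n : ℕ) :
    haveI := twF_isEquivalence L L' e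
    Function.Bijective ((twF L).mapExtAddHom A B n) := by
  haveI := twF_isEquivalence L L' e
  haveI := Groth.Agent.H1.sheafOfModules_isGrothendieckAbelian
    (Opens.grothendieckTopology X) X.ringCatSheaf
  haveI : EnoughInjectives X.Modules :=
    inferInstanceAs (EnoughInjectives (SheafOfModules.{u} X.ringCatSheaf))
  haveI : (twF L).PreservesInjectiveObjects :=
    Functor.preservesInjectiveObjects_of_adjunction_of_preservesMonomorphisms
      (twEquiv L L' e).symm.toAdjunction
  exact Functor.mapExt_bijective_of_preservesInjectiveObjects (twF L) A B n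

include e in
/-- `Ext^n(A, B) ≃ Ext^n(A ⊗ L, B ⊗ L)` for `L` invertible. -/
theorem nonempty_ext_twist_equiv (A B : X.Modules) (n : ℕ) :
    Nonempty (Ext A B n ≃+ Ext (CohB1.tensorMod A L) (CohB1.tensorMod B L) n) := by
  haveI := twF_isEquivalence L L' e
  exact ⟨AddEquiv.ofBijective ((twF L).mapExtAddHom A B n) (twF_mapExt_bijective L L' e A B n)⟩

end

/-- **`Ext^n(L, G) ≃ H^n(X, G ⊗ L')`** for an invertible module `L` with inverse `L'`. -/
theorem nonempty_ext_invertible_equiv [HasExt.{u} X.Modules] (L L' : X.Modules)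
    (e : CohB1.tensorMod L L' ≅ unitMod X) (G : X.Modules) (n : ℕ) :
    Nonempty (Ext L G n ≃+ Coh.HH X (CohB1.tensorMod G L') n) := by
  obtain ⟨e1⟩ := nonempty_ext_twist_equiv L' L (tensorCommGen L' L ≪≫ e) L G n
  haveI : HasExt.{u} (SheafOfModules.{u} X.ringCatSheaf) := ‹HasExt.{u} X.Modules›
  obtain ⟨e3⟩ := KT.nonempty_ext_unit_equiv (Opens.grothendieckTopology X) X.ringCatSheaf
    (CohB1.tensorMod G L') n
  exact ⟨e1.trans ((extEquivLeft e (CohB1.tensorMod G L') n).trans e3)⟩

end Groth.Agent.LD.QC
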