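import Mathlib
import Groth.Agent.Lib.Lead.QC.InvIntegral

/-! # Triviality criteria for invertible modules on integral schemes with a field of global
functions. -/

set_option autoImplicit false
universe u
open CategoryTheory Limits Opposite AlgebraicGeometry TopologicalSpace

namespace Groth.Agent.LD.QC

variable {X : Scheme.{u}} [IsIntegral X]

lemma res_top_ne_zero {a : Γ(X, ⊤)} {U : X.Opens}
    (h : (X.presheaf.map (homOfLE (le_top : U ≤ ⊤)).op).hom a ≠ 0) : a ≠ 0 := by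
  rintro rfl
  exact h (map_zero _)

/-- the coefficient of `s(1)` with respect to a basis is nonzero when `s ≠ 0`. -/
lemma coeff_ne_zero {L : X.Modules} (hL : PicF.IsInvertible L) (s : unitMod X ⟶ L) (hs : s ≠ 0)
    {U : X.Opens} {y : X} (hyU : y ∈ U) {e : Γ(L, U)} {c : Γ(X, U)}
    (hc : c • e = s.app U (1 : Γ(X, U))) : c ≠ 0 := by
  rintro rfl
  apply hs
  refine hom_eq_zero_of_app_basis_eq_zero (isInvertible_unit X) hL s ⟨y, hyU⟩
    (isBasisOver_one U) ?_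
  rw [← hc, zero_smul]

theorem isIso_of_global_unit {L : X.Modules} (s : unitMod X ⟶ L) (hL : PicF.IsInvertible L)
    (a b : Γ(X, ⊤)) (hab : a * b = 1)
    (h : ∀ y : X, ∃ (U : X.Opens) (e : Γ(L, U)) (c d : Γ(X, U)), y ∈ U ∧ IsBasisOver L U e ∧
      c • e = s.app U (1 : Γ(X, U)) ∧
      c * d = (X.presheaf.map (homOfLE (le_top : U ≤ ⊤)).op).hom a) : IsIso s := by
  apply isIso_of_unit_coeff
  intro y
  obtain ⟨U, e, c, d, hyU, he, hce, hcd⟩ := h y
  refine ⟨U, e, c, hyU, he, ?_, hce⟩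
  refine isUnit_iff_exists_inv.mpr ⟨d * (X.presheaf.map (homOfLE (le_top : U ≤ ⊤)).op).hom b, ?_⟩
  rw [← mul_assoc, hcd, ← map_mul, hab, map_one]

theorem nonempty_iso_unit_of_sections (hfield : IsField (Γ(X, ⊤) : Type u)) (L : X.Modules)
    (hL : PicF.IsInvertible L) (s : unitMod X ⟶ L) (hs : s ≠ 0) (t : L ⟶ unitMod X)
    (ht : t ≠ 0) : Nonempty (L ≅ unitMod X) := by
  have hL' := (isInvertible_iff_exists_isBasisOver L).mp hL
  let a : Γ(X, ⊤) := t.app ⊤ (s.app ⊤ (1 : Γ(X, ⊤)))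
  -- local analysis
  have key : ∀ y : X, ∃ (U : X.Opens) (e : Γ(L, U)) (c d : Γ(X, U)), y ∈ U ∧ IsBasisOver L U e ∧
      c • e = s.app U (1 : Γ(X, U)) ∧
      c * d = (X.presheaf.map (homOfLE (le_top : U ≤ ⊤)).op).hom a ∧ c ≠ 0 ∧ d ≠ 0 := by
    intro y
    obtain ⟨U, e, hyU, he⟩ := hL' y
    obtain ⟨c, hc⟩ := he.self_smul (s.app U (1 : Γ(X, U)))
    refine ⟨U, e, c, t.app U e, hyU, he, hc, ?_, coeff_ne_zero hL s hs hyU hc, ?_⟩
    · have h1 : (X.presheaf.map (homOfLE (le_top : U ≤ ⊤)).op).hom a =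
          t.app U (L.presheaf.map (homOfLE (le_top : U ≤ ⊤)).op (s.app ⊤ (1 : Γ(X, ⊤)))) :=
        (app_res t (le_top : U ≤ ⊤) (s.app ⊤ (1 : Γ(X, ⊤)))).symm
      rw [h1, unitHom_app_one_res L s (le_top : U ≤ ⊤), ← hc, Scheme.Modules.Hom.app_smul]
      rfl
    · intro h0
      apply ht
      exact hom_eq_zero_of_app_basis_eq_zero hL (isInvertible_unit X) t ⟨y, hyU⟩ he h0
  have ha : a ≠ 0 := by
    obtain ⟨y⟩ := (inferInstance : Nonempty X)
    obtain ⟨U, e, c, d, hyU, he, hce, hcd, hc0, hd0⟩ := key y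
    haveI : IsDomain Γ(X, U) := @IsIntegral.component_integral X _ U ⟨⟨y, hyU⟩⟩
    apply res_top_ne_zero (U := U)
    rw [← hcd]
    exact mul_ne_zero hc0 hd0
  obtain ⟨b, hab⟩ := hfield.mul_inv_cancel ha
  haveI : IsIso s := isIso_of_global_unit s hL a b hab (fun y => by
    obtain ⟨U, e, c, d, hyU, he, hce, hcd, -, -⟩ := key y
    exact ⟨U, e, c, d, hyU, he, hce, hcd⟩)
  exact ⟨(asIso s).symm⟩

theorem nonempty_iso_unit_of_tensorPow (hfield : IsField (Γ(X, ⊤) : Type u)) (L : X.Modules)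
    (hL : PicF.IsInvertible L) (s : unitMod X ⟶ L) (hs : s ≠ 0) (d : ℕ) (hd : 0 < d)
    (ψ : CohB1.tensorPow L d ≅ unitMod X) : Nonempty (L ≅ unitMod X) := by
  have hL' := (isInvertible_iff_exists_isBasisOver L).mp hL
  let a : Γ(X, ⊤) := ψ.hom.app ⊤ (secPow (s.app ⊤ (1 : Γ(X, ⊤))) d)
  have key : ∀ y : X, ∃ (U : X.Opens) (e : Γ(L, U)) (c c' : Γ(X, U)), y ∈ U ∧ IsBasisOver L U e ∧
      c • e = s.app U (1 : Γ(X, U)) ∧
      c * c' = (X.presheaf.map (homOfLE (le_top : U ≤ ⊤)).op).hom a ∧ c ≠ 0 ∧ c' ≠ 0 := by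
    intro y
    obtain ⟨U, e, hyU, he⟩ := hL' y
    haveI : IsDomain Γ(X, U) := @IsIntegral.component_integral X _ U ⟨⟨y, hyU⟩⟩
    obtain ⟨c, hc⟩ := he.self_smul (s.app U (1 : Γ(X, U)))
    have hc0 : c ≠ 0 := coeff_ne_zero hL s hs hyU hc
    let υ : Γ(X, U) := ψ.hom.app U (secPow e d)
    have hυ : υ ≠ 0 := by
      intro h0
      have h1 : secPow e d = 0 := by
        have h2 : ψ.inv.app U (ψ.hom.app U (secPow e d)) = secPow e d := by
          rw [← ConcreteCategory.comp_apply, ← Scheme.Modules.Hom.comp_app, ψ.hom_inv_id]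
          rfl
        rw [← h2]
        have h3 : ψ.hom.app U (secPow e d) = 0 := h0
        rw [h3]
        exact map_zero (ψ.inv.app U).hom
      have h4 : (1 : Γ(X, U)) = 0 := by
        apply (he.secPow d).coeff_eq_zero (le_refl U)
        rw [res_self, h1, smul_zero]
      exact one_ne_zero h4
    refine ⟨U, e, c, c ^ (d - 1) * υ, hyU, he, hc, ?_, hc0, mul_ne_zero (pow_ne_zero _ hc0) hυ⟩
    have h1 : (X.presheaf.map (homOfLE (le_top : U ≤ ⊤)).op).hom a =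
        ψ.hom.app U ((CohB1.tensorPow L d).presheaf.map (homOfLE (le_top : U ≤ ⊤)).op
          (secPow (s.app ⊤ (1 : Γ(X, ⊤))) d)) :=
      (app_res ψ.hom (le_top : U ≤ ⊤) _).symm
    rw [h1, secPow_res, unitHom_app_one_res L s (le_top : U ≤ ⊤), ← hc, secPow_smul,
      Scheme.Modules.Hom.app_smul]
    change c * (c ^ (d - 1) * υ) = c ^ d * υ
    rw [← mul_assoc, ← pow_succ', Nat.sub_add_cancel hd]
  have ha : a ≠ 0 := by
    obtain ⟨y⟩ := (inferInstance : Nonempty X)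
    obtain ⟨U, e, c, c', hyU, he, hce, hcd, hc0, hd0⟩ := key y
    haveI : IsDomain Γ(X, U) := @IsIntegral.component_integral X _ U ⟨⟨y, hyU⟩⟩
    apply res_top_ne_zero (U := U)
    rw [← hcd]
    exact mul_ne_zero hc0 hd0
  obtain ⟨b, hab⟩ := hfield.mul_inv_cancel ha
  haveI : IsIso s := isIso_of_global_unit s hL a b hab (fun y => by
    obtain ⟨U, e, c, c', hyU, he, hce, hcd, -, -⟩ := key y
    exact ⟨U, e, c, c', hyU, he, hce, hcd⟩)
  exact ⟨(asIso s).symm⟩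

end Groth.Agent.LD.QC
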