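import Groth.Agent.Lib.Lead.QC.Push
import Groth.Agent.Lib.Lead.QC.Epi
universe u
open CategoryTheory Limits AlgebraicGeometry TopologicalSpace Opposite

namespace Groth.Agent.LD.QC
variable {X : Scheme.{u}}

/-- left exactness of sections. -/
lemma exact_sections (S : ShortComplex X.Modules) (hS : S.ShortExact) (W : X.Opens)
    (s : Γ(S.X₂, W)) (hs : S.g.app W s = 0) : ∃ t : Γ(S.X₁, W), S.f.app W t = s := by
  have i1 : PreservesFiniteLimits ((evaluation (Opens ↥X)ᵒᵖ Ab.{u}).obj (op W)) :=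
    ⟨fun J _ _ => inferInstance⟩
  have i2 : PreservesFiniteLimits
      (Scheme.Modules.toPresheaf X ⋙ (evaluation (Opens ↥X)ᵒᵖ Ab.{u}).obj (op W)) :=
    comp_preservesFiniteLimits _ _
  have := hS.mono_f
  have hex := hS.exact.map_of_mono_of_preservesKernel
    (Scheme.Modules.toPresheaf X ⋙ (evaluation (Opens ↥X)ᵒᵖ Ab.{u}).obj (op W)) hS.mono_f
    inferInstance
  rw [ShortComplex.ab_exact_iff] at hex
  exact hex s hs

lemma inj_of_shortExact (S : ShortComplex X.Modules) (hS : S.ShortExact)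
    [h1 : S.X₁.IsQuasicoherent] [h3 : S.X₃.IsQuasicoherent] {U : X.Opens} (hU : IsAffineOpen U)
    (f : Γ(X, U)) (s : Γ(S.X₂, U))
    (hs : S.X₂.presheaf.map (homOfLE (X.basicOpen_le f)).op s = 0) :
    ∃ n : ℕ, f ^ n • s = 0 := by
  have := hS.mono_f
  have e1 : S.X₃.presheaf.map (homOfLE (X.basicOpen_le f)).op (S.g.app U s) = 0 := by
    rw [← app_res, hs, map_zero]
  obtain ⟨n, hn⟩ := affine_inj S.X₃ hU f _ e1
  rw [← Scheme.Modules.Hom.app_smul] at hn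
  obtain ⟨t, ht⟩ := exact_sections S hS U _ hn
  have e2 : S.X₁.presheaf.map (homOfLE (X.basicOpen_le f)).op t = 0 := by
    apply mono_app S.f
    rw [app_res, ht, smul_res, hs, smul_zero, map_zero]
  obtain ⟨m, hm⟩ := affine_inj S.X₁ hU f t e2
  refine ⟨m + n, ?_⟩
  rw [pow_add, mul_smul, ← ht, ← Scheme.Modules.Hom.app_smul, hm, map_zero]

end Groth.Agent.LD.QC

namespace Groth.Agent.LD.QC
variable {X : Scheme.{u}}

/-- `g ∈ G(W)` lifts `a^n h` and restricts to `a^n t` on `W ⊓ D(a)`. -/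
def IsLift (S : ShortComplex X.Modules) {T : X.Opens} (a : Γ(X, T)) (h : Γ(S.X₃, T))
    (t : Γ(S.X₂, X.basicOpen a)) (W : X.Opens) (hW : W ≤ T) (n : ℕ) (g : Γ(S.X₂, W)) : Prop :=
  S.g.app W g = X.presheaf.map (homOfLE hW).op (a ^ n) • S.X₃.presheaf.map (homOfLE hW).op h ∧
  S.X₂.presheaf.map (homOfLE (inf_le_left : W ⊓ X.basicOpen a ≤ W)).op g =
    S.X₂.presheaf.map (homOfLE (inf_le_right : W ⊓ X.basicOpen a ≤ X.basicOpen a)).op
      (X.presheaf.map (homOfLE (X.basicOpen_le a)).op (a ^ n) • t)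

lemma IsLift.smul {S : ShortComplex X.Modules} {T : X.Opens} {a : Γ(X, T)} {h : Γ(S.X₃, T)}
    {t : Γ(S.X₂, X.basicOpen a)} {W : X.Opens} {hW : W ≤ T} {n : ℕ} {g : Γ(S.X₂, W)}
    (H : IsLift S a h t W hW n g) (k : ℕ) :
    IsLift S a h t W hW (k + n) (X.presheaf.map (homOfLE hW).op (a ^ k) • g) := by
  obtain ⟨H1, H2⟩ := H
  constructor
  · rw [Scheme.Modules.Hom.app_smul, H1, smul_smul, ← map_mul, ← pow_add]
  · have := agree_smul S.X₂ hW (X.basicOpen_le a) (a ^ k) g _ H2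
    rw [this, smul_smul, ← map_mul, ← pow_add]

lemma zero_app (S : ShortComplex X.Modules) (W : X.Opens) (u : Γ(S.X₁, W)) :
    S.g.app W (S.f.app W u) = 0 := by
  have h1 : (S.f ≫ S.g).app W = 0 := by rw [S.zero]; rfl
  have h2 : (S.f ≫ S.g).app W u = 0 := by rw [h1]; rfl
  exact h2

end Groth.Agent.LD.QC

namespace Groth.Agent.LD.QC
variable {X : Scheme.{u}}

lemma isLift_affine (S : ShortComplex X.Modules) (hS : S.ShortExact) [S.X₁.IsQuasicoherent]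
    {T : X.Opens} (a : Γ(X, T)) (h : Γ(S.X₃, T)) (t : Γ(S.X₂, X.basicOpen a))
    (ht : S.g.app (X.basicOpen a) t = S.X₃.presheaf.map (homOfLE (X.basicOpen_le a)).op h)
    {V : X.Opens} (hV : IsAffineOpen V) (hVT : V ≤ T) (γ : Γ(S.X₂, V))
    (hγ : S.g.app V γ = S.X₃.presheaf.map (homOfLE hVT).op h) :
    ∃ (n : ℕ) (g : Γ(S.X₂, V)), IsLift S a h t V hVT n g := by
  have hDT : X.basicOpen a ≤ T := X.basicOpen_le a
  have hb : X.basicOpen (X.presheaf.map (homOfLE hVT).op a) = V ⊓ X.basicOpen a :=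
    Scheme.basicOpen_res _ _ _
  -- the difference on `V ⊓ D`
  obtain ⟨e, he⟩ : ∃ e : Γ(S.X₂, V ⊓ X.basicOpen a),
      e = S.X₂.presheaf.map (homOfLE (inf_le_right : V ⊓ X.basicOpen a ≤ X.basicOpen a)).op t -
        S.X₂.presheaf.map (homOfLE (inf_le_left : V ⊓ X.basicOpen a ≤ V)).op γ := ⟨_, rfl⟩
  have hpe : S.g.app (V ⊓ X.basicOpen a) e = 0 := by
    rw [he, map_sub, app_res, app_res, ht, hγ, res_res, res_res, sub_self]
  obtain ⟨ε, hε⟩ := exact_sections S hS _ e hpe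
  obtain ⟨n, u, hu⟩ := affine_surj S.X₁ hV (X.presheaf.map (homOfLE hVT).op a)
    (S.X₁.presheaf.map (homOfLE hb.le).op ε)
  -- `u` restricted to `V ⊓ D`
  have hu' : S.X₁.presheaf.map (homOfLE (inf_le_left : V ⊓ X.basicOpen a ≤ V)).op u =
      X.presheaf.map (homOfLE (inf_le_left.trans hVT : V ⊓ X.basicOpen a ≤ T)).op (a ^ n) • ε := by
    apply res_injective_of_le_of_le S.X₁ hb.le hb.ge
    rw [res_res, smul_res, sres_res, map_pow]
    rw [sres_res] at hu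
    exact hu
  refine ⟨n, X.presheaf.map (homOfLE hVT).op (a ^ n) • γ + S.f.app V u, ?_, ?_⟩
  · rw [map_add, Scheme.Modules.Hom.app_smul, hγ, zero_app, add_zero]
  · rw [map_add, smul_res, smul_res, sres_res, sres_res, ← app_res, hu',
      Scheme.Modules.Hom.app_smul, hε, he, smul_sub]
    abel

end Groth.Agent.LD.QC

namespace Groth.Agent.LD.QC
variable {X : Scheme.{u}}

lemma isLift_glue (S : ShortComplex X.Modules) (hS : S.ShortExact) [S.X₁.IsQuasicoherent]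
    {T : X.Opens} (a : Γ(X, T)) (h : Γ(S.X₃, T)) (t : Γ(S.X₂, X.basicOpen a))
    {W V : X.Opens} (hWT : W ≤ T) (hVT : V ≤ T) (hc : IsCompact (W ⊓ V).1) (n : ℕ)
    (g₁ : Γ(S.X₂, W)) (g₂ : Γ(S.X₂, V)) (H₁ : IsLift S a h t W hWT n g₁)
    (H₂ : IsLift S a h t V hVT n g₂) :
    ∃ (m : ℕ) (g : Γ(S.X₂, W ⊔ V)), IsLift S a h t (W ⊔ V) (sup_le hWT hVT) (m + n) g := by
  have := hS.mono_f
  have hZT : W ⊓ V ≤ T := inf_le_left.trans hWT
  obtain ⟨d, hd⟩ : ∃ d : Γ(S.X₂, W ⊓ V),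
      d = S.X₂.presheaf.map (homOfLE (inf_le_left : W ⊓ V ≤ W)).op g₁ -
        S.X₂.presheaf.map (homOfLE (inf_le_right : W ⊓ V ≤ V)).op g₂ := ⟨_, rfl⟩
  have hpd : S.g.app (W ⊓ V) d = 0 := by
    rw [hd, map_sub, app_res, app_res, H₁.1, H₂.1, smul_res, smul_res, sres_res, sres_res,
      res_res, res_res, sub_self]
  obtain ⟨δ, hδ⟩ := exact_sections S hS _ d hpd
  obtain ⟨a₃, ha₃⟩ : ∃ a₃, a₃ = X.presheaf.map (homOfLE hZT).op a := ⟨_, rfl⟩
  have hb : X.basicOpen a₃ = (W ⊓ V) ⊓ X.basicOpen a := by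
    rw [ha₃]; exact Scheme.basicOpen_res _ _ _
  have hδ0 : S.X₁.presheaf.map (homOfLE (X.basicOpen_le a₃)).op δ = 0 := by
    apply mono_app S.f
    have l₁ : X.basicOpen a₃ ≤ W ⊓ X.basicOpen a := by
      rw [hb]; exact le_inf (inf_le_left.trans inf_le_left) inf_le_right
    have l₂ : X.basicOpen a₃ ≤ V ⊓ X.basicOpen a := by
      rw [hb]; exact le_inf (inf_le_left.trans inf_le_right) inf_le_right
    rw [app_res, hδ, hd, map_sub, res_res, res_res, map_zero,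
      ← res_res S.X₂ inf_le_left l₁, ← res_res S.X₂ inf_le_left l₂, H₁.2, H₂.2,
      res_res, res_res, sub_self]
  obtain ⟨m, hm⟩ := compact_inj S.X₁ hc a₃ δ hδ0
  have K₁ := H₁.smul m
  have K₂ := H₂.smul m
  have q₁ : S.X₂.presheaf.map (homOfLE (inf_le_left : W ⊓ V ≤ W)).op
      (X.presheaf.map (homOfLE hWT).op (a ^ m) • g₁) =
      a₃ ^ m • S.X₂.presheaf.map (homOfLE (inf_le_left : W ⊓ V ≤ W)).op g₁ := by
    rw [smul_res, sres_res, map_pow, ha₃]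
  have q₂ : S.X₂.presheaf.map (homOfLE (inf_le_right : W ⊓ V ≤ V)).op
      (X.presheaf.map (homOfLE hVT).op (a ^ m) • g₂) =
      a₃ ^ m • S.X₂.presheaf.map (homOfLE (inf_le_right : W ⊓ V ≤ V)).op g₂ := by
    rw [smul_res, sres_res, map_pow, ha₃]
  generalize X.presheaf.map (homOfLE hWT).op (a ^ m) • g₁ = y₁ at K₁ q₁
  generalize X.presheaf.map (homOfLE hVT).op (a ^ m) • g₂ = y₂ at K₂ q₂
  have hy : S.X₂.presheaf.map (homOfLE (inf_le_left : W ⊓ V ≤ W)).op y₁ =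
      S.X₂.presheaf.map (homOfLE (inf_le_right : W ⊓ V ≤ V)).op y₂ := by
    rw [← sub_eq_zero, q₁, q₂, ← smul_sub, ← hd, ← hδ, ← Scheme.Modules.Hom.app_smul, hm,
      map_zero]
  obtain ⟨z, hz₁, hz₂⟩ := glue2 S.X₂ y₁ y₂ hy
  refine ⟨m, z, ?_, ?_⟩
  · apply section_ext_of_cover2 S.X₃ (le_sup_left : W ≤ W ⊔ V) (le_sup_right : V ≤ W ⊔ V) le_rfl
    · rw [← app_res, hz₁, K₁.1, smul_res, sres_res, res_res]
    · rw [← app_res, hz₂, K₂.1, smul_res, sres_res, res_res]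
  · apply section_ext_of_cover2 S.X₂
      (inf_le_inf_right _ le_sup_left : W ⊓ X.basicOpen a ≤ (W ⊔ V) ⊓ X.basicOpen a)
      (inf_le_inf_right _ le_sup_right : V ⊓ X.basicOpen a ≤ (W ⊔ V) ⊓ X.basicOpen a)
    · rw [inf_sup_right]
    · rw [res_res, res_res, ← K₁.2, ← hz₁, res_res]
    · rw [res_res, res_res, ← K₂.2, ← hz₂, res_res]

end Groth.Agent.LD.QC

namespace Groth.Agent.LD.QC
variable {X : Scheme.{u}}

lemma exists_isLift_of_finset (S : ShortComplex X.Modules) (hS : S.ShortExact)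
    [S.X₁.IsQuasicoherent] {T : X.Opens} (hTqs : IsQuasiSeparated T.1)
    (a : Γ(X, T)) (h : Γ(S.X₃, T)) (t : Γ(S.X₂, X.basicOpen a))
    (ht : S.g.app (X.basicOpen a) t = S.X₃.presheaf.map (homOfLE (X.basicOpen_le a)).op h)
    {ι : Type*} (Vs : ι → X.Opens) (hVaff : ∀ i, IsAffineOpen (Vs i)) (hVT : ∀ i, Vs i ≤ T)
    (hγ : ∀ i, ∃ γ : Γ(S.X₂, Vs i),
      S.g.app (Vs i) γ = S.X₃.presheaf.map (homOfLE (hVT i)).op h)
    (s : Finset ι) :
    IsCompact (s.sup Vs).1 ∧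
      ∀ hW : s.sup Vs ≤ T, ∃ (n : ℕ) (g : Γ(S.X₂, s.sup Vs)), IsLift S a h t (s.sup Vs) hW n g := by
  classical
  induction s using Finset.induction_on with
  | empty =>
    rw [Finset.sup_empty]
    refine ⟨by simp, fun hW => ⟨0, 0, ?_, ?_⟩⟩
    · exact (section_eq_zero_of_le_bot S.X₃ le_rfl _).trans
        (section_eq_zero_of_le_bot S.X₃ le_rfl _).symm
    · exact (section_eq_zero_of_le_bot S.X₂ inf_le_left _).trans
        (section_eq_zero_of_le_bot S.X₂ inf_le_left _).symm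
  | insert i s _ IH =>
    rw [Finset.sup_insert, sup_comm]
    obtain ⟨hc, IH⟩ := IH
    have hWT : s.sup Vs ≤ T := Finset.sup_le fun j _ => hVT j
    refine ⟨?_, fun hW => ?_⟩
    · have : (s.sup Vs ⊔ Vs i).1 = (s.sup Vs).1 ∪ (Vs i).1 := rfl
      rw [this]
      exact hc.union (hVaff i).isCompact
    · obtain ⟨n₁, g₁, H₁⟩ := IH hWT
      obtain ⟨γ, hγ'⟩ := hγ i
      obtain ⟨n₂, g₂, H₂⟩ := isLift_affine S hS a h t ht (hVaff i) (hVT i) γ hγ'
      have K₁ := H₁.smul n₂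
      have K₂ := H₂.smul n₁
      rw [add_comm] at K₂
      have hcc : IsCompact (s.sup Vs ⊓ Vs i).1 :=
        hTqs (s.sup Vs).1 (Vs i).1 hWT (s.sup Vs).2 hc (hVT i) (Vs i).2 (hVaff i).isCompact
      obtain ⟨m, g, Hg⟩ := isLift_glue S hS a h t hWT (hVT i) hcc (n₂ + n₁) _ _ K₁ K₂
      exact ⟨_, g, Hg⟩

theorem surj_of_shortExact (S : ShortComplex X.Modules) (hS : S.ShortExact)
    [S.X₁.IsQuasicoherent] [S.X₃.IsQuasicoherent] {U : X.Opens} (hU : IsAffineOpen U)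
    (f : Γ(X, U)) (t : Γ(S.X₂, X.basicOpen f)) :
    ∃ (n : ℕ) (s : Γ(S.X₂, U)), S.X₂.presheaf.map (homOfLE (X.basicOpen_le f)).op s =
      (X.presheaf.map (homOfLE (X.basicOpen_le f)).op f) ^ n • t := by
  have hepi := hS.epi_g
  obtain ⟨k, h, hh⟩ := affine_surj S.X₃ hU f (S.g.app (X.basicOpen f) t)
  obtain ⟨t', ht'⟩ : ∃ t' : Γ(S.X₂, X.basicOpen f),
    t' = (X.presheaf.map (homOfLE (X.basicOpen_le f)).op f) ^ k • t := ⟨_, rfl⟩
  have hpt' : S.g.app (X.basicOpen f) t' =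
      S.X₃.presheaf.map (homOfLE (X.basicOpen_le f)).op h := by
    rw [ht', Scheme.Modules.Hom.app_smul, hh]
  -- the good affine opens
  let ι := {V : X.Opens // IsAffineOpen V ∧ ∃ hV : V ≤ U, ∃ γ : Γ(S.X₂, V),
    S.g.app V γ = S.X₃.presheaf.map (homOfLE hV).op h}
  have hcov : U.1 ⊆ ⋃ i : ι, (i.1 : Set X) := by
    intro x hx
    obtain ⟨W, hWU, hxW, γ, hγ⟩ := exists_local_lift S.g hepi U h x hx
    obtain ⟨g, hgW, hxg⟩ := hU.exists_basicOpen_le (V := W) ⟨x, hxW⟩ hx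
    refine Set.mem_iUnion.mpr ⟨⟨X.basicOpen g, hU.basicOpen g, X.basicOpen_le g,
      S.X₂.presheaf.map (homOfLE hgW).op γ, ?_⟩, hxg⟩
    rw [app_res, hγ, res_res]
  obtain ⟨s, hs⟩ := hU.isCompact.elim_finite_subcover (fun i : ι => (i.1 : Set X))
    (fun i => i.1.2) hcov
  obtain ⟨-, H⟩ := exists_isLift_of_finset S hS hU.isQuasiSeparated f h t' hpt'
    (fun i : ι => i.1) (fun i => i.2.1) (fun i => i.2.2.1) (fun i => i.2.2.2) s
  have hWU : s.sup (fun i : ι => i.1) ≤ U := Finset.sup_le fun i _ => i.2.2.1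
  have hUW : U ≤ s.sup (fun i : ι => i.1) := by
    intro x hx
    obtain ⟨i, hi⟩ := Set.mem_iUnion.mp (hs hx)
    obtain ⟨his, hxi⟩ := Set.mem_iUnion.mp hi
    exact (Finset.le_sup (f := fun i : ι => i.1) his) hxi
  obtain ⟨n, g, -, Hg⟩ := H hWU
  refine ⟨n + k, S.X₂.presheaf.map (homOfLE hUW).op g, ?_⟩
  have hDW : X.basicOpen f ≤ s.sup (fun i : ι => i.1) ⊓ X.basicOpen f :=
    le_inf ((X.basicOpen_le f).trans hUW) le_rfl
  have := congrArg (S.X₂.presheaf.map (homOfLE hDW).op) Hg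
  rw [res_res, res_res, res_self] at this
  rw [res_res, this, ht', smul_smul, map_pow, ← pow_add]

theorem qc_of_shortExact (S : ShortComplex X.Modules) (hS : S.ShortExact)
    (h1 : S.X₁.IsQuasicoherent) (h3 : S.X₃.IsQuasicoherent) : S.X₂.IsQuasicoherent :=
  qc_of_surj_inj _ (fun _ hU f t => surj_of_shortExact S hS hU f t)
    (fun _ hU f s hs => inj_of_shortExact S hS hU f s hs)

end Groth.Agent.LD.QC
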