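import Groth.Agent.Lib.Lead.QC.BasisFamPull
import Groth.Agent.Lib.Lead.Baer.TensorInj
import Groth.Agent.Lib.Lead.EZ.PostcompNat
import Groth.Agent.Lib.Lead.SC.MapResNat

/-! # The projection formula for higher direct images and finite locally free modules. -/

universe u
open CategoryTheory Limits AlgebraicGeometry TopologicalSpace Opposite TensorProduct

namespace Groth.Agent.LD.QC

section Flat
variable {X : Scheme.{u}}

/-- tensoring a monomorphism with a finite locally free module gives a monomorphism. -/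
theorem mono_tensorMap_of_isFinLocFree {G H : X.Modules} (i : G ⟶ H) [Mono i] (P : X.Modules)
    (hP : FlatMod.IsFinLocFree P) : Mono (KoszTw.tensorMap i (𝟙 P)) := by
  apply mono_of_injective_app
  intro U
  rw [injective_iff_map_eq_zero]
  intro z hz
  have hloc : ∀ x : U, ∃ (V : X.Opens) (hV : V ≤ U), x.1 ∈ V ∧
      (CohB1.tensorMod G P).presheaf.map (homOfLE hV).op z = 0 := by
    intro x
    obtain ⟨U', n, e, hxU', he⟩ := exists_isBasisFam_of_isFinLocFree P hP x.1
    have hle : U ⊓ U' ≤ U' := inf_le_right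
    have hleU : U ⊓ U' ≤ U := inf_le_left
    refine ⟨U ⊓ U', hleU, ⟨x.2, hxU'⟩, ?_⟩
    obtain ⟨t, ht⟩ := (bijective_tmul_of_isBasisFam G P he (U ⊓ U') hle).2
      ((CohB1.tensorMod G P).presheaf.map (homOfLE hleU).op z)
    dsimp only at ht
    have h1 : (KoszTw.tensorMap i (𝟙 P)).app (U ⊓ U')
        (∑ j, SecTwist.tmul G P (U ⊓ U') (t j) (P.presheaf.map (homOfLE hle).op (e j))) = 0 := by
      refine (congrArg ((KoszTw.tensorMap i (𝟙 P)).app (U ⊓ U')) ht).trans ?_
      rw [app_res, hz, map_zero]
    have h1' : ∑ j, SecTwist.tmul H P (U ⊓ U') (i.app (U ⊓ U') (t j))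
        (P.presheaf.map (homOfLE hle).op (e j)) = 0 := by
      refine Eq.trans ?_ h1
      refine Eq.trans ?_ (map_sum ((KoszTw.tensorMap i (𝟙 P)).app (U ⊓ U')).hom _ _).symm
      refine Finset.sum_congr rfl (fun j _ => ?_)
      exact (KoszTw.tensorMap_tmul i (𝟙 P) (U ⊓ U') (t j) _).symm
    have hb := (bijective_tmul_of_isBasisFam H P he (U ⊓ U') hle).1
    have h3 : (fun j => i.app (U ⊓ U') (t j)) = fun _ => (0 : Γ(H, U ⊓ U')) := by
      apply hb
      dsimp only
      refine h1'.trans (Eq.symm ?_)
      refine Finset.sum_eq_zero (fun j _ => ?_)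
      exact tmul_zero_left H P (U ⊓ U') _
    have h4 : t = fun _ => (0 : Γ(G, U ⊓ U')) := by
      funext j
      apply mono_app i (U ⊓ U')
      rw [congrFun h3 j, map_zero]
    refine ht.symm.trans ?_
    refine Finset.sum_eq_zero (fun j _ => ?_)
    rw [h4]
    exact tmul_zero_left G P (U ⊓ U') _
  choose V hV hxV hz0 using hloc
  apply section_ext_of_cover _ V hV
  · intro x hx
    exact Opens.mem_iSup.2 ⟨⟨x, hx⟩, hxV ⟨x, hx⟩⟩
  · intro x
    rw [map_zero, hz0 x]

/-- left tensoring in terms of right tensoring. -/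
theorem tensorMap_id_left_eq {G H : X.Modules} (i : G ⟶ H) (P : X.Modules) :
    KoszTw.tensorMap (𝟙 P) i =
      (tensorCommAll P G).hom ≫ KoszTw.tensorMap i (𝟙 P) ≫ (tensorCommAll H P).hom := by
  apply hom_ext_tmul
  intro U p g
  rw [Scheme.Modules.Hom.comp_app, Scheme.Modules.Hom.comp_app, ConcreteCategory.comp_apply,
    ConcreteCategory.comp_apply, tensorCommAll_hom_app_tmul, KoszTw.tensorMap_tmul,
    KoszTw.tensorMap_tmul, tensorCommAll_hom_app_tmul]

theorem mono_tensorMap_left_of_isFinLocFree {G H : X.Modules} (i : G ⟶ H) [Mono i]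
    (P : X.Modules) (hP : FlatMod.IsFinLocFree P) : Mono (KoszTw.tensorMap (𝟙 P) i) := by
  rw [tensorMap_id_left_eq]
  haveI := mono_tensorMap_of_isFinLocFree i P hP
  infer_instance

/-- left tensoring, as a functor. -/
noncomputable abbrev LT (P : X.Modules) : X.Modules ⥤ X.Modules := (DCoh.tensorBi (X := X)).obj P

instance (P : X.Modules) : PreservesFiniteColimits (LT P) :=
  inferInstanceAs (PreservesFiniteColimits ((ModSite.tensorBi X.sheaf).obj P))

instance (P : X.Modules) : (LT P).Additive :=
  inferInstanceAs (((ModSite.tensorBi X.sheaf).obj P).Additive)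

theorem preservesMonomorphisms_LT (P : X.Modules) (hP : FlatMod.IsFinLocFree P) :
    (LT P).PreservesMonomorphisms :=
  ⟨fun i _ => by
    rw [KoszTw.tensorBi_obj_map]
    exact mono_tensorMap_left_of_isFinLocFree i P hP⟩

theorem preservesFiniteLimits_LT (P : X.Modules) (hP : FlatMod.IsFinLocFree P) :
    PreservesFiniteLimits (LT P) := by
  haveI := preservesMonomorphisms_LT P hP
  exact MS.preservesFiniteLimits_of_rightExact_of_mono _

theorem preservesInjectiveObjects_LT (P : X.Modules) (hP : FlatMod.IsFinLocFree P) :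
    (LT P).PreservesInjectiveObjects :=
  ⟨fun {I} hI => by
    haveI := hI
    exact Baer.injective_tensor_of_isFinLocFree I P hP⟩

end Flat

section Proj
variable {X Y : Scheme.{u}} (f : X ⟶ Y)

/-- the projection morphism `E ⊗ f_* F ⟶ f_* (f^* E ⊗ F)`. -/
noncomputable def projHomL (F : X.Modules) (E : Y.Modules) :
    CohB1.tensorMod E ((Scheme.Modules.pushforward f).obj F) ⟶
      (Scheme.Modules.pushforward f).obj
        (CohB1.tensorMod ((Scheme.Modules.pullback f).obj E) F) :=
  (tensorCommAll E ((Scheme.Modules.pushforward f).obj F)).hom ≫ projHom f F E ≫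
    (Scheme.Modules.pushforward f).map (tensorCommAll F ((Scheme.Modules.pullback f).obj E)).hom

lemma projHomL_app_tmul (F : X.Modules) (E : Y.Modules) (V : Y.Opens) (l : Γ(E, V))
    (s : Γ((Scheme.Modules.pushforward f).obj F, V)) :
    (projHomL f F E).app V (SecTwist.tmul E _ V l s) =
      (show Γ((Scheme.Modules.pushforward f).obj
        (CohB1.tensorMod ((Scheme.Modules.pullback f).obj E) F), V) from
      SecTwist.tmul ((Scheme.Modules.pullback f).obj E) F (f ⁻¹ᵁ V) (unitSec f E V l)
        (show Γ(F, f ⁻¹ᵁ V) from s)) := by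
  unfold projHomL
  rw [Scheme.Modules.Hom.comp_app, Scheme.Modules.Hom.comp_app, ConcreteCategory.comp_apply,
    ConcreteCategory.comp_apply, tensorCommAll_hom_app_tmul, projHom_app_tmul]
  exact tensorCommAll_hom_app_tmul F ((Scheme.Modules.pullback f).obj E) (f ⁻¹ᵁ V) _ _

theorem isIso_projHomL (F : X.Modules) (E : Y.Modules) (hE : FlatMod.IsFinLocFree E) :
    IsIso (projHomL f F E) := by
  haveI := isIso_projHom_of_isFinLocFree f F E hE
  unfold projHomL
  infer_instance

/-- naturality of the projection morphism. -/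
theorem projHomL_naturality (E : Y.Modules) {F F' : X.Modules} (φ : F ⟶ F') :
    KoszTw.tensorMap (𝟙 E) ((Scheme.Modules.pushforward f).map φ) ≫ projHomL f F' E =
      projHomL f F E ≫ (Scheme.Modules.pushforward f).map
        (KoszTw.tensorMap (𝟙 ((Scheme.Modules.pullback f).obj E)) φ) := by
  apply hom_ext_tmul
  intro V l s
  rw [Scheme.Modules.Hom.comp_app, Scheme.Modules.Hom.comp_app, ConcreteCategory.comp_apply,
    ConcreteCategory.comp_apply, KoszTw.tensorMap_tmul, projHomL_app_tmul, projHomL_app_tmul]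
  change _ = (KoszTw.tensorMap (𝟙 _) φ).app (f ⁻¹ᵁ V) (SecTwist.tmul _ F (f ⁻¹ᵁ V) _ _)
  rw [KoszTw.tensorMap_tmul]
  rfl

/-- the projection formula as a natural isomorphism. -/
noncomputable def projIsoL (E : Y.Modules) (hE : FlatMod.IsFinLocFree E) :
    Scheme.Modules.pushforward f ⋙ LT E ≅
      LT ((Scheme.Modules.pullback f).obj E) ⋙ Scheme.Modules.pushforward f :=
  NatIso.ofComponents (fun F =>
    (@asIso _ _ _ _ (projHomL f F E) (isIso_projHomL f F E hE) :
      (LT E).obj ((Scheme.Modules.pushforward f).obj F) ≅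
      (Scheme.Modules.pushforward f).obj ((LT ((Scheme.Modules.pullback f).obj E)).obj F)))
    (by
      intro F F' φ
      have h := projHomL_naturality f E φ
      rw [← KoszTw.tensorBi_obj_map, ← KoszTw.tensorBi_obj_map] at h
      exact h)

end Proj

section Main
variable {X Y : Scheme.{u}} (f : X ⟶ Y) [HasInjectiveResolutions X.Modules]

/-- **the projection formula for higher direct images.** -/
theorem nonempty_tensor_Rpush_iso (F : X.Modules) (E : Y.Modules) (hE : FlatMod.IsFinLocFree E)
    (q : ℕ) :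
    Nonempty (CohB1.tensorMod E (((Scheme.Modules.pushforward f).rightDerived q).obj F) ≅
      ((Scheme.Modules.pushforward f).rightDerived q).obj
        (CohB1.tensorMod ((Scheme.Modules.pullback f).obj E) F)) := by
  have hP := isFinLocFree_pullback f E hE
  let G := LT ((Scheme.Modules.pullback f).obj E)
  haveI : PreservesFiniteLimits G := preservesFiniteLimits_LT _ hP
  haveI : G.PreservesInjectiveObjects := preservesInjectiveObjects_LT _ hP
  haveI : PreservesFiniteLimits (LT E) := preservesFiniteLimits_LT _ hE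
  haveI : (LT E).PreservesHomology :=
    Functor.preservesHomology_of_preservesEpis_and_kernels _
  let e : G ⋙ Scheme.Modules.pushforward f ≅ Scheme.Modules.pushforward f ⋙ LT E :=
    (projIsoL f E hE).symm
  let a := SC.rightDerivedCompNatIso G (Scheme.Modules.pushforward f)
    (Scheme.Modules.pushforward f ⋙ LT E) e q
  let b := EZ.rightDerivedPostcompNatIso (Scheme.Modules.pushforward f) (LT E) q
  exact ⟨(b.app F).symm ≪≫ (a.app F).symm⟩

end Main

end Groth.Agent.LD.QC
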