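import Groth.Agent.Lib.Lead.QC.SemiLocal
universe u
open CategoryTheory Limits AlgebraicGeometry TopologicalSpace Opposite

namespace Groth.Agent.LD.QC
variable {Y : Scheme.{u}}

/-- a locally free module of rank `r` is free of rank `r` on a neighbourhood of any finite subset of
an affine open. -/
theorem exists_affine_free_nhds_of_finite (r : ℕ) (E : Y.Modules) (hE : FlatMod.IsFinLocFreeOfRank r E)
    (Z : Set Y) (hZ : Z.Finite) (V : Y.Opens) (hV : IsAffineOpen V) (hZV : Z ⊆ V) :
    ∃ U : Y.Opens, IsAffineOpen U ∧ Z ⊆ U ∧ U ≤ V ∧ Nonempty (E.restrict U.ι ≅ freeMod (U : Scheme.{u}) r) := by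
  classical
  have hE' : FlatMod.IsFinLocFree E := fun x => by
    obtain ⟨U, hx, e⟩ := hE x
    exact ⟨U, r, hx, e⟩
  haveI := qc_of_isFinLocFree E hE'
  obtain ⟨hfp, hflat⟩ := (isFinLocFree_iff_sections E).mp hE' V hV
  have hrank : ∀ q : PrimeSpectrum Γ(Y, V), Module.rankAtStalk (R := Γ(Y, V)) Γ(E, V) q = r := by
    intro q
    have hy : hV.fromSpec q ∈ V := fromSpec_mem hV q
    have h1 := finrank_stalk_eq_rankAtStalk E hV (hV.fromSpec q) hy
    rw [primeIdealOf_fromSpec hV q hy] at h1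
    rw [← h1]
    exact finrank_stalk_of_isFinLocFreeOfRank r E hE _
  let p : Y → Ideal Γ(Y, V) := fun z =>
    if hz : z ∈ V then (hV.primeIdealOf ⟨z, hz⟩).asIdeal else ⊤
  have hp : ∀ z ∈ hZ.toFinset, (p z).IsPrime := by
    intro z hz
    have hzV : z ∈ V := hZV (hZ.mem_toFinset.mp hz)
    simp only [p, dif_pos hzV]
    exact (hV.primeIdealOf ⟨z, hzV⟩).isPrime
  obtain ⟨g, hg, ⟨ℓ⟩⟩ := exists_free_away_of_finset_primes Γ(E, V) r hrank hZ.toFinset p hp
  have hU : IsAffineOpen (Y.basicOpen g) := hV.basicOpen g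
  refine ⟨Y.basicOpen g, hU, ?_, Y.basicOpen_le g, ?_⟩
  · intro z hz
    have hzV : z ∈ V := hZV hz
    have := hg z (hZ.mem_toFinset.mpr hz)
    simp only [p, dif_pos hzV] at this
    exact mem_basicOpen_of_mem_primeCompl hV z hzV g this
  · letI : Algebra Γ(Y, V) Γ(Y, Y.basicOpen g) := resAlgebra (Y.basicOpen_le g)
    letI : Module Γ(Y, V) Γ(E, Y.basicOpen g) := resModule E (Y.basicOpen_le g)
    haveI : IsScalarTower Γ(Y, V) Γ(Y, Y.basicOpen g) Γ(E, Y.basicOpen g) :=
      resModule_isScalarTower E (Y.basicOpen_le g)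
    haveI : IsLocalization.Away g Γ(Y, Y.basicOpen g) := hV.isLocalization_basicOpen g
    haveI : IsLocalizedModule.Away g (resLinear E (Y.basicOpen_le g)) :=
      isLocalizedModule_basicOpen E hV g
    obtain ⟨b⟩ := nonempty_basis_of_semilinear_equiv
      (IsLocalization.algEquiv (Submonoid.powers g) (Localization.Away g)
        Γ(Y, Y.basicOpen g)).toRingEquiv
      (IsLocalizedModule.linearEquiv (Submonoid.powers g)
        (LocalizedModule.mkLinearMap (Submonoid.powers g) Γ(E, V))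
        (resLinear E (Y.basicOpen_le g))).toAddEquiv
      (fun a n => isLocalizedModule_equiv_semilinear (Submonoid.powers g) _ _ a n)
      (Module.Basis.ofEquivFun ℓ)
    obtain ⟨e⟩ := (restrict_fromSpec_iso_freeMod_iff E hU r).mpr ⟨b.equivFun⟩
    exact freeMod_of_range_subset E hU.fromSpec (Y.basicOpen g).ι
      (range_ι_subset_range_fromSpec hU) r e

end Groth.Agent.LD.QC
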