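import Groth.Agent.Lib.Lead.QC.CounitEpi2
import Groth.Agent.Lib.Lead.QC.PullInv
import Groth.Agent.Lib.Lead.QC.Gen
import Groth.Prelude.Def_Curv2

/-! # Global generation descends along closed immersions. -/

universe u
open CategoryTheory Limits AlgebraicGeometry TopologicalSpace Opposite

namespace Groth.Agent.LD.QC

variable {X Y : Scheme.{u}} (f : X ⟶ Y)

/-- every open of the source of a closed immersion is the preimage of an open. -/
lemma exists_preimage_eq_of_isClosedImmersion [IsClosedImmersion f] (U : X.Opens) :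
    ∃ V : Y.Opens, f ⁻¹ᵁ V = U := by
  have hcl : IsClosed (f '' (U.1)ᶜ) :=
    f.isClosedEmbedding.isClosedMap _ U.2.isClosed_compl
  refine ⟨⟨(f '' (U.1)ᶜ)ᶜ, hcl.isOpen_compl⟩, ?_⟩
  ext x
  change f x ∉ f '' (U.1)ᶜ ↔ x ∈ U
  constructor
  · intro h
    by_contra hx
    exact h ⟨x, hx, rfl⟩
  · rintro hx ⟨y, hy, hxy⟩
    have := f.isClosedEmbedding.injective hxy
    subst this
    exact hy hx

/-- **the counit `f^* f_* G ⟶ G` is an epimorphism** for a closed immersion `f` and `G` of finite
type. -/
theorem epi_counit_of_isClosedImmersion [IsClosedImmersion f] (G : X.Modules)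
    (hG : G.IsFiniteType) :
    Epi ((Scheme.Modules.pullbackPushforwardAdjunction f).counit.app G) := by
  apply epi_counit_of_local_epi_free
  intro x
  obtain ⟨U, hxU, σ, -⟩ := (isFiniteType_iff_forall_exists G).mp hG x
  obtain ⟨V, rfl⟩ := exists_preimage_eq_of_isClosedImmersion f U
  exact ⟨V, hxU, σ.I, σ.π, σ.epi⟩

/-- the pullback of a free module is free. -/
noncomputable def pbFreeIso (ι : Type u) :
    (Scheme.Modules.pullback f).obj (SheafOfModules.free ι : Y.Modules) ≅
      (SheafOfModules.free ι : X.Modules) :=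
  PreservesCoproduct.iso (Scheme.Modules.pullback f) (fun _ : ι => unitMod Y) ≪≫
    Sigma.mapIso (fun _ => pbUnitIso f)

/-- **global generation descends along closed immersions.** -/
theorem isGloballyGenerated_of_push [IsClosedImmersion f] (G : X.Modules) (hG : G.IsFiniteType)
    (h : Curv2.IsGloballyGenerated ((Scheme.Modules.pushforward f).obj G)) :
    Curv2.IsGloballyGenerated G := by
  obtain ⟨ι, p, hp⟩ := h
  haveI := epi_counit_of_isClosedImmersion f G hG
  haveI : (Scheme.Modules.pullback f).PreservesEpimorphisms :=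
    Functor.preservesEpimorphisms_of_adjunction (Scheme.Modules.pullbackPushforwardAdjunction f)
  let p' : (SheafOfModules.free ι : Y.Modules) ⟶ (Scheme.Modules.pushforward f).obj G := p
  haveI : Epi p' := hp
  haveI h1 : Epi ((Scheme.Modules.pullback f).map p') :=
    @Functor.map_epi _ _ _ _ (Scheme.Modules.pullback f) _ _ _ p' hp
  haveI h2 : Epi ((Scheme.Modules.pullback f).map p' ≫
    (Scheme.Modules.pullbackPushforwardAdjunction f).counit.app G) := epi_comp _ _
  have h3 : Epi ((pbFreeIso f ι).inv ≫ (Scheme.Modules.pullback f).map p' ≫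
    (Scheme.Modules.pullbackPushforwardAdjunction f).counit.app G) := epi_comp _ _
  exact ⟨ι, _, h3⟩

end Groth.Agent.LD.QC
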