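import Groth.Agent.Lib.Lead.QC.IdealOfHom
import Groth.Agent.Lib.Lead.QC.IdealMod
import Groth.Agent.Lib.Lead.QC.HomAffine
import Groth.Agent.Lib.Lead.QC.InvBasis
import Groth.Agent.Lib.Lead.QC.Extend
import Groth.Agent.Lib.Lead.QC.Gen
import Groth.Agent.Lib.Lead.QC.TensorExact
import Groth.Agent.Lib.Lead.QC.FreeData
import Groth.Agent.Lib.Lead.QC.InvIntegral
import Groth.Agent.Lib.Lead.QC.AmpleBase
import Groth.Prelude.Def_PicF2

/-! # The zero scheme of a section of an invertible module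

For `L` invertible with inverse `M` (`ε : L ⊗ M ≅ O`) and a section `s : O ⟶ L`, the zero scheme
`Z(s)` is the ideal sheaf which is the image of the dual section `s^∨ : M ⟶ O`; if `s` is
regular (a monomorphism), the ideal module of `Z(s)` is isomorphic to `M`. -/

universe u
open CategoryTheory Limits AlgebraicGeometry TopologicalSpace Opposite

namespace Groth.Agent.LD.QC

variable {X : Scheme.{u}}

section IdealOfHom
variable (F : X.Modules) [F.IsQuasicoherent] (u : F ⟶ unitMod X)

lemma comp_toSubscheme_idealOfHom : u ≫ ClSub.toSubscheme (idealOfHom F u) = 0 := by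
  apply hom_ext_affine
  intro U t
  have hmem : (show Γ(X, U.1) from u.app U.1 t) ∈ (idealOfHom F u).ideal U :=
    (mem_idealOfHom_iff F u U _).mpr ⟨t, rfl⟩
  rw [← (idealOfHom F u).ker_subschemeι_app U] at hmem
  exact hmem

/-- the canonical map `F ⟶ 𝓘`, `𝓘` the image ideal of `u : F ⟶ O`. -/
noncomputable def toIdealModOfHom : F ⟶ ClSub.idealMod (idealOfHom F u) :=
  kernel.lift (ClSub.toSubscheme (idealOfHom F u)) u (comp_toSubscheme_idealOfHom F u)

lemma toIdealModOfHom_ι :
    toIdealModOfHom F u ≫ ClSub.idealModι (idealOfHom F u) = u :=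
  kernel.lift_ι _ _ _

lemma toIdealModOfHom_ι_app (U : X.Opens) (t : Γ(F, U)) :
    (ClSub.idealModι (idealOfHom F u)).app U ((toIdealModOfHom F u).app U t) = u.app U t :=
  congrArg (fun φ => φ.app U t) (toIdealModOfHom_ι F u)

/-- a quasi-coherent submodule of `O` is the ideal module of its image ideal. -/
theorem isIso_toIdealModOfHom [Mono u] : IsIso (toIdealModOfHom F u) := by
  apply isIso_of_bijective_affine
  intro U
  constructor
  · intro a b hab
    apply mono_app u U.1
    exact (toIdealModOfHom_ι_app F u U.1 a).symm.trans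
      ((congrArg _ hab).trans (toIdealModOfHom_ι_app F u U.1 b))
  · intro c
    have hc : (show Γ(X, U.1) from (ClSub.idealModι (idealOfHom F u)).app U.1 c) ∈
        (idealOfHom F u).ideal U :=
      (exists_idealModι_app_eq_iff (idealOfHom F u) U _).mp ⟨c, rfl⟩
    obtain ⟨t, ht⟩ := (mem_idealOfHom_iff F u U _).mp hc
    exact ⟨t, idealModι_app_injective _ U.1 ((toIdealModOfHom_ι_app F u U.1 t).trans ht)⟩

end IdealOfHom

section Pairing

lemma pairing_symm_of_basis {L M : X.Modules} (φ : CohB1.tensorMod L M ⟶ unitMod X)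
    {V : X.Opens} {e : Γ(L, V)} (he : IsBasisOver L V e) (ℓ₁ ℓ₂ : Γ(L, V)) (m : Γ(M, V)) :
    (show Γ(X, V) from φ.app V (SecTwist.tmul L M V ℓ₁ m)) • ℓ₂ =
      (show Γ(X, V) from φ.app V (SecTwist.tmul L M V ℓ₂ m)) • ℓ₁ := by
  obtain ⟨a₁, rfl⟩ := he.self_smul ℓ₁
  obtain ⟨a₂, rfl⟩ := he.self_smul ℓ₂
  obtain ⟨c, hc⟩ : ∃ c : Γ(X, V), c = φ.app V (SecTwist.tmul L M V e m) := ⟨_, rfl⟩
  have h1 : ∀ a : Γ(X, V), φ.app V (SecTwist.tmul L M V (a • e) m) =
      (show Γ(unitMod X, V) from a * c) := by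
    intro a
    rw [tmul_smul_left, hc]
    exact Scheme.Modules.Hom.app_smul φ a _
  rw [h1 a₁, h1 a₂]
  change (a₁ * c) • a₂ • e = (a₂ * c) • a₁ • e
  rw [smul_smul, smul_smul]
  congr 1
  ring

/-- a pairing `L ⊗ M ⟶ O` on an invertible module `L` is symmetric in the sections of `L`. -/
lemma pairing_symm {L M : X.Modules} (hL : PicF.IsInvertible L)
    (φ : CohB1.tensorMod L M ⟶ unitMod X) (U : X.Opens) (ℓ₁ ℓ₂ : Γ(L, U)) (m : Γ(M, U)) :
    (show Γ(X, U) from φ.app U (SecTwist.tmul L M U ℓ₁ m)) • ℓ₂ =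
      (show Γ(X, U) from φ.app U (SecTwist.tmul L M U ℓ₂ m)) • ℓ₁ := by
  have hres : ∀ (V : X.Opens) (hV : V ≤ U) (ℓ ℓ' : Γ(L, U)),
      L.presheaf.map (homOfLE hV).op
          ((show Γ(X, U) from φ.app U (SecTwist.tmul L M U ℓ m)) • ℓ') =
        (show Γ(X, V) from φ.app V (SecTwist.tmul L M V (L.presheaf.map (homOfLE hV).op ℓ)
          (M.presheaf.map (homOfLE hV).op m))) • L.presheaf.map (homOfLE hV).op ℓ' := by
    intro V hV ℓ ℓ'
    rw [smul_res, ← tmul_res, app_res]
    rfl
  choose W e hxW he using fun x : U => (isInvertible_iff_exists_isBasisOver L).mp hL x.1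
  refine section_ext_of_cover L (fun x : U => W x ⊓ U) (fun x => inf_le_right)
    (fun y hy => Opens.mem_iSup.mpr ⟨⟨y, hy⟩, ⟨hxW ⟨y, hy⟩, hy⟩⟩) _ _ (fun x => ?_)
  rw [hres, hres]
  exact pairing_symm_of_basis φ ((he x).mono inf_le_left) _ _ _

end Pairing

section ZeroScheme
variable (L M : X.Modules) [M.IsQuasicoherent] (ε : CohB1.tensorMod L M ≅ unitMod X)
  (s : Coh.structureModule X ⟶ L)

/-- the dual section `s^∨ : M ⟶ O_X`, `m ↦ ε (s ⊗ m)`. -/
noncomputable def dualSec : M ⟶ unitMod X :=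
  (unitorL M).inv ≫ KoszTw.tensorMap s (𝟙 M) ≫ ε.hom

lemma dualSec_app (U : X.Opens) (m : Γ(M, U)) :
    (dualSec L M ε s).app U m = ε.hom.app U (SecTwist.tmul L M U (PicF2.secVal L s U) m) := by
  change ε.hom.app U ((KoszTw.tensorMap s (𝟙 M)).app U ((unitorL M).inv.app U m)) = _
  rw [unitorL_inv_app, KoszTw.tensorMap_tmul]
  rfl

lemma mono_dualSec (hM : PicF.IsInvertible M) [Mono s] : Mono (dualSec L M ε s) := by
  haveI := mono_tensorMap_of_isInvertible s M hM
  unfold dualSec
  infer_instance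

/-- **the zero scheme of a section of an invertible module is the image ideal of the dual
section.** -/
theorem zeroScheme_eq_idealOfHom (hL : PicF.IsInvertible L) :
    PicF2.zeroScheme L s = idealOfHom M (dualSec L M ε s) := by
  apply le_antisymm
  · refine Scheme.IdealSheafData.le_of_iSup_eq_top
      (fun U : {U : X.affineOpens // ∃ e : Γ(L, U.1), IsBasisOver L U.1 e} => U.1) ?_ ?_
    · rw [eq_top_iff]
      intro x _
      obtain ⟨U₀, e₀, hxU₀, he₀⟩ := (isInvertible_iff_exists_isBasisOver L).mp hL x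
      obtain ⟨V, hV, hxV, hVle⟩ :=
        exists_isAffineOpen_mem_and_subset (x := x) (U := U₀) hxU₀
      exact Opens.mem_iSup.mpr ⟨⟨⟨V, hV⟩, _, he₀.mono hVle⟩, hxV⟩
    · rintro ⟨U, e, he⟩ a ha
      have ha' : a ∈ PicF2.zeroIdealOn L s U.1 :=
        Scheme.IdealSheafData.ideal_ofIdeals_le _ U ha
      have hex : ∃ b : Γ(X, U.1), a • e = b • PicF2.secVal L s U.1 := ha' e
      obtain ⟨b, hb⟩ := hex
      obtain ⟨c, hc⟩ := he.self_smul (PicF2.secVal L s U.1)
      have hac : a = b * c := by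
        apply he.coord_injective
        have h4 : b • PicF2.secVal L s U.1 = (b * c) • e := by
          rw [← hc]
          exact (mul_smul b c e).symm
        exact hb.trans h4
      -- a dual basis element
      obtain ⟨m₀, hm₀⟩ : ∃ m₀ : Γ(M, U.1),
          ε.hom.app U.1 (SecTwist.tmul L M U.1 e m₀) = (show Γ(unitMod X, U.1) from (1 : Γ(X, U.1))) := by
        obtain ⟨w, hw⟩ : ∃ w : Γ(CohB1.tensorMod L M, U.1),
            ε.hom.app U.1 w = (show Γ(unitMod X, U.1) from (1 : Γ(X, U.1))) := by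
          refine ⟨ε.inv.app U.1 (show Γ(unitMod X, U.1) from (1 : Γ(X, U.1))), ?_⟩
          rw [← ConcreteCategory.comp_apply, ← Scheme.Modules.Hom.comp_app, Iso.inv_hom_id]
          rfl
        obtain ⟨m₀, hm₀⟩ := (bijective_tmul_of_isBasisOver M L he U.1 le_rfl).2
          ((tensorCommAll L M).hom.app U.1 w)
        refine ⟨m₀, ?_⟩
        have hm₀' : SecTwist.tmul M L U.1 m₀ e = (tensorCommAll L M).hom.app U.1 w := by
          rw [← hm₀, res_self]
        have h2 : SecTwist.tmul L M U.1 e m₀ = w := by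
          have h3 := congrArg ((tensorCommAll L M).inv.app U.1) hm₀'
          rw [tensorCommAll_inv_app_tmul] at h3
          rw [h3, ← ConcreteCategory.comp_apply, ← Scheme.Modules.Hom.comp_app, Iso.hom_inv_id]
          rfl
        rw [h2, hw]
      rw [mem_idealOfHom_iff]
      refine ⟨b • m₀, ?_⟩
      have h5 : SecTwist.tmul L M U.1 (PicF2.secVal L s U.1) (b • m₀) =
          (c * b) • SecTwist.tmul L M U.1 e m₀ := by
        rw [← hc, tmul_smul_left, tmul_smul_right]
        exact (mul_smul c b _).symm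
      rw [dualSec_app, h5]
      have h6 := Scheme.Modules.Hom.app_smul ε.hom (c * b) (SecTwist.tmul L M U.1 e m₀)
      rw [hm₀] at h6
      refine h6.trans ?_
      rw [hac]
      change (c * b) * 1 = b * c
      ring
  · unfold PicF2.zeroScheme
    rw [Scheme.IdealSheafData.le_ofIdeals_iff]
    intro U a ha
    obtain ⟨m, hm⟩ := (mem_idealOfHom_iff M _ U a).mp ha
    change ∀ ℓ : L.val.obj (op U.1), ∃ b : X.ringCatSheaf.obj.obj (op U.1),
      a • ℓ = b • PicF2.secVal L s U.1
    intro ℓ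
    refine ⟨ε.hom.app U.1 (SecTwist.tmul L M U.1 ℓ m), ?_⟩
    rw [← hm, dualSec_app]
    exact pairing_symm hL ε.hom U.1 (PicF2.secVal L s U.1) ℓ m

include ε in
/-- **for a regular section `s` of an invertible module `L` with inverse `M`, the ideal module
of the zero scheme of `s` is isomorphic to `M`.** -/
theorem nonempty_iso_idealMod_zeroScheme (hL : PicF.IsInvertible L) (hM : PicF.IsInvertible M)
    [Mono s] : Nonempty (M ≅ ClSub.idealMod (PicF2.zeroScheme L s)) := by
  haveI := mono_dualSec L M ε s hM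
  haveI := isIso_toIdealModOfHom M (dualSec L M ε s)
  rw [zeroScheme_eq_idealOfHom L M ε s hL]
  exact ⟨asIso (toIdealModOfHom M (dualSec L M ε s))⟩

end ZeroScheme

end Groth.Agent.LD.QC
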