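import Groth.Agent.Lib.Lead.QC.AmpleBasis
universe u
open CategoryTheory Limits AlgebraicGeometry TopologicalSpace Opposite TensorProduct

namespace Groth.Agent.LD.QC
variable {X : Scheme.{u}}

/-- `O^{⊗ n} ≅ O`. -/
noncomputable def unitPowIso (X : Scheme.{u}) : (n : ℕ) → (CohB1.tensorPow (unitMod X) n ≅ unitMod X)
  | 0 => Iso.refl _
  | n + 1 => SecTwist.unitorR _ ≪≫ unitPowIso X n

/-- on a quasi-compact quasi-separated scheme, for `s` a section of an invertible module `M`, `e` a
basis over `X_s` of an invertible module `N`, and `g` a function on `X_s`, the non-vanishing locus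
of `g` is of the form `X_T` for a section `T` of `N ⊗ M^n ⊗ M`. -/
theorem exists_genLocus_eq_basicOpen' [CompactSpace X] [QuasiSeparatedSpace X] (M : X.Modules)
    (hM : PicF.IsInvertible M) (s : unitMod X ⟶ M) (N : X.Modules) (hN : PicF.IsInvertible N)
    (e : Γ(N, CohB1.genLocus M s)) (he : IsBasisOver N (CohB1.genLocus M s) e)
    (g : Γ(X, CohB1.genLocus M s)) :
    ∃ (n : ℕ) (T : unitMod X ⟶ CohB1.tensorMod (CohB1.tensorMod N (CohB1.tensorPow M n)) M),
      CohB1.genLocus _ T = X.basicOpen g := by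
  haveI : M.IsQuasicoherent := qc_of_isInvertible M hM
  haveI : N.IsQuasicoherent := qc_of_isInvertible N hN
  obtain ⟨n, -, t', ht'⟩ := exists_extension_twist M hM s N (g • e)
  let T : unitMod X ⟶ CohB1.tensorMod N (CohB1.tensorPow M n) := homOfSection _ t'
  have hbasis : IsBasisOver M (CohB1.genLocus _ s) (SecTwist.val s (CohB1.genLocus _ s)) :=
    isBasisOver_val_of_le s le_rfl
  have hbasis2 := he.tmul (hbasis.secPow n)
  have hval : SecTwist.val T (CohB1.genLocus _ s) =
      g • SecTwist.tmul N (CohB1.tensorPow M n) (CohB1.genLocus _ s)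
        e (secPow (SecTwist.val s (CohB1.genLocus _ s)) n) := by
    rw [val_homOfSection]
    refine ht'.trans ?_
    rw [← tmul_smul_left]
    change SecTwist.tmul N (CohB1.tensorPow M n) (CohB1.genLocus _ s)
      (g • e) (SecTwist.pow s n _) = _
    rw [pow_eq_secPow]
  have hG := genLocus_inf_eq_basicOpen T hbasis2 g hval
  refine ⟨n, SecTwist.tmulHom T s, ?_⟩
  rw [genLocus_tmulHom (isInvertible_tensorMod hN (isInvertible_tensorPow hM n)) hM, hG]

end Groth.Agent.LD.QC
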