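import Groth.Agent.Lib.Lead.QC.AmpleIso
import Groth.Agent.Lib.Lead.QC.GlobGenRel
import Groth.Agent.Lib.Lead.QC.AmpleBase

/-! # Global generation of `G` from global generation of `G ⊗ L` and surjectivity of the
multiplication map `H^0(G) ⊗ H^0(L) ⟶ H^0(G ⊗ L)`. -/

universe u
open CategoryTheory Limits AlgebraicGeometry TopologicalSpace Opposite TensorProduct

namespace Groth.Agent.LD.QC
variable {X : Scheme.{u}}

/-- a morphism out of a finite free module, on sections, in terms of the images of the basis. -/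
lemma app_freeMod_eq_sum (M : X.Modules) {K : ℕ} (p : FlatMod.freeMod X K ⟶ M) (W : X.Opens)
    (g : Γ(FlatMod.freeMod X K, W)) :
    p.app W g = ∑ j, (show Γ(X, W) from (freeProj X K j).app W g) •
      (Sigma.ι (fun _ : Fin K => unitMod X) j ≫ p).app W (1 : Γ(X, W)) := by
  have h1 : g = ∑ j, (Sigma.ι (fun _ : Fin K => unitMod X) j).app W ((freeProj X K j).app W g) := by
    have h2 := sum_app (fun j => freeProj X K j ≫ Sigma.ι (fun _ : Fin K => unitMod X) j) W g
    rw [freeProj_total] at h2
    exact h2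
  conv_lhs => rw [h1]
  rw [map_sum]
  refine Finset.sum_congr rfl (fun j _ => ?_)
  exact unitHom_app M (Sigma.ι (fun _ : Fin K => unitMod X) j ≫ p) W ((freeProj X K j).app W g)

/-- if `G ⊗ L` is generated by finitely many global sections, `L` is invertible and the
multiplication map `H^0(G) ⊗ H^0(L) ⟶ H^0(G ⊗ L)` is surjective, then `G` is generated by its
global sections. -/
theorem epi_homOfFamily_of_twist (G L : X.Modules) [G.IsQuasicoherent] (hL : PicF.IsInvertible L)
    (hsurj : Function.Surjective (tensorSec G L ⊤)) {K : ℕ}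
    (p : FlatMod.freeMod X K ⟶ CohB1.tensorMod G L) (hp : Epi p) :
    Epi (homOfFamily G (fun a : Γ(G, ⊤) => a)) := by
  haveI : L.IsQuasicoherent := qc_of_isInvertible L hL
  apply epi_homOfFamily_of_span
  intro x U hxU
  obtain ⟨W, u, hW, hxW, hWU, hu⟩ := exists_affine_basis L hL x U hxU
  refine ⟨W, hWU, hxW, ?_⟩
  rw [eq_top_iff]
  intro g _
  set S := Submodule.span Γ(X, W)
    (Set.range fun a : Γ(G, ⊤) => G.presheaf.map (homOfLE (le_top : W ≤ ⊤)).op a) with hS
  have claim : ∀ w : Γ(G, ⊤) ⊗[Γ(X, ⊤)] Γ(L, ⊤), ∃ g' ∈ S,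
      (CohB1.tensorMod G L).presheaf.map (homOfLE (le_top : W ≤ ⊤)).op (tensorSec G L ⊤ w) =
        SecTwist.tmul G L W g' u := by
    intro w
    induction w using TensorProduct.induction_on with
    | zero =>
      refine ⟨0, S.zero_mem, ?_⟩
      rw [map_zero, map_zero]
      exact (tmul_zero_left G L W u).symm
    | tmul a b =>
      obtain ⟨β, hβ⟩ := (hu W le_rfl).2 (L.presheaf.map (homOfLE (le_top : W ≤ ⊤)).op b)
      have hβ' : β • u = L.presheaf.map (homOfLE (le_top : W ≤ ⊤)).op b := by
        have h2 : β • L.presheaf.map (homOfLE (le_refl W)).op u =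
          L.presheaf.map (homOfLE (le_top : W ≤ ⊤)).op b := hβ
        rw [res_self] at h2
        exact h2
      refine ⟨β • G.presheaf.map (homOfLE (le_top : W ≤ ⊤)).op a,
        S.smul_mem β (Submodule.subset_span ⟨a, rfl⟩), ?_⟩
      rw [← tmul_eq_tensorSec, tmul_res, ← hβ', tmul_smul_right, tmul_smul_left]
    | add w1 w2 h1 h2 =>
      obtain ⟨g1, hg1, e1⟩ := h1
      obtain ⟨g2, hg2, e2⟩ := h2
      refine ⟨g1 + g2, S.add_mem hg1 hg2, ?_⟩
      rw [map_add, map_add, e1, e2]
      exact (tmul_add_left G L W g1 g2 u).symm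
  haveI := hp
  obtain ⟨r, hr⟩ := epi_app_affine (inferInstance) (inferInstance) p hW (SecTwist.tmul G L W g u)
  have hdec := app_freeMod_eq_sum _ p W r
  set b : Fin K → Γ(X, W) := fun j => (freeProj X K j).app W r with hb
  choose w hw using fun j : Fin K =>
    hsurj ((Sigma.ι (fun _ : Fin K => unitMod X) j ≫ p).app ⊤ (1 : Γ(X, ⊤)))
  choose g' hg'S hg' using fun j => claim (w j)
  have hone : ∀ j : Fin K, (Sigma.ι (fun _ : Fin K => unitMod X) j ≫ p).app W (1 : Γ(X, W)) =
      SecTwist.tmul G L W (g' j) u := by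
    intro j
    rw [← hg' j, hw j]
    exact (unitHom_app_one_res _ _ (le_top : W ≤ ⊤)).symm
  have key : SecTwist.tmul G L W g u =
      SecTwist.tmul G L W (∑ j, b j • g' j) u := by
    rw [← hr, hdec]
    have h3 : SecTwist.tmul G L W (∑ j, b j • g' j) u =
        tmulRightₗ G L W u (∑ j, b j • g' j) := rfl
    rw [h3, map_sum]
    refine Finset.sum_congr rfl (fun j _ => ?_)
    rw [hone j, map_smul]
    rfl
  have hinj := (bijective_tmul_of_isBasisOver G L hu W le_rfl).1
  have h4 : g = ∑ j, b j • g' j := by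
    apply hinj
    change SecTwist.tmul G L W g (L.presheaf.map (homOfLE (le_refl W)).op u) =
      SecTwist.tmul G L W (∑ j, b j • g' j)
        (L.presheaf.map (homOfLE (le_refl W)).op u)
    rw [res_self]
    exact key
  rw [h4]
  exact S.sum_mem (fun j _ => S.smul_mem _ (hg'S j))

end Groth.Agent.LD.QC
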