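import Groth.Agent.Lib.Lead.QC.SpecHom
import Groth.Agent.Lib.Lead.QC.SubExtRestrict
import Groth.Agent.Lib.Lead.QC.Support
import Groth.Agent.Lib.Lead.QC.Coh
import Groth.Agent.Lib.Lead.QC.Push

/-! # Nonzero morphisms from submodules: the key step of dévissage by supports. -/

set_option autoImplicit false
universe u
open CategoryTheory Limits Opposite AlgebraicGeometry TopologicalSpace

namespace Groth.Agent.LD.QC

theorem snd_ne_zero_of_adj {C D : Type*} [Category C] [Category D] [Abelian C] [Abelian D]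
    {L : C ⥤ D} {R : D ⥤ C} (adj : L ⊣ R) [PreservesFiniteLimits L] [IsIso adj.counit]
    (F Q : C) (φ : L.obj F ⟶ L.obj Q) (hφ : φ ≠ 0) :
    pullback.snd (adj.homEquiv F (L.obj Q) φ) (adj.unit.app Q) ≠ 0 := by
  intro h0
  haveI : L.PreservesZeroMorphisms := by
    haveI : L.IsLeftAdjoint := adj.isLeftAdjoint
    infer_instance
  have hpb := IsPullback.of_hasPullback (adj.homEquiv F (L.obj Q) φ) (adj.unit.app Q)
  have hpb' := hpb.map L
  haveI : IsIso (L.map (adj.unit.app Q)) := by
    have h := adj.left_triangle_components Q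
    haveI : IsIso (L.map (adj.unit.app Q) ≫ adj.counit.app (L.obj Q)) := by
      rw [h]; exact IsIso.id _
    exact IsIso.of_isIso_comp_right _ (adj.counit.app (L.obj Q))
  haveI : IsIso (L.map (pullback.fst (adj.homEquiv F (L.obj Q) φ) (adj.unit.app Q))) :=
    hpb'.isIso_fst_of_isIso
  have h1 : L.map (pullback.fst (adj.homEquiv F (L.obj Q) φ) (adj.unit.app Q)) ≫ φ = 0 := by
    have h2 := adj.homEquiv_naturality_left_symm
      (pullback.fst (adj.homEquiv F (L.obj Q) φ) (adj.unit.app Q)) (adj.homEquiv F (L.obj Q) φ)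
    rw [Equiv.symm_apply_apply] at h2
    rw [← h2, pullback.condition, h0, zero_comp, Adjunction.homEquiv_counit, L.map_zero, zero_comp]
  apply hφ
  exact (cancel_epi (L.map (pullback.fst (adj.homEquiv F (L.obj Q) φ) (adj.unit.app Q)))).mp
    (h1.trans comp_zero.symm)

section
variable {X Y : Scheme.{u}} (j : Y ⟶ X) [IsOpenImmersion j]

/-- the kernel of the unit `Q ⟶ j_* j^* Q` restricts to zero. -/
theorem isZero_restrict_kernel_unit (Q : X.Modules) :
    IsZero ((Scheme.Modules.restrictFunctor j).obj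
      (kernel ((Scheme.Modules.restrictAdjunction j).unit.app Q))) := by
  let adj := Scheme.Modules.restrictAdjunction j
  let L := Scheme.Modules.restrictFunctor j
  haveI : L.PreservesZeroMorphisms := by
    haveI : L.IsLeftAdjoint := adj.isLeftAdjoint
    infer_instance
  haveI : IsIso (L.map (adj.unit.app Q)) := by
    have h := adj.left_triangle_components Q
    haveI : IsIso (L.map (adj.unit.app Q) ≫ adj.counit.app (L.obj Q)) := by
      rw [h]; exact IsIso.id _
    exact IsIso.of_isIso_comp_right _ (adj.counit.app (L.obj Q))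
  have h1 : L.map (kernel.ι (adj.unit.app Q)) ≫ L.map (adj.unit.app Q) = 0 := by
    rw [← L.map_comp, kernel.condition, L.map_zero]
  have h2 : L.map (kernel.ι (adj.unit.app Q)) = 0 :=
    (cancel_mono (L.map (adj.unit.app Q))).mp (h1.trans zero_comp.symm)
  haveI : Mono (L.map (kernel.ι (adj.unit.app Q))) := inferInstance
  exact IsZero.of_mono_eq_zero _ h2

theorem support_kernel_unit_subset (Q : X.Modules) :
    CohB1.support (kernel ((Scheme.Modules.restrictAdjunction j).unit.app Q)) ⊆
      (Set.range j)ᶜ := by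
  rintro x hx ⟨y, rfl⟩
  have h1 : y ∈ CohB1.support
      ((kernel ((Scheme.Modules.restrictAdjunction j).unit.app Q)).restrict j) :=
    (mem_support_restrict_iff j _ y).mpr hx
  have h2 := support_eq_empty_of_isZero (isZero_restrict_kernel_unit j Q)
  have h3 : y ∈ (∅ : Set Y) := by
    rw [← h2]
    exact h1
  exact h3

end

variable {X : Scheme.{u}}

/-- **Key lemma.** On a Noetherian scheme, if `Q ≠ 0` is coherent with `Supp Q ⊆ Supp F`, some
quasi-coherent submodule of `F` maps nontrivially to `Q`. -/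
theorem exists_sub_nonzero_hom_aux [IsNoetherian X] (F : X.Modules) (hF : F.IsQuasicoherent)
    (Z : Closeds X) : ∀ (Q : X.Modules), Q.IsQuasicoherent → Q.IsFiniteType → ¬ IsZero Q →
    CohB1.support Q ⊆ (Z : Set X) → CohB1.support Q ⊆ CohB1.support F →
    ∃ (F' : X.Modules) (ι : F' ⟶ F) (ψ : F' ⟶ Q), Mono ι ∧ F'.IsQuasicoherent ∧ ψ ≠ 0 := by
  induction Z using WellFoundedLT.induction with
  | ind Z IH =>
  intro Q hQ hQft hQ0 hQZ hQF
  have hne : (CohB1.support Q).Nonempty := by
    by_contra h
    exact hQ0 (isZero_of_support_eq_empty (Set.not_nonempty_iff_eq_empty.mp h))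
  obtain ⟨x, hx⟩ := hne
  obtain ⟨U, hU, hxU, -⟩ := exists_isAffineOpen_mem_and_subset (x := x) (U := ⊤) trivial
  let j := hU.fromSpec
  haveI : QuasiCompact j := inferInstance
  let adj := Scheme.Modules.restrictAdjunction j
  let η := adj.unit.app Q
  haveI := qc_restrict j F
  haveI := qc_restrict j Q
  haveI hpq : ((Scheme.Modules.pushforward j).obj (Q.restrict j)).IsQuasicoherent :=
    qc_pushforward j (Q.restrict j)
  by_cases hH : IsZero (kernel η)
  · haveI : Mono η := Preadditive.mono_of_isZero_kernel η hH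
    haveI : IsNoetherianRing Γ(X, U) := IsLocallyNoetherian.component_noetherian ⟨U, hU⟩
    have hrange : Set.range j = (U : Set X) := hU.range_fromSpec
    obtain ⟨y, hy⟩ : ∃ y, j y = x := by
      have : x ∈ Set.range j := by rw [hrange]; exact hxU
      exact this
    have hy' : y ∈ CohB1.support (Q.restrict j) := by
      rw [mem_support_restrict_iff, hy]; exact hx
    have hnt : Nontrivial (ΓM (Q.restrict j)) := by
      rw [← not_subsingleton_iff_nontrivial]
      intro hsub
      have h1 := (spec_mem_support_iff (Q.restrict j) y).mp hy'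
      rw [Module.support_eq_empty_iff.mpr hsub] at h1
      exact h1
    have hsupp : Module.support Γ(X, U) (ΓM (Q.restrict j)) ⊆
        Module.support Γ(X, U) (ΓM (F.restrict j)) := by
      intro p hp
      have h1 : (p : Spec Γ(X, U)) ∈ CohB1.support (Q.restrict j) :=
        (spec_mem_support_iff (Q.restrict j) p).mpr hp
      have h1' := (mem_support_restrict_iff j Q (p : Spec Γ(X, U))).mp h1
      have h2 : (p : Spec Γ(X, U)) ∈ CohB1.support (F.restrict j) :=
        (mem_support_restrict_iff j F (p : Spec Γ(X, U))).mpr (hQF h1')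
      exact (spec_mem_support_iff (F.restrict j) p).mp h2
    obtain ⟨G, hG, i, hi, φ, hφ⟩ :=
      exists_nonzero_hom_spec (F.restrict j) (Q.restrict j) hnt hsupp
    haveI := hi
    obtain ⟨I, ι, e, hι, hI, -⟩ := exists_qc_extension j F G hG i
    haveI := hι
    let φ' : (Scheme.Modules.restrictFunctor j).obj I ⟶ (Scheme.Modules.restrictFunctor j).obj Q :=
      e.hom ≫ φ
    have hφ' : φ' ≠ 0 := by
      intro h0
      apply hφ
      exact (cancel_epi e.hom).mp (h0.trans comp_zero.symm)
    refine ⟨pullback (adj.homEquiv I _ φ') η, pullback.fst _ _ ≫ ι, pullback.snd _ _,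
      mono_comp _ _, ?_, snd_ne_zero_of_adj adj I Q φ' hφ'⟩
    refine qc_limit (cospan (adj.homEquiv I _ φ') η) ?_
    rintro (_ | _ | _)
    · exact hpq
    · exact hI
    · exact hQ
  · have hUc : IsClosed ((Z : Set X) ∩ (U : Set X)ᶜ) := Z.isClosed.inter U.isOpen.isClosed_compl
    let Z' : Closeds X := ⟨(Z : Set X) ∩ (U : Set X)ᶜ, hUc⟩
    have hlt : Z' < Z := by
      refine lt_of_le_of_ne (fun z hz => hz.1) ?_
      intro heq
      have hxZ : x ∈ (Z' : Set X) := by rw [heq]; exact hQZ hx
      exact hxZ.2 hxU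
    have hHqc : (kernel η).IsQuasicoherent := qc_kernel η hQ hpq
    have hHft : (kernel η).IsFiniteType := isFiniteType_of_mono (kernel.ι η) hHqc hQ hQft
    have hHs : CohB1.support (kernel η) ⊆ CohB1.support Q := support_subset_of_mono (kernel.ι η)
    have hHZ' : CohB1.support (kernel η) ⊆ (Z' : Set X) := by
      intro z hz
      refine ⟨hQZ (hHs hz), ?_⟩
      have h1 := support_kernel_unit_subset j Q hz
      rw [hU.range_fromSpec] at h1
      exact h1
    obtain ⟨F', ι, ψ, hι, hF', hψ⟩ := IH Z' hlt (kernel η) hHqc hHft hH hHZ'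
      (hHs.trans hQF)
    refine ⟨F', ι, ψ ≫ kernel.ι η, hι, hF', ?_⟩
    intro h0
    apply hψ
    exact (cancel_mono (kernel.ι η)).mp (h0.trans zero_comp.symm)

theorem exists_sub_nonzero_hom [IsNoetherian X] (F Q : X.Modules) (hF : F.IsQuasicoherent)
    (hQ : Q.IsQuasicoherent) (hQft : Q.IsFiniteType) (hQ0 : ¬ IsZero Q)
    (hQF : CohB1.support Q ⊆ CohB1.support F) :
    ∃ (F' : X.Modules) (ι : F' ⟶ F) (ψ : F' ⟶ Q), Mono ι ∧ F'.IsQuasicoherent ∧ ψ ≠ 0 :=
  exists_sub_nonzero_hom_aux F hF ⊤ Q hQ hQft hQ0 (fun _ _ => trivial) hQF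

end Groth.Agent.LD.QC
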