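import Groth.Agent.Lib.Lead.QC.IdealMod
import Groth.Agent.Lib.Lead.QC.IdealComap
import Groth.Agent.Lib.Lead.QC.PullInv
import Groth.Agent.Lib.Lead.QC.AmpleBase
import Groth.Agent.Lib.Helper5.Glue.G
import Groth.Agent.Lib.Helper5.IntN.Cartier
import Groth.Agent.Lib.Helper5.Deg.Deg3b

/-!
# The pullback of the ideal module of an effective Cartier divisor

For `g : Y ⟶ Z` and an ideal sheaf `I` on `Z` such that both `I` and its inverse image `I.comap g`
are effective Cartier divisors, `g^* 𝓘 ≅ 𝓘'` for the ideal modules.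
-/

universe u

open CategoryTheory Limits AlgebraicGeometry TopologicalSpace Opposite

namespace Groth.Agent.LD.QC

section IdealPull

variable {Y Z : Scheme.{u}} (g : Y ⟶ Z)

lemma appLE_res_left {U : Z.Opens} {V V' : Y.Opens} (e : V ≤ g ⁻¹ᵁ U) (h : V' ≤ V)
    (a : Γ(Z, U)) :
    Y.presheaf.map (homOfLE h).op (g.appLE U V e a) = g.appLE U V' (h.trans e) a := by
  have := Scheme.Hom.appLE_map g e (homOfLE h).op
  exact congr($this a)

lemma appLE_res_right {U U' : Z.Opens} {V : Y.Opens} (e : V ≤ g ⁻¹ᵁ U') (h : U' ≤ U)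
    (a : Γ(Z, U)) :
    g.appLE U' V e (Z.presheaf.map (homOfLE h).op a) =
      g.appLE U V (e.trans (fun _ hx => h hx)) a := by
  have := Scheme.Hom.map_appLE g e (homOfLE h).op
  exact congr($this a)

set_option maxHeartbeats 800000 in
/-- **the pullback of the ideal module of an effective Cartier divisor whose inverse image is an
effective Cartier divisor is the ideal module of the inverse image.** -/
theorem nonempty_pullback_idealMod_iso (I : Z.IdealSheafData)
    (hI : BlowUp.IsEffCartierIdeal I) (hI' : BlowUp.IsEffCartierIdeal (I.comap g)) :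
    Nonempty ((Scheme.Modules.pullback g).obj (ClSub.idealMod I) ≅
      ClSub.idealMod (I.comap g)) := by
  have hinv : PicF.IsInvertible (ClSub.idealMod I) := (isInvertible_idealMod_iff I).mpr hI
  have hinv' : PicF.IsInvertible (ClSub.idealMod (I.comap g)) :=
    (isInvertible_idealMod_iff _).mpr hI'
  have key : ∀ y : Y, ∃ (U : Z.affineOpens) (ε : Γ(ClSub.idealMod I, U.1)) (V : Y.affineOpens)
      (hV : V.1 ≤ g ⁻¹ᵁ U.1) (e' : Γ(ClSub.idealMod (I.comap g), V.1)),
      y ∈ V.1 ∧ IsBasisOver (ClSub.idealMod I) U.1 ε ∧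
      IsBasisOver (ClSub.idealMod (I.comap g)) V.1 e' ∧
      (ClSub.idealModι (I.comap g)).app V.1 e' =
        g.appLE U.1 V.1 hV ((ClSub.idealModι I).app U.1 ε) := by
    intro y
    obtain ⟨U, ε, hU, hyU, -, hε⟩ :=
      exists_affine_basis (ClSub.idealMod I) hinv (g y) ⊤ trivial
    obtain ⟨V, m, hVa, hyV, hVle, hm⟩ :=
      exists_affine_basis (ClSub.idealMod (I.comap g)) hinv' y (g ⁻¹ᵁ U) hyU
    have h1 := Groth.Agent.H5.IntN.ideal_eq_span_of_isBasisOver I ⟨U, hU⟩ ε hε
    have h2 := Groth.Agent.H5.IntN.ideal_eq_span_of_isBasisOver (I.comap g) ⟨V, hVa⟩ m hm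
    have h3 := ideal_comap_of_le I g ⟨U, hU⟩ ⟨V, hVa⟩ hVle
    obtain ⟨a, ha⟩ : ∃ a : Γ(Z, U), a = (ClSub.idealModι I).app U ε := ⟨_, rfl⟩
    obtain ⟨b, hb⟩ : ∃ b : Γ(Y, V), b = (ClSub.idealModι (I.comap g)).app V m := ⟨_, rfl⟩
    rw [← ha] at h1
    rw [← hb] at h2
    rw [h1, Ideal.map_span, Set.image_singleton] at h3
    have h4 : Ideal.span {b} = Ideal.span {(g.appLE U V hVle).hom a} := h2.symm.trans h3
    have hbz : ∀ c : Γ(Y, V), c * b = 0 → c = 0 := by
      intro c hc
      have h5 : c • m = 0 := by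
        apply idealModι_app_injective (I.comap g) V
        have h6 := Scheme.Modules.Hom.app_smul (ClSub.idealModι (I.comap g)) c m
        rw [h6, map_zero, ← hb]
        exact hc
      exact hm.coord_injective (h5.trans (zero_smul _ m).symm)
    obtain ⟨c, hc⟩ : ∃ c, c * b = (g.appLE U V hVle).hom a := by
      have h7 : (g.appLE U V hVle).hom a ∈ Ideal.span {b} := by
        rw [h4]; exact Ideal.mem_span_singleton_self _
      exact Ideal.mem_span_singleton'.mp h7
    obtain ⟨c', hc'⟩ : ∃ c', c' * (g.appLE U V hVle).hom a = b := by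
      have h7 : b ∈ Ideal.span {(g.appLE U V hVle).hom a} := by
        rw [← h4]; exact Ideal.mem_span_singleton_self _
      exact Ideal.mem_span_singleton'.mp h7
    have hcu : IsUnit c := by
      have h8 : (c' * c - 1) * b = 0 := by
        rw [sub_mul, mul_assoc, hc, hc', one_mul, sub_self]
      have h9 := hbz _ h8
      exact IsUnit.of_mul_eq_one c' ((mul_comm c c').trans (sub_eq_zero.mp h9))
    refine ⟨⟨U, hU⟩, ε, ⟨V, hVa⟩, hVle, c • m, hyV, hε,
      Groth.Agent.H5.Deg.IsBasisOver.smul_unit hm c hcu, ?_⟩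
    have h6 := Scheme.Modules.Hom.app_smul (ClSub.idealModι (I.comap g)) c m
    rw [h6, ← hb, ← ha]
    exact hc
  choose U ε V hV e' hyV hε he' hι using key
  have hcov : iSup (fun y => (V y).1) = ⊤ := by
    rw [eq_top_iff]
    intro y _
    exact Opens.mem_iSup.mpr ⟨y, hyV y⟩
  have hbas : ∀ y, IsBasisOver ((Scheme.Modules.pullback g).obj (ClSub.idealMod I)) (V y).1
      (pbSec g (ClSub.idealMod I) (hV y) (ε y)) := fun y => (hε y).pullback g (hV y)
  have hle : ∀ y z, (V y).1 ⊓ (V z).1 ≤ g ⁻¹ᵁ ((U y).1 ⊓ (U z).1) :=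
    fun y z x hx => ⟨hV y hx.1, hV z hx.2⟩
  refine Groth.Agent.H5.Glue.nonempty_iso_of_same_transition (U := fun y => (V y).1) hcov hbas he'
    (fun y z => g.appLE _ _ (hle y z) (Groth.Agent.H5.Glue.transition hε y z)) ?_ ?_
  · intro y z
    have hs := Groth.Agent.H5.Glue.transition_spec hε y z
    dsimp only [Groth.Agent.H5.Glue.mres] at hs ⊢
    have h1 := pbSec_res g (ClSub.idealMod I) (hV y) (hle y z) inf_le_left inf_le_left (ε y)
    have h2 := pbSec_res g (ClSub.idealMod I) (hV z) (hle y z) inf_le_right inf_le_right (ε z)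
    rw [← h1, ← h2, hs, pbSec_smul]
  · intro y z
    have hs := Groth.Agent.H5.Glue.transition_spec hε y z
    dsimp only [Groth.Agent.H5.Glue.mres] at hs ⊢
    apply idealModι_app_injective (I.comap g) ((V y).1 ⊓ (V z).1)
    obtain ⟨t, ht⟩ : ∃ t, t = Groth.Agent.H5.Glue.transition hε y z := ⟨_, rfl⟩
    rw [← ht] at hs ⊢
    have h3 : Z.presheaf.map (homOfLE (inf_le_left : (U y).1 ⊓ (U z).1 ≤ (U y).1)).op
        ((ClSub.idealModι I).app (U y).1 (ε y)) =
        t * Z.presheaf.map (homOfLE (inf_le_right : (U y).1 ⊓ (U z).1 ≤ (U z).1)).op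
          ((ClSub.idealModι I).app (U z).1 (ε z)) := by
      have h := congrArg ((ClSub.idealModι I).app ((U y).1 ⊓ (U z).1)) hs
      rw [app_res, Scheme.Modules.Hom.app_smul, app_res] at h
      exact h
    have h4 := congrArg (g.appLE _ _ (hle y z)) h3
    rw [appLE_res_right, map_mul, appLE_res_right] at h4
    have h5 : (ClSub.idealModι (I.comap g)).app ((V y).1 ⊓ (V z).1)
        ((ClSub.idealMod (I.comap g)).presheaf.map
          (homOfLE (inf_le_left : (V y).1 ⊓ (V z).1 ≤ (V y).1)).op (e' y)) =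
        g.appLE (U y).1 ((V y).1 ⊓ (V z).1) (inf_le_left.trans (hV y))
          ((ClSub.idealModι I).app (U y).1 (ε y)) := by
      rw [app_res, hι y]
      exact appLE_res_left g (hV y) inf_le_left _
    have h6 : (ClSub.idealModι (I.comap g)).app ((V y).1 ⊓ (V z).1)
        ((ClSub.idealMod (I.comap g)).presheaf.map
          (homOfLE (inf_le_right : (V y).1 ⊓ (V z).1 ≤ (V z).1)).op (e' z)) =
        g.appLE (U z).1 ((V y).1 ⊓ (V z).1) (inf_le_right.trans (hV z))
          ((ClSub.idealModι I).app (U z).1 (ε z)) := by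
      rw [app_res, hι z]
      exact appLE_res_left g (hV z) inf_le_right _
    rw [Scheme.Modules.Hom.app_smul, h5, h6]
    exact h4

end IdealPull

end Groth.Agent.LD.QC
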