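import Groth.Agent.Lib.Lead.MS.Assoc
import Groth.Agent.Lib.Lead.QC.TwistBack
import Groth.Agent.Lib.Lead.QC.InvInverse

/-! # Tensoring with an invertible module is an autoequivalence of the category of all
`O_X`-modules. -/

universe u
open CategoryTheory Limits AlgebraicGeometry TopologicalSpace Opposite

namespace Groth.Agent.LD.QC
variable {X : Scheme.{u}}

/-- `- ⊗ L` as an endofunctor of all `O_X`-modules. -/
noncomputable abbrev twF (L : X.Modules) : X.Modules ⥤ X.Modules :=
  (ModSite.tensorBi X.sheaf).flip.obj L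

lemma twF_obj (L M : X.Modules) : (twF L).obj M = CohB1.tensorMod M L := rfl

lemma twF_map (L : X.Modules) {M N : X.Modules} (f : M ⟶ N) :
    (twF L).map f = KoszTw.tensorMap f (𝟙 L) := KoszTw.tensorBi_map_app f L

/-- the right unitor, as a natural isomorphism. -/
noncomputable def twFUnit : twF (unitMod X) ≅ 𝟭 X.Modules :=
  NatIso.ofComponents (fun M => SecTwist.unitorR M) (by
    intro M N f
    refine (congrArg (fun g : CohB1.tensorMod M (unitMod X) ⟶ CohB1.tensorMod N (unitMod X) =>
      g ≫ (SecTwist.unitorR N).hom) (twF_map (unitMod X) f)).trans ?_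
    change KoszTw.tensorMap f (𝟙 (unitMod X)) ≫ (SecTwist.unitorR N).hom =
      (SecTwist.unitorR M).hom ≫ f
    apply hom_ext_tmul_of_isInvertible (isInvertible_unit X)
    intro U m r
    change (SecTwist.unitorR N).hom.app U ((KoszTw.tensorMap f (𝟙 (unitMod X))).app U
      (SecTwist.tmul M (unitMod X) U m r)) = f.app U ((SecTwist.unitorR M).hom.app U _)
    rw [KoszTw.tensorMap_tmul]
    have h1 := SecTwist.unitorR_tmul N U (f.app U m) r
    have h2 := SecTwist.unitorR_tmul M U m r
    refine h1.trans ?_
    refine Eq.trans ?_ (congrArg (fun z => f.app U z) h2).symm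
    exact (Scheme.Modules.Hom.app_smul f r m).symm)

/-- functoriality of `- ⊗ L` in `L`. -/
noncomputable def twFCongr {L L' : X.Modules} (e : L ≅ L') : twF L ≅ twF L' :=
  (ModSite.tensorBi X.sheaf).flip.mapIso e

/-- associativity. -/
noncomputable def twFComp (L L' : X.Modules) :
    twF (CohB1.tensorMod L L') ≅ twF L ⋙ twF L' :=
  MS.flipTensorIso L L'

/-- **tensoring with an invertible module is an autoequivalence.** -/
noncomputable def twEquiv (L L' : X.Modules) (e : CohB1.tensorMod L L' ≅ unitMod X) :
    X.Modules ≌ X.Modules :=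
  CategoryTheory.Equivalence.mk (twF L) (twF L')
    (twFUnit.symm ≪≫ twFCongr e.symm ≪≫ twFComp L L')
    ((twFComp L' L).symm ≪≫ twFCongr (tensorCommGen L' L ≪≫ e) ≪≫ twFUnit)

lemma twEquiv_functor (L L' : X.Modules) (e : CohB1.tensorMod L L' ≅ unitMod X) :
    (twEquiv L L' e).functor = twF L := rfl

end Groth.Agent.LD.QC
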