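import Groth.Agent.Lib.Lead.QC.TensorQC
universe u
open CategoryTheory Limits AlgebraicGeometry TopologicalSpace Opposite TensorProduct

namespace Groth.Agent.LD.QC

/-- tensor products over `A` and over a quotient `R'` of `A` agree (semilinear version). -/
theorem exists_tensor_equiv_of_surjective {A R' : Type*} [CommRing A] [CommRing R'] (φ : A →+* R')
    (hφ : Function.Surjective φ)
    {M N M' N' : Type*} [AddCommGroup M] [Module A M] [AddCommGroup N] [Module A N]
    [AddCommGroup M'] [Module R' M'] [AddCommGroup N'] [Module R' N']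
    (eM : M ≃+ M') (heM : ∀ a m, eM (a • m) = φ a • eM m)
    (eN : N ≃+ N') (heN : ∀ a n, eN (a • n) = φ a • eN n) :
    ∃ e : M ⊗[A] N ≃+ M' ⊗[R'] N', (∀ m n, e (m ⊗ₜ n) = eM m ⊗ₜ eN n) ∧
      ∀ a z, e (a • z) = φ a • e z := by
  letI := φ.toAlgebra
  letI : Module A M' := Module.compHom M' φ
  letI : Module A N' := Module.compHom N' φ
  haveI : IsScalarTower A R' M' := IsScalarTower.of_algebraMap_smul fun _ _ => rfl
  haveI : IsScalarTower A R' N' := IsScalarTower.of_algebraMap_smul fun _ _ => rfl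
  haveI : CompatibleSMul A R' M' N' := ⟨fun r m n => by
    obtain ⟨a, rfl⟩ := hφ r
    exact smul_tmul (R := A) a m n⟩
  let eM' : M ≃ₗ[A] M' := { eM with map_smul' := heM }
  let eN' : N ≃ₗ[A] N' := { eN with map_smul' := heN }
  let e := (TensorProduct.congr eM' eN').trans (equivOfCompatibleSMul R' A A M' N')
  refine ⟨e.toAddEquiv, fun m n => rfl, fun a z => ?_⟩
  have h1 : e (a • z) = a • e z := e.map_smul a z
  rw [← algebraMap_smul R' a (e z)] at h1
  exact h1

end Groth.Agent.LD.QC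

namespace Groth.Agent.LD.QC

/-- `tilde (M ⊗ N) ≅ tilde M ⊗ tilde N`. -/
theorem nonempty_tilde_tensor_iso' {R : CommRingCat.{u}} (M N : ModuleCat.{u} R) :
    Nonempty (tilde (R := R) (ModuleCat.of R (M ⊗[R] N)) ≅
      CohB1.tensorMod (tilde M) (tilde N)) := by
  haveI : (CohB1.tensorMod (tilde M) (tilde N)).IsQuasicoherent :=
    tensorMod_isQuasicoherent (tilde M) (tilde N)
  have hφ : Function.Surjective (Scheme.ΓSpecIso R).inv.hom :=
    ((ConcreteCategory.isIso_iff_bijective (Scheme.ΓSpecIso R).inv).mp inferInstance).2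
  let eM : M ≃+ Γ(tilde M, ⊤) := (tilde.isoTop M).toLinearEquiv.toAddEquiv
  let eN : N ≃+ Γ(tilde N, ⊤) := (tilde.isoTop N).toLinearEquiv.toAddEquiv
  obtain ⟨e, he1, he2⟩ := exists_tensor_equiv_of_surjective (Scheme.ΓSpecIso R).inv.hom hφ eM
    (fun a m => (tilde.isoTop M).toLinearEquiv.map_smul a m) eN
    (fun a m => (tilde.isoTop N).toLinearEquiv.map_smul a m)
  let e' : M ⊗[R] N ≃+ Γ(CohB1.tensorMod (tilde M) (tilde N), ⊤) :=
    e.trans (tensorSecEquiv (tilde M) (tilde N) (isAffineOpen_top (Spec R))).toAddEquiv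
  let e'' : (M ⊗[R] N) ≃ₗ[R]
      ((modulesSpecToSheaf.obj (CohB1.tensorMod (tilde M) (tilde N))).presheaf.obj (op ⊤)) :=
    { e' with
      map_smul' := fun a z => by
        change (tensorSecEquiv (tilde M) (tilde N) (isAffineOpen_top (Spec R))) (e (a • z)) = _
        rw [he2, map_smul]
        rfl }
  have hiso := (isQuasicoherent_iff_isIso_fromTildeΓ
    (CohB1.tensorMod (tilde M) (tilde N))).mp inferInstance
  exact ⟨(tilde.functor R).mapIso e''.toModuleIso ≪≫ @asIso _ _ _ _ _ hiso⟩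

end Groth.Agent.LD.QC
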