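import Groth.Agent.Lib.Lead.QC.IdealOfHom
import Groth.Agent.Lib.Lead.QC.LocFree
import Groth.Agent.Lib.Lead.QC.Flat
import Groth.Agent.Lib.Lead.QC.AmpleBasis
import Groth.Agent.Lib.Lead.QC.TensorPow
universe u
open CategoryTheory Limits AlgebraicGeometry TopologicalSpace Opposite

namespace Groth.Agent.LD.QC
variable {X : Scheme.{u}}

/-- membership in the vanishing ideal from pointwise vanishing. -/
lemma mem_vanishingIdeal_of_forall_notMem_basicOpen (Z : Closeds X) (V : X.affineOpens)
    (f : Γ(X, V.1)) (h : ∀ y ∈ V.1, y ∈ Z → y ∉ X.basicOpen f) :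
    f ∈ (Scheme.IdealSheafData.vanishingIdeal Z).ideal V := by
  rw [Scheme.IdealSheafData.vanishingIdeal_ideal, PrimeSpectrum.mem_vanishingIdeal]
  intro p hp
  by_contra hf
  have hy : V.2.fromSpec p ∈ V.1 := fromSpec_mem V.2 p
  apply h _ hy hp
  apply mem_basicOpen_of_mem_primeCompl V.2 _ hy f
  rw [primeIdealOf_fromSpec V.2 p hy]
  exact hf

/-- the ideal module of a finite type ideal is of finite type. -/
theorem isFiniteType_idealMod (I : X.IdealSheafData) (hI : BlowUp.IsFiniteTypeIdeal I) :
    (ClSub.idealMod I).IsFiniteType := by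
  rw [isFiniteType_iff_finite_sections]
  intro U hU
  have e := idealModSectionsEquiv I ⟨U, hU⟩
  haveI : Module.Finite Γ(X, U) (I.ideal ⟨U, hU⟩) := Module.Finite.iff_fg.mpr (hI ⟨U, hU⟩)
  exact Module.Finite.equiv e.symm

/-- a morphism out of `O_X` vanishes if its global section does. -/
lemma unitHom_eq_zero_of_sectionOfHom {M : X.Modules} (σ : unitMod X ⟶ M)
    (h : sectionOfHom σ = 0) : σ = 0 := by
  rw [← homOfSection_sectionOfHom σ, ← homOfSection_sectionOfHom (0 : unitMod X ⟶ M), h]
  congr 1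

/-- **global generation produces non-vanishing functions**: if `G ⟶ O_X` hits `1` near `x` and
`G` is a quotient of a free module (on any index type), one of the generating global sections maps
to a function invertible at `x`. -/
theorem exists_mem_basicOpen_of_epi_free {G : X.Modules} (w : G ⟶ unitMod X) {K : Type u}
    (p : (SheafOfModules.free K : X.Modules) ⟶ G) (hp : Epi p) (x : X)
    (W : X.Opens) (hxW : x ∈ W) (c : Γ(G, W)) (hc : (show Γ(X, W) from w.app W c) = 1) :
    ∃ k : K, x ∈ X.basicOpen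
      (show Γ(X, ⊤) from sectionOfHom (SheafOfModules.ιFree k ≫ p ≫ w)) := by
  classical
  by_contra hcon
  push Not at hcon
  let Z : Closeds X := ⟨closure {x}, isClosed_closure⟩
  let J := Scheme.IdealSheafData.vanishingIdeal Z
  let q := ClSub.toSubscheme J
  have hxZ : x ∈ Z := subset_closure rfl
  have h1 : ∀ k : K, (SheafOfModules.ιFree k ≫ p ≫ w) ≫ q = 0 := by
    intro k
    apply unitHom_eq_zero_of_sectionOfHom
    set σ := SheafOfModules.ιFree (R := X.ringCatSheaf) k ≫ p ≫ w with hσ
    set r : Γ(X, ⊤) := sectionOfHom σ with hr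
    change q.app ⊤ r = 0
    apply section_ext_of_cover _ (fun V : X.affineOpens => V.1) (fun _ => le_top)
    · intro y _
      obtain ⟨V, hV, hyV, -⟩ := exists_isAffineOpen_mem_and_subset (x := y) (U := ⊤) trivial
      exact Opens.mem_iSup.mpr ⟨⟨V, hV⟩, hyV⟩
    · intro V
      rw [map_zero, ← app_res q (le_top : V.1 ≤ ⊤) r]
      have hmem : X.presheaf.map (homOfLE (le_top : V.1 ≤ ⊤)).op r ∈ J.ideal V := by
        apply mem_vanishingIdeal_of_forall_notMem_basicOpen
        intro y hyV hyZ hy
        rw [X.basicOpen_res] at hy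
        have hspec : x ⤳ y := specializes_iff_mem_closure.mpr hyZ
        exact hcon k (hspec.mem_open (X.basicOpen r).2 hy.2)
      rw [← J.ker_subschemeι_app V] at hmem
      exact hmem
  have h2 : p ≫ w ≫ q = 0 := by
    apply Sigma.hom_ext
    intro k
    have e1 : (SheafOfModules.ιFree (R := X.ringCatSheaf) k ≫ p ≫ w) ≫ q =
        SheafOfModules.ιFree (R := X.ringCatSheaf) k ≫ p ≫ w ≫ q :=
      (Category.assoc _ _ _).trans (congrArg (fun t => SheafOfModules.ιFree (R := X.ringCatSheaf) k ≫ t)
        (Category.assoc _ _ _))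
    exact (e1.symm.trans (h1 k)).trans comp_zero.symm
  have h3 : w ≫ q = 0 :=
    (@cancel_epi _ _ _ _ _ p hp _ _).mp (h2.trans comp_zero.symm)
  obtain ⟨V, hV, hxV, hVW⟩ := exists_isAffineOpen_mem_and_subset (x := x) (U := W) hxW
  have h4 : q.app V (w.app V (G.presheaf.map (homOfLE hVW).op c)) = 0 := by
    have : (w ≫ q).app V (G.presheaf.map (homOfLE hVW).op c) = 0 := by rw [h3]; rfl
    exact this
  have h5 : (show Γ(X, V) from w.app V (G.presheaf.map (homOfLE hVW).op c)) = 1 := by
    have e1 : w.app V (G.presheaf.map (homOfLE hVW).op c) =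
        (unitMod X).presheaf.map (homOfLE hVW).op (w.app W c) := app_res w hVW c
    refine e1.trans ?_
    have e2 : (unitMod X).presheaf.map (homOfLE hVW).op (w.app W c) =
        X.presheaf.map (homOfLE hVW).op (show Γ(X, W) from w.app W c) := rfl
    rw [e2, hc, map_one]
  have h6 : (1 : Γ(X, V)) ∈ J.ideal ⟨V, hV⟩ := by
    rw [← J.ker_subschemeι_app ⟨V, hV⟩, RingHom.mem_ker]
    have : q.app V (1 : Γ(X, V)) = 0 := by
      have := h4
      rw [show w.app V (G.presheaf.map (homOfLE hVW).op c) = (1 : Γ(X, V)) from h5] at this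
      exact this
    exact this
  have h7 := notMem_basicOpen_of_mem_vanishingIdeal Z ⟨V, hV⟩ _ h6 x hxV hxZ
  apply h7
  rw [X.basicOpen_of_isUnit isUnit_one]
  exact hxV

end Groth.Agent.LD.QC
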