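import Groth.Agent.Lib.Lead.QC.PullInv
import Groth.Agent.Lib.Lead.QC.InvBasis
import Groth.Agent.Lib.Lead.QC.AmpleBase
import Groth.Agent.Lib.Lead.QC.TensorQC

/-!
# Pullback commutes with tensoring a quasi-coherent module by an invertible module
-/

universe u
open CategoryTheory Limits AlgebraicGeometry TopologicalSpace Opposite TensorProduct

namespace Groth.Agent.LD.QC

section PullTensorInv
variable {X X' : Scheme.{u}} (g : X' ⟶ X)

set_option maxHeartbeats 1600000 in
/-- **pullback commutes with the tensor product of a quasi-coherent module and an invertible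
module.** -/
theorem isIso_pbTensorHom_of_invertible_right (M N : X.Modules) [M.IsQuasicoherent]
    [N.IsQuasicoherent] (hN : PicF.IsInvertible N) : IsIso (pbTensorHom g M N) := by
  apply isIso_of_local_bijective
  intro x' W hxW
  obtain ⟨V, e₂, hV, hxV, -, he₂⟩ := exists_affine_basis N hN (g x') ⊤ trivial
  obtain ⟨U₀, hU₀, hxU₀, hU₀le⟩ := exists_isAffineOpen_mem_and_subset (x := x')
    (U := W ⊓ g ⁻¹ᵁ V) ⟨hxW, hxV⟩
  have h2 : U₀ ≤ W := fun y hy => (hU₀le hy).1
  have h3 : U₀ ≤ g ⁻¹ᵁ V := fun y hy => (hU₀le hy).2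
  refine ⟨U₀, hxU₀, h2, ?_⟩
  haveI := tensorMod_isQuasicoherent M N
  letI := (g.appLE V U₀ h3).hom.toAlgebra
  obtain ⟨Φ₁, hΦ₁⟩ := exists_pullback_sections_equiv_pbSec g hU₀ hV h3 (CohB1.tensorMod M N)
  obtain ⟨Φ₂, hΦ₂⟩ := exists_pullback_sections_equiv_pbSec g hU₀ hV h3 M
  have hb₁ : Function.Bijective (fun t : Γ(M, V) => SecTwist.tmul M N V t e₂) := by
    have := bijective_tmul_of_isBasisOver M N he₂ V le_rfl
    simpa only [res_self] using this
  let B₁ : Γ(M, V) →ₗ[Γ(X, V)] Γ(CohB1.tensorMod M N, V) :=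
    { toFun := fun t => SecTwist.tmul M N V t e₂
      map_add' := fun t t' => tmul_add_left M N V t t' e₂
      map_smul' := fun a t => tmul_smul_left M N V a t e₂ }
  let β₁ : Γ(M, V) ≃ₗ[Γ(X, V)] Γ(CohB1.tensorMod M N, V) := LinearEquiv.ofBijective B₁ hb₁
  have hβ₁ : ∀ t, β₁ t = SecTwist.tmul M N V t e₂ := fun t => rfl
  have he₂' := he₂.pullback g h3
  have hb₂ : Function.Bijective (fun t : Γ((Scheme.Modules.pullback g).obj M, U₀) =>
      SecTwist.tmul ((Scheme.Modules.pullback g).obj M) ((Scheme.Modules.pullback g).obj N) U₀ t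
        (pbSec g N h3 e₂)) := by
    have := bijective_tmul_of_isBasisOver ((Scheme.Modules.pullback g).obj M)
      ((Scheme.Modules.pullback g).obj N) he₂' U₀ le_rfl
    simpa only [res_self] using this
  let B₂ : Γ((Scheme.Modules.pullback g).obj M, U₀) →ₗ[Γ(X', U₀)]
      Γ(CohB1.tensorMod ((Scheme.Modules.pullback g).obj M) ((Scheme.Modules.pullback g).obj N),
        U₀) :=
    { toFun := fun t => SecTwist.tmul _ _ U₀ t (pbSec g N h3 e₂)
      map_add' := fun t t' => tmul_add_left _ _ U₀ t t' _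
      map_smul' := fun a t => tmul_smul_left _ _ U₀ a t _ }
  have hB₂ : ∀ t, B₂ t = SecTwist.tmul _ _ U₀ t (pbSec g N h3 e₂) := fun t => rfl
  have key : ∀ w : Γ(X', U₀) ⊗[Γ(X, V)] Γ(CohB1.tensorMod M N, V),
      (pbTensorHom g M N).app U₀ (Φ₁.symm w) =
        B₂ (Φ₂.symm ((LinearEquiv.lTensor Γ(X', U₀) β₁.symm) w)) := by
    intro w
    induction w using TensorProduct.induction_on with
    | zero => simp only [map_zero]
    | add w w' hw hw' => simp only [map_add, hw, hw']
    | tmul a z =>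
      obtain ⟨m, rfl⟩ := β₁.surjective z
      have hs1 : Φ₁.symm (a ⊗ₜ[Γ(X, V)] β₁ m) =
          a • pbSec g (CohB1.tensorMod M N) h3 (β₁ m) := by
        rw [LinearEquiv.symm_apply_eq, map_smul, hΦ₁, TensorProduct.smul_tmul', smul_eq_mul,
          mul_one]
      have hs2 : (LinearEquiv.lTensor Γ(X', U₀) β₁.symm) (a ⊗ₜ[Γ(X, V)] β₁ m) =
          a ⊗ₜ[Γ(X, V)] m := by
        rw [LinearEquiv.lTensor_tmul, LinearEquiv.symm_apply_apply]
      have hs3 : Φ₂.symm (a ⊗ₜ[Γ(X, V)] m) = a • pbSec g M h3 m := by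
        rw [LinearEquiv.symm_apply_eq, map_smul, hΦ₂, TensorProduct.smul_tmul', smul_eq_mul,
          mul_one]
      rw [hs1, hs2, hs3, Scheme.Modules.Hom.app_smul, hβ₁,
        pbTensorHom_pbSec g M N ⟨V, hV⟩ h3 m e₂, map_smul, hB₂]
  have hfun : ⇑(ConcreteCategory.hom ((pbTensorHom g M N).app U₀)) =
      (fun t => SecTwist.tmul ((Scheme.Modules.pullback g).obj M)
        ((Scheme.Modules.pullback g).obj N) U₀ t (pbSec g N h3 e₂)) ∘ Φ₂.symm ∘
        (LinearEquiv.lTensor Γ(X', U₀) β₁.symm) ∘ Φ₁ := by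
    funext y
    have := key (Φ₁ y)
    rw [LinearEquiv.symm_apply_apply] at this
    exact this
  rw [hfun]
  exact hb₂.comp (Φ₂.symm.bijective.comp
    ((LinearEquiv.lTensor Γ(X', U₀) β₁.symm).bijective.comp Φ₁.bijective))

/-- `g^* (M ⊗ N) ≅ g^* M ⊗ g^* N` for quasi-coherent `M` and invertible `N`. -/
noncomputable def pbTensorIsoR (M N : X.Modules) [M.IsQuasicoherent] (hN : PicF.IsInvertible N) :
    (Scheme.Modules.pullback g).obj (CohB1.tensorMod M N) ≅
      CohB1.tensorMod ((Scheme.Modules.pullback g).obj M) ((Scheme.Modules.pullback g).obj N) :=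
  haveI := qc_of_isInvertible N hN
  haveI := isIso_pbTensorHom_of_invertible_right g M N hN
  asIso (pbTensorHom g M N)

end PullTensorInv

end Groth.Agent.LD.QC
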