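import Groth.Agent.Lib.Lead.QC.RestrictOpen
import Groth.Agent.Lib.Lead.QC.Extend
import Groth.Agent.Lib.Lead.QC.AmpleBasis
universe u
open CategoryTheory Limits AlgebraicGeometry TopologicalSpace Opposite

namespace Groth.Agent.LD.QC
variable {X : Scheme.{u}}

lemma IsBasisOver.of_smul_unit {L : X.Modules} {U : X.Opens} {e : Γ(L, U)} (f : Γ(X, U))
    (hf : IsUnit f) (h : IsBasisOver L U (f • e)) : IsBasisOver L U e := by
  obtain ⟨u, rfl⟩ := hf
  have h2 := (h.smul_iff ((↑u⁻¹ : Γ(X, U)))).mpr (Units.isUnit _)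
  rwa [smul_smul, Units.inv_mul, one_smul] at h2

/-- sections of the form `r • σ` generate only where `r` is invertible. -/
theorem genLocus_smul_le (M : X.Modules) (r : Γ(X, ⊤)) (σ : Γ(M, ⊤)) :
    CohB1.genLocus M (homOfSection M (r • σ)) ≤ X.basicOpen r := by
  intro y hy
  obtain ⟨V, hyV, hV⟩ := (mem_genLocus_iff _ _ y).mp hy
  rw [val_homOfSection, smul_res] at hV
  obtain ⟨a, ha⟩ := (hV V le_rfl).2 (M.presheaf.map (homOfLE le_top).op σ)
  have ha' : a • (X.presheaf.map (homOfLE (le_top : V ≤ ⊤)).op r •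
      M.presheaf.map (homOfLE (le_top : V ≤ ⊤)).op σ) =
      M.presheaf.map (homOfLE (le_top : V ≤ ⊤)).op σ := by
    have := ha
    simp only [res_self] at this
    exact this
  have h1 : (fun b : Γ(X, V) => b • M.presheaf.map (homOfLE (le_refl V)).op
      (X.presheaf.map (homOfLE (le_top : V ≤ ⊤)).op r •
      M.presheaf.map (homOfLE (le_top : V ≤ ⊤)).op σ))
      (X.presheaf.map (homOfLE (le_top : V ≤ ⊤)).op r * a) =
      (fun b : Γ(X, V) => b • M.presheaf.map (homOfLE (le_refl V)).op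
      (X.presheaf.map (homOfLE (le_top : V ≤ ⊤)).op r •
      M.presheaf.map (homOfLE (le_top : V ≤ ⊤)).op σ)) 1 := by
    simp only [res_self]
    rw [mul_smul, ha', one_smul]
  have h2 := (hV V le_rfl).1 h1
  have h3 : IsUnit (X.presheaf.map (homOfLE (le_top : V ≤ ⊤)).op r) :=
    IsUnit.of_mul_eq_one _ h2
  exact le_basicOpen_of_isUnit_res r le_top h3 hyV

lemma val_restrict_eq (M : X.Modules) {Y : Scheme.{u}} (j : Y ⟶ X) [IsOpenImmersion j]
    (s'' : unitMod Y ⟶ M.restrict j) (W : Y.Opens) :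
    (show Γ(M, j ''ᵁ W) from SecTwist.val s'' W) =
      M.presheaf.map (homOfLE (Scheme.Hom.image_mono j (le_top : W ≤ ⊤))).op
        (show Γ(M, j ''ᵁ ⊤) from sectionOfHom s'') := by
  have h := val_homOfSection (M.restrict j) (sectionOfHom s'') W
  rw [homOfSection_sectionOfHom] at h
  exact h

/-- a section over `X_r` extends, after multiplication by a power of `r`, to a global section
with the same generating locus. -/
theorem exists_genLocus_eq_image [CompactSpace X] [QuasiSeparatedSpace X] (M : X.Modules)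
    [M.IsQuasicoherent] (r : Γ(X, ⊤))
    (s'' : unitMod (X.basicOpen r) ⟶ M.restrict (X.basicOpen r).ι) :
    ∃ s : unitMod X ⟶ M,
      CohB1.genLocus M s = (X.basicOpen r).ι ''ᵁ CohB1.genLocus _ s'' := by
  let j := (X.basicOpen r).ι
  let t' : Γ(M, j ''ᵁ ⊤) := sectionOfHom s''
  have himg : j ''ᵁ ⊤ = X.basicOpen r := (X.basicOpen r).ι_image_top
  let t : Γ(M, X.basicOpen r) := M.presheaf.map (homOfLE himg.ge).op t'
  obtain ⟨N, σ, hσ⟩ := compact_qs_surj M (U := ⊤) isCompact_univ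
    (isQuasiSeparated_univ_iff.mpr inferInstance) r t
  refine ⟨homOfSection M (r • σ), ?_⟩
  have hle := genLocus_smul_le M r σ
  -- key: for V ≤ X_r, val s V is a unit multiple of t|V
  have key : ∀ (V : X.Opens) (hV : V ≤ X.basicOpen r),
      IsBasisOver M V (SecTwist.val (homOfSection M (r • σ)) V) ↔
        IsBasisOver M V (M.presheaf.map (homOfLE hV).op t) := by
    intro V hV
    have hu : IsUnit (X.presheaf.map (homOfLE (le_top : V ≤ ⊤)).op r) :=
      isUnit_res_of_le_basicOpen r le_top hV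
    have e1 : SecTwist.val (homOfSection M (r • σ)) V =
        (X.presheaf.map (homOfLE (le_top : V ≤ ⊤)).op r) ^ (N + 1) •
          M.presheaf.map (homOfLE hV).op t := by
      rw [val_homOfSection, smul_res, ← res_res M (X.basicOpen_le r) hV σ, hσ, smul_res,
        map_pow, sres_res, pow_succ', mul_smul]
    rw [e1]
    constructor
    · exact IsBasisOver.of_smul_unit _ (hu.pow _)
    · intro h; exact (h.smul_iff _).mpr (hu.pow _)
  have hval : ∀ W : (X.basicOpen r).toScheme.Opens,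
      (show Γ(M, j ''ᵁ W) from SecTwist.val s'' W) =
        M.presheaf.map (homOfLE ((X.basicOpen r).ι_image_le W)).op t := by
    intro W
    rw [val_restrict_eq M j s'' W]
    change _ = M.presheaf.map _ (M.presheaf.map _ t')
    rw [res_res]
  ext y
  constructor
  · intro hy
    have hyr : y ∈ X.basicOpen r := hle hy
    obtain ⟨V, hyV, hV⟩ := (mem_genLocus_iff _ _ y).mp hy
    have hV' := hV.mono (inf_le_left : V ⊓ X.basicOpen r ≤ V)
    rw [val_res] at hV'
    rw [key _ inf_le_right] at hV'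
    let y' : (X.basicOpen r).toScheme := ⟨y, hyr⟩
    refine ⟨y', ?_, rfl⟩
    refine (mem_genLocus_iff _ s'' y').mpr ⟨j ⁻¹ᵁ (V ⊓ X.basicOpen r), ⟨hyV, hyr⟩, ?_⟩
    have hle2 : j ''ᵁ (j ⁻¹ᵁ (V ⊓ X.basicOpen r)) ≤ V ⊓ X.basicOpen r := by
      rintro _ ⟨z, hz, rfl⟩; exact hz
    have h3 := hV'.mono hle2
    rw [res_res] at h3
    have h4 := (isBasisOver_restrict_iff j M (j ⁻¹ᵁ (V ⊓ X.basicOpen r))
      (show Γ(M, j ''ᵁ (j ⁻¹ᵁ (V ⊓ X.basicOpen r))) from
        SecTwist.val s'' (j ⁻¹ᵁ (V ⊓ X.basicOpen r)))).mpr (by rw [hval]; exact h3)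
    exact h4
  · rintro ⟨y', hy', rfl⟩
    obtain ⟨W, hyW, hW⟩ := (mem_genLocus_iff _ _ y').mp hy'
    have h1 := (isBasisOver_restrict_iff j M W
      (show Γ(M, j ''ᵁ W) from SecTwist.val s'' W)).mp hW
    rw [hval] at h1
    rw [← key] at h1
    exact (mem_genLocus_iff _ _ _).mpr ⟨j ''ᵁ W, ⟨y', hyW, rfl⟩, h1⟩

theorem quasiSeparatedSpace_of_basicOpen_cover {ι : Type*} (h : ι → Γ(X, ⊤))
    (hcov : ⨆ i, X.basicOpen (h i) = ⊤)
    (hsep : ∀ i, (X.basicOpen (h i)).toScheme.IsSeparated) : QuasiSeparatedSpace X := by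
  rw [quasiSeparatedSpace_iff_forall_affineOpens]
  intro U V
  have hpiece : ∀ i, IsCompact ((U.1 ⊓ V.1 ⊓ X.basicOpen (h i) : X.Opens) : Set X) := by
    intro i
    haveI := hsep i
    let j := (X.basicOpen (h i)).ι
    have hA : ∀ W : X.affineOpens, IsAffineOpen (j ⁻¹ᵁ W.1) := by
      intro W
      rw [← Scheme.Hom.isAffineOpen_iff_of_isOpenImmersion j,
        Scheme.Hom.image_preimage_eq_opensRange_inf, Scheme.Opens.opensRange_ι, inf_comm,
        ← X.basicOpen_res _ (homOfLE (le_top : W.1 ≤ ⊤)).op]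
      exact W.2.basicOpen _
    have hc : IsCompact ((j ⁻¹ᵁ U.1 ⊓ j ⁻¹ᵁ V.1 : (X.basicOpen (h i)).toScheme.Opens) :
        Set (X.basicOpen (h i)).toScheme) :=
      ((hA U).inf (hA V)).isCompact
    have := hc.image j.continuous
    convert this using 1
    ext x
    constructor
    · rintro ⟨⟨hxU, hxV⟩, hxr⟩
      exact ⟨⟨x, hxr⟩, ⟨hxU, hxV⟩, rfl⟩
    · rintro ⟨y, ⟨hyU, hyV⟩, rfl⟩
      exact ⟨⟨hyU, hyV⟩, y.2⟩
  have hUc : IsCompact (U.1 : Set X) := U.2.isCompact
  obtain ⟨F, hF⟩ := hUc.elim_finite_subcover (fun i => (X.basicOpen (h i) : Set X))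
    (fun i => (X.basicOpen (h i)).2) (by
      intro x _
      have : x ∈ (⨆ i, X.basicOpen (h i) : X.Opens) := by rw [hcov]; trivial
      simpa using this)
  have heq : (U.1 ∩ V.1 : Set X) =
      ⋃ i ∈ F, ((U.1 ⊓ V.1 ⊓ X.basicOpen (h i) : X.Opens) : Set X) := by
    ext x
    simp only [Set.mem_inter_iff, Set.mem_iUnion, SetLike.mem_coe, Opens.coe_inf, exists_prop]
    constructor
    · rintro ⟨hxU, hxV⟩
      obtain ⟨i, hi, hx⟩ := Set.mem_iUnion₂.mp (hF hxU)
      exact ⟨i, hi, ⟨hxU, hxV⟩, hx⟩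
    · rintro ⟨i, hi, ⟨hxU, hxV⟩, hx⟩
      exact ⟨hxU, hxV⟩
  rw [heq]
  exact F.isCompact_biUnion (fun i _ => hpiece i)

/-- **ampleness is local on an affine base** (EGA II 4.6.4 core): if `X` is quasi-compact and
covered by opens `X_{h_i}`, `h_i` global functions, on each of which `L` is ample, then `L` is
ample. -/
theorem isAmple_of_basicOpen_cover [CompactSpace X] (L : X.Modules) {ι : Type*} (h : ι → Γ(X, ⊤))
    (hcov : ⨆ i, X.basicOpen (h i) = ⊤)
    (hL : ∀ i, CohB1.IsAmple (L.restrict (X.basicOpen (h i)).ι)) : CohB1.IsAmple L := by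
  have hsep : ∀ i, (X.basicOpen (h i)).toScheme.IsSeparated := fun i =>
    isSeparated_of_affine_genLocus _ (hL i).1 (hL i).2.2
  haveI : QuasiSeparatedSpace X := quasiSeparatedSpace_of_basicOpen_cover h hcov hsep
  have hex : ∀ x : X, ∃ i, x ∈ X.basicOpen (h i) := by
    intro x
    have : x ∈ (⨆ i, X.basicOpen (h i) : X.Opens) := by rw [hcov]; trivial
    simpa using this
  have hinv : PicF.IsInvertible L := by
    rw [isInvertible_iff_exists_isBasisOver]
    intro x
    obtain ⟨i, hi⟩ := hex x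
    let j := (X.basicOpen (h i)).ι
    let y : (X.basicOpen (h i)).toScheme := ⟨x, hi⟩
    obtain ⟨V, e, hyV, he⟩ := (isInvertible_iff_exists_isBasisOver _).mp (hL i).1 y
    exact ⟨j ''ᵁ V, e, ⟨y, hyV, rfl⟩, (isBasisOver_restrict_iff j L V e).mp he⟩
  refine ⟨hinv, inferInstance, fun x => ?_⟩
  obtain ⟨i, hi⟩ := hex x
  let j := (X.basicOpen (h i)).ι
  let y : (X.basicOpen (h i)).toScheme := ⟨x, hi⟩
  obtain ⟨n, s', hy, haff⟩ := (hL i).2.2 y
  let M := CohB1.tensorPow L (n + 1)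
  haveI : M.IsQuasicoherent := qc_of_isInvertible M (isInvertible_tensorPow hinv (n + 1))
  let s'' : unitMod _ ⟶ M.restrict j := s' ≫ (restrictTensorPowIso j L (n + 1)).hom
  have hg : CohB1.genLocus _ s'' = CohB1.genLocus _ s' :=
    genLocus_comp_iso s' (restrictTensorPowIso j L (n + 1))
  obtain ⟨s, hs⟩ := exists_genLocus_eq_image M (h i) s''
  refine ⟨n, s, ?_, ?_⟩
  · rw [hs, hg]; exact ⟨y, hy, rfl⟩
  · rw [hs, hg]; exact haff.image_of_isOpenImmersion j

/-- ampleness passes to smaller quasi-compact open subschemes, presented by arbitrary open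
immersions. -/
theorem isAmple_restrict_of_le {X Y Y' : Scheme.{u}} (j : Y ⟶ X) (j' : Y' ⟶ X)
    [IsOpenImmersion j] [IsOpenImmersion j'] [CompactSpace Y]
    (hle : j.opensRange ≤ j'.opensRange) (L : X.Modules) (hL : CohB1.IsAmple (L.restrict j')) :
    CohB1.IsAmple (L.restrict j) := by
  haveI : CompactSpace Y' := hL.2.1
  haveI : Y'.IsSeparated := isSeparated_of_affine_genLocus _ hL.1 hL.2.2
  let k : Y ⟶ Y' := IsOpenImmersion.lift j' j hle
  have hk : k ≫ j' = j := IsOpenImmersion.lift_fac _ _ _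
  haveI : IsOpenImmersion (k ≫ j') := by rw [hk]; infer_instance
  haveI : IsOpenImmersion k := IsOpenImmersion.of_comp k j'
  have h1 := isAmple_restrict k (L.restrict j') hL
  let e : L.restrict j ≅ (L.restrict j').restrict k :=
    (Scheme.Modules.restrictFunctorCongr hk.symm).app L ≪≫
      (Scheme.Modules.restrictFunctorComp k j').app L
  exact isAmple_of_iso e.symm h1

end Groth.Agent.LD.QC
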