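import Mathlib
import Groth.Agent.Lib.Lead.QC.InvField

/-! # Triviality of invertible modules on proper integral schemes over a field. -/

set_option autoImplicit false
universe u
open CategoryTheory Limits Opposite AlgebraicGeometry TopologicalSpace

namespace Groth.Agent.LD.QC

variable {X : Scheme.{u}} [IsIntegral X]

lemma unit_id_ne_zero : (𝟙 (unitMod X) : unitMod X ⟶ unitMod X) ≠ 0 := by
  intro h
  have h1 := congr($(h).app ⊤ (1 : Γ(X, ⊤)))
  have h2 : (1 : Γ(X, ⊤)) = 0 := h1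
  haveI : IsDomain Γ(X, ⊤) := inferInstance
  exact one_ne_zero h2

theorem trivial_iff_sections (k : Type u) [Field k] (p : X ⟶ Spec (CommRingCat.of k))
    [IsProper p] (L : X.Modules) (hL : PicF.IsInvertible L) :
    Nonempty (L ≅ unitMod X) ↔
      (∃ s : unitMod X ⟶ L, s ≠ 0) ∧ (∃ t : L ⟶ unitMod X, t ≠ 0) := by
  constructor
  · rintro ⟨e⟩
    refine ⟨⟨e.inv, fun h => unit_id_ne_zero (X := X) ?_⟩, ⟨e.hom, fun h => unit_id_ne_zero (X := X) ?_⟩⟩
    · rw [← e.inv_hom_id, h, zero_comp]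
    · rw [← e.inv_hom_id, h, comp_zero]
  · rintro ⟨⟨s, hs⟩, ⟨t, ht⟩⟩
    exact nonempty_iso_unit_of_sections (isField_of_universallyClosed k p) L hL s hs t ht

end Groth.Agent.LD.QC
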