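import Groth.Agent.Lib.Lead.QC.RelCartier
universe u
open TensorProduct

namespace Groth.Agent.LD.QC

section Alg
variable {A B : Type*} [CommRing A] [CommRing B] [Algebra A B]

/-- if `a ∈ B` is a nonzerodivisor with `B/aB` and `B_a` flat over `A`, then `B` is flat over `A`. -/
theorem flat_of_flat_away_of_flat_quotient (a : B) (ha : a ∈ nonZeroDivisors B)
    (Ba : Type*) [CommRing Ba] [Algebra B Ba] [IsLocalization.Away a Ba] [Algebra A Ba]
    [IsScalarTower A B Ba] [Module.Flat A Ba] [Module.Flat A (B ⧸ Ideal.span {a})] :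
    Module.Flat A B := by
  rw [Module.Flat.iff_lTensor_injective']
  intro 𝔞
  rw [injective_iff_map_eq_zero]
  intro k hk
  -- multiplication by `a` is injective on `B ⊗ 𝔞`
  have hmul : Function.Injective (LinearMap.rTensor 𝔞 (LinearMap.mulLeft A a)) := by
    rw [← LinearMap.lTensor_inj_iff_rTensor_inj]
    refine LinearMap.lTensor_injective_of_exact_of_flat
      (Ideal.Quotient.mkₐ A (Ideal.span {a})).toLinearMap ?_ (LinearMap.mulLeft A a) ?_ ?_ 𝔞
    · exact Ideal.Quotient.mk_surjective
    · intro x y hxy
      exact (mul_cancel_left_mem_nonZeroDivisors ha).mp hxy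
    · intro y
      change Ideal.Quotient.mk _ y = 0 ↔ _
      rw [Ideal.Quotient.eq_zero_iff_mem, Ideal.mem_span_singleton']
      constructor
      · rintro ⟨c, rfl⟩; exact ⟨c, mul_comm _ _⟩
      · rintro ⟨c, rfl⟩; exact ⟨c, mul_comm _ _⟩
  have hsmul : ∀ z : B ⊗[A] 𝔞, LinearMap.rTensor 𝔞 (LinearMap.mulLeft A a) z = a • z := by
    intro z
    induction z using TensorProduct.induction_on with
    | zero => simp
    | tmul x y => simp [TensorProduct.smul_tmul']
    | add x y hx hy => rw [map_add, hx, hy, smul_add]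
  have hpow : ∀ n : ℕ, ∀ z : B ⊗[A] 𝔞, a ^ n • z = 0 → z = 0 := by
    intro n
    induction n with
    | zero => intro z hz; simpa using hz
    | succ n ih =>
      intro z hz
      apply ih
      apply hmul
      rw [map_zero, hsmul, ← mul_smul, ← pow_succ']
      exact hz
  -- localize
  let ι : B ⊗[A] 𝔞 →ₗ[B] Ba ⊗[A] 𝔞 :=
    TensorProduct.AlgebraTensorModule.rTensor A 𝔞 (Algebra.linearMap B Ba)
  haveI : IsLocalizedModule (Submonoid.powers a) ι := inferInstance
  have hι : ι k = 0 := by
    have hinj : Function.Injective (LinearMap.lTensor Ba 𝔞.subtype) :=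
      Module.Flat.lTensor_preserves_injective_linearMap _ Subtype.val_injective
    apply hinj
    rw [map_zero]
    have : ∀ z : B ⊗[A] 𝔞, LinearMap.lTensor Ba 𝔞.subtype (ι z) =
        LinearMap.rTensor A ((Algebra.linearMap B Ba).restrictScalars A)
          (LinearMap.lTensor B 𝔞.subtype z) := by
      intro z
      induction z using TensorProduct.induction_on with
      | zero => simp
      | tmul x y => simp [ι]
      | add x y hx hy => simp only [map_add, hx, hy]
    rw [this, hk, map_zero]
  obtain ⟨⟨c, n, rfl⟩, hc⟩ := (IsLocalizedModule.eq_zero_iff (Submonoid.powers a) ι).mp hι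
  exact hpow n k hc

end Alg

end Groth.Agent.LD.QC
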