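import Groth.Agent.Lib.Lead.QC.RelCartier
import Groth.Agent.Lib.Lead.QC.FlatGlue
universe u
open CategoryTheory Limits AlgebraicGeometry TopologicalSpace Opposite TensorProduct

namespace Groth.Agent.LD.QC

section FS
variable {X S : Scheme.{u}}

set_option maxHeartbeats 1600000 in
/-- flatness of the ring map on affine charts from flatness of the stalk maps. -/
theorem flat_appLE_of_flat_stalkMap (f : X ⟶ S) {W : S.Opens} {V : X.Opens} (hW : IsAffineOpen W)
    (hV : IsAffineOpen V) (e : V ≤ f ⁻¹ᵁ W) (H : ∀ x ∈ V, (f.stalkMap x).hom.Flat) :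
    (f.appLE W V e).hom.Flat := by
  letI : Algebra Γ(S, W) Γ(X, V) := (f.appLE W V e).hom.toAlgebra
  change Module.Flat Γ(S, W) Γ(X, V)
  let pt : ∀ (P : Ideal Γ(X, V)) [P.IsMaximal], X := fun P _ => hV.fromSpec ⟨P, inferInstance⟩
  have hpt : ∀ (P : Ideal Γ(X, V)) [P.IsMaximal], pt P ∈ V := fun P _ => fromSpec_mem hV _
  let iA : ∀ (P : Ideal Γ(X, V)) [P.IsMaximal], Algebra Γ(X, V) (X.presheaf.stalk (pt P)) :=
    fun P _ => TopCat.Presheaf.algebra_section_stalk X.presheaf ⟨pt P, hpt P⟩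
  let i1 : ∀ (P : Ideal Γ(X, V)) [P.IsMaximal], Module Γ(S, W) (X.presheaf.stalk (pt P)) :=
    fun P _ => Module.compHom _ ((X.presheaf.germ V (pt P) (hpt P)).hom.comp (f.appLE W V e).hom)
  let i2 : ∀ (P : Ideal Γ(X, V)) [P.IsMaximal], Module Γ(X, V) (X.presheaf.stalk (pt P)) :=
    fun P _ => (iA P).toModule
  have i3 : ∀ (P : Ideal Γ(X, V)) [P.IsMaximal],
      IsScalarTower Γ(S, W) Γ(X, V) (X.presheaf.stalk (pt P)) := fun P _ => ⟨fun a b m => by
    change X.presheaf.germ V (pt P) (hpt P) (f.appLE W V e a * b) * m =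
      X.presheaf.germ V (pt P) (hpt P) (f.appLE W V e a) *
        (X.presheaf.germ V (pt P) (hpt P) b * m)
    rw [map_mul, mul_assoc]⟩
  have i4 : ∀ (P : Ideal Γ(X, V)) [P.IsMaximal],
      IsLocalizedModule.AtPrime P (@Algebra.linearMap Γ(X, V) (X.presheaf.stalk (pt P)) _ _ (iA P)) :=
    fun P _ => by
      letI := iA P
      have h1 := hV.isLocalization_stalk ⟨pt P, hpt P⟩
      rw [primeIdealOf_fromSpec hV ⟨P, inferInstance⟩ (hpt P)] at h1
      haveI : IsLocalization P.primeCompl (X.presheaf.stalk (pt P)) := h1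
      change IsLocalizedModule P.primeCompl (Algebra.linearMap Γ(X, V) (X.presheaf.stalk (pt P)))
      infer_instance
  refine @Module.flat_of_isLocalized_maximal Γ(S, W) Γ(X, V) _ _ _ Γ(X, V) _ _ _ _
    (fun P _ => X.presheaf.stalk (pt P)) (fun P _ => inferInstance) i1 i2 i3
    (fun P _ => @Algebra.linearMap Γ(X, V) (X.presheaf.stalk (pt P)) _ _ (iA P)) i4 ?_
  intro P _
  letI aAS : Algebra Γ(S, W) (S.presheaf.stalk (f (pt P))) :=
    TopCat.Presheaf.algebra_section_stalk S.presheaf ⟨f (pt P), e (hpt P)⟩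
  letI aSX : Algebra (S.presheaf.stalk (f (pt P))) (X.presheaf.stalk (pt P)) :=
    (f.stalkMap (pt P)).hom.toAlgebra
  letI := i1 P
  haveI : IsScalarTower Γ(S, W) (S.presheaf.stalk (f (pt P))) (X.presheaf.stalk (pt P)) :=
    ⟨fun a b m => by
      change f.stalkMap (pt P) (S.presheaf.germ W (f (pt P)) (e (hpt P)) a * b) * m =
        X.presheaf.germ V (pt P) (hpt P) (f.appLE W V e a) * (f.stalkMap (pt P) b * m)
      rw [map_mul, mul_assoc, stalkMap_germ_appLE]⟩
  haveI := hW.isLocalization_stalk ⟨f (pt P), e (hpt P)⟩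
  haveI : Module.Flat Γ(S, W) (S.presheaf.stalk (f (pt P))) :=
    IsLocalization.flat _ (hW.primeIdealOf ⟨f (pt P), e (hpt P)⟩).asIdeal.primeCompl
  haveI : Module.Flat (S.presheaf.stalk (f (pt P))) (X.presheaf.stalk (pt P)) := H _ (hpt P)
  exact Module.Flat.trans Γ(S, W) (S.presheaf.stalk (f (pt P))) (X.presheaf.stalk (pt P))

set_option maxHeartbeats 1600000 in
/-- **S8849**: a morphism which is flat off a relative effective Cartier divisor is flat. -/
theorem flat_of_relEffCartier_of_flat_off (f : X ⟶ S) (𝓘 : X.IdealSheafData)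
    (hC : BlowUp.IsEffCartierIdeal 𝓘) [Flat (𝓘.subschemeι ≫ f)]
    (hflat : ∀ x : X, x ∉ 𝓘.support → (f.stalkMap x).hom.Flat) : Flat f := by
  apply flat_of_exists_appLE
  intro x
  obtain ⟨W, hW, hfxW, -⟩ := exists_isAffineOpen_mem_and_subset (x := f x) (U := (⊤ : S.Opens))
    (Set.mem_univ _)
  obtain ⟨U, hxU, e, a, ha, hI⟩ := exists_affine_principal_le 𝓘 hC x (f ⁻¹ᵁ W) hfxW
  refine ⟨⟨W, hW⟩, U, hxU, e, ?_⟩
  have hq := flat_quotient_of_flat_subscheme_comp f 𝓘 ⟨W, hW⟩ U e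
  rw [ringHom_flat_mk_comp_iff, hI] at hq
  letI : Algebra Γ(S, W) Γ(X, U.1) := (f.appLE W U.1 e).hom.toAlgebra
  change Module.Flat Γ(S, W) Γ(X, U.1)
  have hle : X.basicOpen a ≤ U.1 := X.basicOpen_le a
  letI : Algebra Γ(X, U.1) Γ(X, X.basicOpen a) := (X.presheaf.map (homOfLE hle).op).hom.toAlgebra
  haveI : IsLocalization.Away a Γ(X, X.basicOpen a) := U.2.isLocalization_basicOpen a
  letI : Algebra Γ(S, W) Γ(X, X.basicOpen a) :=
    (f.appLE W (X.basicOpen a) (hle.trans e)).hom.toAlgebra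
  haveI : IsScalarTower Γ(S, W) Γ(X, U.1) Γ(X, X.basicOpen a) :=
    IsScalarTower.of_algebraMap_eq' (by
      change (f.appLE W (X.basicOpen a) (hle.trans e)).hom =
        (X.presheaf.map (homOfLE hle).op).hom.comp (f.appLE W U.1 e).hom
      rw [← CommRingCat.hom_comp, Scheme.Hom.appLE_map])
  haveI : Module.Flat Γ(S, W) Γ(X, X.basicOpen a) :=
    flat_appLE_of_flat_stalkMap f hW (U.2.basicOpen a) (hle.trans e) (fun y hy => by
      apply hflat
      rw [Scheme.IdealSheafData.mem_support_iff_of_mem (U := U) (hle hy), hI,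
        Scheme.mem_zeroLocus_iff]
      intro h
      exact h a (Ideal.mem_span_singleton_self a) hy)
  haveI : Module.Flat Γ(S, W) (Γ(X, U.1) ⧸ Ideal.span {a}) := hq
  exact flat_of_flat_away_of_flat_quotient a ha Γ(X, X.basicOpen a)

end FS

end Groth.Agent.LD.QC
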