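import Mathlib
import Groth.Agent.Lib.Lead.QC.ProjFormula
import Groth.Agent.Lib.Lead.QC.TensorComm
import Groth.Agent.Lib.Lead.QC.InvBasis
import Groth.Agent.Lib.Lead.QC.SubExt
import Groth.Prelude.Def_Formal2

/-! # A fibration (`O_Y ≅ f_* O_X`) induces an injection on Picard groups. -/

set_option autoImplicit false
universe u
open CategoryTheory Limits AlgebraicGeometry TopologicalSpace Opposite

namespace Groth.Agent.LD.QC

variable {X Y : Scheme.{u}}

/-- the canonical morphism `O_Y ⟶ f_* O_X`. -/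
noncomputable def unitToPush (f : X ⟶ Y) :
    unitMod Y ⟶ (Scheme.Modules.pushforward f).obj (unitMod X) :=
  homOfSection ((Scheme.Modules.pushforward f).obj (unitMod X))
    (show Γ((Scheme.Modules.pushforward f).obj (unitMod X), ⊤) from (1 : Γ(X, f ⁻¹ᵁ ⊤)))

lemma unitToPush_app (f : X ⟶ Y) (V : Y.Opens) (b : Γ(Y, V)) :
    (unitToPush f).app V b =
      (show Γ((Scheme.Modules.pushforward f).obj (unitMod X), V) from f.app V b) := by
  rw [unitHom_app, unitToPush, homOfSection_app_one]
  change (f.app V b) • (X.presheaf.map (homOfLE (show f ⁻¹ᵁ V ≤ f ⁻¹ᵁ ⊤ from fun _ _ => trivial)).op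
    (1 : Γ(X, f ⁻¹ᵁ ⊤)) : Γ(X, f ⁻¹ᵁ V)) = f.app V b
  rw [map_one, smul_eq_mul, mul_one]

theorem isIso_unitToPush (f : X ⟶ Y) (hfib : ∀ V : Y.Opens, IsIso (f.app V)) :
    IsIso (unitToPush f) := by
  apply isIso_of_bijective_app
  intro V
  have h1 : Function.Bijective (f.app V).hom :=
    (ConcreteCategory.isIso_iff_bijective (f.app V)).mp (hfib V)
  have h2 : ⇑(ConcreteCategory.hom ((unitToPush f).app V)) = fun b => (f.app V).hom b := by
    funext b
    exact unitToPush_app f V b
  rw [h2]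
  exact h1

theorem picPullbackInjective_of_fibration (f : X ⟶ Y) (hfib : ∀ V : Y.Opens, IsIso (f.app V)) :
    Formal2.PicPullbackInjective f := by
  intro N hN ⟨e⟩
  haveI := qc_of_isInvertible N hN
  haveI := isIso_unitToPush f hfib
  haveI := isIso_projHom f (unitMod X) N hN
  exact ⟨(unitorL N).symm ≪≫ tensorIso' (asIso (unitToPush f)) (Iso.refl N) ≪≫
    asIso (projHom f (unitMod X) N) ≪≫
    (Scheme.Modules.pushforward f).mapIso (tensorIso' (Iso.refl (unitMod X)) e) ≪≫
    (Scheme.Modules.pushforward f).mapIso (SecTwist.unitorR (unitMod X)) ≪≫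
    (asIso (unitToPush f)).symm⟩

end Groth.Agent.LD.QC
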