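import Groth.Agent.Lib.Lead.QC.WeakAssAlg
universe u v
namespace Groth.Agent.LD.QC

section AssAlg
variable {R : Type u} [CommRing R] {M : Type v} [AddCommGroup M] [Module R M]

/-- a prime minimal over `I`: every element of it has a power landing in `I` after multiplying by
something outside the prime. -/
theorem exists_notMem_mul_pow_mem_of_mem_minimalPrimes {I p : Ideal R} (hp : p ∈ I.minimalPrimes)
    {g : R} (hg : g ∈ p) : ∃ s ∉ p, ∃ k : ℕ, s * g ^ k ∈ I := by
  haveI := hp.1.1
  by_contra hcon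
  push Not at hcon
  have hdisj : Disjoint (I : Set R) ((p.primeCompl ⊔ Submonoid.powers g : Submonoid R) : Set R) := by
    rw [Set.disjoint_left]
    intro x hxI hxT
    obtain ⟨y, hy, z, ⟨k, rfl⟩, rfl⟩ := Submonoid.mem_sup.mp hxT
    exact hcon y hy k hxI
  obtain ⟨q, hq, hIq, hqT⟩ := Ideal.exists_le_prime_disjoint I _ hdisj
  have hqp : q ≤ p := by
    intro x hx
    by_contra hxp
    exact Set.disjoint_left.mp hqT hx (Submonoid.mem_sup_left (show x ∈ p.primeCompl from hxp))
  have hpq : p ≤ q := hp.2 ⟨hq, hIq⟩ hqp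
  exact Set.disjoint_left.mp hqT (hpq hg) (Submonoid.mem_sup_right (Submonoid.mem_powers g))

/-- a finitely generated prime minimal over the annihilator of an element is the radical of the
annihilator of a multiple of that element. -/
theorem exists_radical_ker_eq_of_fg (p : Ideal R) (hfg : p.FG) (m : M)
    (hp : p ∈ Ideal.minimalPrimes (LinearMap.ker (LinearMap.toSpanSingleton R M m) : Ideal R)) :
    ∃ m' : M, p = Ideal.radical (LinearMap.ker (LinearMap.toSpanSingleton R M m') : Ideal R) := by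
  classical
  haveI := hp.1.1
  obtain ⟨t, ht⟩ := hfg
  have hch : ∀ g : R, ∃ s : R, s ∉ p ∧ (g ∈ t → ∃ k : ℕ, (s * g ^ k) • m = 0) := by
    intro g
    by_cases hg : g ∈ t
    · have hgp : g ∈ p := by rw [← ht]; exact Ideal.subset_span hg
      obtain ⟨s, hs, k, hk⟩ := exists_notMem_mul_pow_mem_of_mem_minimalPrimes hp hgp
      exact ⟨s, hs, fun _ => ⟨k, hk⟩⟩
    · exact ⟨1, fun h => hp.1.1.ne_top ((Ideal.eq_top_iff_one p).mpr h), fun h => absurd h hg⟩
  choose σ hσ hσk using hch
  let s := ∏ g ∈ t, σ g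
  have hsp : s ∉ p := by
    intro h
    obtain ⟨g, -, hg⟩ := (Ideal.IsPrime.prod_mem_iff).mp h
    exact hσ g hg
  refine ⟨s • m, le_antisymm ?_ ?_⟩
  · rw [← ht, Ideal.span_le]
    intro g hg
    obtain ⟨k, hk⟩ := hσk g hg
    refine ⟨k, ?_⟩
    change g ^ k • s • m = 0
    obtain ⟨c, hc⟩ : σ g ∣ s := Finset.dvd_prod_of_mem σ hg
    rw [smul_smul, hc, show g ^ k * (σ g * c) = c * (σ g * g ^ k) by ring, mul_smul, hk, smul_zero]
  · rw [Ideal.IsPrime.radical_le_iff ‹p.IsPrime›]
    intro a ha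
    change a • s • m = 0 at ha
    rw [smul_smul] at ha
    have h1 : a * s ∈ p := hp.1.2 ha
    exact (Ideal.IsPrime.mem_or_mem ‹p.IsPrime› h1).resolve_right hsp

/-- a prime which is the radical of an annihilator is minimal over it. -/
theorem mem_minimalPrimes_of_eq_radical (p : Ideal R) [p.IsPrime] (I : Ideal R)
    (h : p = I.radical) : p ∈ I.minimalPrimes := by
  refine ⟨⟨inferInstance, h ▸ Ideal.le_radical⟩, ?_⟩
  rintro q ⟨hq, hIq⟩ -
  rw [h]
  exact (Ideal.IsPrime.radical_le_iff hq).mpr hIq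

end AssAlg
end Groth.Agent.LD.QC
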