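import Groth.Agent.Lib.Lead.QC.IdealMod
import Groth.Agent.Lib.Helper2.CAlgA
universe u
open CategoryTheory Limits AlgebraicGeometry TopologicalSpace Opposite TensorProduct

namespace Groth.Agent.LD.QC

section AlgSES
variable {A B : Type u} [CommRing A] [CommRing B] [Algebra A B]

/-- for a nonzerodivisor `a₁`: `0 → B/(a₂) → B/(a₁a₂) → B/(a₁) → 0` and two-out-of-three for
`A`-flatness, given that `B/(a₁)` is flat. -/
theorem flat_quotient_mul (a₁ a₂ : B) (ha₁ : a₁ ∈ nonZeroDivisors B)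
    [Module.Flat A (B ⧸ Ideal.span {a₁})] :
    Module.Flat A (B ⧸ Ideal.span {a₂}) ↔ Module.Flat A (B ⧸ Ideal.span {a₁ * a₂}) := by
  let f : (B ⧸ Ideal.span {a₂}) →ₗ[A] (B ⧸ Ideal.span {a₁ * a₂}) :=
    ((Ideal.span {a₂} : Ideal B).mapQ (Ideal.span {a₁ * a₂}) (LinearMap.mulLeft B a₁) (by
      intro x hx
      obtain ⟨c, rfl⟩ := Ideal.mem_span_singleton'.mp hx
      rw [Submodule.mem_comap]
      change a₁ * (c * a₂) ∈ _
      rw [Ideal.mem_span_singleton']
      exact ⟨c, by ring⟩)).restrictScalars A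
  let g : (B ⧸ Ideal.span {a₁ * a₂}) →ₗ[A] (B ⧸ Ideal.span {a₁}) :=
    ((Ideal.span {a₁ * a₂} : Ideal B).mapQ (Ideal.span {a₁}) LinearMap.id (by
      intro x hx
      obtain ⟨c, rfl⟩ := Ideal.mem_span_singleton'.mp hx
      rw [Submodule.mem_comap]
      change c * (a₁ * a₂) ∈ _
      rw [Ideal.mem_span_singleton']
      exact ⟨c * a₂, by ring⟩)).restrictScalars A
  have hf : Function.Injective f := by
    rw [← LinearMap.ker_eq_bot, LinearMap.ker_eq_bot']
    intro x hx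
    obtain ⟨b, rfl⟩ := Submodule.Quotient.mk_surjective _ x
    have h1 : Submodule.Quotient.mk (a₁ * b) = (0 : B ⧸ Ideal.span {a₁ * a₂}) := hx
    rw [Submodule.Quotient.mk_eq_zero] at h1 ⊢
    obtain ⟨c, hc⟩ := Ideal.mem_span_singleton'.mp h1
    have h2 : (b - c * a₂) * a₁ = 0 := by
      have : c * (a₁ * a₂) = a₁ * b := hc
      calc (b - c * a₂) * a₁ = a₁ * b - c * (a₁ * a₂) := by ring
        _ = 0 := by rw [this, sub_self]
    have h3 := (mem_nonZeroDivisors_iff_right.mp ha₁) _ h2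
    rw [Ideal.mem_span_singleton']
    exact ⟨c, (sub_eq_zero.mp h3).symm⟩
  have hg : Function.Surjective g := by
    intro y
    obtain ⟨b, rfl⟩ := Submodule.Quotient.mk_surjective _ y
    exact ⟨Submodule.Quotient.mk b, rfl⟩
  have hex : Function.Exact f g := by
    intro y
    obtain ⟨b, rfl⟩ := Submodule.Quotient.mk_surjective _ y
    constructor
    · intro hy
      have h1 : Submodule.Quotient.mk b = (0 : B ⧸ Ideal.span {a₁}) := hy
      rw [Submodule.Quotient.mk_eq_zero] at h1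
      obtain ⟨c, rfl⟩ := Ideal.mem_span_singleton'.mp h1
      refine ⟨Submodule.Quotient.mk c, ?_⟩
      change Submodule.Quotient.mk (a₁ * c) = Submodule.Quotient.mk (c * a₁)
      rw [mul_comm a₁ c]
    · rintro ⟨x, hx⟩
      obtain ⟨c, rfl⟩ := Submodule.Quotient.mk_surjective _ x
      rw [← hx]
      change Submodule.Quotient.mk (a₁ * c) = (0 : B ⧸ Ideal.span {a₁})
      rw [Submodule.Quotient.mk_eq_zero]
      exact Ideal.mul_mem_right _ _ (Ideal.mem_span_singleton_self a₁)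
  obtain ⟨h12, h21⟩ := Groth.Agent.H2.CAlgA.flat_of_ses f g hf hex hg
  exact ⟨h12, h21⟩

end AlgSES

section Conv
variable {A B : Type u} [CommRing A] [CommRing B]

/-- `RingHom.Flat` of `A → B → B/I` is flatness of the quotient as an `A`-module. -/
theorem ringHom_flat_mk_comp_iff (φ : A →+* B) (I : Ideal B) :
    ((Ideal.Quotient.mk I).comp φ).Flat ↔
      (letI := φ.toAlgebra; Module.Flat A (B ⧸ I)) := by
  letI := φ.toAlgebra
  have : (((Ideal.Quotient.mk I).comp φ).toAlgebra.toModule : Module A (B ⧸ I)) =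
      (inferInstance : Module A (B ⧸ I)) := by
    apply Module.ext'
    intro r m
    obtain ⟨b, rfl⟩ := Ideal.Quotient.mk_surjective m
    rfl
  unfold RingHom.Flat
  rw [this]

end Conv

section FlatSub
variable {X S : Scheme.{u}} (f : X ⟶ S) (I : X.IdealSheafData)

/-- the ring of sections of the closed subscheme over the preimage of an affine open. -/
noncomputable def subschemeSectionsEquiv (U : X.affineOpens) :
    (Γ(X, U.1) ⧸ I.ideal U) ≃+* Γ(I.subscheme, I.subschemeι ⁻¹ᵁ U.1) :=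
  (Ideal.quotEquivOfEq (I.ker_subschemeι_app U).symm).trans
    (RingHom.quotientKerEquivOfSurjective (I.subschemeι_app_surjective U))

lemma subschemeSectionsEquiv_mk (U : X.affineOpens) (b : Γ(X, U.1)) :
    subschemeSectionsEquiv I U (Ideal.Quotient.mk _ b) = I.subschemeι.app U.1 b := rfl

theorem flat_appLE_subscheme_iff {W : S.Opens} (U : X.affineOpens) (e : U.1 ≤ f ⁻¹ᵁ W) :
    ((I.subschemeι ≫ f).appLE W (I.subschemeι ⁻¹ᵁ U.1) (fun _ hy => e hy)).hom.Flat ↔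
      ((Ideal.Quotient.mk (I.ideal U)).comp (f.appLE W U.1 e).hom).Flat := by
  have key : ((I.subschemeι ≫ f).appLE W (I.subschemeι ⁻¹ᵁ U.1) (fun _ hy => e hy)).hom =
      (subschemeSectionsEquiv I U).toRingHom.comp
        ((Ideal.Quotient.mk (I.ideal U)).comp (f.appLE W U.1 e).hom) := by
    ext r
    change _ = subschemeSectionsEquiv I U (Ideal.Quotient.mk _ (f.appLE W U.1 e r))
    rw [subschemeSectionsEquiv_mk, ← Scheme.Hom.appLE_eq_app,
      ← Scheme.Hom.appLE_comp_appLE I.subschemeι f W U.1 _ e le_rfl]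
    rfl
  constructor
  · intro h
    rw [key] at h
    have := RingHom.Flat.respectsIso.1 _ (subschemeSectionsEquiv I U).symm h
    convert this using 1
    ext r
    simp
  · intro h
    rw [key]
    exact RingHom.Flat.respectsIso.1 _ (subschemeSectionsEquiv I U) h

theorem flat_quotient_of_flat_subscheme_comp [Flat (I.subschemeι ≫ f)] (W : S.affineOpens)
    (U : X.affineOpens) (e : U.1 ≤ f ⁻¹ᵁ W.1) :
    ((Ideal.Quotient.mk (I.ideal U)).comp (f.appLE W.1 U.1 e).hom).Flat :=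
  (flat_appLE_subscheme_iff f I U e).mp
    (HasRingHomProperty.appLE (P := @Flat) (I.subschemeι ≫ f) inferInstance W
      ⟨_, U.2.preimage I.subschemeι⟩ (fun _ hy => e hy))

/-- a morphism is flat as soon as it is so on affine charts around every point. -/
theorem flat_of_exists_appLE {Z : Scheme.{u}} (h : Z ⟶ S)
    (H : ∀ z : Z, ∃ (W : S.affineOpens) (V : Z.affineOpens) (_ : z ∈ V.1) (e : V.1 ≤ h ⁻¹ᵁ W.1),
      (h.appLE W.1 V.1 e).hom.Flat) : Flat h :=
  (HasRingHomProperty.iff_exists_appLE (P := @Flat)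
    (RingHom.Flat.stableUnderComposition.stableUnderCompositionWithLocalizationAway
      RingHom.Flat.holdsForLocalizationAway).left).mpr H

theorem flat_subscheme_comp_of_local
    (H : ∀ x : X, x ∈ I.support → ∃ (W : S.affineOpens) (U : X.affineOpens)
      (e : U.1 ≤ f ⁻¹ᵁ W.1), x ∈ U.1 ∧
        ((Ideal.Quotient.mk (I.ideal U)).comp (f.appLE W.1 U.1 e).hom).Flat) :
    Flat (I.subschemeι ≫ f) := by
  apply flat_of_exists_appLE
  intro z
  have hz : I.subschemeι z ∈ I.support := by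
    have : I.subschemeι z ∈ Set.range I.subschemeι := ⟨z, rfl⟩
    rwa [I.range_subschemeι] at this
  obtain ⟨W, U, e, hxU, hfl⟩ := H _ hz
  exact ⟨W, ⟨_, U.2.preimage I.subschemeι⟩, hxU, fun _ hy => e hy,
    (flat_appLE_subscheme_iff f I U e).mpr hfl⟩

end FlatSub

section RelCartier
variable {X S : Scheme.{u}}

/-- common principal affine charts for two effective Cartier divisors. -/
theorem exists_affine_principal₂ (D₁ D₂ : X.IdealSheafData) (h₁ : BlowUp.IsEffCartierIdeal D₁)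
    (h₂ : BlowUp.IsEffCartierIdeal D₂) (x : X) (O : X.Opens) (hx : x ∈ O) :
    ∃ U : X.affineOpens, x ∈ U.1 ∧ U.1 ≤ O ∧
      (∃ a₁ : Γ(X, U.1), a₁ ∈ nonZeroDivisors Γ(X, U.1) ∧ D₁.ideal U = Ideal.span {a₁}) ∧
      (∃ a₂ : Γ(X, U.1), a₂ ∈ nonZeroDivisors Γ(X, U.1) ∧ D₂.ideal U = Ideal.span {a₂}) := by
  obtain ⟨U₁, hxU₁, hU₁O, a₁, ha₁, hI₁⟩ := exists_affine_principal_le D₁ h₁ x O hx
  obtain ⟨U, hxU, hUU₁, a₂, ha₂, hI₂⟩ := exists_affine_principal_le D₂ h₂ x U₁.1 hxU₁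
  obtain ⟨ha, hI⟩ := principal_res D₁ (U₀ := U₁) (U := U) hUU₁ a₁ ha₁ hI₁
  exact ⟨U, hxU, hUU₁.trans hU₁O, ⟨_, ha, hI⟩, ⟨a₂, ha₂, hI₂⟩⟩

/-- **the sum of two relative effective Cartier divisors is a relative effective Cartier
divisor.** -/
theorem relCartier_mul (f : X ⟶ S) (I₁ I₂ : X.IdealSheafData)
    (h₁ : BlowUp.IsEffCartierIdeal I₁ ∧ Flat (I₁.subschemeι ≫ f))
    (h₂ : BlowUp.IsEffCartierIdeal I₂ ∧ Flat (I₂.subschemeι ≫ f)) :
    BlowUp.IsEffCartierIdeal (I₁ * I₂) ∧ Flat ((I₁ * I₂).subschemeι ≫ f) := by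
  haveI := h₁.2
  haveI := h₂.2
  constructor
  · intro x
    obtain ⟨U, hxU, -, ⟨a₁, ha₁, hI₁⟩, ⟨a₂, ha₂, hI₂⟩⟩ :=
      exists_affine_principal₂ I₁ I₂ h₁.1 h₂.1 x ⊤ trivial
    refine ⟨U, hxU, a₁ * a₂, mul_mem ha₁ ha₂, ?_⟩
    rw [Scheme.IdealSheafData.ideal_mul, Pi.mul_apply, hI₁, hI₂,
      Ideal.span_singleton_mul_span_singleton]
  · apply flat_subscheme_comp_of_local
    intro x _
    obtain ⟨W, hW, hxW, -⟩ := exists_isAffineOpen_mem_and_subset (x := f x) (U := ⊤) trivial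
    obtain ⟨U, hxU, hUW, ⟨a₁, ha₁, hI₁⟩, ⟨a₂, ha₂, hI₂⟩⟩ :=
      exists_affine_principal₂ I₁ I₂ h₁.1 h₂.1 x (f ⁻¹ᵁ W) hxW
    refine ⟨⟨W, hW⟩, U, hUW, hxU, ?_⟩
    have hf₁ := flat_quotient_of_flat_subscheme_comp f I₁ ⟨W, hW⟩ U hUW
    have hf₂ := flat_quotient_of_flat_subscheme_comp f I₂ ⟨W, hW⟩ U hUW
    rw [ringHom_flat_mk_comp_iff] at hf₁ hf₂ ⊢
    letI := (f.appLE W U.1 hUW).hom.toAlgebra
    rw [hI₁] at hf₁
    rw [hI₂] at hf₂
    have hI : (I₁ * I₂).ideal U = Ideal.span {a₁ * a₂} := by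
      rw [Scheme.IdealSheafData.ideal_mul, Pi.mul_apply, hI₁, hI₂,
        Ideal.span_singleton_mul_span_singleton]
    rw [hI]
    haveI := hf₁
    exact (flat_quotient_mul (A := Γ(S, W)) a₁ a₂ ha₁).mp hf₂

/-- **the difference of two relative effective Cartier divisors, if effective, is flat over the
base.** -/
theorem relCartier_flat_of_mul_eq (f : X ⟶ S) (I₁ I₂ I : X.IdealSheafData)
    (h₁ : BlowUp.IsEffCartierIdeal I₁ ∧ Flat (I₁.subschemeι ≫ f))
    (h₂ : BlowUp.IsEffCartierIdeal I₂ ∧ Flat (I₂.subschemeι ≫ f))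
    (h : BlowUp.IsEffCartierIdeal I) (hsum : I₁ * I = I₂) : Flat (I.subschemeι ≫ f) := by
  haveI := h₁.2
  haveI := h₂.2
  apply flat_subscheme_comp_of_local
  intro x _
  obtain ⟨W, hW, hxW, -⟩ := exists_isAffineOpen_mem_and_subset (x := f x) (U := ⊤) trivial
  obtain ⟨U, hxU, hUW, ⟨a₁, ha₁, hI₁⟩, ⟨a, ha, hI⟩⟩ :=
    exists_affine_principal₂ I₁ I h₁.1 h x (f ⁻¹ᵁ W) hxW
  refine ⟨⟨W, hW⟩, U, hUW, hxU, ?_⟩
  have hf₁ := flat_quotient_of_flat_subscheme_comp f I₁ ⟨W, hW⟩ U hUW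
  have hf₂ := flat_quotient_of_flat_subscheme_comp f I₂ ⟨W, hW⟩ U hUW
  rw [ringHom_flat_mk_comp_iff] at hf₁ hf₂ ⊢
  letI := (f.appLE W U.1 hUW).hom.toAlgebra
  have hI₂ : I₂.ideal U = Ideal.span {a₁ * a} := by
    rw [← hsum, Scheme.IdealSheafData.ideal_mul, Pi.mul_apply, hI₁, hI,
      Ideal.span_singleton_mul_span_singleton]
  rw [hI₁] at hf₁
  rw [hI₂] at hf₂
  rw [hI]
  haveI := hf₁
  exact (flat_quotient_mul (A := Γ(S, W)) a₁ a ha₁).mpr hf₂

end RelCartier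

end Groth.Agent.LD.QC
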