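import Groth.Agent.Lib.Lead.QC.SubExt
import Mathlib.Algebra.Category.ModuleCat.Presheaf.Submodule
import Mathlib.Topology.Sheaves.SheafCondition.UniqueGluing

/-! # Subsheaves of an `O_X`-module given by families of submodules of sections. -/

universe u
open CategoryTheory Limits AlgebraicGeometry TopologicalSpace Opposite

namespace Groth.Agent.LD.QC
variable {X : Scheme.{u}}

/-- a subsheaf of `F`, as a family of submodules of sections, stable under restriction and local. -/
structure SubSh (F : X.Modules) where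
  N : ∀ W : X.Opens, Submodule Γ(X, W) Γ(F, W)
  res : ∀ {W W' : X.Opens} (h : W' ≤ W) (s : Γ(F, W)), s ∈ N W →
    F.presheaf.map (homOfLE h).op s ∈ N W'
  loc : ∀ (W : X.Opens) (s : Γ(F, W)), (∀ x ∈ W, ∃ (W' : X.Opens) (h : W' ≤ W), x ∈ W' ∧
    F.presheaf.map (homOfLE h).op s ∈ N W') → s ∈ N W

namespace SubSh
variable {F : X.Modules} (S : SubSh F)

/-- the associated Mathlib submodule of the presheaf of modules. -/
def toSub : PresheafOfModules.Submodule F.val where
  obj W := S.N W.unop
  map {W W'} f := fun s hs => S.res (leOfHom f.unop) s hs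

theorem isSheaf_toSub :
    Presheaf.IsSheaf (Opens.grothendieckTopology X) S.toSub.toPresheafOfModules.presheaf := by
  change TopCat.Presheaf.IsSheaf _
  rw [TopCat.Presheaf.isSheaf_iff_isSheafUniqueGluing]
  intro ι U sf hsf
  -- the sections in `F`
  let sf' : ∀ i, Γ(F, U i) := fun i => (sf i : S.N (U i)).1
  have hsf' : TopCat.Presheaf.IsCompatible F.presheaf U sf' := by
    intro i j
    have := congrArg (fun t : S.N (U i ⊓ U j) => t.1) (hsf i j)
    exact this
  obtain ⟨s, hs, hsu⟩ := TopCat.Sheaf.existsUnique_gluing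
    (⟨F.presheaf, F.isSheaf⟩ : TopCat.Sheaf Ab X) U sf' hsf'
  have hsN : s ∈ S.N (iSup U) := by
    apply S.loc
    intro x hx
    obtain ⟨i, hi⟩ := Opens.mem_iSup.mp hx
    refine ⟨U i, le_iSup U i, hi, ?_⟩
    have h1 : F.presheaf.map (homOfLE (le_iSup U i)).op s = sf' i := hs i
    rw [h1]
    exact (sf i : S.N (U i)).2
  refine ⟨(⟨s, hsN⟩ : S.N (iSup U)), ?_, ?_⟩
  · intro i
    apply Subtype.ext
    exact hs i
  · intro t ht
    apply Subtype.ext
    apply hsu
    intro i
    have := congrArg (fun t : S.N (U i) => t.1) (ht i)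
    exact this

/-- the associated `O_X`-module. -/
noncomputable def toModules : X.Modules where
  val := S.toSub.toPresheafOfModules
  isSheaf := S.isSheaf_toSub

/-- the inclusion. -/
noncomputable def ι : S.toModules ⟶ F := ⟨S.toSub.ι⟩

lemma ι_app (W : X.Opens) (t : S.N W) : (S.ι).app W (show Γ(S.toModules, W) from t) = t.1 := rfl

instance : Mono S.ι := by
  apply mono_of_injective_app
  intro W a b hab
  exact Subtype.ext hab

lemma range_ι (W : X.Opens) : Set.range ((S.ι).app W) = (S.N W : Set Γ(F, W)) := by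
  ext s
  constructor
  · rintro ⟨t, rfl⟩
    exact (show S.N W from t).2
  · intro hs
    exact ⟨(show Γ(S.toModules, W) from (⟨s, hs⟩ : S.N W)), rfl⟩

lemma mem_iff (W : X.Opens) (s : Γ(F, W)) : s ∈ S.N W ↔ ∃ t, (S.ι).app W t = s := by
  have := S.range_ι W
  constructor
  · intro hs
    have h2 : s ∈ Set.range ((S.ι).app W) := by rw [this]; exact hs
    exact h2
  · intro hs
    have h2 : s ∈ Set.range ((S.ι).app W) := hs
    rw [this] at h2
    exact h2

/-- sections of `toModules` are linearly equivalent to the submodule. -/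
noncomputable def sectionsEquiv (W : X.Opens) : Γ(S.toModules, W) ≃ₗ[Γ(X, W)] S.N W :=
  LinearEquiv.refl _ _

end SubSh

/-- the subsheaf of sections in the image of a monomorphism. -/
noncomputable def rangeSub {A F : X.Modules} (i : A ⟶ F) [Mono i] : SubSh F where
  N W := LinearMap.range (appLinear i W)
  res {W W'} h s := by
    rintro ⟨a, rfl⟩
    exact ⟨A.presheaf.map (homOfLE h).op a, app_res i h a⟩
  loc W s hs := by
    rw [LinearMap.mem_range]
    apply (mem_range_mono_iff i W s).mpr
    apply TopCat.Sheaf.eq_of_locally_eq' (⟨(cokernel i).presheaf, (cokernel i).isSheaf⟩ :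
      TopCat.Sheaf Ab X) (fun x : W => (Classical.choose (hs x.1 x.2))) W
      (fun x => homOfLE (Classical.choose (Classical.choose_spec (hs x.1 x.2))))
    · intro x hx
      exact Opens.mem_iSup.mpr ⟨⟨x, hx⟩, (Classical.choose_spec
        (Classical.choose_spec (hs x hx))).1⟩
    · intro x
      have h := (Classical.choose_spec (Classical.choose_spec (hs x.1 x.2))).2
      rw [LinearMap.mem_range] at h
      have h2 := (mem_range_mono_iff i _ _).mp h
      rw [app_res] at h2
      rw [map_zero]
      exact h2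

lemma mem_rangeSub {A F : X.Modules} (i : A ⟶ F) [Mono i] (W : X.Opens) (s : Γ(F, W)) :
    s ∈ (rangeSub i).N W ↔ ∃ a, i.app W a = s := Iff.rfl

/-- `rangeSub i` recovers the source of `i`. -/
theorem exists_iso_rangeSub {A F : X.Modules} (i : A ⟶ F) [Mono i] :
    ∃ e : (rangeSub i).toModules ≅ A, e.hom ≫ i = (rangeSub i).ι := by
  apply exists_iso_of_range_eq
  intro W
  rw [SubSh.range_ι]
  ext s
  exact (mem_rangeSub i W s)

/-- the whole sheaf. -/
noncomputable def topSub (F : X.Modules) : SubSh F where
  N W := ⊤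
  res _ _ _ := Submodule.mem_top
  loc _ _ _ := Submodule.mem_top

/-- the intersection of a family of subsheaves. -/
noncomputable def infSub {F : X.Modules} {ι : Type*} (S : ι → SubSh F) : SubSh F where
  N W := ⨅ i, (S i).N W
  res {W W'} h s hs := by
    rw [Submodule.mem_iInf] at hs ⊢
    exact fun i => (S i).res h s (hs i)
  loc W s hs := by
    rw [Submodule.mem_iInf]
    intro i
    apply (S i).loc
    intro x hx
    obtain ⟨W', h, hxW', hmem⟩ := hs x hx
    exact ⟨W', h, hxW', (Submodule.mem_iInf _).mp hmem i⟩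

lemma mem_infSub {F : X.Modules} {ι : Type*} (S : ι → SubSh F) (W : X.Opens) (s : Γ(F, W)) :
    s ∈ (infSub S).N W ↔ ∀ i, s ∈ (S i).N W := Submodule.mem_iInf _

end Groth.Agent.LD.QC
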