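import Mathlib.RingTheory.Ideal.MinimalPrime.Localization
import Mathlib.Algebra.Module.LocalizedModule.Basic
import Mathlib.RingTheory.Localization.AtPrime.Basic
import Groth.Prelude.Def_FlatCA
universe u v
open IsLocalRing

namespace Groth.Agent.LD.QC

section Ann
variable {R : Type*} [CommRing R] (S : Submonoid R) {A : Type*} [CommRing A] [Algebra R A]
  [IsLocalization S A] {M M' : Type*} [AddCommGroup M] [Module R M] [AddCommGroup M']
  [Module R M'] [Module A M'] [IsScalarTower R A M'] (g : M →ₗ[R] M') [IsLocalizedModule S g]

include S in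
/-- the annihilator of an element commutes with localization. -/
theorem ker_toSpanSingleton_localized (m : M) :
    (LinearMap.ker (LinearMap.toSpanSingleton A M' (g m)) : Ideal A) =
      Ideal.map (algebraMap R A) (LinearMap.ker (LinearMap.toSpanSingleton R M m) : Ideal R) := by
  apply le_antisymm
  · intro a ha
    have ha' : a • g m = 0 := ha
    obtain ⟨b, s, rfl⟩ := IsLocalization.exists_mk'_eq S a
    have h1 : g (b • m) = 0 := by
      have : (algebraMap R A s) • (IsLocalization.mk' A b s • g m) = 0 := by rw [ha', smul_zero]
      rw [smul_smul, mul_comm, IsLocalization.mk'_spec, algebraMap_smul] at this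
      rw [map_smul]
      exact this
    obtain ⟨c, hc⟩ := (IsLocalizedModule.eq_zero_iff S g).mp h1
    have hcb : (c : R) * b ∈ (LinearMap.ker (LinearMap.toSpanSingleton R M m) : Ideal R) := by
      change ((c : R) * b) • m = 0
      rw [mul_smul]
      exact hc
    have : IsLocalization.mk' A b s = IsLocalization.mk' A ((c : R) * b) (c * s) := by
      rw [IsLocalization.mk'_eq_iff_eq]
      simp only [Submonoid.coe_mul]
      congr 1
      ring
    rw [this, IsLocalization.mk'_eq_mul_mk'_one]
    exact Ideal.mul_mem_right _ _ (Ideal.mem_map_of_mem _ hcb)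
  · rw [Ideal.map_le_iff_le_comap]
    intro b hb
    have hb' : b • m = 0 := hb
    change (algebraMap R A b) • g m = 0
    rw [algebraMap_smul, ← map_smul, hb', map_zero]

end Ann

section AtPrime
variable {R : Type*} [CommRing R] (p : Ideal R) [p.IsPrime] (A : Type*) [CommRing A] [Algebra R A]
  [IsLocalization.AtPrime A p] [IsLocalRing A]

/-- in a local ring, the radical of `J` is the maximal ideal iff the maximal ideal is minimal
over `J`. -/
theorem radical_eq_maximalIdeal_iff {A : Type*} [CommRing A] [IsLocalRing A] (J : Ideal A) :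
    J.radical = maximalIdeal A ↔ maximalIdeal A ∈ J.minimalPrimes := by
  constructor
  · intro h
    refine ⟨⟨inferInstance, h ▸ Ideal.le_radical⟩, ?_⟩
    rintro q ⟨hq, hJq⟩ _
    rw [← h]
    exact (hq.radical_le_iff).mpr hJq
  · intro h
    apply le_antisymm
    · exact (Ideal.IsPrime.radical_le_iff inferInstance).mpr h.1.2
    · rw [Ideal.radical_eq_sInf]
      apply le_sInf
      rintro q ⟨hJq, hq⟩
      exact h.2 ⟨hq, hJq⟩ (IsLocalRing.le_maximalIdeal hq.ne_top)

/-- the radical of the extension of `I` to `R_p` is the maximal ideal iff `p` is minimal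
over `I`. -/
theorem radical_map_eq_maximalIdeal_iff (I : Ideal R) :
    (I.map (algebraMap R A)).radical = maximalIdeal A ↔ p ∈ I.minimalPrimes := by
  rw [radical_eq_maximalIdeal_iff, IsLocalization.minimalPrimes_map p.primeCompl A I,
    Set.mem_preimage]
  have : Ideal.under R (maximalIdeal A) = p := IsLocalization.AtPrime.under_maximalIdeal A p
  rw [this]

end AtPrime

section WA
variable {R : Type u} [CommRing R] {M : Type v} [AddCommGroup M] [Module R M]

theorem annihilator_span_singleton_eq_ker (m : M) :
    (Submodule.span R {m}).annihilator =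
      (LinearMap.ker (LinearMap.toSpanSingleton R M m) : Ideal R) := by
  ext r
  rw [Submodule.mem_annihilator_span_singleton]
  rfl

theorem mem_weakAss_iff (p : Ideal R) :
    p ∈ FlatCA.weakAss R M ↔
      ∃ m : M, p ∈ Ideal.minimalPrimes
        (LinearMap.ker (LinearMap.toSpanSingleton R M m) : Ideal R) := by
  unfold FlatCA.weakAss
  simp only [Set.mem_setOf_eq, annihilator_span_singleton_eq_ker]

end WA

end Groth.Agent.LD.QC
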