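import Groth.Agent.Lib.Lead.QC.WeakAssAlg
import Mathlib.LinearAlgebra.TensorProduct.Quotient
import Mathlib.RingTheory.Flat.Basic
import Mathlib.RingTheory.IsTensorProduct
universe u v
open TensorProduct
namespace Groth.Agent.LD.QC

section AnnFlat
variable {A B : Type u} [CommRing A] [CommRing B] [Algebra A B]

/-- `b ⊗ 1 = 0` in `B ⊗ A/I` iff `b ∈ I B`. -/
theorem tmul_mk_one_eq_zero_iff (I : Ideal A) (b : B) :
    (b ⊗ₜ[A] (Ideal.Quotient.mk I 1) : B ⊗[A] (A ⧸ I)) = 0 ↔ b ∈ Ideal.map (algebraMap A B) I := by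
  rw [← (TensorProduct.tensorQuotEquivQuotSMul B I).map_eq_zero_iff,
    TensorProduct.tensorQuotEquivQuotSMul_tmul_mk, one_smul, Submodule.Quotient.mk_eq_zero,
    Ideal.smul_top_eq_map]
  rfl

/-- **flat base change of annihilators of elements.** -/
theorem ker_toSpanSingleton_baseChange_of_flat [Module.Flat A B]
    {M N : Type u} [AddCommGroup M] [Module A M] [AddCommGroup N] [Module A N] [Module B N]
    [IsScalarTower A B N] (σ : M →ₗ[A] N) (hσ : IsBaseChange B σ) (m : M) :
    (LinearMap.ker (LinearMap.toSpanSingleton B N (σ m)) : Ideal B) =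
      Ideal.map (algebraMap A B) (LinearMap.ker (LinearMap.toSpanSingleton A M m) : Ideal A) := by
  obtain ⟨I, hI⟩ : ∃ I : Ideal A, I = (LinearMap.ker (LinearMap.toSpanSingleton A M m) : Ideal A) :=
    ⟨_, rfl⟩
  rw [← hI]
  apply le_antisymm
  · intro b hb
    change b • σ m = 0 at hb
    let j : (A ⧸ I) →ₗ[A] M := Submodule.liftQ I (LinearMap.toSpanSingleton A M m) (hI ▸ le_rfl)
    have hj : Function.Injective j := by
      rw [← LinearMap.ker_eq_bot]
      exact Submodule.ker_liftQ_eq_bot _ _ _ (hI ▸ le_rfl)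
    have hinj := Module.Flat.lTensor_preserves_injective_linearMap (M := B) j hj
    rw [← tmul_mk_one_eq_zero_iff]
    apply hinj
    rw [map_zero, LinearMap.lTensor_tmul]
    have hj1 : j (Ideal.Quotient.mk I 1) = m := by
      change (LinearMap.toSpanSingleton A M m) 1 = m
      simp
    rw [hj1]
    apply hσ.equiv.injective
    rw [map_zero, IsBaseChange.equiv_tmul]
    exact hb
  · rw [Ideal.map_le_iff_le_comap]
    intro a ha
    rw [hI] at ha
    change a • m = 0 at ha
    change algebraMap A B a • σ m = 0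
    rw [algebraMap_smul, ← map_smul, ha, map_zero]

end AnnFlat
end Groth.Agent.LD.QC
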