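import Groth.Agent.Lib.Lead.QC.WeakAssFinite
import Groth.Agent.Lib.Lead.QC.AnnFlat
import Groth.Agent.S9589
import Mathlib.RingTheory.LocalRing.Module
import Mathlib.RingTheory.Localization.BaseChange
import Mathlib.LinearAlgebra.TensorProduct.Basis
universe u
open TensorProduct
namespace Groth.Agent.LD.QC

section WAFF

set_option maxHeartbeats 1600000 in
/-- for a finite flat algebra, the weakly associated primes (over the base) of a base change are
weakly associated to the module. -/
theorem weakAss_tensor_subset_of_finite_flat {A B : Type u} [CommRing A] [CommRing B] [Algebra A B]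
    [Module.Finite A B] [Module.Flat A B] (M : Type u) [AddCommGroup M] [Module A M]
    (p : Ideal A) [p.IsPrime] (hp : p ∈ FlatCA.weakAss A (B ⊗[A] M)) : p ∈ FlatCA.weakAss A M := by
  classical
  have hS : Disjoint (p.primeCompl : Set A) (p : Set A) := disjoint_compl_left
  rw [Groth.Agent.S9589.result p.primeCompl (B ⊗[A] M) p hS] at hp
  rw [Groth.Agent.S9589.result p.primeCompl M p hS]
  haveI : IsLocalRing (Localization p.primeCompl) :=
    inferInstanceAs (IsLocalRing (Localization.AtPrime p))
  haveI : Module.Free (Localization p.primeCompl) (Localization p.primeCompl ⊗[A] B) :=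
    Module.free_of_flat_of_isLocalRing
  let ℬ := Module.Free.chooseBasis (Localization p.primeCompl) (Localization p.primeCompl ⊗[A] B)
  let Φ : LocalizedModule p.primeCompl (B ⊗[A] M) ≃ₗ[Localization p.primeCompl]
      Module.Free.ChooseBasisIndex (Localization p.primeCompl) (Localization p.primeCompl ⊗[A] B) →₀
        (Localization p.primeCompl ⊗[A] M) :=
    LocalizedModule.equivTensorProduct p.primeCompl (B ⊗[A] M) ≪≫ₗ
      TensorProduct.AlgebraTensorModule.distribBaseChange A (Localization p.primeCompl) B M ≪≫ₗ
      TensorProduct.equivFinsuppOfBasisLeft ℬ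
  obtain ⟨i, hi⟩ := exists_mem_weakAss_of_injective_pi (A := Localization p.primeCompl)
    (N := LocalizedModule p.primeCompl (B ⊗[A] M))
    (P := fun _ : Module.Free.ChooseBasisIndex (Localization p.primeCompl)
      (Localization p.primeCompl ⊗[A] B) => Localization p.primeCompl ⊗[A] M)
    (fun i => ((Finsupp.lapply i).comp Φ.toLinearMap).toAddMonoidHom)
    (by intro i a n; simp)
    (by
      intro n hn
      apply Φ.injective
      rw [map_zero]
      ext1 i
      exact hn i) _ hp
  rw [weakAss_eq_of_addEquiv (LocalizedModule.equivTensorProduct p.primeCompl M).toAddEquiv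
    (fun r m => (LocalizedModule.equivTensorProduct p.primeCompl M).map_smul r m)]
  exact hi

end WAFF
end Groth.Agent.LD.QC
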