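import Groth.Agent.Lib.Lead.QC.WeakAssSES
universe u v
namespace Groth.Agent.LD.QC

section WAIso

theorem mem_weakAss_iff_comap_of_bijective {A B : Type u} [CommRing A] [CommRing B]
    (φ : A →+* B) (hφ : Function.Bijective φ) {N : Type v} [AddCommGroup N] [Module A N]
    [Module B N] (hsm : ∀ (a : A) (n : N), a • n = φ a • n) (q : Ideal B) :
    q ∈ FlatCA.weakAss B N ↔ q.comap φ ∈ FlatCA.weakAss A N := by
  rw [mem_weakAss_iff, mem_weakAss_iff]
  have hker : ∀ m : N, (LinearMap.ker (LinearMap.toSpanSingleton A N m) : Ideal A) =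
      Ideal.comap φ (LinearMap.ker (LinearMap.toSpanSingleton B N m) : Ideal B) := by
    intro m
    ext a
    change a • m = 0 ↔ φ a • m = 0
    rw [hsm]
  constructor
  · rintro ⟨m, hm⟩
    refine ⟨m, ?_⟩
    rw [hker, Ideal.comap_minimalPrimes_eq_of_surjective hφ.2]
    exact ⟨q, hm, rfl⟩
  · rintro ⟨m, hm⟩
    refine ⟨m, ?_⟩
    rw [hker, Ideal.comap_minimalPrimes_eq_of_surjective hφ.2] at hm
    obtain ⟨q', hq', hqq⟩ := hm
    rwa [← Ideal.comap_injective_of_surjective φ hφ.2 hqq]

theorem weakAss_eq_of_addEquiv {R : Type u} [CommRing R] {M N : Type v} [AddCommGroup M]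
    [Module R M] [AddCommGroup N] [Module R N] (e : M ≃+ N)
    (hsm : ∀ (r : R) (m : M), e (r • m) = r • e m) :
    FlatCA.weakAss R M = FlatCA.weakAss R N := by
  apply Set.Subset.antisymm
  · exact weakAss_subset_of_injective e.toAddMonoidHom e.injective hsm
  · refine weakAss_subset_of_injective e.symm.toAddMonoidHom e.symm.injective ?_
    intro r n
    apply e.injective
    change e (e.symm (r • n)) = e (r • e.symm n)
    rw [hsm, e.apply_symm_apply, e.apply_symm_apply]

end WAIso
end Groth.Agent.LD.QC
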