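import Mathlib.RingTheory.Localization.BaseChange
import Mathlib.RingTheory.Ideal.Basic
universe u v
open TensorProduct
namespace Groth.Agent.LD.QC

section LocTensor
variable {A : Type u} [CommRing A] (S : Submonoid A) (A' : Type u) [CommRing A'] [Algebra A A']
  [IsLocalization S A']
  {M₀ N₀ M₁ N₁ : Type u} [AddCommGroup M₀] [Module A M₀] [AddCommGroup N₀] [Module A N₀]
  [AddCommGroup M₁] [Module A M₁] [Module A' M₁] [IsScalarTower A A' M₁]
  [AddCommGroup N₁] [Module A N₁] [Module A' N₁] [IsScalarTower A A' N₁]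
  (gM : M₀ →ₗ[A] M₁) (gN : N₀ →ₗ[A] N₁)

/-- the canonical map `M₀ ⊗[A] N₀ → M₁ ⊗[A'] N₁`. -/
noncomputable def tensorLocMap : M₀ ⊗[A] N₀ →ₗ[A] M₁ ⊗[A'] N₁ :=
  ((IsLocalization.moduleTensorEquiv S A' M₁ N₁).symm.restrictScalars A).toLinearMap ∘ₗ
    TensorProduct.map gM gN

lemma tensorLocMap_tmul (m : M₀) (n : N₀) :
    tensorLocMap S A' gM gN (m ⊗ₜ n) = gM m ⊗ₜ[A'] gN n := by
  simp only [tensorLocMap, IsLocalization.moduleTensorEquiv, LinearMap.coe_comp,
    LinearEquiv.coe_coe, Function.comp_apply, TensorProduct.map_tmul,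
    LinearEquiv.restrictScalars_apply]
  rfl

instance isLocalizedModule_tensorLocMap [IsLocalizedModule S gM] [IsLocalizedModule S gN] :
    IsLocalizedModule S (tensorLocMap S A' gM gN) :=
  IsLocalizedModule.of_linearEquiv S (TensorProduct.map gM gN)
    ((IsLocalization.moduleTensorEquiv S A' M₁ N₁).symm.restrictScalars A)

end LocTensor

end Groth.Agent.LD.QC

namespace Groth.Agent.LD.QC

section Glue
variable {A : Type u} [CommRing A] {Q : Type v} [AddCommGroup Q] [Module A Q]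
  {ι : Type*} [Fintype ι] (f : ι → A) (hf : Ideal.span (Set.range f) = ⊤)
  {Qi : ι → Type v} [∀ i, AddCommGroup (Qi i)] [∀ i, Module A (Qi i)]
  (lam : ∀ i, Q →ₗ[A] Qi i) [∀ i, IsLocalizedModule (Submonoid.powers (f i)) (lam i)]

include hf in
theorem exists_partition_pow (N : ℕ) : ∃ c : ι → A, ∑ i, c i * f i ^ N = 1 := by
  have h1 := Ideal.span_pow_eq_top (Set.range f) hf N
  have h2 : (fun x : A => x ^ N) '' Set.range f = Set.range (fun i => f i ^ N) := by
    rw [← Set.range_comp]; rfl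
  rw [h2] at h1
  have h3 : (1 : A) ∈ Ideal.span (Set.range (fun i => f i ^ N)) := by rw [h1]; trivial
  exact (Ideal.mem_span_range_iff_exists_fun).mp h3

include lam in
lemma smul_injective_of_isLocalizedModule (i : ι) (n : ℕ) (w w' : Qi i)
    (h : f i ^ n • w = f i ^ n • w') : w = w' := by
  have hu := IsLocalizedModule.map_units (lam i) (⟨f i ^ n, n, rfl⟩ : Submonoid.powers (f i))
  rw [Module.End.isUnit_iff] at hu
  exact hu.injective h

include hf in
theorem eq_zero_of_forall_lam_eq_zero (q : Q) (h : ∀ i, lam i q = 0) : q = 0 := by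
  classical
  have hk : ∀ i, ∃ k : ℕ, f i ^ k • q = 0 := by
    intro i
    obtain ⟨⟨c, k, rfl⟩, hc⟩ := (IsLocalizedModule.eq_zero_iff (Submonoid.powers (f i)) (lam i)).mp (h i)
    exact ⟨k, hc⟩
  choose k hk using hk
  let K := Finset.univ.sup k
  have hK : ∀ i, f i ^ K • q = 0 := by
    intro i
    have hle : k i ≤ K := Finset.le_sup (Finset.mem_univ i)
    rw [← Nat.sub_add_cancel hle, pow_add, mul_smul, hk i, smul_zero]
  obtain ⟨c, hc⟩ := exists_partition_pow f hf K
  calc q = (1 : A) • q := (one_smul _ _).symm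
    _ = (∑ i, c i * f i ^ K) • q := by rw [hc]
    _ = ∑ i, (c i * f i ^ K) • q := Finset.sum_smul
    _ = 0 := Finset.sum_eq_zero fun i _ => by rw [mul_smul, hK i, smul_zero]

variable {Qij : ι → ι → Type v} [∀ i j, AddCommGroup (Qij i j)] [∀ i j, Module A (Qij i j)]
  (lam2 : ∀ i j, Q →ₗ[A] Qij i j)
  [∀ i j, IsLocalizedModule (Submonoid.powers (f i * f j)) (lam2 i j)]
  (ρ1 : ∀ i j, Qi i →+ Qij i j) (ρ2 : ∀ i j, Qi j →+ Qij i j)
  (hρ1 : ∀ i j (a : A) (w : Qi i), ρ1 i j (a • w) = a • ρ1 i j w)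
  (hρ2 : ∀ i j (a : A) (w : Qi j), ρ2 i j (a • w) = a • ρ2 i j w)
  (h1 : ∀ i j q, ρ1 i j (lam i q) = lam2 i j q) (h2 : ∀ i j q, ρ2 i j (lam j q) = lam2 i j q)

include hf hρ1 hρ2 h1 h2 in
theorem exists_glue (z : ∀ i, Qi i) (hz : ∀ i j, ρ1 i j (z i) = ρ2 i j (z j)) :
    ∃ q : Q, ∀ i, lam i q = z i := by
  classical
  -- Step A
  have hA : ∀ i, ∃ (n : ℕ) (a : Q), f i ^ n • z i = lam i a := by
    intro i
    obtain ⟨⟨a, ⟨c, n, rfl⟩⟩, ha⟩ := IsLocalizedModule.surj (Submonoid.powers (f i)) (lam i) (z i)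
    exact ⟨n, a, ha⟩
  choose n0 a0 ha0 using hA
  let n := Finset.univ.sup n0
  have hA' : ∀ i, ∃ a : Q, f i ^ n • z i = lam i a := by
    intro i
    have hle : n0 i ≤ n := Finset.le_sup (Finset.mem_univ i)
    refine ⟨f i ^ (n - n0 i) • a0 i, ?_⟩
    rw [map_smul, ← ha0 i, smul_smul, ← pow_add, Nat.sub_add_cancel hle]
  choose a ha using hA'
  -- Step B
  have hB : ∀ i j, ∃ k : ℕ, (f i * f j) ^ k • (f j ^ n • a i - f i ^ n • a j) = 0 := by
    intro i j
    have h0 : lam2 i j (f j ^ n • a i - f i ^ n • a j) = 0 := by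
      rw [map_sub, map_smul, map_smul, ← h1 i j (a i), ← h2 i j (a j), ← ha i, ← ha j,
        hρ1, hρ2, hz i j, smul_smul, smul_smul, mul_comm, sub_self]
    obtain ⟨⟨c, k, rfl⟩, hc⟩ :=
      (IsLocalizedModule.eq_zero_iff (Submonoid.powers (f i * f j)) (lam2 i j)).mp h0
    exact ⟨k, hc⟩
  choose k0 hk0 using hB
  let k := Finset.univ.sup fun i => Finset.univ.sup fun j => k0 i j
  have hB' : ∀ i j, (f i * f j) ^ k • (f j ^ n • a i - f i ^ n • a j) = 0 := by
    intro i j
    have hle : k0 i j ≤ k :=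
      le_trans (Finset.le_sup (f := fun j => k0 i j) (Finset.mem_univ j))
        (Finset.le_sup (f := fun i => Finset.univ.sup fun j => k0 i j) (Finset.mem_univ i))
    rw [← Nat.sub_add_cancel hle, pow_add, mul_smul, hk0 i j, smul_zero]
  -- Step C
  have hC : ∀ i j, f j ^ (n + k) • (f i ^ k • a i) = f i ^ (n + k) • (f j ^ k • a j) := by
    intro i j
    have := hB' i j
    rw [smul_sub, sub_eq_zero, smul_smul, smul_smul] at this
    rw [smul_smul, smul_smul]
    convert this using 2 <;> ring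
  -- Step D
  obtain ⟨c, hc⟩ := exists_partition_pow f hf (n + k)
  refine ⟨∑ i, c i • (f i ^ k • a i), fun j => ?_⟩
  apply smul_injective_of_isLocalizedModule f lam j (n + k)
  have hE : f j ^ (n + k) • ∑ i, c i • (f i ^ k • a i) = f j ^ k • a j := by
    rw [Finset.smul_sum]
    calc ∑ i, f j ^ (n + k) • c i • (f i ^ k • a i)
        = ∑ i, (c i * f i ^ (n + k)) • (f j ^ k • a j) := by
          refine Finset.sum_congr rfl fun i _ => ?_
          rw [smul_comm, hC i j, smul_smul]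
      _ = (∑ i, c i * f i ^ (n + k)) • (f j ^ k • a j) := Finset.sum_smul.symm
      _ = f j ^ k • a j := by rw [hc, one_smul]
  rw [← map_smul, hE, map_smul, ← ha j, smul_smul, ← pow_add, add_comm]

end Glue

end Groth.Agent.LD.QC
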