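import Groth.Prelude.Def_CohB1
import Groth.Agent.Lib.Lead.QC.FinType
import Groth.Agent.Lib.Lead.QC.Compact
import Groth.Agent.Lib.Lead.QC.TensorAlg
universe u
open CategoryTheory Limits AlgebraicGeometry TopologicalSpace Opposite TensorProduct

namespace Groth.Agent.LD.QC
variable {X : Scheme.{u}}

/-- the unit of the sheafification adjunction at the presheaf tensor product. -/
noncomputable def tensorUnit (M N : X.Modules) :=
  (PresheafOfModules.sheafificationAdjunction (𝟙 X.ringCatSheaf.obj)).unit.app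
    (show X.PresheafOfModules from CohB1.tensorPre M N)

/-- the canonical map from the tensor product of sections to the sections of the tensor
product. -/
noncomputable def tensorSec (M N : X.Modules) (U : X.Opens) :
    Γ(M, U) ⊗[Γ(X, U)] Γ(N, U) →ₗ[Γ(X, U)] Γ(CohB1.tensorMod M N, U) :=
  { toFun := fun z => ((tensorUnit M N).app (op U)).hom z
    map_add' := fun a b => map_add _ a b
    map_smul' := fun r z => ((tensorUnit M N).app (op U)).hom.map_smul r z }

/-- restriction of the presheaf tensor product. -/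
noncomputable def tensorRes (M N : X.Modules) {U V : X.Opens} (h : V ≤ U) :
    Γ(M, U) ⊗[Γ(X, U)] Γ(N, U) →+ Γ(M, V) ⊗[Γ(X, V)] Γ(N, V) :=
  { toFun := fun z => ((CohB1.tensorPre M N).map (homOfLE h).op).hom z
    map_zero' := map_zero _
    map_add' := fun a b => map_add _ a b }

lemma tensorRes_tmul (M N : X.Modules) {U V : X.Opens} (h : V ≤ U) (m : Γ(M, U)) (n : Γ(N, U)) :
    tensorRes M N h (m ⊗ₜ n) =
      (M.presheaf.map (homOfLE h).op m) ⊗ₜ[Γ(X, V)] (N.presheaf.map (homOfLE h).op n) := rfl

lemma tensorRes_smul (M N : X.Modules) {U V : X.Opens} (h : V ≤ U) (r : Γ(X, U))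
    (z : Γ(M, U) ⊗[Γ(X, U)] Γ(N, U)) :
    tensorRes M N h (r • z) = (X.presheaf.map (homOfLE h).op r) • tensorRes M N h z :=
  ((CohB1.tensorPre M N).map (homOfLE h).op).hom.map_smul r z

lemma tensorRes_comp (M N : X.Modules) {U V W : X.Opens} (h : V ≤ U) (h' : W ≤ V)
    (z : Γ(M, U) ⊗[Γ(X, U)] Γ(N, U)) :
    tensorRes M N h' (tensorRes M N h z) = tensorRes M N (h'.trans h) z := by
  induction z using TensorProduct.induction_on with
  | zero => simp
  | tmul m n =>
    rw [tensorRes_tmul, tensorRes_tmul, tensorRes_tmul, res_res, res_res]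
  | add a b ha hb => rw [map_add, map_add, map_add, ha, hb]

lemma tensorSec_res (M N : X.Modules) {U V : X.Opens} (h : V ≤ U)
    (z : Γ(M, U) ⊗[Γ(X, U)] Γ(N, U)) :
    (CohB1.tensorMod M N).presheaf.map (homOfLE h).op (tensorSec M N U z) =
      tensorSec M N V (tensorRes M N h z) := by
  have := (tensorUnit M N).naturality (homOfLE h).op
  have h2 := congrArg (fun φ => φ.hom z) this
  exact h2.symm

lemma tensorSec_locally_injective (M N : X.Modules) (U : X.Opens)
    (z : Γ(M, U) ⊗[Γ(X, U)] Γ(N, U)) (hz : tensorSec M N U z = 0) (x : X) (hx : x ∈ U) :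
    ∃ (V : X.Opens) (h : V ≤ U), x ∈ V ∧ tensorRes M N h z = 0 := by
  have hinj : Presheaf.IsLocallyInjective (Opens.grothendieckTopology X)
      (CategoryTheory.toSheafify (Opens.grothendieckTopology X)
        (show X.PresheafOfModules from CohB1.tensorPre M N).presheaf) := inferInstance
  have h1 := hinj.equalizerSieve_mem (X := op U) z 0 (by
    rw [map_zero]
    exact hz)
  obtain ⟨V, f, hf, hxV⟩ := h1 x hx
  refine ⟨V, f.le, hxV, ?_⟩
  have h2 : ((show X.PresheafOfModules from CohB1.tensorPre M N).presheaf.map f.op) z =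
      ((show X.PresheafOfModules from CohB1.tensorPre M N).presheaf.map f.op) 0 := hf
  rw [map_zero] at h2
  exact h2

lemma tensorSec_locally_surjective (M N : X.Modules) (U : X.Opens)
    (t : Γ(CohB1.tensorMod M N, U)) (x : X) (hx : x ∈ U) :
    ∃ (V : X.Opens) (h : V ≤ U), x ∈ V ∧ ∃ z : Γ(M, V) ⊗[Γ(X, V)] Γ(N, V),
      tensorSec M N V z = (CohB1.tensorMod M N).presheaf.map (homOfLE h).op t := by
  have hsurj : Presheaf.IsLocallySurjective (Opens.grothendieckTopology X)
      (CategoryTheory.toSheafify (Opens.grothendieckTopology X)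
        (show X.PresheafOfModules from CohB1.tensorPre M N).presheaf) := inferInstance
  have h1 := hsurj.imageSieve_mem (U := U) t
  obtain ⟨V, f, ⟨z, hz⟩, hxV⟩ := h1 x hx
  exact ⟨V, f.le, hxV, z, hz⟩

section Loc
variable (M N : X.Modules) [M.IsQuasicoherent] [N.IsQuasicoherent] {U : X.Opens}
  (hU : IsAffineOpen U) (f : Γ(X, U))

/-- the `Γ(X,U)`-action on the tensor product of sections over a smaller open is through
restriction. -/
lemma tensor_smul_eq_res_smul {U V : X.Opens} (h : V ≤ U) (a : Γ(X, U))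
    (w : Γ(M, V) ⊗[Γ(X, V)] Γ(N, V)) :
    letI := resAlgebra h
    letI := resModule M h
    haveI := resModule_isScalarTower M h
    a • w = (X.presheaf.map (homOfLE h).op a) • w := by
  letI := resAlgebra h
  letI := resModule M h
  haveI := resModule_isScalarTower M h
  induction w using TensorProduct.induction_on with
  | zero => simp
  | tmul m n => rfl
  | add x y hx hy => rw [smul_add, smul_add, hx, hy]

lemma tensorRes_smul' {U V W : X.Opens} (h : V ≤ U) (h' : W ≤ V) (a : Γ(X, U))
    (w : Γ(M, V) ⊗[Γ(X, V)] Γ(N, V)) :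
    letI := resAlgebra h
    letI := resModule M h
    haveI := resModule_isScalarTower M h
    letI := resAlgebra (h'.trans h)
    letI := resModule M (h'.trans h)
    haveI := resModule_isScalarTower M (h'.trans h)
    tensorRes M N h' (a • w) = a • tensorRes M N h' w := by
  letI := resAlgebra h
  letI := resModule M h
  haveI := resModule_isScalarTower M h
  letI := resAlgebra (h'.trans h)
  letI := resModule M (h'.trans h)
  haveI := resModule_isScalarTower M (h'.trans h)
  rw [tensor_smul_eq_res_smul M N h a w, tensorRes_smul,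
    tensor_smul_eq_res_smul M N (h'.trans h) a, sres_res]

include hU in
lemma tensorLocMap_eq_tensorRes (z : Γ(M, U) ⊗[Γ(X, U)] Γ(N, U)) :
    letI mM := resModule M (X.basicOpen_le f)
    letI mN := resModule N (X.basicOpen_le f)
    haveI tM := resModule_isScalarTower M (X.basicOpen_le f)
    haveI tN := resModule_isScalarTower N (X.basicOpen_le f)
    haveI : IsLocalization (Submonoid.powers f) Γ(X, X.basicOpen f) :=
      hU.isLocalization_basicOpen f
    tensorLocMap (Submonoid.powers f) Γ(X, X.basicOpen f)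
      (resLinear M (X.basicOpen_le f)) (resLinear N (X.basicOpen_le f)) z =
      tensorRes M N (X.basicOpen_le f) z := by
  letI mM := resModule M (X.basicOpen_le f)
  letI mN := resModule N (X.basicOpen_le f)
  haveI tM := resModule_isScalarTower M (X.basicOpen_le f)
  haveI tN := resModule_isScalarTower N (X.basicOpen_le f)
  haveI : IsLocalization (Submonoid.powers f) Γ(X, X.basicOpen f) := hU.isLocalization_basicOpen f
  induction z using TensorProduct.induction_on with
  | zero => simp
  | tmul m n => rw [tensorLocMap_tmul, tensorRes_tmul]; rfl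
  | add a b ha hb => rw [map_add, map_add, ha, hb]

include hU in
/-- a section of the presheaf tensor product restricting to zero on a basic open is killed by a
power. -/
theorem exists_pow_smul_eq_zero_of_tensorRes_eq_zero (z : Γ(M, U) ⊗[Γ(X, U)] Γ(N, U))
    (hz : tensorRes M N (X.basicOpen_le f) z = 0) : ∃ k : ℕ, f ^ k • z = 0 := by
  letI mM := resModule M (X.basicOpen_le f)
  letI mN := resModule N (X.basicOpen_le f)
  haveI tM := resModule_isScalarTower M (X.basicOpen_le f)
  haveI tN := resModule_isScalarTower N (X.basicOpen_le f)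
  haveI : IsLocalization (Submonoid.powers f) Γ(X, X.basicOpen f) := hU.isLocalization_basicOpen f
  haveI := isLocalizedModule_basicOpen M hU f
  haveI := isLocalizedModule_basicOpen N hU f
  rw [← tensorLocMap_eq_tensorRes M N hU f z] at hz
  obtain ⟨⟨c, k, rfl⟩, hc⟩ := (IsLocalizedModule.eq_zero_iff (Submonoid.powers f)
    (tensorLocMap (Submonoid.powers f) Γ(X, X.basicOpen f)
      (resLinear M (X.basicOpen_le f)) (resLinear N (X.basicOpen_le f)))).mp hz
  exact ⟨k, hc⟩

include hU in
/-- **injectivity of the canonical map on affine opens.** -/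
theorem tensorSec_injective : Function.Injective (tensorSec M N U) := by
  rw [injective_iff_map_eq_zero]
  intro z hz
  let s : Set Γ(X, U) := {f | tensorRes M N (X.basicOpen_le f) z = 0}
  have hs : Ideal.span s = ⊤ := by
    rw [← hU.self_le_iSup_basicOpen_iff]
    intro x hx
    obtain ⟨V, h, hxV, hzV⟩ := tensorSec_locally_injective M N U z hz x hx
    obtain ⟨f, hfV, hxf⟩ := hU.exists_basicOpen_le ⟨x, hxV⟩ hx
    rw [Opens.mem_iSup]
    refine ⟨⟨f, ?_⟩, hxf⟩
    change tensorRes M N (X.basicOpen_le f) z = 0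
    rw [← tensorRes_comp M N h hfV z, hzV, map_zero]
  have hle : Ideal.span s ≤ Ideal.radical
      (LinearMap.ker (LinearMap.toSpanSingleton Γ(X, U) _ z) : Ideal Γ(X, U)) := by
    rw [Ideal.span_le]
    intro f hf
    obtain ⟨k, hk⟩ := exists_pow_smul_eq_zero_of_tensorRes_eq_zero M N hU f z hf
    exact ⟨k, hk⟩
  rw [hs, top_le_iff, Ideal.radical_eq_top] at hle
  have h1 : (1 : Γ(X, U)) ∈ (LinearMap.ker (LinearMap.toSpanSingleton Γ(X, U) _ z) :
      Ideal Γ(X, U)) := hle ▸ Submodule.mem_top
  have h2 : (1 : Γ(X, U)) • z = 0 := h1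
  rwa [one_smul] at h2

include hU in
set_option maxHeartbeats 1600000 in
/-- **surjectivity of the canonical map on affine opens.** -/
theorem tensorSec_surjective : Function.Surjective (tensorSec M N U) := by
  classical
  intro t
  let s : Set Γ(X, U) := {f | ∃ z : Γ(M, X.basicOpen f) ⊗[Γ(X, X.basicOpen f)] Γ(N, X.basicOpen f),
    tensorSec M N (X.basicOpen f) z =
      (CohB1.tensorMod M N).presheaf.map (homOfLE (X.basicOpen_le f)).op t}
  have hs : Ideal.span s = ⊤ := by
    rw [← hU.self_le_iSup_basicOpen_iff]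
    intro x hx
    obtain ⟨V, h, hxV, z, hz⟩ := tensorSec_locally_surjective M N U t x hx
    obtain ⟨f, hfV, hxf⟩ := hU.exists_basicOpen_le ⟨x, hxV⟩ hx
    rw [Opens.mem_iSup]
    refine ⟨⟨f, tensorRes M N hfV z, ?_⟩, hxf⟩
    rw [← tensorSec_res, hz, res_res]
  obtain ⟨t0, ht0s, ht0⟩ := (Ideal.span_eq_top_iff_finite s).mp hs
  let ι := {x // x ∈ t0}
  let f : ι → Γ(X, U) := fun i => i.1
  have hf : Ideal.span (Set.range f) = ⊤ := by
    have : Set.range f = (t0 : Set Γ(X, U)) := Subtype.range_coe
    rw [this]; exact ht0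
  have hfs : ∀ i : ι, f i ∈ s := fun i => ht0s i.2
  let z : ∀ i : ι, Γ(M, X.basicOpen (f i)) ⊗[Γ(X, X.basicOpen (f i))] Γ(N, X.basicOpen (f i)) :=
    fun i => (hfs i).choose
  have hz : ∀ i : ι, tensorSec M N (X.basicOpen (f i)) (z i) =
      (CohB1.tensorMod M N).presheaf.map (homOfLE (X.basicOpen_le (f i))).op t :=
    fun i => (hfs i).choose_spec
  -- instances
  letI mM : ∀ g : Γ(X, U), Module Γ(X, U) Γ(M, X.basicOpen g) :=
    fun g => resModule M (X.basicOpen_le g)
  letI mN : ∀ g : Γ(X, U), Module Γ(X, U) Γ(N, X.basicOpen g) :=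
    fun g => resModule N (X.basicOpen_le g)
  haveI tM : ∀ g : Γ(X, U), IsScalarTower Γ(X, U) Γ(X, X.basicOpen g) Γ(M, X.basicOpen g) :=
    fun g => resModule_isScalarTower M (X.basicOpen_le g)
  haveI tN : ∀ g : Γ(X, U), IsScalarTower Γ(X, U) Γ(X, X.basicOpen g) Γ(N, X.basicOpen g) :=
    fun g => resModule_isScalarTower N (X.basicOpen_le g)
  haveI loc : ∀ g : Γ(X, U), IsLocalization (Submonoid.powers g) Γ(X, X.basicOpen g) :=
    fun g => hU.isLocalization_basicOpen g
  haveI lM : ∀ g : Γ(X, U), IsLocalizedModule (Submonoid.powers g)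
      (resLinear M (X.basicOpen_le g)) := fun g => isLocalizedModule_basicOpen M hU g
  haveI lN : ∀ g : Γ(X, U), IsLocalizedModule (Submonoid.powers g)
      (resLinear N (X.basicOpen_le g)) := fun g => isLocalizedModule_basicOpen N hU g
  have hle1 : ∀ i j : ι, X.basicOpen (f i * f j) ≤ X.basicOpen (f i) := fun i j => by
    rw [X.basicOpen_mul]; exact inf_le_left
  have hle2 : ∀ i j : ι, X.basicOpen (f i * f j) ≤ X.basicOpen (f j) := fun i j => by
    rw [X.basicOpen_mul]; exact inf_le_right
  obtain ⟨q, hq⟩ := exists_glue (A := Γ(X, U)) (Q := Γ(M, U) ⊗[Γ(X, U)] Γ(N, U)) f hf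
    (Qi := fun i => Γ(M, X.basicOpen (f i)) ⊗[Γ(X, X.basicOpen (f i))] Γ(N, X.basicOpen (f i)))
    (fun i => tensorLocMap (Submonoid.powers (f i)) Γ(X, X.basicOpen (f i))
      (resLinear M (X.basicOpen_le (f i))) (resLinear N (X.basicOpen_le (f i))))
    (Qij := fun i j => Γ(M, X.basicOpen (f i * f j)) ⊗[Γ(X, X.basicOpen (f i * f j))]
      Γ(N, X.basicOpen (f i * f j)))
    (fun i j => tensorLocMap (Submonoid.powers (f i * f j)) Γ(X, X.basicOpen (f i * f j))
      (resLinear M (X.basicOpen_le (f i * f j))) (resLinear N (X.basicOpen_le (f i * f j))))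
    (fun i j => tensorRes M N (hle1 i j)) (fun i j => tensorRes M N (hle2 i j))
    (fun i j a w => tensorRes_smul' M N (X.basicOpen_le (f i)) (hle1 i j) a w)
    (fun i j a w => tensorRes_smul' M N (X.basicOpen_le (f j)) (hle2 i j) a w)
    (fun i j q => by
      rw [tensorLocMap_eq_tensorRes M N hU (f i) q, tensorLocMap_eq_tensorRes M N hU (f i * f j) q,
        tensorRes_comp])
    (fun i j q => by
      rw [tensorLocMap_eq_tensorRes M N hU (f j) q, tensorLocMap_eq_tensorRes M N hU (f i * f j) q,
        tensorRes_comp])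
    z (fun i j => by
      apply tensorSec_injective M N (hU.basicOpen (f i * f j))
      rw [← tensorSec_res, ← tensorSec_res, hz i, hz j, res_res, res_res])
  refine ⟨q, ?_⟩
  rw [← sub_eq_zero]
  apply section_eq_zero_of_cover (CohB1.tensorMod M N) (fun i : ι => X.basicOpen (f i))
    (fun i => X.basicOpen_le (f i))
  · have h1 := hU.self_le_iSup_basicOpen_iff.mpr ht0
    intro x hx
    obtain ⟨g, hg⟩ := Opens.mem_iSup.mp (h1 hx)
    exact Opens.mem_iSup.mpr ⟨⟨g.1, g.2⟩, hg⟩
  · intro i
    rw [map_sub, sub_eq_zero, tensorSec_res, ← hz i, ← hq i,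
      tensorLocMap_eq_tensorRes M N hU (f i) q]

end Loc

end Groth.Agent.LD.QC
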