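import Groth.Agent.Lib.Lead.QC.CartierHeight
universe u
open CategoryTheory Limits AlgebraicGeometry TopologicalSpace Opposite Topology

namespace Groth.Agent.LD.QC

section Alg
variable {B : Type*} [CommRing B]

/-- a uniform multiplier outside a prime for a finitely generated ideal. -/
theorem exists_uniform_notMem (p : Ideal B) [p.IsPrime] (I : Ideal B) (hI : I.FG)
    (P : B → B → Prop) (hP0 : ∀ w, P w 0) (hPadd : ∀ w x y, P w x → P w y → P w (x + y))
    (hPsmul : ∀ w (b x : B), P w x → P w (b * x))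
    (hPmul : ∀ w w' x, P w x → P (w' * w) x)
    (h : ∀ x ∈ I, ∃ w, w ∉ p ∧ P w x) : ∃ w, w ∉ p ∧ ∀ x ∈ I, P w x := by
  classical
  obtain ⟨S, rfl⟩ := hI
  have hS : ∀ x ∈ S, ∃ w, w ∉ p ∧ P w x := fun x hx => h x (Ideal.subset_span hx)
  choose! w hw hPw using hS
  refine ⟨∏ x ∈ S, w x, ?_, ?_⟩
  · intro hmem
    obtain ⟨x, hxS, hx⟩ := (Ideal.IsPrime.prod_mem_iff).mp hmem
    exact hw x hxS hx
  · intro x hx
    induction hx using Submodule.span_induction with
    | mem x hxS =>
      obtain ⟨c, hc⟩ := Finset.dvd_prod_of_mem w hxS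
      rw [hc, mul_comm]
      exact hPmul _ _ _ (hPw x hxS)
    | zero => exact hP0 _
    | add x y _ _ hx hy => exact hPadd _ _ _ hx hy
    | smul b x _ hx => exact hPsmul _ _ _ hx

/-- spreading out a principal nonzerodivisor generator from a localization at a prime. -/
theorem exists_principal_away_of_localization [IsNoetherianRing B] (I : Ideal B) (p : Ideal B)
    [p.IsPrime] (Bp : Type*) [CommRing Bp] [Algebra B Bp] [IsLocalization.AtPrime Bp p]
    (g : Bp) (hg : g ∈ nonZeroDivisors Bp) (hI : I.map (algebraMap B Bp) = Ideal.span {g}) :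
    ∃ (s : B) (a : B), s ∉ p ∧ a ∈ I ∧ (∀ x ∈ I, ∃ c, s * x = a * c) ∧
      (∀ y, a * y = 0 → s * y = 0) := by
  have hgm : g ∈ I.map (algebraMap B Bp) := hI ▸ Ideal.mem_span_singleton_self g
  obtain ⟨⟨⟨a, haI⟩, t⟩, hat⟩ := (IsLocalization.mem_map_algebraMap_iff p.primeCompl Bp).mp hgm
  simp only at hat
  have htu : IsUnit (algebraMap B Bp t) := IsLocalization.map_units Bp t
  have hanz : algebraMap B Bp a ∈ nonZeroDivisors Bp := by
    rw [← hat]
    exact mul_mem hg htu.mem_nonZeroDivisors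
  have hspan : Ideal.span {g} = Ideal.span {algebraMap B Bp a} := by
    rw [← hat]
    exact (Ideal.span_singleton_mul_right_unit htu g).symm
  -- step 2
  have h2 : ∀ x ∈ I, ∃ w, w ∉ p ∧ ∃ c, w * x = a * c := by
    intro x hx
    have hxm : algebraMap B Bp x ∈ Ideal.span {algebraMap B Bp a} := by
      rw [← hspan, ← hI]
      exact Ideal.mem_map_of_mem _ hx
    obtain ⟨z, hz⟩ := Ideal.mem_span_singleton'.mp hxm
    obtain ⟨c, u, rfl⟩ := IsLocalization.exists_mk'_eq p.primeCompl z
    have h3 : algebraMap B Bp (x * u) = algebraMap B Bp (a * c) := by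
      rw [map_mul, map_mul, ← hz, mul_comm (IsLocalization.mk' Bp c u) _, mul_assoc,
        IsLocalization.mk'_spec]
    obtain ⟨v, hv⟩ := (IsLocalization.eq_iff_exists p.primeCompl Bp).mp h3
    refine ⟨v * u, ?_, v * c, ?_⟩
    · exact (v * u).2
    · calc (v : B) * u * x = v * (x * u) := by ring
        _ = v * (a * c) := hv
        _ = a * (v * c) := by ring
  obtain ⟨w, hwp, hw⟩ := exists_uniform_notMem p I (IsNoetherian.noetherian I)
    (fun w x => ∃ c, w * x = a * c) (fun w => ⟨0, by simp⟩)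
    (fun w x y ⟨c, hc⟩ ⟨c', hc'⟩ => ⟨c + c', by rw [mul_add, hc, hc', mul_add]⟩)
    (fun w b x ⟨c, hc⟩ => ⟨b * c, by rw [mul_left_comm, hc]; ring⟩)
    (fun w w' x ⟨c, hc⟩ => ⟨w' * c, by rw [mul_assoc, hc]; ring⟩) h2
  -- step 3
  let K : Ideal B := LinearMap.ker (LinearMap.mulLeft B a)
  have h3 : ∀ y ∈ K, ∃ v, v ∉ p ∧ v * y = 0 := by
    intro y hy
    have hay : a * y = 0 := hy
    have : algebraMap B Bp y = 0 := by
      apply (mem_nonZeroDivisors_iff.mp hanz).1
      rw [← map_mul, hay, map_zero]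
    obtain ⟨m, hm⟩ := (IsLocalization.map_eq_zero_iff p.primeCompl Bp y).mp this
    exact ⟨m, m.2, hm⟩
  obtain ⟨v, hvp, hv⟩ := exists_uniform_notMem p K (IsNoetherian.noetherian K)
    (fun v y => v * y = 0) (fun v => by simp)
    (fun v x y hx hy => by rw [mul_add, hx, hy, add_zero])
    (fun v b x hx => by rw [mul_left_comm, hx, mul_zero])
    (fun v v' x hx => by rw [mul_assoc, hx, mul_zero]) h3
  refine ⟨w * v, a, ?_, haI, ?_, ?_⟩
  · intro hmem
    rcases (Ideal.IsPrime.mem_or_mem inferInstance hmem) with h | h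
    · exact hwp h
    · exact hvp h
  · intro x hx
    obtain ⟨c, hc⟩ := hw x hx
    exact ⟨v * c, by rw [mul_comm w v, mul_assoc, hc]; ring⟩
  · intro y hy
    rw [mul_assoc, hv y hy, mul_zero]

end Alg

section Sch
variable {X : Scheme.{u}}

/-- the ideal of an ideal sheaf on an affine open disjoint from the support is the unit ideal. -/
theorem ideal_eq_top_of_disjoint (D : X.IdealSheafData) (V : X.affineOpens)
    (h : Disjoint (D.support : Set X) (V.1 : Set X)) : D.ideal V = ⊤ := by
  have h1 : V.2.fromSpec '' PrimeSpectrum.zeroLocus (D.ideal V : Set Γ(X, V.1)) = ∅ := by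
    rw [V.2.fromSpec_image_zeroLocus, ← D.coe_support_inter V]
    exact Set.disjoint_iff_inter_eq_empty.mp h
  rw [Set.image_eq_empty] at h1
  exact PrimeSpectrum.zeroLocus_empty_iff_eq_top.mp h1

set_option maxHeartbeats 1600000 in
/-- **S1570**: stalkwise principal by a nonzerodivisor implies effective Cartier (locally
Noetherian case). -/
theorem isEffCartierIdeal_of_stalkwise [IsLocallyNoetherian X] (D : X.IdealSheafData)
    (h : ∀ x ∈ D.support, ∀ (U : X.affineOpens) (hx : x ∈ (U : X.Opens)),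
      ∃ g : X.presheaf.stalk x, g ∈ nonZeroDivisors (X.presheaf.stalk x) ∧
        (D.ideal U).map (X.presheaf.germ U x hx).hom = Ideal.span {g}) :
    BlowUp.IsEffCartierIdeal D := by
  intro x
  by_cases hx : x ∈ D.support
  · obtain ⟨U, hU, hxU, -⟩ := exists_isAffineOpen_mem_and_subset (x := x) (U := (⊤ : X.Opens))
      (Set.mem_univ _)
    obtain ⟨g, hg, hgI⟩ := h x hx ⟨U, hU⟩ hxU
    haveI : IsNoetherianRing Γ(X, U) := IsLocallyNoetherian.component_noetherian ⟨U, hU⟩
    letI : Algebra Γ(X, U) (X.presheaf.stalk x) :=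
      TopCat.Presheaf.algebra_section_stalk X.presheaf ⟨x, hxU⟩
    haveI := hU.isLocalization_stalk ⟨x, hxU⟩
    obtain ⟨s, a, hsp, haI, h1, h2⟩ := exists_principal_away_of_localization
      (D.ideal ⟨U, hU⟩) (hU.primeIdealOf ⟨x, hxU⟩).asIdeal (X.presheaf.stalk x) g hg hgI
    have hxs : x ∈ X.basicOpen s := by
      by_contra hns
      exact hsp ((mem_primeIdealOf_iff hU x hxU s).mpr hns)
    let res := (X.presheaf.map (homOfLE (X.basicOpen_le s)).op).hom
    letI : Algebra Γ(X, U) Γ(X, X.basicOpen s) := res.toAlgebra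
    haveI : IsLocalization.Away s Γ(X, X.basicOpen s) := hU.isLocalization_basicOpen s
    have hsu : IsUnit (res s) := IsLocalization.Away.algebraMap_isUnit s
    refine ⟨X.affineBasicOpen s, hxs, res a, ?_, ?_⟩
    · change res a ∈ nonZeroDivisors Γ(X, X.basicOpen s)
      rw [mem_nonZeroDivisors_iff_right]
      intro y hy
      obtain ⟨y₀, ⟨_, n, rfl⟩, rfl⟩ := IsLocalization.exists_mk'_eq (Submonoid.powers s) y
      have h3 : algebraMap Γ(X, U) Γ(X, X.basicOpen s) (a * y₀) = 0 := by
        have := congrArg (· * algebraMap Γ(X, U) Γ(X, X.basicOpen s) (s ^ n)) hy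
        simp only [zero_mul] at this
        rw [mul_right_comm, IsLocalization.mk'_spec] at this
        rw [map_mul, mul_comm]
        exact this
      obtain ⟨⟨_, m, rfl⟩, hm⟩ :=
        (IsLocalization.map_eq_zero_iff (Submonoid.powers s) Γ(X, X.basicOpen s) _).mp h3
      have h4 : a * (s ^ m * y₀) = 0 := by
        rw [mul_left_comm]
        exact hm
      have h5 := h2 _ h4
      have h6 : algebraMap Γ(X, U) Γ(X, X.basicOpen s) y₀ = 0 := by
        rw [IsLocalization.map_eq_zero_iff (Submonoid.powers s)]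
        refine ⟨⟨s ^ (m + 1), m + 1, rfl⟩, ?_⟩
        change s ^ (m + 1) * y₀ = 0
        rw [pow_succ', mul_assoc]
        exact h5
      rw [IsLocalization.mk'_eq_zero_iff]
      obtain ⟨c, hc⟩ := (IsLocalization.map_eq_zero_iff (Submonoid.powers s) _ _).mp h6
      exact ⟨c, hc⟩
    · rw [← D.map_ideal_basicOpen ⟨U, hU⟩ s]
      change Ideal.map res (D.ideal ⟨U, hU⟩) = Ideal.span {res a}
      apply le_antisymm
      · rw [Ideal.map_le_iff_le_comap]
        intro z hz
        obtain ⟨c, hc⟩ := h1 z hz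
        obtain ⟨u, hu⟩ := hsu
        change res z ∈ Ideal.span {res a}
        have : res z = res a * (res c * ↑u⁻¹) := by
          have h7 : res s * res z = res a * res c := by rw [← map_mul, ← map_mul, hc]
          calc res z = ↑u⁻¹ * (res s * res z) := by
                rw [← mul_assoc, ← hu, Units.inv_mul, one_mul]
            _ = res a * (res c * ↑u⁻¹) := by rw [h7]; ring
        rw [this]
        exact Ideal.mul_mem_right _ _ (Ideal.mem_span_singleton_self _)
      · rw [Ideal.span_singleton_le_iff_mem]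
        exact Ideal.mem_map_of_mem _ haI
  · obtain ⟨V, hV, hxV, hVle⟩ := exists_isAffineOpen_mem_and_subset (x := x)
      (U := D.support.compl) hx
    refine ⟨⟨V, hV⟩, hxV, 1, one_mem _, ?_⟩
    rw [ideal_eq_top_of_disjoint D ⟨V, hV⟩ (by
      rw [Set.disjoint_left]
      intro z hz hzV
      exact hVle hzV hz)]
    simp [Ideal.span_singleton_one]

end Sch

end Groth.Agent.LD.QC
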