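import Groth.Agent.Lib.Lead.QC.IdealMod
import Groth.Agent.Lib.Lead.QC.AmpleCrit
import Groth.Agent.Lib.Lead.QC.HomAffine
import Groth.Agent.Lib.Lead.QC.SheafIso
import Groth.Agent.Lib.Lead.QC.InvBasis
import Groth.Agent.Lib.Lead.QC.TensorDesc
import Groth.Agent.Lib.Lead.QC.TensorComm

/-! # Products of ideal sheaves and tensor products of ideal modules

For an ideal sheaf `J` whose ideal module is invertible (an effective Cartier divisor) and any
ideal sheaf `I`, the multiplication `𝓘 ⊗ 𝓙 ⟶ 𝓘𝓙` is an isomorphism. In particular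
`𝓘^{⊗ n} ≅ 𝓘ⁿ` for an invertible ideal. -/

universe u
open CategoryTheory Limits AlgebraicGeometry TopologicalSpace Opposite

namespace Groth.Agent.LD.QC

variable {X : Scheme.{u}} (I J : X.IdealSheafData)

/-- the multiplication `𝓘 ⊗ 𝓙 ⟶ O_X`. -/
noncomputable def idealMulHom :
    CohB1.tensorMod (ClSub.idealMod I) (ClSub.idealMod J) ⟶ unitMod X :=
  twistIncl (ClSub.idealModι I) (ClSub.idealMod J) ≫ ClSub.idealModι J

lemma idealMulHom_app_tmul (V : X.Opens) (c : Γ(ClSub.idealMod I, V))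
    (e : Γ(ClSub.idealMod J, V)) :
    (idealMulHom I J).app V (SecTwist.tmul _ _ V c e) =
      (show Γ(X, V) from (ClSub.idealModι I).app V c) *
        (show Γ(X, V) from (ClSub.idealModι J).app V e) := by
  change (ClSub.idealModι J).app V ((twistIncl (ClSub.idealModι I) (ClSub.idealMod J)).app V
    (SecTwist.tmul _ _ V c e)) = _
  rw [twistIncl_app_tmul]
  exact Scheme.Modules.Hom.app_smul (ClSub.idealModι J)
    (show Γ(X, V) from (ClSub.idealModι I).app V c) e

lemma idealMulHom_comp_toSubscheme :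
    idealMulHom I J ≫ ClSub.toSubscheme (I * J) = 0 := by
  apply hom_ext_affine
  intro U z
  change (ClSub.toSubscheme (I * J)).app U.1 ((idealMulHom I J).app U.1 z) = 0
  refine tmul_induction (ClSub.idealMod I) (ClSub.idealMod J) U.2
    (p := fun z => (ClSub.toSubscheme (I * J)).app U.1 ((idealMulHom I J).app U.1 z) = 0)
    ?_ ?_ ?_ z
  · rw [map_zero, map_zero]
  · intro c e
    have hc : (show Γ(X, U.1) from (ClSub.idealModι I).app U.1 c) ∈ I.ideal U :=
      (exists_idealModι_app_eq_iff I U _).mp ⟨c, rfl⟩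
    have he : (show Γ(X, U.1) from (ClSub.idealModι J).app U.1 e) ∈ J.ideal U :=
      (exists_idealModι_app_eq_iff J U _).mp ⟨e, rfl⟩
    have hmem : (show Γ(X, U.1) from (ClSub.idealModι I).app U.1 c) *
        (show Γ(X, U.1) from (ClSub.idealModι J).app U.1 e) ∈ (I * J).ideal U :=
      Ideal.mul_mem_mul hc he
    rw [← (I * J).ker_subschemeι_app U] at hmem
    rw [idealMulHom_app_tmul]
    exact hmem
  · intro a b ha hb
    rw [map_add, map_add, ha, hb, add_zero]

/-- the multiplication `𝓘 ⊗ 𝓙 ⟶ 𝓘𝓙`. -/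
noncomputable def idealMulLift :
    CohB1.tensorMod (ClSub.idealMod I) (ClSub.idealMod J) ⟶ ClSub.idealMod (I * J) :=
  kernel.lift (ClSub.toSubscheme (I * J)) (idealMulHom I J) (idealMulHom_comp_toSubscheme I J)

lemma idealMulLift_ι : idealMulLift I J ≫ ClSub.idealModι (I * J) = idealMulHom I J :=
  kernel.lift_ι _ _ _

lemma idealMulLift_app_tmul (V : X.Opens) (c : Γ(ClSub.idealMod I, V))
    (e : Γ(ClSub.idealMod J, V)) :
    (ClSub.idealModι (I * J)).app V ((idealMulLift I J).app V (SecTwist.tmul _ _ V c e)) =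
      (show Γ(X, V) from (ClSub.idealModι I).app V c) *
        (show Γ(X, V) from (ClSub.idealModι J).app V e) :=
  (congrArg (fun φ => φ.app V (SecTwist.tmul _ _ V c e)) (idealMulLift_ι I J)).trans
    (idealMulHom_app_tmul I J V c e)

/-- **the multiplication `𝓘 ⊗ 𝓙 ⟶ 𝓘𝓙` is an isomorphism when `𝓙` is invertible.** -/
theorem isIso_idealMulLift (hJ : PicF.IsInvertible (ClSub.idealMod J)) :
    IsIso (idealMulLift I J) := by
  apply isIso_of_local_bijective
  intro x W hxW
  obtain ⟨U₀, e₀, hxU₀, he₀⟩ := (isInvertible_iff_exists_isBasisOver _).mp hJ x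
  obtain ⟨V, hV, hxV, hVle⟩ :=
    exists_isAffineOpen_mem_and_subset (x := x) (U := U₀ ⊓ W) ⟨hxU₀, hxW⟩
  have hVU₀ : V ≤ U₀ := hVle.trans inf_le_left
  refine ⟨V, hxV, hVle.trans inf_le_right, ?_⟩
  obtain ⟨e, he_def⟩ : ∃ e : Γ(ClSub.idealMod J, V),
      e = (ClSub.idealMod J).presheaf.map (homOfLE hVU₀).op e₀ := ⟨_, rfl⟩
  obtain ⟨f, hf⟩ : ∃ f : Γ(X, V), f = (ClSub.idealModι J).app V e := ⟨_, rfl⟩
  have hb := bijective_tmul_of_isBasisOver (ClSub.idealMod I) (ClSub.idealMod J) he₀ V hVU₀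
  rw [← he_def] at hb
  have hbasis := he₀ V hVU₀
  rw [← he_def] at hbasis
  -- `ι (a • e) = a * f`
  have hsm : ∀ a : Γ(X, V), (ClSub.idealModι J).app V (a • e) = (show Γ(unitMod X, V) from a * f) := by
    intro a
    rw [hf]
    exact Scheme.Modules.Hom.app_smul (ClSub.idealModι J) a e
  -- `f` is a nonzerodivisor
  have hreg : ∀ a : Γ(X, V), a * f = 0 → a = 0 := by
    intro a ha
    have h1 : (ClSub.idealModι J).app V (a • e) = 0 := (hsm a).trans ha
    have h2 : a • e = 0 := idealModι_app_injective J V (h1.trans (map_zero _).symm)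
    apply hbasis.1
    change a • e = (0 : Γ(X, V)) • e
    rw [h2, zero_smul]
  -- `J(V) = (f)`
  have hJf : J.ideal ⟨V, hV⟩ = Ideal.span {f} := by
    apply le_antisymm
    · intro j hj
      obtain ⟨b, hb'⟩ := (exists_idealModι_app_eq_iff J ⟨V, hV⟩ j).mpr hj
      obtain ⟨a, ha⟩ := hbasis.2 b
      rw [Ideal.mem_span_singleton']
      refine ⟨a, ?_⟩
      have h3 : (ClSub.idealModι J).app V (a • e) = j := by
        have : a • e = b := ha
        rw [this]; exact hb'
      exact (hsm a).symm.trans h3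
    · rw [Ideal.span_singleton_le_iff_mem]
      exact (exists_idealModι_app_eq_iff J ⟨V, hV⟩ f).mp ⟨e, hf.symm⟩
  have hcomp : Function.Bijective ((idealMulLift I J).app V ∘
      fun t : Γ(ClSub.idealMod I, V) => SecTwist.tmul _ _ V t e) := by
    constructor
    · intro t t' htt'
      have h1 : (show Γ(X, V) from (ClSub.idealModι I).app V t) * f =
          (show Γ(X, V) from (ClSub.idealModι I).app V t') * f := by
        rw [hf]
        rw [← idealMulLift_app_tmul, ← idealMulLift_app_tmul]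
        exact congrArg _ htt'
      have h2 : ((show Γ(X, V) from (ClSub.idealModι I).app V t) -
          (show Γ(X, V) from (ClSub.idealModι I).app V t')) * f = 0 := by
        rw [sub_mul, h1, sub_self]
      exact idealModι_app_injective I V (sub_eq_zero.mp (hreg _ h2))
    · intro c'
      have hc' : (show Γ(X, V) from (ClSub.idealModι (I * J)).app V c') ∈
          (I * J).ideal ⟨V, hV⟩ :=
        (exists_idealModι_app_eq_iff (I * J) ⟨V, hV⟩ _).mp ⟨c', rfl⟩
      have hIJ : (I * J).ideal ⟨V, hV⟩ = I.ideal ⟨V, hV⟩ * J.ideal ⟨V, hV⟩ := rfl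
      rw [hIJ, hJf, Ideal.mem_mul_span_singleton] at hc'
      obtain ⟨z, hz, hzf⟩ := hc'
      obtain ⟨t, ht⟩ := (exists_idealModι_app_eq_iff I ⟨V, hV⟩ z).mpr hz
      refine ⟨t, idealModι_app_injective (I * J) V ?_⟩
      refine (idealMulLift_app_tmul I J V t e).trans ?_
      rw [← hf]
      have : (show Γ(X, V) from (ClSub.idealModι I).app V t) = z := ht
      rw [this]
      exact hzf
  exact (Function.Bijective.of_comp_iff ((idealMulLift I J).app V) hb).mp hcomp

/-- **`𝓘^{⊗ (m+1)} ≅ 𝓘^{m+1}` for an invertible ideal.** -/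
theorem nonempty_tensorPow_iso_idealMod_pow (hI : PicF.IsInvertible (ClSub.idealMod I)) :
    ∀ m : ℕ, Nonempty (CohB1.tensorPow (ClSub.idealMod I) (m + 1) ≅ ClSub.idealMod (I ^ (m + 1)))
  | 0 => by
    have h : I ^ (0 + 1) = I := by rw [zero_add, pow_one]
    rw [h]
    exact ⟨unitorL (ClSub.idealMod I)⟩
  | m + 1 => by
    obtain ⟨φ⟩ := nonempty_tensorPow_iso_idealMod_pow hI m
    haveI := isIso_idealMulLift (I ^ (m + 1)) I hI
    have h : I ^ (m + 1 + 1) = I ^ (m + 1) * I := pow_succ I (m + 1)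
    rw [h]
    exact ⟨tensorIso' φ (Iso.refl _) ≪≫ asIso (idealMulLift (I ^ (m + 1)) I)⟩

end Groth.Agent.LD.QC
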