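import Mathlib
import Groth.Prelude.Def_ClSub2
import Groth.Prelude.Def_Curv2
import Groth.Agent.Lib.Lead.QC.AmpleBasis
import Groth.Agent.Lib.Lead.QC.AmpleGG
import Groth.Agent.Lib.Lead.QC.FreeData
import Groth.Agent.Lib.Lead.QC.InvInverse
import Groth.Agent.Lib.Lead.QC.HomAffine
import Groth.Agent.Lib.Lead.QC.Extend
import Groth.Agent.Lib.Lead.QC.Stalk
import Groth.Agent.Lib.Lead.CohLES.H0Lin
import Groth.Agent.Lib.Lead.Curve.Euler
import Groth.Agent.Lib.Lead.SC.RPushQC
import Groth.Agent.Lib.Helper2.DepthS1Sch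
import Groth.Agent.Lib.Helper5.Curve4.Tors1

/-!
# Vanishing of `H⁰` of negative twists (lead): S7679

`X` proper over a field, `L` ample with inverse `M`, `F` coherent without closed associated points.
Then `Γ(X, F ⊗ M^n) = 0` for `n ≫ 0`.

Proof: finite induction over the set of associated points of `F`.  For an associated point `ξ`
(not closed) choose a specialisation `y ≠ ξ` and a section `s` of some `L^d` with `ξ ∈ X_s ∌ y`.
Multiplication by `s` gives maps `Γ(F ⊗ M^(n+d)) → Γ(F ⊗ M^n)`, injective on the relevant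
subspaces (induction hypothesis); finite dimensionality makes them bijective for `n ≫ 0`, so every
such section is infinitely divisible by a local equation of `s` near `y`; by Krull's intersection
theorem it vanishes near `y`, hence at `ξ`.
-/

set_option autoImplicit false
universe u
open CategoryTheory Limits AlgebraicGeometry TopologicalSpace Opposite

namespace Groth.Agent.LD.NegTwist

open Groth.Agent.LD Groth.Agent.LD.QC

/-! ### an arithmetic lemma -/

lemma nat_chain (b : ℕ → ℕ) (d n₀ : ℕ) (h : ∀ n, n₀ ≤ n → b (n + d) ≤ b n) :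
    ∃ n₁, n₀ ≤ n₁ ∧ ∀ n, n₁ ≤ n → b (n + d) = b n := by
  classical
  obtain ⟨B, hBdef⟩ : ∃ B : ℕ → ℕ, ∀ n, B n = ∑ r ∈ Finset.range d, b (n + r) := ⟨_, fun _ => rfl⟩
  have key : ∀ n, B (n + 1) + b n = B n + b (n + d) := by
    intro n
    have h1 : ∑ r ∈ Finset.range (d + 1), b (n + r) = B n + b (n + d) := by
      rw [Finset.sum_range_succ, hBdef]
    have h2 : ∑ r ∈ Finset.range (d + 1), b (n + r) = B (n + 1) + b n := by
      rw [Finset.sum_range_succ', hBdef, Nat.add_zero]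
      congr 1
      refine Finset.sum_congr rfl (fun r _ => ?_)
      congr 1
      omega
    omega
  have hB : ∀ n, n₀ ≤ n → B (n + 1) ≤ B n := by
    intro n hn
    have h1 := key n
    have h2 := h n hn
    omega
  have main : ∀ m n₀', n₀ ≤ n₀' → B n₀' = m →
      ∃ n₁, n₀' ≤ n₁ ∧ ∀ n, n₁ ≤ n → b (n + d) = b n := by
    intro m
    induction m using Nat.strong_induction_on with
    | _ m ih =>
      intro n₀' hn₀' hm
      by_cases hall : ∀ n, n₀' ≤ n → b (n + d) = b n
      · exact ⟨n₀', le_rfl, hall⟩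
      · push Not at hall
        obtain ⟨n, hn, hne⟩ := hall
        have hle : ∀ j, B (n₀' + j) ≤ B n₀' := by
          intro j
          induction j with
          | zero => exact le_rfl
          | succ j ihj => exact (hB (n₀' + j) (by omega)).trans ihj
        have hBn : B n ≤ B n₀' := by
          obtain ⟨j, rfl⟩ := Nat.exists_eq_add_of_le hn
          exact hle j
        have hlt : B (n + 1) < B n := by
          have h1 := key n
          have h2 := h n (hn₀'.trans hn)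
          omega
        obtain ⟨n₁, h1, h2⟩ := ih (B (n + 1)) (by omega) (n + 1) (by omega) rfl
        exact ⟨n₁, by omega, h2⟩
  exact main (B n₀) n₀ le_rfl rfl

section general

variable {X : Scheme.{u}}

/-! ### tensor bookkeeping -/

/-- cancelling an inverse pair. -/
lemma nonempty_cancel (L M : X.Modules) [L.IsQuasicoherent] [M.IsQuasicoherent]
    (ε : CohB1.tensorMod L M ≅ unitMod X)
    (A P B : X.Modules) [A.IsQuasicoherent] [P.IsQuasicoherent] [B.IsQuasicoherent] :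
    Nonempty (CohB1.tensorMod (CohB1.tensorMod A (CohB1.tensorMod P M)) (CohB1.tensorMod B L) ≅
      CohB1.tensorMod (CohB1.tensorMod A P) B) := by
  haveI := tensorMod_isQuasicoherent A P
  haveI := tensorMod_isQuasicoherent B L
  let e1 : CohB1.tensorMod (CohB1.tensorMod A (CohB1.tensorMod P M)) (CohB1.tensorMod B L) ≅
      CohB1.tensorMod (CohB1.tensorMod (CohB1.tensorMod A P) M) (CohB1.tensorMod B L) :=
    tensorIso' (tensorAssoc A P M).symm (Iso.refl (CohB1.tensorMod B L))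
  let e2 : CohB1.tensorMod (CohB1.tensorMod (CohB1.tensorMod A P) M) (CohB1.tensorMod B L) ≅
      CohB1.tensorMod (CohB1.tensorMod A P) (CohB1.tensorMod M (CohB1.tensorMod B L)) :=
    tensorAssoc (CohB1.tensorMod A P) M (CohB1.tensorMod B L)
  let e3 : CohB1.tensorMod M (CohB1.tensorMod B L) ≅ B :=
    (tensorAssoc M B L).symm ≪≫ tensorIso' (tensorCommAll M B) (Iso.refl L) ≪≫
      tensorAssoc B M L ≪≫ tensorIso' (Iso.refl B) (tensorCommAll M L) ≪≫
      tensorIso' (Iso.refl B) ε ≪≫ SecTwist.unitorR B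
  exact ⟨e1 ≪≫ e2 ≪≫ tensorIso' (Iso.refl (CohB1.tensorMod A P)) e3⟩

/-- the negative twists. -/
noncomputable abbrev Gn (F M : X.Modules) (n : ℕ) : X.Modules :=
  CohB1.tensorMod F (CohB1.tensorPow M n)

/-- `(F ⊗ M^(n+d)) ⊗ L^d ≅ F ⊗ M^n` when `L ⊗ M ≅ O`. -/
lemma nonempty_psi (L M : X.Modules) (hL : PicF.IsInvertible L) (hM : PicF.IsInvertible M)
    (ε : CohB1.tensorMod L M ≅ unitMod X) (F : X.Modules) [F.IsQuasicoherent] (n : ℕ) :
    ∀ d : ℕ, Nonempty (CohB1.tensorMod (Gn F M (n + d)) (CohB1.tensorPow L d) ≅ Gn F M n)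
  | 0 => ⟨SecTwist.unitorR _⟩
  | d + 1 => by
    haveI : L.IsQuasicoherent := qc_of_isInvertible L hL
    haveI : M.IsQuasicoherent := qc_of_isInvertible M hM
    haveI : (CohB1.tensorPow M (n + d)).IsQuasicoherent :=
      qc_of_isInvertible _ (isInvertible_tensorPow hM (n + d))
    haveI : (CohB1.tensorPow L d).IsQuasicoherent :=
      qc_of_isInvertible _ (isInvertible_tensorPow hL d)
    obtain ⟨e⟩ := nonempty_psi L M hL hM ε F n d
    obtain ⟨c⟩ := nonempty_cancel L M ε F (CohB1.tensorPow M (n + d)) (CohB1.tensorPow L d)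
    exact ⟨c ≪≫ e⟩

/-! ### associated points -/

/-- a nonzero section over an affine open has an associated point in its support. -/
lemma exists_assPoint_of_ne_zero [IsLocallyNoetherian X] (G : X.Modules) [G.IsQuasicoherent]
    {V : X.Opens} (hV : IsAffineOpen V) (τ : Γ(G, V)) (hτ : τ ≠ 0) :
    ∃ x : X, x ∈ V ∧ Curv2.IsAssPoint G x ∧
      ∀ (W : X.Opens) (hW : W ≤ V), x ∈ W → G.presheaf.map (homOfLE hW).op τ ≠ 0 := by
  haveI : IsNoetherianRing Γ(X, V) := IsLocallyNoetherian.component_noetherian ⟨V, hV⟩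
  obtain ⟨P, hP, hle⟩ := exists_le_isAssociatedPrime_of_isNoetherianRing Γ(X, V) τ hτ
  haveI := hP.isPrime
  obtain ⟨p, hpdef⟩ : ∃ p : PrimeSpectrum Γ(X, V), p.asIdeal = P := ⟨⟨P, hP.isPrime⟩, rfl⟩
  have hxV : hV.fromSpec p ∈ V := by
    have : hV.fromSpec p ∈ Set.range hV.fromSpec := ⟨p, rfl⟩
    rwa [hV.range_fromSpec] at this
  have hp : hV.primeIdealOf ⟨hV.fromSpec p, hxV⟩ = p :=
    hV.fromSpec.isOpenEmbedding.injective (hV.fromSpec_primeIdealOf ⟨hV.fromSpec p, hxV⟩)
  refine ⟨hV.fromSpec p, hxV, ?_, ?_⟩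
  · rw [Groth.Agent.H2.DepthS1.isAssPoint_iff G hV _ hxV, hp, hpdef]
    exact hP
  · intro W hW hxW h0
    obtain ⟨g, hgW, hxg⟩ := hV.exists_basicOpen_le (V := W) ⟨hV.fromSpec p, hxW⟩ hxV
    have h1 : G.presheaf.map (homOfLE (X.basicOpen_le g)).op τ = 0 := by
      rw [← res_res G hW hgW τ, h0, map_zero]
    obtain ⟨m, hm⟩ := affine_inj G hV g τ h1
    have hmem : g ^ m ∈ P :=
      hle (Submodule.mem_colon_singleton.mpr (by rw [hm]; exact Submodule.zero_mem _))
    have hgP : g ∈ P := hP.isPrime.mem_of_pow_mem m hmem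
    have h2 := mem_primeCompl_of_mem_basicOpen hV _ hxV g hxg
    rw [hp] at h2
    have hgp : g ∈ p.asIdeal := by rw [hpdef]; exact hgP
    exact h2 hgp

/-- associated points of a twist by an invertible module are associated points. -/
lemma isAssPoint_of_tensor [IsLocallyNoetherian X] (F N : X.Modules) [F.IsQuasicoherent]
    (hN : PicF.IsInvertible N) (x : X) (h : Curv2.IsAssPoint (CohB1.tensorMod F N) x) :
    Curv2.IsAssPoint F x := by
  haveI : N.IsQuasicoherent := qc_of_isInvertible N hN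
  haveI := tensorMod_isQuasicoherent F N
  obtain ⟨U, e, hU, hxU, -, he⟩ := exists_affine_basis N hN x ⊤ trivial
  rw [Groth.Agent.H2.DepthS1.isAssPoint_iff (CohB1.tensorMod F N) hU x hxU] at h
  rw [Groth.Agent.H2.DepthS1.isAssPoint_iff F hU x hxU]
  have hb := bijective_tmul_of_isBasisOver F N he U le_rfl
  simp only [res_self] at hb
  exact (LinearEquiv.isAssociatedPrime_iff
    (LinearEquiv.ofBijective (tmulRightₗ F N U e) hb)).mpr h

/-- finiteness of the set of associated points. -/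
lemma finite_assPoints [IsLocallyNoetherian X] [CompactSpace X] (F : X.Modules)
    [F.IsQuasicoherent] (hF : F.IsFiniteType) : {x : X | Curv2.IsAssPoint F x}.Finite := by
  classical
  obtain ⟨s, hs, hsup⟩ :=
    SC.exists_finset_affine_sup_eq (⊤ : X.Opens) (by simpa using isCompact_univ)
  have hsub : {x : X | Curv2.IsAssPoint F x} ⊆
      ⋃ U ∈ (s : Set X.Opens), {x : X | x ∈ U ∧ Curv2.IsAssPoint F x} := by
    intro x hx
    have hxtop : x ∈ (s.sup id : X.Opens) := by rw [hsup]; trivial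
    rw [Finset.sup_eq_iSup] at hxtop
    simp only [Opens.mem_iSup, id_eq, exists_prop] at hxtop
    obtain ⟨U, hU, hxU⟩ := hxtop
    exact Set.mem_biUnion (Finset.mem_coe.mpr hU) ⟨hxU, hx⟩
  refine Set.Finite.subset (Set.Finite.biUnion s.finite_toSet (fun U hU => ?_)) hsub
  have hUa : IsAffineOpen U := hs U (Finset.mem_coe.mp hU)
  haveI : IsNoetherianRing Γ(X, U) := IsLocallyNoetherian.component_noetherian ⟨U, hUa⟩
  haveI : Module.Finite Γ(X, U) Γ(F, U) := finite_sections_of_isFiniteType F hF hUa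
  have hfinP : (associatedPrimes Γ(X, U) Γ(F, U)).Finite := associatedPrimes.finite _ _
  have hfinQ : (PrimeSpectrum.asIdeal ⁻¹' (associatedPrimes Γ(X, U) Γ(F, U))).Finite :=
    hfinP.preimage (fun p _ q _ h => PrimeSpectrum.ext h)
  refine (hfinQ.image (fun p => hUa.fromSpec p)).subset ?_
  rintro x ⟨hxU, hx⟩
  refine ⟨hUa.primeIdealOf ⟨x, hxU⟩, ?_, hUa.fromSpec_primeIdealOf ⟨x, hxU⟩⟩
  exact (Groth.Agent.H2.DepthS1.isAssPoint_iff F hUa x hxU).mp hx

/-! ### germ-vanishing of global sections -/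

/-- the global section `t` vanishes near every point of `S`. -/
def VanishAt (G : X.Modules) (S : Set X) (t : Γ(G, ⊤)) : Prop :=
  ∀ η ∈ S, ∃ W : X.Opens, η ∈ W ∧ G.presheaf.map (homOfLE (le_top : W ≤ ⊤)).op t = 0

/-- a global section vanishing near all associated points is zero. -/
lemma eq_zero_of_vanishAt_ass [IsLocallyNoetherian X] (G : X.Modules) [G.IsQuasicoherent]
    (S : Set X) (hS : ∀ x, Curv2.IsAssPoint G x → x ∈ S) (t : Γ(G, ⊤)) (ht : VanishAt G S t) :
    t = 0 := by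
  by_contra hne
  have h1 : ∃ V : X.Opens, IsAffineOpen V ∧
      G.presheaf.map (homOfLE (le_top : V ≤ ⊤)).op t ≠ 0 := by
    by_contra hcon
    push Not at hcon
    apply hne
    apply section_ext_of_cover G (fun V : {V : X.affineOpens // V.1 ≤ (⊤ : X.Opens)} => V.1.1)
      (fun V => V.2) (le_iSup_affineOpens ⊤) t 0
    intro V
    rw [map_zero]
    exact hcon V.1.1 V.1.2
  obtain ⟨V, hV, hVne⟩ := h1
  obtain ⟨x, hxV, hxass, hx⟩ := exists_assPoint_of_ne_zero G hV _ hVne
  obtain ⟨W, hxW, hW⟩ := ht x (hS x hxass)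
  apply hx (W ⊓ V) inf_le_right ⟨hxW, hxV⟩
  rw [res_res, ← res_res G (le_top : W ≤ ⊤) (inf_le_left : W ⊓ V ≤ W), hW, map_zero]

/-! ### separating a non-closed point from a specialisation -/

lemma exists_section_sep [QuasiSeparatedSpace X] (L : X.Modules) (hL : CohB1.IsAmple L) (ξ : X)
    (hξ : ¬ IsClosed ({ξ} : Set X)) :
    ∃ (d : ℕ) (s : unitMod X ⟶ CohB1.tensorPow L d) (y : X),
      ξ ⤳ y ∧ ξ ∈ CohB1.genLocus _ s ∧ y ∉ CohB1.genLocus _ s := by
  haveI : CompactSpace X := hL.2.1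
  have h1 : ∃ y ∈ closure ({ξ} : Set X), y ≠ ξ := by
    by_contra hcon
    push Not at hcon
    apply hξ
    have h2 : closure ({ξ} : Set X) = {ξ} :=
      Set.Subset.antisymm (fun y hy => Set.mem_singleton_iff.mpr (hcon y hy)) subset_closure
    rw [← h2]
    exact isClosed_closure
  obtain ⟨y, hy, hne⟩ := h1
  have hsp : ξ ⤳ y := specializes_iff_mem_closure.mpr hy
  have hnsp : ¬ y ⤳ ξ := fun h => hne ((hsp.antisymm h).eq).symm
  obtain ⟨S, hSo, hξS, hyS⟩ := not_specializes_iff_exists_open.mp hnsp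
  obtain ⟨m, s₀, hξ₀, haff⟩ := hL.2.2 ξ
  obtain ⟨g, hgW, hξg⟩ :=
    haff.exists_basicOpen_le (V := (⟨S, hSo⟩ : X.Opens)) ⟨ξ, hξS⟩ hξ₀
  obtain ⟨m', t, ht⟩ := exists_genLocus_eq_basicOpen L hL.1 s₀ g
  refine ⟨_, t, y, hsp, ?_, ?_⟩
  · rw [ht]; exact hξg
  · rw [ht]; intro hyg; exact hyS (hgW hyg)

/-! ### multiplication by a section followed by an isomorphism -/

lemma theta_inj {G G' H : X.Modules} (s : unitMod X ⟶ H) (ψ : CohB1.tensorMod G H ≅ G')
    (W : X.Opens) (hW : W ≤ CohB1.genLocus H s) (q : Γ(G, W))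
    (h : (H5.Curve4.twistBy G s ≫ ψ.hom).app W q = 0) : q = 0 := by
  apply H5.Curve4.eq_zero_of_twistBy_eq_zero G s W hW q
  rw [Scheme.Modules.Hom.comp_app, ConcreteCategory.comp_apply] at h
  have h2 := congrArg (fun z => ψ.inv.app W z) h
  simp only [iso_inv_hom_app, map_zero] at h2
  exact h2

lemma theta_local {G G' H : X.Modules} (s : unitMod X ⟶ H) (ψ : CohB1.tensorMod G H ≅ G')
    (V : X.Opens) (e : Γ(H, V)) (f : Γ(X, V)) (hs : SecTwist.val s V = f • e) (z : Γ(G, V)) :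
    (H5.Curve4.twistBy G s ≫ ψ.hom).app V z = f • ψ.hom.app V (SecTwist.tmul G H V z e) := by
  rw [Scheme.Modules.Hom.comp_app, ConcreteCategory.comp_apply, H5.Curve4.twistBy_app, hs,
    tmul_smul_right]
  exact Scheme.Modules.Hom.app_smul ψ.hom f (SecTwist.tmul G H V z e)

end general

/-! ### the subspaces of `H⁰` -/

section core

variable (k : Type u) [Field k] (X : Scheme.{u}) [X.Over (Spec (CommRingCat.of k))]

lemma HH0Equiv_HHmap {G G' : X.Modules} (φ : G ⟶ G') (x : Coh.HH X G 0) :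
    CL.HH0Equiv G' (CL.HHmap k φ 0 x) = φ.app ⊤ (CL.HH0Equiv G x) :=
  CL.HH0Equiv_map φ x

/-- classes in `H⁰(X, G)` whose section vanishes near every point of `S`. -/
noncomputable def Psub (G : X.Modules) (S : Set X) : Submodule k (Coh.HH X G 0) where
  carrier := {x | VanishAt G S (CL.HH0Equiv G x)}
  add_mem' := by
    intro a b ha hb
    have ha' : VanishAt G S (CL.HH0Equiv G a) := ha
    have hb' : VanishAt G S (CL.HH0Equiv G b) := hb
    show VanishAt G S (CL.HH0Equiv G (a + b))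
    intro η hη
    obtain ⟨W₁, h1, e1⟩ := ha' η hη
    obtain ⟨W₂, h2, e2⟩ := hb' η hη
    refine ⟨W₁ ⊓ W₂, ⟨h1, h2⟩, ?_⟩
    have ea : G.presheaf.map (homOfLE (le_top : W₁ ⊓ W₂ ≤ ⊤)).op (CL.HH0Equiv G a) = 0 := by
      rw [← res_res G (le_top : W₁ ≤ ⊤) (inf_le_left : W₁ ⊓ W₂ ≤ W₁), e1, map_zero]
    have eb : G.presheaf.map (homOfLE (le_top : W₁ ⊓ W₂ ≤ ⊤)).op (CL.HH0Equiv G b) = 0 := by
      rw [← res_res G (le_top : W₂ ≤ ⊤) (inf_le_right : W₁ ⊓ W₂ ≤ W₂), e2, map_zero]
    rw [map_add, map_add, ea, eb, add_zero]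
  zero_mem' := by
    show VanishAt G S (CL.HH0Equiv G 0)
    intro η _
    exact ⟨⊤, trivial, by rw [map_zero, map_zero]⟩
  smul_mem' := by
    intro c a ha
    have ha' : VanishAt G S (CL.HH0Equiv G a) := ha
    show VanishAt G S (CL.HH0Equiv G (c • a))
    intro η hη
    obtain ⟨W, h1, e1⟩ := ha' η hη
    refine ⟨W, h1, ?_⟩
    have hs : CL.HH0Equiv G (c • a) =
        (show Γ(X, ⊤) from Coh.toGlobal (X ↘ Spec (CommRingCat.of k)) c) • CL.HH0Equiv G a :=
      CL.HH0Equiv_smul G (Coh.toGlobal (X ↘ Spec (CommRingCat.of k)) c) a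
    rw [hs, smul_res, e1, smul_zero]

lemma mem_Psub (G : X.Modules) (S : Set X) (x : Coh.HH X G 0) :
    x ∈ Psub k X G S ↔ VanishAt G S (CL.HH0Equiv G x) := Iff.rfl

variable [IsProper (X ↘ Spec (CommRingCat.of k))]

include k

/-- the inductive step: removing one associated point. -/
theorem step (L : X.Modules) (hL : CohB1.IsAmple L) (M : X.Modules)
    (ε : CohB1.tensorMod L M ≅ unitMod X) (F : X.Modules) (hF : Coh.IsCoh F)
    (ξ : X) (hξnc : ¬ IsClosed ({ξ} : Set X)) (S' : Set X) (n₀' : ℕ)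
    (IH : ∀ n, n₀' ≤ n → ∀ t : Γ(Gn F M n, ⊤), VanishAt (Gn F M n) (insert ξ S') t → t = 0) :
    ∃ n₀, ∀ n, n₀ ≤ n → ∀ t : Γ(Gn F M n, ⊤), VanishAt (Gn F M n) S' t → t = 0 := by
  classical
  haveI : IsLocallyNoetherian X :=
    LocallyOfFiniteType.isLocallyNoetherian (X ↘ Spec (CommRingCat.of k))
  haveI : CompactSpace X := hL.2.1
  have hLi : PicF.IsInvertible L := hL.1
  have hMi : PicF.IsInvertible M := isInvertible_of_tensor_iso hLi ε
  haveI : F.IsQuasicoherent := hF.1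
  obtain ⟨d, s, y, hsp, hξs, hys⟩ := exists_section_sep L hL ξ hξnc
  have hHi : PicF.IsInvertible (CohB1.tensorPow L d) := isInvertible_tensorPow hLi d
  have hGq : ∀ n, (Gn F M n).IsQuasicoherent := fun n => by
    haveI := qc_of_isInvertible _ (isInvertible_tensorPow hMi n)
    exact tensorMod_isQuasicoherent F _
  have hGc : ∀ n, Coh.IsCoh (Gn F M n) := fun n =>
    ⟨hGq n, isFiniteType_tensorMod_of_isInvertible F hF.2 _ (isInvertible_tensorPow hMi n)⟩
  haveI hfin : ∀ n, Module.Finite k (Coh.HH X (Gn F M n) 0) := fun n =>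
    Curve.finite_HH k X (Gn F M n) (hGc n) 0
  have hψ := fun n => nonempty_psi L M hLi hMi ε F n d
  obtain ⟨ψ, -⟩ : ∃ ψ : ∀ n, CohB1.tensorMod (Gn F M (n + d)) (CohB1.tensorPow L d) ≅ Gn F M n,
      True := ⟨fun n => (hψ n).some, trivial⟩
  obtain ⟨θ, hθ⟩ : ∃ θ : ∀ n, Gn F M (n + d) ⟶ Gn F M n,
      ∀ n, θ n = H5.Curve4.twistBy (Gn F M (n + d)) s ≫ (ψ n).hom := ⟨_, fun _ => rfl⟩
  -- the maps on `H⁰` preserve the subspaces
  have hmaps : ∀ n, ∀ x ∈ Psub k X (Gn F M (n + d)) S',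
      CL.HHmap k (θ n) 0 x ∈ Psub k X (Gn F M n) S' := by
    intro n x hx
    have hx' := (mem_Psub k X _ _ _).mp hx
    refine (mem_Psub k X _ _ _).mpr ?_
    intro η hη
    obtain ⟨W, hηW, hW⟩ := hx' η hη
    refine ⟨W, hηW, ?_⟩
    rw [HH0Equiv_HHmap, ← app_res, hW, map_zero]
  -- injectivity on the subspaces
  have hinj0 : ∀ n, n₀' ≤ n → ∀ x ∈ Psub k X (Gn F M (n + d)) S',
      CL.HHmap k (θ n) 0 x = 0 → x = 0 := by
    intro n hn x hx h0
    have hv := (mem_Psub k X _ _ _).mp hx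
    obtain ⟨t, ht⟩ : ∃ t, t = CL.HH0Equiv (Gn F M (n + d)) x := ⟨_, rfl⟩
    rw [← ht] at hv
    have h1 : (θ n).app ⊤ t = 0 := by
      rw [ht, ← HH0Equiv_HHmap k X (θ n) x, h0, map_zero]
    have h2 : (Gn F M (n + d)).presheaf.map
        (homOfLE (le_top : CohB1.genLocus (CohB1.tensorPow L d) s ≤ ⊤)).op t = 0 := by
      apply theta_inj s (ψ n) _ le_rfl
      rw [← hθ n, app_res, h1, map_zero]
    have h3 : t = 0 := IH (n + d) (by omega) t (by
      intro η hη
      rcases hη with hη | hη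
      · rw [hη]; exact ⟨_, hξs, h2⟩
      · exact hv η hη)
    apply (CL.HH0Equiv (Gn F M (n + d))).injective
    rw [← ht, h3, map_zero]
  obtain ⟨Θr, hΘr⟩ : ∃ Θr : ∀ n, ↥(Psub k X (Gn F M (n + d)) S') →ₗ[k]
      ↥(Psub k X (Gn F M n) S'), ∀ n x, ((Θr n x : ↥(Psub k X (Gn F M n) S')) :
        Coh.HH X (Gn F M n) 0) = CL.HHmap k (θ n) 0 x.1 :=
    ⟨fun n => (CL.HHmap k (θ n) 0).restrict (hmaps n), fun _ _ => rfl⟩
  have hinjr : ∀ n, n₀' ≤ n → Function.Injective (Θr n) := by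
    intro n hn
    rw [injective_iff_map_eq_zero]
    intro x hx
    have h1 : CL.HHmap k (θ n) 0 x.1 = 0 := by
      rw [← hΘr n x, hx]; rfl
    exact Subtype.ext (hinj0 n hn x.1 x.2 h1)
  have hb : ∀ n, n₀' ≤ n → Module.finrank k ↥(Psub k X (Gn F M (n + d)) S') ≤
      Module.finrank k ↥(Psub k X (Gn F M n) S') := fun n hn =>
    LinearMap.finrank_le_finrank_of_injective (hinjr n hn)
  obtain ⟨n₁, hn₁, hstab⟩ :=
    nat_chain (fun n => Module.finrank k ↥(Psub k X (Gn F M n) S')) d n₀' hb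
  have hsurj : ∀ n, n₁ ≤ n → Function.Surjective (Θr n) := fun n hn =>
    (LinearMap.injective_iff_surjective_of_finrank_eq_finrank (hstab n hn)).mp
      (hinjr n (hn₁.trans hn))
  -- local data at `y`
  obtain ⟨V, e, hV, hyV, -, he⟩ := exists_affine_basis (CohB1.tensorPow L d) hHi y ⊤ trivial
  obtain ⟨f, hf⟩ := he.exists_coord (SecTwist.val s V)
  have hyf : y ∉ X.basicOpen f := by
    intro h
    apply hys
    have h1 := genLocus_inf_eq_basicOpen s he f hf
    have h2 : y ∈ CohB1.genLocus (CohB1.tensorPow L d) s ⊓ V := by rw [h1]; exact h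
    exact h2.1
  haveI : IsNoetherianRing Γ(X, V) := IsLocallyNoetherian.component_noetherian ⟨V, hV⟩
  -- divisibility by powers of `f`
  have hdiv : ∀ i n, n₁ ≤ n → ∀ x ∈ Psub k X (Gn F M n) S', ∃ z : Γ(Gn F M n, V),
      (Gn F M n).presheaf.map (homOfLE (le_top : V ≤ ⊤)).op (CL.HH0Equiv (Gn F M n) x) =
        f ^ i • z := by
    intro i
    induction i with
    | zero =>
      intro n _ x _
      refine ⟨(Gn F M n).presheaf.map (homOfLE (le_top : V ≤ ⊤)).op
        (CL.HH0Equiv (Gn F M n) x), ?_⟩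
      rw [pow_zero, one_smul]
    | succ i ih =>
      intro n hn x hx
      obtain ⟨x', hx'⟩ := hsurj n hn ⟨x, hx⟩
      have hx'1 : CL.HHmap k (θ n) 0 x'.1 = x := by
        rw [← hΘr n x', hx']
      obtain ⟨z', hz'⟩ := ih (n + d) (by omega) x'.1 x'.2
      refine ⟨(ψ n).hom.app V (SecTwist.tmul _ _ V z' e), ?_⟩
      rw [← hx'1, HH0Equiv_HHmap, ← app_res, hz', Scheme.Modules.Hom.app_smul, hθ n,
        theta_local s (ψ n) V e f hf z', smul_smul, pow_succ]
  -- conclusion
  refine ⟨n₁, fun n hn t hv => ?_⟩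
  have hxP : (CL.HH0Equiv (Gn F M n)).symm t ∈ Psub k X (Gn F M n) S' :=
    (mem_Psub k X _ _ _).mpr (by rw [AddEquiv.apply_symm_apply]; exact hv)
  haveI : Module.Finite Γ(X, V) Γ(Gn F M n, V) := by
    haveI := hGq n
    exact finite_sections_of_isFiniteType (Gn F M n) (hGc n).2 hV
  obtain ⟨τ, hτ⟩ : ∃ τ, τ = (Gn F M n).presheaf.map (homOfLE (le_top : V ≤ ⊤)).op t := ⟨_, rfl⟩
  have hmem : τ ∈ (⨅ i : ℕ, (Ideal.span {f}) ^ i • ⊤ : Submodule Γ(X, V) Γ(Gn F M n, V)) := by
    rw [Submodule.mem_iInf]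
    intro i
    obtain ⟨z, hz⟩ := hdiv i n hn _ hxP
    rw [AddEquiv.apply_symm_apply] at hz
    rw [hτ, hz, Ideal.span_singleton_pow]
    exact Submodule.smul_mem_smul (Ideal.mem_span_singleton_self _) Submodule.mem_top
  obtain ⟨r, hr⟩ := (Ideal.mem_iInf_smul_pow_eq_bot_iff (I := Ideal.span {f}) τ).mp hmem
  obtain ⟨a, ha⟩ := Ideal.mem_span_singleton'.mp r.2
  have hkill : (1 - a * f) • τ = 0 := by rw [sub_smul, one_smul, ha, hr, sub_self]
  have hyg : y ∈ X.basicOpen (1 - a * f) := by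
    rw [X.mem_basicOpen (1 - a * f) y hyV]
    have hnu : (X.presheaf.germ V y hyV).hom f ∈ nonunits (X.presheaf.stalk y) := by
      intro hu
      exact hyf ((X.mem_basicOpen f y hyV).mpr hu)
    have hsplit : (X.presheaf.germ V y hyV).hom (1 - a * f) =
        1 - (X.presheaf.germ V y hyV).hom a * (X.presheaf.germ V y hyV).hom f := by
      rw [map_sub, map_one, map_mul]
    change IsUnit ((X.presheaf.germ V y hyV).hom (1 - a * f))
    rw [hsplit]
    exact IsLocalRing.isUnit_one_sub_self_of_mem_nonunits _ (mul_mem_nonunits_right hnu)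
  have hτ0 : (Gn F M n).presheaf.map (homOfLE (X.basicOpen_le (1 - a * f))).op τ = 0 := by
    have hu := isUnit_res_of_le_basicOpen (1 - a * f) (X.basicOpen_le (1 - a * f)) le_rfl
    have h2 : (Gn F M n).presheaf.map (homOfLE (X.basicOpen_le (1 - a * f))).op
        ((1 - a * f) • τ) = 0 := by rw [hkill, map_zero]
    rw [smul_res] at h2
    exact hu.smul_eq_zero.mp h2
  have hξg : ξ ∈ X.basicOpen (1 - a * f) := hsp.mem_open (X.basicOpen (1 - a * f)).2 hyg
  apply IH n (hn₁.trans hn) t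
  intro η hη
  rcases hη with hη | hη
  · rw [hη]
    refine ⟨X.basicOpen (1 - a * f), hξg, ?_⟩
    rw [← res_res (Gn F M n) (le_top : V ≤ ⊤) (X.basicOpen_le (1 - a * f)) t, ← hτ]
    exact hτ0
  · exact hv η hη

/-- sections vanishing near the associated points outside a finite set vanish, for `n ≫ 0`. -/
theorem claim (L : X.Modules) (hL : CohB1.IsAmple L) (M : X.Modules)
    (ε : CohB1.tensorMod L M ≅ unitMod X) (F : X.Modules) (hF : Coh.IsCoh F)
    (hass : ∀ x : X, IsClosed ({x} : Set X) → ¬ Curv2.IsAssPoint F x) (T : Finset X) :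
    ∃ n₀ : ℕ, ∀ n, n₀ ≤ n → ∀ t : Γ(Gn F M n, ⊤),
      VanishAt (Gn F M n) ({x | Curv2.IsAssPoint F x} \ (T : Set X)) t → t = 0 := by
  classical
  haveI : IsLocallyNoetherian X :=
    LocallyOfFiniteType.isLocallyNoetherian (X ↘ Spec (CommRingCat.of k))
  have hLi : PicF.IsInvertible L := hL.1
  have hMi : PicF.IsInvertible M := isInvertible_of_tensor_iso hLi ε
  haveI : F.IsQuasicoherent := hF.1
  induction T using Finset.induction_on with
  | empty =>
    refine ⟨0, fun n _ t hv => ?_⟩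
    haveI : (Gn F M n).IsQuasicoherent := by
      haveI := qc_of_isInvertible _ (isInvertible_tensorPow hMi n)
      exact tensorMod_isQuasicoherent F _
    apply eq_zero_of_vanishAt_ass (Gn F M n) _ ?_ t hv
    intro x hx
    exact ⟨isAssPoint_of_tensor F _ (isInvertible_tensorPow hMi n) x hx, by simp⟩
  | insert ξ T hξT ih =>
    obtain ⟨n₀', hn₀'⟩ := ih
    by_cases hξ : Curv2.IsAssPoint F ξ
    · have hξnc : ¬ IsClosed ({ξ} : Set X) := fun h => hass ξ h hξ
      refine step k X L hL M ε F hF ξ hξnc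
        ({x | Curv2.IsAssPoint F x} \ ((insert ξ T : Finset X) : Set X)) n₀' ?_
      intro n hn t hv
      apply hn₀' n hn t
      intro η hη
      apply hv η
      by_cases h : η = ξ
      · exact Or.inl h
      · refine Or.inr ⟨hη.1, ?_⟩
        intro hmem
        rw [Finset.coe_insert] at hmem
        rcases hmem with h' | h'
        · exact h h'
        · exact hη.2 h'
    · refine ⟨n₀', fun n hn t hv => hn₀' n hn t ?_⟩
      intro η hη
      apply hv η
      refine ⟨hη.1, ?_⟩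
      intro hmem
      rw [Finset.coe_insert] at hmem
      rcases hmem with h' | h'
      · apply hξ
        rw [← h']
        exact hη.1
      · exact hη.2 h'

/-- **S7679**. -/
theorem main (L : X.Modules) (hL : CohB1.IsAmple L) (M : X.Modules)
    (hM : ClSub.IsInverseOf L M) (F : X.Modules) (hF : Coh.IsCoh F)
    (hass : ∀ x : X, IsClosed ({x} : Set X) → ¬ Curv2.IsAssPoint F x) :
    ∃ n₀ : ℕ, ∀ n : ℕ, n₀ ≤ n →
      Subsingleton (Coh.HH X (CohB1.tensorMod F (CohB1.tensorPow M n)) 0) := by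
  classical
  obtain ⟨ε⟩ := hM
  haveI : IsLocallyNoetherian X :=
    LocallyOfFiniteType.isLocallyNoetherian (X ↘ Spec (CommRingCat.of k))
  haveI : CompactSpace X := hL.2.1
  haveI : F.IsQuasicoherent := hF.1
  have hfin := finite_assPoints F hF.2
  obtain ⟨n₀, hn₀⟩ := claim k X L hL M ε F hF hass hfin.toFinset
  refine ⟨n₀, fun n hn => ?_⟩
  have h0 : ∀ x : Coh.HH X (Gn F M n) 0, x = 0 := by
    intro x
    apply (CL.HH0Equiv (Gn F M n)).injective
    rw [map_zero]
    apply hn₀ n hn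
    intro η hη
    exact absurd (Finset.mem_coe.mpr (hfin.mem_toFinset.mpr hη.1)) hη.2
  exact ⟨fun a b => (h0 a).trans (h0 b).symm⟩

end core

end Groth.Agent.LD.NegTwist
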