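import Mathlib
import Groth.Agent.Lib.Lead.QC.LocFree2
import Groth.Agent.Lib.Lead.QC.Push
import Groth.Agent.Lib.Lead.QC.AModPush
import Groth.Agent.Lib.Lead.QC.Closure
import Groth.Agent.Lib.Lead.QC.SubExtRestrict
import Groth.Agent.Lib.Lead.SC.QAffCrit
import Groth.Agent.Lib.Lead.SC.RPushQC
import Groth.Agent.Lib.Helper3.ZClosLib
import Groth.Agent.H4.FAmp7
import Groth.Agent.H4.RelTor4

/-! # Flat quasi-coherent covers on quasi-compact schemes with affine diagonal -/

set_option autoImplicit false
universe u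
open CategoryTheory CategoryTheory.Limits AlgebraicGeometry TopologicalSpace Opposite
open Groth.Agent.LD.QC Groth.Agent.H1.CohLen Groth.Agent.H1.SchFlat

namespace Groth.Agent.LD.FlatCover

variable {X Y : Scheme.{u}}

/-- pointwise two-out-of-three for flatness in a short exact sequence with flat cokernel. -/
lemma isFlatAt_of_ses (T : ShortComplex X.Modules) (hT : T.ShortExact) (x : X)
    (h3 : FlatMod.IsFlatAt T.X₃ x) :
    (FlatMod.IsFlatAt T.X₁ x → FlatMod.IsFlatAt T.X₂ x) ∧
      (FlatMod.IsFlatAt T.X₂ x → FlatMod.IsFlatAt T.X₁ x) := by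
  haveI := hT.mono_f
  haveI := hT.epi_g
  exact @Groth.Agent.H2.CAlgA.flat_of_ses _ _ _ _ _ _ _ _ _ _ _ (stalkLin T.f x) (stalkLin T.g x)
    (stalkFun_injective_of_mono T.f x) (stalkFun_exact T hT x)
    (stalkFun_surjective_of_epi T.g x) h3

/-- pointwise flatness of a biproduct. -/
lemma isFlatAt_biprod {M N : X.Modules} (x : X) (hM : FlatMod.IsFlatAt M x)
    (hN : FlatMod.IsFlatAt N x) : FlatMod.IsFlatAt (M ⊞ N) x := by
  let T : ShortComplex X.Modules :=
    ShortComplex.mk (biprod.inl : M ⟶ M ⊞ N) (biprod.snd : M ⊞ N ⟶ N) (by simp)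
  have hT : T.ShortExact := (ShortComplex.Splitting.ofHasBinaryBiproduct M N).shortExact
  exact (isFlatAt_of_ses T hT x hN).1 hM

/-- free modules over an affine scheme `Spec R` are flat. -/
lemma isFlat_freeI_Spec (R : CommRingCat.{u}) (I : Type u) :
    FlatMod.IsFlat (SC.freeI (Spec R) I) := by
  have h := Groth.Agent.H4.RelTor4.isFlat_tilde (A := R) (ModuleCat.of R (I →₀ R)) inferInstance
  exact Groth.Agent.H4.FAmp2.isFlat_of_iso (tildeFinsupp I) h

/-- restriction along an open immersion preserves finite limits. -/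
lemma preservesFiniteLimits_restrictFunctor' (j : Y ⟶ X) [IsOpenImmersion j] :
    PreservesFiniteLimits (Scheme.Modules.restrictFunctor j) := by
  haveI : (Scheme.Modules.restrictFunctor j).Additive :=
    (Scheme.Modules.restrictAdjunction j).left_adjoint_additive
  rw [Functor.preservesFiniteLimits_iff_forall_exact_map_and_mono]
  intro S hS
  haveI : Mono S.f := hS.mono_f
  refine ⟨?_, ?_⟩
  · have h0 : PreservesFiniteColimits (Scheme.Modules.restrictFunctor j) ↔
        ∀ (S : ShortComplex X.Modules), S.ShortExact →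
          (S.map (Scheme.Modules.restrictFunctor j)).Exact ∧
            Epi ((Scheme.Modules.restrictFunctor j).map S.g) :=
      (Functor.preservesFiniteColimits_tfae (Scheme.Modules.restrictFunctor j)).out 3 0
    exact (h0.1 inferInstance S hS).1
  · apply Groth.Agent.H3.ZClosLib.mono_of_app_injective
    intro V
    exact Groth.Agent.H3.ZClosLib.app_injective_of_mono S.f (j ''ᵁ V)

/-- the unit `F ⟶ j_* j^* F` restricts to an isomorphism. -/
lemma isIso_restrict_unit' (j : Y ⟶ X) [IsOpenImmersion j] (F : X.Modules) :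
    IsIso ((Scheme.Modules.restrictFunctor j).map
      ((Scheme.Modules.restrictAdjunction j).unit.app F)) := by
  have h := (Scheme.Modules.restrictAdjunction j).left_triangle_components F
  haveI : IsIso ((Scheme.Modules.restrictFunctor j).map
      ((Scheme.Modules.restrictAdjunction j).unit.app F) ≫
      (Scheme.Modules.restrictAdjunction j).counit.app
        ((Scheme.Modules.restrictFunctor j).obj F)) := by
    rw [h]; infer_instance
  exact IsIso.of_isIso_comp_right _
    ((Scheme.Modules.restrictAdjunction j).counit.app ((Scheme.Modules.restrictFunctor j).obj F))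

/-- with affine intersections, the inclusion of an affine open (as `Spec`) is an affine
morphism. -/
lemma isAffineHom_fromSpec
    (hd : ∀ V W : X.Opens, IsAffineOpen V → IsAffineOpen W → IsAffineOpen (V ⊓ W))
    {U : X.Opens} (hU : IsAffineOpen U) : IsAffineHom hU.fromSpec := by
  refine ⟨fun V hV => ?_⟩
  rw [← Scheme.Hom.isAffineOpen_iff_of_isOpenImmersion hU.fromSpec,
    Scheme.Hom.image_preimage_eq_opensRange_inf, hU.opensRange_fromSpec]
  exact hd U V hU hV

/-- sections of the direct image of a module along a flat affine morphism over an affine open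
are flat as soon as the module is flat at the points of the preimage. -/
theorem flat_sections_pushforward (f : Y ⟶ X) [IsAffineHom f] [Flat f]
    (N : Y.Modules) [N.IsQuasicoherent] {V : X.Opens} (hV : IsAffineOpen V)
    (H : ∀ y ∈ f ⁻¹ᵁ V, FlatMod.IsFlatAt N y) :
    Module.Flat Γ(X, V) Γ((Scheme.Modules.pushforward f).obj N, V) := by
  have hW : IsAffineOpen (f ⁻¹ᵁ V) := IsAffineHom.isAffine_preimage _ hV
  have h1 : Module.Flat Γ(Y, f ⁻¹ᵁ V) Γ(N, f ⁻¹ᵁ V) :=
    flat_sections_of_flat_stalks N hW H
  have h2 : (f.app V).hom.Flat := by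
    have := Flat.flat_appLE f hV hW le_rfl
    rwa [Scheme.Hom.appLE_eq_app] at this
  letI : Algebra Γ(X, V) Γ(Y, f ⁻¹ᵁ V) := (f.app V).hom.toAlgebra
  haveI : Module.Flat Γ(X, V) Γ(Y, f ⁻¹ᵁ V) := h2
  letI : Module Γ(X, V) Γ(N, f ⁻¹ᵁ V) := Module.compHom _ (f.app V).hom
  haveI : IsScalarTower Γ(X, V) Γ(Y, f ⁻¹ᵁ V) Γ(N, f ⁻¹ᵁ V) :=
    IsScalarTower.of_algebraMap_smul fun r m => rfl
  have h3 : Module.Flat Γ(X, V) Γ(N, f ⁻¹ᵁ V) :=
    Module.Flat.trans Γ(X, V) Γ(Y, f ⁻¹ᵁ V) Γ(N, f ⁻¹ᵁ V)
  let e : Γ(N, f ⁻¹ᵁ V) ≃ₗ[Γ(X, V)] Γ((Scheme.Modules.pushforward f).obj N, V) :=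
    { toFun := fun s => s
      invFun := fun s => s
      map_add' := fun _ _ => rfl
      map_smul' := fun r s => (pushforward_smul f N V r s).symm
      left_inv := fun _ => rfl
      right_inv := fun _ => rfl }
  exact Module.Flat.of_linearEquiv e.symm

/-- **one step**: enlarge the flat locus of a quasi-coherent module by an affine open. -/
theorem step (hd : ∀ V W : X.Opens, IsAffineOpen V → IsAffineOpen W → IsAffineOpen (V ⊓ W))
    (F : X.Modules) (hF : F.IsQuasicoherent) (W : X.Opens)
    (hW : ∀ x ∈ W, FlatMod.IsFlatAt F x) {U : X.Opens} (hU : IsAffineOpen U) :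
    ∃ (F' : X.Modules) (π : F' ⟶ F), F'.IsQuasicoherent ∧ Epi π ∧
      ∀ x ∈ U ⊔ W, FlatMod.IsFlatAt F' x := by
  classical
  haveI := hF
  haveI : IsAffineHom hU.fromSpec := isAffineHom_fromSpec hd hU
  haveI hN : (F.restrict hU.fromSpec).IsQuasicoherent := qc_restrict hU.fromSpec F
  obtain ⟨I, p, hp⟩ := SC.exists_epi_free_of_isQuasiAffine (F.restrict hU.fromSpec)
  haveI := hp
  haveI hLq : (SC.freeI (Spec Γ(X, U)) I).IsQuasicoherent := SC.qc_freeI I
  have hLf : FlatMod.IsFlat (SC.freeI (Spec Γ(X, U)) I) := isFlat_freeI_Spec _ I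
  let R := Scheme.Modules.restrictFunctor hU.fromSpec
  let P := (Scheme.Modules.pushforward hU.fromSpec).obj (SC.freeI (Spec Γ(X, U)) I)
  let G := (Scheme.Modules.pushforward hU.fromSpec).obj (F.restrict hU.fromSpec)
  let q : P ⟶ G := (Scheme.Modules.pushforward hU.fromSpec).map p
  haveI : Epi q := epi_pushforward_of_affine hU.fromSpec hLq hN p
  let η : F ⟶ G := (Scheme.Modules.restrictAdjunction hU.fromSpec).unit.app F
  haveI hPq : P.IsQuasicoherent := qc_pushforward hU.fromSpec _
  haveI hGq : G.IsQuasicoherent := qc_pushforward hU.fromSpec _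
  have hPf : FlatMod.IsFlat P := fun x => by
    obtain ⟨V, hV, hxV, -⟩ := exists_isAffineOpen_mem_and_subset (x := x) (U := ⊤) trivial
    exact flat_stalk_of_flat_sections P hV x hxV
      (flat_sections_pushforward hU.fromSpec _ hV (fun y _ => hLf y))
  have hGf : ∀ x ∈ W, FlatMod.IsFlatAt G x := fun x hx => by
    obtain ⟨V, hV, hxV, hVW⟩ := exists_isAffineOpen_mem_and_subset (x := x) (U := W) hx
    refine flat_stalk_of_flat_sections G hV x hxV
      (flat_sections_pushforward hU.fromSpec _ hV (fun y hy => ?_))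
    exact Groth.Agent.H4.FAmp7.flatAt_restrict hU.fromSpec F y (hW _ (hVW hy))
  refine ⟨pullback η q, pullback.fst η q, ?_, inferInstance, ?_⟩
  · exact qc_limit (cospan η q) (by rintro (_ | _ | _) <;> assumption)
  · intro x hx
    rcases hx with hx | hx
    · -- `x ∈ U`
      have hxr : x ∈ Set.range hU.fromSpec := by rw [hU.range_fromSpec]; exact hx
      obtain ⟨y, rfl⟩ := hxr
      apply Groth.Agent.H4.FAmp7.flatAt_of_restrict hU.fromSpec (pullback η q) y
      haveI := preservesFiniteLimits_restrictFunctor' hU.fromSpec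
      have sq : IsPullback (R.map (pullback.fst η q)) (R.map (pullback.snd η q))
          (R.map η) (R.map q) := (IsPullback.of_hasPullback η q).map R
      haveI : IsIso (R.map η) := isIso_restrict_unit' hU.fromSpec F
      haveI : IsIso (R.map (pullback.snd η q)) := sq.isIso_snd_of_isIso
      have hRP : FlatMod.IsFlat (R.obj P) :=
        Groth.Agent.H4.FAmp3.isFlat_restrict hU.fromSpec P hPf
      exact Groth.Agent.H4.FAmp2.isFlat_of_iso (asIso (R.map (pullback.snd η q))).symm hRP y
    · -- `x ∈ W`
      let T : ShortComplex X.Modules :=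
        ShortComplex.mk (Abelian.PullbackToBiproductIsKernel.pullbackToBiproduct η q)
          (biprod.desc η (-q))
          (Abelian.PullbackToBiproductIsKernel.pullbackToBiproductFork η q).condition
      have hT : T.ShortExact :=
        { exact := ShortComplex.exact_of_f_is_kernel _
            (Abelian.PullbackToBiproductIsKernel.isLimitPullbackToBiproduct η q)
          mono_f := mono_of_isLimit_fork
            (Abelian.PullbackToBiproductIsKernel.isLimitPullbackToBiproduct η q)
          epi_g := by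
            have h : biprod.inr ≫ biprod.desc η (-q) = -q := biprod.inr_desc _ _
            exact epi_of_epi_fac h }
      exact (isFlatAt_of_ses T hT x (hGf x hx)).2 (isFlatAt_biprod x (hW x hx) (hPf x))

/-- on a quasi-compact scheme with affine diagonal every quasi-coherent module is a quotient
of a flat quasi-coherent module. -/
theorem main (X : Scheme.{u}) [CompactSpace X]
    (hd : ∀ V W : X.Opens, IsAffineOpen V → IsAffineOpen W → IsAffineOpen (V ⊓ W))
    (M : X.Modules) (hM : M.IsQuasicoherent) :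
    ∃ (F : X.Modules) (π : F ⟶ M), F.IsQuasicoherent ∧ FlatMod.IsFlat F ∧ Epi π := by
  classical
  have key : ∀ s : Finset X.Opens, (∀ U ∈ s, IsAffineOpen U) →
      ∃ (F : X.Modules) (π : F ⟶ M), F.IsQuasicoherent ∧ Epi π ∧
        ∀ x ∈ s.sup id, FlatMod.IsFlatAt F x := by
    intro s
    induction s using Finset.induction_on with
    | empty =>
      intro _
      refine ⟨M, 𝟙 M, hM, inferInstance, fun x hx => ?_⟩
      rw [Finset.sup_empty] at hx
      exact absurd hx (by simp)
    | insert a s ha ih =>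
      intro hs
      obtain ⟨F, π, hFq, hπ, hfl⟩ := ih (fun U hU => hs U (Finset.mem_insert_of_mem hU))
      obtain ⟨F', π', hF'q, hπ', hfl'⟩ :=
        step hd F hFq (s.sup id) hfl (hs a (Finset.mem_insert_self a s))
      haveI := hπ
      haveI := hπ'
      refine ⟨F', π' ≫ π, hF'q, epi_comp _ _, fun x hx => hfl' x ?_⟩
      rwa [Finset.sup_insert] at hx
  obtain ⟨s, hs, hsup⟩ := SC.exists_finset_affine_sup_eq (⊤ : X.Opens) isCompact_univ
  obtain ⟨F, π, hFq, hπ, hfl⟩ := key s hs
  exact ⟨F, π, hFq, fun x => hfl x (by rw [hsup]; trivial), hπ⟩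

end Groth.Agent.LD.FlatCover
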