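import Groth.Agent.Lib.Lead.QC.GlobGen
import Groth.Agent.Lib.Lead.QC.AmpleCrit
universe u
open CategoryTheory Limits AlgebraicGeometry TopologicalSpace Opposite

namespace Groth.Agent.LD.QC
variable {X : Scheme.{u}}

/-- **a globally generated invertible module is base point free**: if `L` is invertible and a
quotient of a free module (on any index type), then at every point one of the generating global
sections generates `L`. -/
theorem exists_mem_genLocus_of_epi_free (L : X.Modules) (hL : PicF.IsInvertible L) {K : Type u}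
    (p : (SheafOfModules.free K : X.Modules) ⟶ L) (hp : Epi p) (x : X) :
    ∃ k : K, x ∈ CohB1.genLocus L
      (show unitMod X ⟶ L from SheafOfModules.ιFree (R := X.ringCatSheaf) k ≫ p) := by
  classical
  haveI : L.IsQuasicoherent := qc_of_isInvertible L hL
  by_contra hcon
  push Not at hcon
  let Z : Closeds X := ⟨closure {x}, isClosed_closure⟩
  let J := Scheme.IdealSheafData.vanishingIdeal Z
  let ι := ClSub.idealModι J
  let μ := twistIncl ι L
  haveI : Mono μ := mono_twistIncl ι L hL
  let π := cokernel.π μ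
  have hxZ : x ∈ Z := subset_closure rfl
  have hπμ : ∀ (V : X.Opens) (t : Γ(CohB1.tensorMod (ClSub.idealMod J) L, V)),
      π.app V (μ.app V t) = 0 := by
    intro V t
    have : (μ ≫ π).app V t = 0 := by rw [cokernel.condition]; rfl
    exact this
  have h1 : ∀ k : K, (show unitMod X ⟶ L from
      SheafOfModules.ιFree (R := X.ringCatSheaf) k ≫ p) ≫ π = 0 := by
    intro k
    apply unitHom_eq_zero_of_sectionOfHom
    set σ : unitMod X ⟶ L := SheafOfModules.ιFree (R := X.ringCatSheaf) k ≫ p with hσ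
    set τ : Γ(L, ⊤) := sectionOfHom σ with hτ
    change π.app ⊤ τ = 0
    apply section_ext_of_cover _
      (fun V : {V : X.affineOpens // ∃ e : Γ(L, V.1), IsBasisOver L V.1 e} => V.1.1)
      (fun _ => le_top)
    · intro y _
      obtain ⟨V, e, hV, hyV, -, he⟩ := exists_affine_basis L hL y ⊤ trivial
      exact Opens.mem_iSup.mpr ⟨⟨⟨V, hV⟩, e, he⟩, hyV⟩
    · rintro ⟨V, e, he⟩
      rw [map_zero, ← app_res π (le_top : V.1 ≤ ⊤) τ]
      have e1 : L.presheaf.map (homOfLE (le_top : V.1 ≤ ⊤)).op τ = SecTwist.val σ V.1 :=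
        SecTwist.map_val σ (homOfLE (le_top : V.1 ≤ ⊤))
      obtain ⟨f, hf⟩ := he.exists_coord (SecTwist.val σ V.1)
      have hD := genLocus_inf_eq_basicOpen σ he f hf
      have hmem : f ∈ J.ideal V := by
        apply mem_vanishingIdeal_of_forall_notMem_basicOpen
        intro y hyV hyZ hy
        rw [← hD] at hy
        have hspec : x ⤳ y := specializes_iff_mem_closure.mpr hyZ
        exact hcon k (hspec.mem_open (CohB1.genLocus L σ).2 hy.1)
      obtain ⟨c, hc⟩ := (exists_idealModι_app_eq_iff J V _).mpr hmem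
      have h2 : μ.app V.1 (SecTwist.tmul (ClSub.idealMod J) L V.1 c e) = f • e := by
        rw [twistIncl_app_tmul]
        have hc' : (show Γ(X, V.1) from ι.app V.1 c) = f := hc
        rw [hc']
      rw [e1, hf, ← h2]
      exact hπμ _ _
  have h2 : p ≫ π = 0 := by
    apply Sigma.hom_ext
    intro k
    have e1 : (show unitMod X ⟶ L from SheafOfModules.ιFree (R := X.ringCatSheaf) k ≫ p) ≫ π =
        SheafOfModules.ιFree (R := X.ringCatSheaf) k ≫ p ≫ π := Category.assoc _ _ _
    exact (e1.symm.trans (h1 k)).trans comp_zero.symm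
  have h3 : π = 0 := (@cancel_epi _ _ _ _ _ p hp _ _).mp (h2.trans comp_zero.symm)
  obtain ⟨V, e, hV, hxV, -, he⟩ := exists_affine_basis L hL x ⊤ trivial
  have h4 : π.app V e = 0 := by rw [h3]; rfl
  obtain ⟨t, ht⟩ := (mem_range_mono_iff μ V e).mpr h4
  obtain ⟨c, hc⟩ := (bijective_tmul_of_isBasisOver (ClSub.idealMod J) L he V le_rfl).2 t
  have hc' : SecTwist.tmul (ClSub.idealMod J) L V c
      (L.presheaf.map (homOfLE (le_refl V)).op e) = t := hc
  rw [res_self] at hc'
  rw [← hc', twistIncl_app_tmul] at ht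
  have h5 : (show Γ(X, V) from ι.app V c) = 1 := by
    apply he.coord_injective
    rw [ht, one_smul]
  have h6 : (1 : Γ(X, V)) ∈ J.ideal ⟨V, hV⟩ :=
    (exists_idealModι_app_eq_iff J ⟨V, hV⟩ _).mp ⟨c, h5⟩
  have h7 := notMem_basicOpen_of_mem_vanishingIdeal Z ⟨V, hV⟩ _ h6 x hxV hxZ
  apply h7
  rw [X.basicOpen_of_isUnit isUnit_one]
  exact hxV

end Groth.Agent.LD.QC
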