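import Groth.Agent.Lib.Lead.QC.CartierBC
import Mathlib.AlgebraicGeometry.Morphisms.SchemeTheoreticallyDominant
import Mathlib.AlgebraicGeometry.Morphisms.Affine
universe u
open CategoryTheory Limits AlgebraicGeometry TopologicalSpace Opposite

namespace Groth.Agent.LD.QC

section CC
variable {S : Scheme.{u}}

/-- on an affine open where the ideal is principal, the complement of the support is the basic
open of the generator. -/
theorem compl_support_inf_eq_basicOpen (D : S.IdealSheafData) (U : S.affineOpens)
    (a : Γ(S, U.1)) (h : D.ideal U = Ideal.span {a}) :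
    D.support.compl ⊓ U.1 = S.basicOpen a := by
  ext x
  constructor
  · rintro ⟨hx1, hx2⟩
    have hx1' : x ∉ D.support := hx1
    rw [Scheme.IdealSheafData.mem_support_iff_of_mem (U := U) hx2, h,
      Scheme.zeroLocus_span, Scheme.zeroLocus_singleton] at hx1'
    simpa using hx1'
  · intro hx
    have hxU : x ∈ U.1 := S.basicOpen_le a hx
    refine ⟨?_, hxU⟩
    change x ∉ D.support
    rw [Scheme.IdealSheafData.mem_support_iff_of_mem (U := U) hxU, h,
      Scheme.zeroLocus_span, Scheme.zeroLocus_singleton]
    simpa using hx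

theorem isAffineOpen_preimage_compl_of_principal (D : S.IdealSheafData) (U : S.affineOpens)
    (a : Γ(S, U.1)) (h : D.ideal U = Ideal.span {a}) :
    IsAffineOpen ((Scheme.Opens.ι (X := S) D.support.compl) ⁻¹ᵁ U.1) := by
  rw [← Scheme.Hom.isAffineOpen_iff_of_isOpenImmersion (Scheme.Opens.ι (X := S) D.support.compl),
    Scheme.Hom.image_preimage_eq_opensRange_inf, Scheme.Opens.opensRange_ι,
    compl_support_inf_eq_basicOpen D U a h]
  exact U.2.basicOpen a

/-- the complement of a locally principal closed subscheme is affine over the ambient scheme. -/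
theorem isAffineHom_compl_of_locPrincipal (D : S.IdealSheafData)
    (h : ∀ x ∈ D.support, ∃ U : S.affineOpens, x ∈ U.1 ∧
      ∃ f : Γ(S, U.1), D.ideal U = Ideal.span {f}) :
    IsAffineHom (Scheme.Opens.ι (X := S) D.support.compl) := by
  apply isAffineHom_of_forall_exists_isAffineOpen
  intro x
  by_cases hx : x ∈ D.support
  · obtain ⟨U, hxU, a, ha⟩ := h x hx
    exact ⟨U.1, hxU, U.2, isAffineOpen_preimage_compl_of_principal D U a ha⟩
  · obtain ⟨U, hU, hxU, hUle⟩ := exists_isAffineOpen_mem_and_subset (x := x)
      (U := D.support.compl) hx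
    refine ⟨U, hxU, hU, ?_⟩
    rw [← Scheme.Hom.isAffineOpen_iff_of_isOpenImmersion (Scheme.Opens.ι (X := S) D.support.compl),
      Scheme.Hom.image_preimage_eq_opensRange_inf, Scheme.Opens.opensRange_ι,
      inf_eq_right.mpr (show U ≤ D.support.compl from hUle)]
    exact hU

/-- the complement of an effective Cartier divisor is scheme-theoretically dense. -/
theorem isSchemeTheoreticallyDominant_compl_of_effCartier (D : S.IdealSheafData)
    (hD : BlowUp.IsEffCartierIdeal D) :
    IsSchemeTheoreticallyDominant (Scheme.Opens.ι (X := S) D.support.compl) := by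
  haveI : IsAffineHom (Scheme.Opens.ι (X := S) D.support.compl) :=
    isAffineHom_compl_of_locPrincipal D (fun x _ => by
      obtain ⟨U, hx, a, _, h⟩ := hD x
      exact ⟨U, hx, a, h⟩)
  rw [isSchemeTheoreticallyDominant_iff]
  choose U hxU a ha hI using hD
  apply Scheme.IdealSheafData.ext_of_iSup_eq_top U
  · exact top_le_iff.mp (fun x _ => by simpa using ⟨x, hxU x⟩)
  intro x
  rw [Scheme.Hom.ker_apply, Scheme.IdealSheafData.ideal_bot]
  change RingHom.ker ((Scheme.Opens.ι (X := S) D.support.compl).app (U x).1).hom = ⊥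
  rw [← RingHom.injective_iff_ker_eq_bot, injective_iff_map_eq_zero]
  intro s hs
  have hW : S.basicOpen (a x) ≤
      (Scheme.Opens.ι (X := S) D.support.compl) ''ᵁ
        ((Scheme.Opens.ι (X := S) D.support.compl) ⁻¹ᵁ (U x).1) := by
    rw [Scheme.Hom.image_preimage_eq_opensRange_inf, Scheme.Opens.opensRange_ι,
      compl_support_inf_eq_basicOpen D (U x) (a x) (hI x)]
  have h0 : S.presheaf.map (homOfLE (S.basicOpen_le (a x))).op s = 0 := by
    have : S.presheaf.map (homOfLE (S.basicOpen_le (a x))).op =
        (Scheme.Opens.ι (X := S) D.support.compl).app (U x).1 ≫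
          S.presheaf.map (homOfLE hW).op := by
      rw [Scheme.Opens.ι_app]
      erw [← Functor.map_comp]
      rfl
    rw [this, CommRingCat.comp_apply]
    have hs' : (Scheme.Opens.ι (X := S) D.support.compl).app (U x).1 s = 0 := hs
    rw [hs']
    exact map_zero (S.presheaf.map (homOfLE hW).op).hom
  letI : Algebra Γ(S, (U x).1) Γ(S, S.basicOpen (a x)) :=
    (S.presheaf.map (homOfLE (S.basicOpen_le (a x))).op).hom.toAlgebra
  haveI : IsLocalization.Away (a x) Γ(S, S.basicOpen (a x)) := (U x).2.isLocalization_basicOpen (a x)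
  have hinj : Function.Injective (algebraMap Γ(S, (U x).1) Γ(S, S.basicOpen (a x))) :=
    IsLocalization.injective (M := Submonoid.powers (a x)) _
      (Submonoid.powers_le.mpr (ha x))
  exact hinj (by rw [map_zero]; exact h0)

end CC

end Groth.Agent.LD.QC
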