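import Groth.Agent.Lib.Lead.QC.SuppSES
import Groth.Agent.Lib.Lead.QC.SubExt
import Groth.Agent.Lib.Helper5.AG.TildeExact

/-! # Nonzero morphisms between quasi-coherent modules on an affine scheme. -/

set_option autoImplicit false
universe u
open CategoryTheory Limits Opposite AlgebraicGeometry TopologicalSpace

namespace Groth.Agent.LD.QC

section Restrict
variable {X Y : Scheme.{u}} (j : Y ⟶ X) [IsOpenImmersion j]

/-- stalks of a restriction along an open immersion. -/
theorem subsingleton_stalk_restrict_iff (M : X.Modules) (y : Y) :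
    Subsingleton ((M.restrict j).presheaf.stalk y) ↔ Subsingleton (M.presheaf.stalk (j y)) := by
  constructor
  · intro h
    apply subsingleton_of_forall_eq_zero
    intro m
    obtain ⟨W', hW', s, rfl⟩ := TopCat.Presheaf.exists_germ_eq M.presheaf m
    have hy : y ∈ j ⁻¹ᵁ W' := hW'
    have hle : j ''ᵁ (j ⁻¹ᵁ W') ≤ W' := j.image_preimage_le W'
    let s' : Γ(M.restrict j, j ⁻¹ᵁ W') := M.presheaf.map (homOfLE hle).op s
    have h0 : (M.restrict j).presheaf.germ (j ⁻¹ᵁ W') y hy s' = 0 := h.elim _ _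
    obtain ⟨W₂, hW₂, hyW₂, hz⟩ := exists_res_eq_zero_of_germ_eq_zero (M.restrict j) y hy s' h0
    have hle₂ : j ''ᵁ W₂ ≤ W' := by
      rintro _ ⟨z, hz', rfl⟩
      exact hW₂ hz'
    have hz' : M.presheaf.map (homOfLE hle₂).op s = 0 := by
      have : (M.restrict j).presheaf.map (homOfLE hW₂).op s' =
          M.presheaf.map (homOfLE hle₂).op s := by
        change M.presheaf.map (homOfLE _).op (M.presheaf.map (homOfLE hle).op s) = _
        rw [res_res]
      rw [← this]
      exact hz
    have hmem : j y ∈ j ''ᵁ W₂ := ⟨y, hyW₂, rfl⟩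
    rw [← TopCat.Presheaf.germ_res_apply M.presheaf (homOfLE hle₂) (j y) hmem s, hz']
    exact map_zero (M.presheaf.germ (j ''ᵁ W₂) (j y) hmem).hom
  · intro h
    apply subsingleton_of_forall_eq_zero
    intro m
    obtain ⟨W, hW, t, rfl⟩ := TopCat.Presheaf.exists_germ_eq (M.restrict j).presheaf m
    have hmem : j y ∈ j ''ᵁ W := ⟨y, hW, rfl⟩
    have h0 : M.presheaf.germ (j ''ᵁ W) (j y) hmem (show Γ(M, j ''ᵁ W) from t) = 0 := h.elim _ _
    obtain ⟨W', hW', hyW', hz⟩ := exists_res_eq_zero_of_germ_eq_zero M (j y) hmem _ h0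
    have hy₂ : y ∈ j ⁻¹ᵁ W' := hyW'
    have hle₂ : j ⁻¹ᵁ W' ≤ W := by
      intro z hz'
      obtain ⟨w, hw, hwz⟩ := hW' hz'
      rwa [← j.isOpenEmbedding.injective hwz]
    have hle₃ : j ''ᵁ (j ⁻¹ᵁ W') ≤ W' := j.image_preimage_le W'
    have hz' : (M.restrict j).presheaf.map (homOfLE hle₂).op t = 0 := by
      change M.presheaf.map (homOfLE _).op (show Γ(M, j ''ᵁ W) from t) = 0
      rw [← res_res M hW' hle₃, hz]
      exact map_zero (M.presheaf.map (homOfLE hle₃).op).hom
    rw [← TopCat.Presheaf.germ_res_apply (M.restrict j).presheaf (homOfLE hle₂) y hy₂ t, hz']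
    exact map_zero ((M.restrict j).presheaf.germ (j ⁻¹ᵁ W') y hy₂).hom

theorem mem_support_restrict_iff (M : X.Modules) (y : Y) :
    y ∈ CohB1.support (M.restrict j) ↔ j y ∈ CohB1.support M :=
  not_congr (subsingleton_stalk_restrict_iff j M y)

end Restrict


section Alg
open LinearMap Submodule

theorem exists_sub_nonzero_map {R : Type u} [CommRing R] [IsNoetherianRing R] (A B : Type u)
    [AddCommGroup A] [Module R A] [AddCommGroup B] [Module R B] [Nontrivial B]
    (h : Module.support R B ⊆ Module.support R A) :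
    ∃ (M₀ : Submodule R A) (g : M₀ →ₗ[R] B), g ≠ 0 := by
  obtain ⟨p, hp⟩ := associatedPrimes.nonempty R B
  rw [AssociatedPrimes.mem_iff, isAssociatedPrime_iff] at hp
  obtain ⟨hprime, n, hn⟩ := hp
  have hpS : (⟨p, hprime⟩ : PrimeSpectrum R) ∈ Module.support R B := by
    rw [Module.mem_support_iff_exists_annihilator]
    refine ⟨n, fun r hr => ?_⟩
    rw [Submodule.mem_annihilator_span_singleton] at hr
    change r ∈ p
    rw [hn, mem_colon_singleton, hr]
    exact Submodule.zero_mem _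
  obtain ⟨m, hm⟩ := Module.mem_support_iff_exists_annihilator.mp (h hpS)
  have hker : ker (toSpanSingleton R A m) ≤ ker (toSpanSingleton R B n) := by
    intro r hr
    rw [LinearMap.mem_ker, toSpanSingleton_apply] at hr ⊢
    have h1 : r ∈ p := hm ((Submodule.mem_annihilator_span_singleton m r).mpr hr)
    rw [hn, mem_colon_singleton] at h1
    exact (Submodule.mem_bot R).mp h1
  refine ⟨range (toSpanSingleton R A m),
    ((ker (toSpanSingleton R A m)).liftQ (toSpanSingleton R B n) hker) ∘ₗ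
      ((toSpanSingleton R A m).quotKerEquivRange).symm.toLinearMap, ?_⟩
  intro h0
  have h1 := LinearMap.congr_fun h0 ⟨toSpanSingleton R A m 1, ⟨1, rfl⟩⟩
  rw [LinearMap.comp_apply] at h1
  erw [LinearMap.quotKerEquivRange_symm_apply_image] at h1
  rw [Submodule.mkQ_apply, Submodule.liftQ_apply, toSpanSingleton_apply, one_smul, LinearMap.zero_apply] at h1
  apply hprime.ne_top
  rw [hn, h1]
  ext r
  simp [mem_colon_singleton]

end Alg

section Spec
variable {R : CommRingCat.{u}}

/-- the support of a quasi-coherent module on an affine scheme, algebraically. -/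
theorem spec_mem_support_iff (N : (Spec R).Modules) [N.IsQuasicoherent] (x : Spec R) :
    x ∈ CohB1.support N ↔ (x : PrimeSpectrum R) ∈ Module.support R (ΓM N) := by
  haveI : IsIso N.fromTildeΓ := inferInstance
  let e : tilde (ΓM N) ≅ N := asIso N.fromTildeΓ
  have h1 : Subsingleton (N.presheaf.stalk x) ↔ Subsingleton ((tilde (ΓM N)).presheaf.stalk x) := by
    let e' := (TopCat.Presheaf.stalkFunctor Ab x).mapIso
      ((Scheme.Modules.toPresheaf (Spec R)).mapIso e)
    exact ⟨fun h => e'.addCommGroupIsoToAddEquiv.toEquiv.subsingleton_congr.mpr h,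
      fun h => e'.addCommGroupIsoToAddEquiv.toEquiv.subsingleton_congr.mp h⟩
  have h2 : Subsingleton ((tilde (ΓM N)).presheaf.stalk x) ↔
      Subsingleton (LocalizedModule (x : PrimeSpectrum R).asIdeal.primeCompl (ΓM N)) := by
    let l := IsLocalizedModule.iso (x : PrimeSpectrum R).asIdeal.primeCompl
      (tilde.toStalk (ΓM N) x).hom
    exact l.toEquiv.subsingleton_congr.symm
  change ¬ Subsingleton (N.presheaf.stalk x) ↔ _
  rw [h1, h2, ← Module.notMem_support_iff, not_not]
  exact Iff.rfl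

/-- on a Noetherian affine scheme: if `Supp N_Q ⊆ Supp N_F` and `N_Q ≠ 0`, some quasi-coherent
submodule of `N_F` maps nontrivially to `N_Q`. -/
theorem exists_nonzero_hom_spec [IsNoetherianRing R] (NF NQ : (Spec R).Modules)
    [NF.IsQuasicoherent] [NQ.IsQuasicoherent] (hne : Nontrivial (ΓM NQ))
    (hsupp : Module.support R (ΓM NQ) ⊆ Module.support R (ΓM NF)) :
    ∃ (G : (Spec R).Modules) (_ : G.IsQuasicoherent) (i : G ⟶ NF) (_ : Mono i) (φ : G ⟶ NQ),
      φ ≠ 0 := by
  obtain ⟨M₀, g, hg⟩ := exists_sub_nonzero_map (R := R) (ΓM NF) (ΓM NQ) hsupp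
  haveI : IsIso NF.fromTildeΓ := inferInstance
  haveI : IsIso NQ.fromTildeΓ := inferInstance
  let ι₀ : ModuleCat.of R M₀ ⟶ ΓM NF := ModuleCat.ofHom (X := M₀) (Y := ↑(ΓM NF)) M₀.subtype
  haveI : Mono ι₀ := (ModuleCat.mono_iff_injective _).mpr (fun a b hab => M₀.injective_subtype hab)
  haveI : Mono (tilde.map ι₀) := Groth.Agent.H5.AG.tilde_map_mono ι₀
  refine ⟨tilde (ModuleCat.of R M₀), inferInstance, tilde.map ι₀ ≫ NF.fromTildeΓ, mono_comp _ _,
    tilde.map (ModuleCat.ofHom (X := M₀) (Y := ↑(ΓM NQ)) g) ≫ NQ.fromTildeΓ, ?_⟩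
  intro h0
  have h1 : tilde.map (ModuleCat.ofHom (X := M₀) (Y := ↑(ΓM NQ)) g) = 0 := by
    rw [← cancel_mono NQ.fromTildeΓ, h0, zero_comp]
  have h2 : ModuleCat.ofHom (X := M₀) (Y := ↑(ΓM NQ)) g = 0 :=
    (tilde.functor R).map_injective (h1.trans ((tilde.functor R).map_zero _ _).symm)
  apply hg
  have h3 := congrArg ModuleCat.Hom.hom h2
  exact h3

end Spec

end Groth.Agent.LD.QC
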