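import Groth.Agent.Lib.Lead.QC.CartierBC
universe u
open CategoryTheory Limits AlgebraicGeometry TopologicalSpace Opposite

namespace Groth.Agent.LD.QC

section Alg
variable {B : Type*} [CommRing B]

/-- if `I * J = (f)` with `f` a nonzerodivisor and `p` a prime, there are `x ∈ I`, `y ∈ J`,
`t ∉ p` with `x * y = f * t`. -/
theorem exists_mul_eq_of_mul_eq_span (I J : Ideal B) (f : B) (hf : f ∈ nonZeroDivisors B)
    (hIJ : I * J = Ideal.span {f}) (p : Ideal B) (hp : p ≠ ⊤) :
    ∃ x ∈ I, ∃ y ∈ J, ∃ t, t ∉ p ∧ x * y = f * t := by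
  by_contra hcon
  push Not at hcon
  have hle : I * J ≤ Ideal.span {f} * p := by
    rw [Ideal.mul_le]
    intro x hx y hy
    have hxy : x * y ∈ Ideal.span {f} := hIJ ▸ Ideal.mul_mem_mul hx hy
    obtain ⟨t, ht⟩ := Ideal.mem_span_singleton'.mp hxy
    have htp : t ∈ p := by
      by_contra htp
      exact hcon x hx y hy t htp (by rw [← ht, mul_comm])
    rw [← ht, mul_comm t f]
    exact Ideal.mul_mem_mul (Ideal.mem_span_singleton_self f) htp
  have hfm : f ∈ Ideal.span {f} * p := hle (hIJ ▸ Ideal.mem_span_singleton_self f)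
  obtain ⟨t, htp, ht⟩ := Ideal.mem_span_singleton_mul.mp hfm
  have h1 : t = 1 := by
    have : f * t = f * 1 := by rw [ht, mul_one]
    exact (mul_cancel_left_mem_nonZeroDivisors hf).mp this
  exact hp ((Ideal.eq_top_iff_one p).mpr (h1 ▸ htp))

end Alg

section Sch
variable {X : Scheme.{u}}

set_option maxHeartbeats 800000 in
/-- **a factor of an effective Cartier divisor is an effective Cartier divisor.** -/
theorem isEffCartierIdeal_of_mul_left (𝓘 𝓙 : X.IdealSheafData)
    (h : BlowUp.IsEffCartierIdeal (𝓘 * 𝓙)) : BlowUp.IsEffCartierIdeal 𝓘 := by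
  intro x
  obtain ⟨U, hxU, f, hf, hI⟩ := h x
  have hIJ : 𝓘.ideal U * 𝓙.ideal U = Ideal.span {f} := hI
  let p : Ideal Γ(X, U.1) :=
    (IsLocalRing.maximalIdeal (X.presheaf.stalk x)).comap (X.presheaf.germ U.1 x hxU).hom
  have hp : p ≠ ⊤ := by
    intro hp
    have h1 : (1 : Γ(X, U.1)) ∈ p := hp ▸ Submodule.mem_top
    have : (X.presheaf.germ U.1 x hxU).hom 1 ∈ IsLocalRing.maximalIdeal (X.presheaf.stalk x) := h1
    rw [map_one] at this
    exact (IsLocalRing.maximalIdeal (X.presheaf.stalk x)).ne_top_iff_one.mp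
      (IsLocalRing.maximalIdeal.isMaximal _).ne_top this
  obtain ⟨x₀, hx₀, y₀, hy₀, t, htp, hxy⟩ :=
    exists_mul_eq_of_mul_eq_span (𝓘.ideal U) (𝓙.ideal U) f hf hIJ p hp
  have hxt : x ∈ X.basicOpen t := by
    rw [Scheme.mem_basicOpen _ _ x hxU]
    by_contra hnu
    exact htp ((IsLocalRing.mem_maximalIdeal _).mpr hnu)
  let res := (X.presheaf.map (homOfLE (X.basicOpen_le t)).op).hom
  letI : Algebra Γ(X, U.1) Γ(X, X.basicOpen t) := res.toAlgebra
  haveI : IsLocalization.Away t Γ(X, X.basicOpen t) := U.2.isLocalization_basicOpen t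
  have htu : IsUnit (res t) := IsLocalization.Away.algebraMap_isUnit t
  have hfnz : res f ∈ nonZeroDivisors Γ(X, X.basicOpen t) :=
    IsLocalization.map_nonZeroDivisors_le (Submonoid.powers t) Γ(X, X.basicOpen t)
      (Submonoid.mem_map_of_mem _ hf)
  refine ⟨X.affineBasicOpen t, hxt, res x₀, ?_, ?_⟩
  · -- nonzerodivisor
    have hprod : res x₀ * res y₀ = res f * res t := by rw [← map_mul, ← map_mul, hxy]
    have : res x₀ * res y₀ ∈ nonZeroDivisors Γ(X, X.basicOpen t) := by
      rw [hprod]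
      exact mul_mem hfnz (IsUnit.mem_nonZeroDivisors htu)
    exact (mul_mem_nonZeroDivisors.mp this).1
  · rw [← 𝓘.map_ideal_basicOpen U t]
    change Ideal.map res (𝓘.ideal U) = Ideal.span {res x₀}
    apply le_antisymm
    · rw [Ideal.map_le_iff_le_comap]
      intro z hz
      have hzy : z * y₀ ∈ Ideal.span {f} := hIJ ▸ Ideal.mul_mem_mul hz hy₀
      obtain ⟨c, hc⟩ := Ideal.mem_span_singleton'.mp hzy
      -- z * t = x₀ * c
      have hzt : z * t = x₀ * c := by
        have : f * (z * t) = f * (x₀ * c) := by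
          calc f * (z * t) = z * (f * t) := by ring
            _ = z * (x₀ * y₀) := by rw [hxy]
            _ = x₀ * (z * y₀) := by ring
            _ = x₀ * (c * f) := by rw [hc]
            _ = f * (x₀ * c) := by ring
        exact (mul_cancel_left_mem_nonZeroDivisors hf).mp this
      change res z ∈ Ideal.span {res x₀}
      obtain ⟨u, hu⟩ := htu
      have : res z = res x₀ * (res c * ↑u⁻¹) := by
        have h2 : res z * res t = res x₀ * res c := by rw [← map_mul, ← map_mul, hzt]
        calc res z = res z * res t * ↑u⁻¹ := by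
              rw [mul_assoc, ← hu, Units.mul_inv, mul_one]
          _ = res x₀ * (res c * ↑u⁻¹) := by rw [h2, mul_assoc]
      rw [this]
      exact Ideal.mul_mem_right _ _ (Ideal.mem_span_singleton_self _)
    · rw [Ideal.span_singleton_le_iff_mem]
      exact Ideal.mem_map_of_mem _ hx₀

theorem isEffCartierIdeal_of_mul_right (𝓘 𝓙 : X.IdealSheafData)
    (h : BlowUp.IsEffCartierIdeal (𝓘 * 𝓙)) : BlowUp.IsEffCartierIdeal 𝓙 :=
  isEffCartierIdeal_of_mul_left 𝓙 𝓘 (mul_comm 𝓘 𝓙 ▸ h)

end Sch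

end Groth.Agent.LD.QC
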