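import Groth.Agent.Lib.Lead.QC.BlowUpBasic
import Groth.Agent.Lib.Lead.QC.CartierFactor
universe u
open CategoryTheory Limits AlgebraicGeometry TopologicalSpace Opposite

namespace Groth.Agent.LD.QC

section Mul
variable {X Y : Scheme.{u}}

/-- around any point of the source there are affine opens `V ⊆ g⁻¹ U`. -/
theorem exists_affine_chart (g : Y ⟶ X) (y : Y) :
    ∃ (U : X.affineOpens) (V : Y.affineOpens), y ∈ V.1 ∧ V.1 ≤ g ⁻¹ᵁ U.1 := by
  obtain ⟨U, hU, hyU, -⟩ := exists_isAffineOpen_mem_and_subset (x := g y) (U := (⊤ : X.Opens))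
    (Set.mem_univ _)
  obtain ⟨V, hV, hyV, e⟩ := exists_isAffineOpen_mem_and_subset (x := y) (U := g ⁻¹ᵁ U) hyU
  exact ⟨⟨U, hU⟩, ⟨V, hV⟩, hyV, e⟩

/-- **the inverse image of a product of ideal sheaves is the product of the inverse images.** -/
theorem comap_mul (𝓘 𝓙 : X.IdealSheafData) (g : Y ⟶ X) :
    (𝓘 * 𝓙).comap g = 𝓘.comap g * 𝓙.comap g := by
  choose U V hyV e using exists_affine_chart g
  apply Scheme.IdealSheafData.ext_of_iSup_eq_top V
  · exact top_le_iff.mp (fun y _ => by simpa using ⟨y, hyV y⟩)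
  intro y
  rw [ideal_comap_of_le _ g (U y) (V y) (e y)]
  change Ideal.map _ (𝓘.ideal (U y) * 𝓙.ideal (U y)) =
    (𝓘.comap g).ideal (V y) * (𝓙.comap g).ideal (V y)
  rw [Ideal.map_mul, ideal_comap_of_le _ g (U y) (V y) (e y),
    ideal_comap_of_le _ g (U y) (V y) (e y)]

/-- the product of two effective Cartier divisors is an effective Cartier divisor. -/
theorem isEffCartierIdeal_mul (D₁ D₂ : X.IdealSheafData) (h₁ : BlowUp.IsEffCartierIdeal D₁)
    (h₂ : BlowUp.IsEffCartierIdeal D₂) : BlowUp.IsEffCartierIdeal (D₁ * D₂) := by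
  intro x
  obtain ⟨U₁, hxU₁, -, a₁, ha₁, hI₁⟩ := exists_affine_principal_le D₁ h₁ x ⊤ (Set.mem_univ _)
  obtain ⟨U, hxU, hUU₁, a₂, ha₂, hI₂⟩ := exists_affine_principal_le D₂ h₂ x U₁.1 hxU₁
  obtain ⟨ha, hI⟩ := principal_res D₁ (U₀ := U₁) (U := U) hUU₁ a₁ ha₁ hI₁
  refine ⟨U, hxU, _ * a₂, mul_mem ha ha₂, ?_⟩
  change D₁.ideal U * D₂.ideal U = _
  rw [hI, hI₂, Ideal.span_singleton_mul_span_singleton]

end Mul

section BU
variable {X X' : Scheme.{u}} {𝓘 : X.IdealSheafData} {b : X' ⟶ X}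

/-- the blow-up is flat over the complement of the exceptional divisor. -/
theorem IsBlowUp.flat_compl (hb : BlowUp.IsBlowUp b 𝓘) :
    Flat ((b ⁻¹ᵁ 𝓘.support.compl).ι ≫ b) := by
  haveI := IsBlowUp.isIso_restrict_compl hb
  rw [← morphismRestrict_ι]
  infer_instance

set_option maxHeartbeats 1600000 in
/-- **nonzerodivisors stay nonzerodivisors on a blow-up.** -/
theorem IsBlowUp.map_mem_nonZeroDivisors (hb : BlowUp.IsBlowUp b 𝓘) (V : X.affineOpens)
    (V' : X'.affineOpens) (e : V'.1 ≤ b ⁻¹ᵁ V.1) (c : Γ(X', V'.1))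
    (hc : c ∈ nonZeroDivisors Γ(X', V'.1)) (hE : (𝓘.comap b).ideal V' = Ideal.span {c})
    (d : Γ(X, V.1)) (hd : d ∈ nonZeroDivisors Γ(X, V.1)) :
    b.appLE V.1 V'.1 e d ∈ nonZeroDivisors Γ(X', V'.1) := by
  haveI hfl := IsBlowUp.flat_compl hb
  set W : X'.Opens := b ⁻¹ᵁ 𝓘.support.compl with hW
  -- the basic open of `c` lies in `W`
  have hcW : X'.basicOpen c ≤ W := by
    intro z hz
    have hzV : z ∈ V'.1 := X'.basicOpen_le c hz
    change b z ∉ 𝓘.support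
    intro hbz
    have hzs : z ∈ (𝓘.comap b).support := by
      rw [Scheme.IdealSheafData.support_comap]
      exact hbz
    rw [Scheme.IdealSheafData.mem_support_iff_of_mem (U := V') hzV, hE,
      Scheme.zeroLocus_span, Scheme.zeroLocus_singleton] at hzs
    exact hzs hz
  have hcV : X'.basicOpen c ≤ V'.1 := X'.basicOpen_le c
  -- flatness of `Γ(X, V) → Γ(X', D(c))`
  have hflat : (b.appLE V.1 (X'.basicOpen c) (hcV.trans e)).hom.Flat := by
    have h1 : W.ι ⁻¹ᵁ (X'.basicOpen c) ≤ (W.ι ≫ b) ⁻¹ᵁ V.1 := fun z hz => e (hcV hz)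
    have h2 := HasRingHomProperty.appLE (P := @Flat) (W.ι ≫ b) hfl V
      ⟨W.ι ⁻¹ᵁ (X'.basicOpen c), (V'.2.basicOpen c).preimage_of_isOpenImmersion W.ι
        (by rw [Scheme.Opens.opensRange_ι]; exact hcW)⟩ h1
    have h3 : (W.ι ≫ b).appLE V.1 (W.ι ⁻¹ᵁ (X'.basicOpen c)) h1 =
        b.appLE V.1 (X'.basicOpen c) (hcV.trans e) ≫ W.ι.appLE (X'.basicOpen c)
          (W.ι ⁻¹ᵁ (X'.basicOpen c)) le_rfl := by
      rw [Scheme.Hom.appLE_comp_appLE]
    rw [h3] at h2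
    haveI : IsIso (W.ι.appLE (X'.basicOpen c) (W.ι ⁻¹ᵁ (X'.basicOpen c)) le_rfl) := by
      rw [Scheme.Hom.appLE_eq_app]
      exact Scheme.Hom.isIso_app W.ι _ (by rw [Scheme.Opens.opensRange_ι]; exact hcW)
    rw [CommRingCat.hom_comp] at h2
    exact (RingHom.Flat.respectsIso.cancel_right_isIso _ _).mp h2
  -- conclude
  letI : Algebra Γ(X, V.1) Γ(X', X'.basicOpen c) :=
    (b.appLE V.1 (X'.basicOpen c) (hcV.trans e)).hom.toAlgebra
  haveI : Module.Flat Γ(X, V.1) Γ(X', X'.basicOpen c) := hflat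
  have hnz : b.appLE V.1 (X'.basicOpen c) (hcV.trans e) d ∈
      nonZeroDivisors Γ(X', X'.basicOpen c) :=
    map_mem_nonZeroDivisors_of_flat (A := Γ(X, V.1)) (B := Γ(X', X'.basicOpen c)) hd
  letI : Algebra Γ(X', V'.1) Γ(X', X'.basicOpen c) :=
    (X'.presheaf.map (homOfLE hcV).op).hom.toAlgebra
  haveI : IsLocalization.Away c Γ(X', X'.basicOpen c) := V'.2.isLocalization_basicOpen c
  have hinj : Function.Injective (algebraMap Γ(X', V'.1) Γ(X', X'.basicOpen c)) :=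
    IsLocalization.injective (M := Submonoid.powers c) _ (Submonoid.powers_le.mpr hc)
  have hres : algebraMap Γ(X', V'.1) Γ(X', X'.basicOpen c) (b.appLE V.1 V'.1 e d) =
      b.appLE V.1 (X'.basicOpen c) (hcV.trans e) d := by
    change (X'.presheaf.map (homOfLE hcV).op) (b.appLE V.1 V'.1 e d) = _
    rw [← CommRingCat.comp_apply, Scheme.Hom.appLE_map]
  rw [mem_nonZeroDivisors_iff_right]
  intro z hz
  apply hinj
  rw [map_zero]
  apply (mem_nonZeroDivisors_iff_right.mp hnz)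
  rw [← hres, ← map_mul, hz, map_zero]

/-- **effective Cartier divisors pull back to effective Cartier divisors on a blow-up.** -/
theorem IsBlowUp.isEffCartierIdeal_comap (hb : BlowUp.IsBlowUp b 𝓘) (𝓓 : X.IdealSheafData)
    (h𝓓 : BlowUp.IsEffCartierIdeal 𝓓) : BlowUp.IsEffCartierIdeal (𝓓.comap b) := by
  intro x'
  obtain ⟨V, hxV, -, d, hd, hI⟩ := exists_affine_principal_le 𝓓 h𝓓 (b x') ⊤ (Set.mem_univ _)
  obtain ⟨V', hxV', e, c, hc, hE⟩ := exists_affine_principal_le (𝓘.comap b) hb.1 x'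
    (b ⁻¹ᵁ V.1) hxV
  refine ⟨V', hxV', b.appLE V.1 V'.1 e d,
    IsBlowUp.map_mem_nonZeroDivisors hb V V' e c hc hE d hd, ?_⟩
  rw [ideal_comap_of_le 𝓓 b V V' e, hI, Ideal.map_span, Set.image_singleton]

/-- **S8907**: a blow-up in `𝓘` is also a blow-up in `𝓘 * 𝓓` for an effective Cartier `𝓓`. -/
theorem IsBlowUp.mul_effCartier (hb : BlowUp.IsBlowUp b 𝓘) (𝓓 : X.IdealSheafData)
    (h𝓓 : BlowUp.IsEffCartierIdeal 𝓓) : BlowUp.IsBlowUp b (𝓘 * 𝓓) := by
  refine ⟨?_, ?_⟩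
  · rw [comap_mul]
    exact isEffCartierIdeal_mul _ _ hb.1 (IsBlowUp.isEffCartierIdeal_comap hb 𝓓 h𝓓)
  · intro Y g hg
    rw [comap_mul] at hg
    exact hb.2 Y g (isEffCartierIdeal_of_mul_left _ _ hg)

/-- **S1683**: blowing up `𝓘` and then the inverse image of `𝓙` is blowing up `𝓘 * 𝓙`. -/
theorem IsBlowUp.comp {X'' : Scheme.{u}} (hb : BlowUp.IsBlowUp b 𝓘) (𝓙 : X.IdealSheafData)
    (b' : X'' ⟶ X') (hb' : BlowUp.IsBlowUp b' (𝓙.comap b)) :
    BlowUp.IsBlowUp (b' ≫ b) (𝓘 * 𝓙) := by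
  refine ⟨?_, ?_⟩
  · rw [comap_mul, Scheme.IdealSheafData.comap_comp, Scheme.IdealSheafData.comap_comp]
    exact isEffCartierIdeal_mul _ _ (IsBlowUp.isEffCartierIdeal_comap hb' _ hb.1) hb'.1
  · intro Y g hg
    rw [comap_mul] at hg
    have h1 := isEffCartierIdeal_of_mul_left _ _ hg
    have h2 := isEffCartierIdeal_of_mul_right _ _ hg
    obtain ⟨k₁, hk₁, hu₁⟩ := hb.2 Y g h1
    have h2' : BlowUp.IsEffCartierIdeal ((𝓙.comap b).comap k₁) := by
      rw [← Scheme.IdealSheafData.comap_comp]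
      change BlowUp.IsEffCartierIdeal (𝓙.comap (k₁ ≫ b))
      rw [hk₁]
      exact h2
    obtain ⟨k₂, hk₂, hu₂⟩ := hb'.2 Y k₁ h2'
    refine ⟨k₂, ?_, ?_⟩
    · change k₂ ≫ b' ≫ b = g
      rw [← Category.assoc, hk₂, hk₁]
    · intro k hk
      apply hu₂
      apply hu₁
      rw [Category.assoc]
      exact hk

end BU

end Groth.Agent.LD.QC
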