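import Groth.Agent.Lib.Lead.QC.Disjoint
import Groth.Agent.Lib.Lead.QC.Fin
universe u
open CategoryTheory Limits AlgebraicGeometry TopologicalSpace Opposite

namespace Groth.Agent.LD.QC

/-- a module all of whose sections vanish is zero. -/
lemma isZero_of_subsingleton {X : Scheme.{u}} (M : X.Modules)
    (h : ∀ U : X.Opens, Subsingleton Γ(M, U)) : IsZero M := by
  rw [IsZero.iff_id_eq_zero]
  apply Scheme.Modules.hom_ext
  intro U
  ext m
  exact (h U).elim _ _

/-- `A ⊞ B ≅ A` when `B` is zero. -/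
noncomputable def biprodIsoOfIsZero {C : Type*} [Category C] [Preadditive C] [HasBinaryBiproducts C]
    (A B : C) (hB : IsZero B) : A ⊞ B ≅ A where
  hom := biprod.fst
  inv := biprod.inl
  hom_inv_id := by
    have h1 : (biprod.snd : A ⊞ B ⟶ B) = 0 := hB.eq_of_tgt _ _
    have h2 := biprod.total (X := A) (Y := B)
    rw [h1, zero_comp, add_zero] at h2
    exact h2
  inv_hom_id := biprod.inl_fst

/-- `A ⊞ B ≅ B` when `A` is zero. -/
noncomputable def biprodIsoOfIsZero' {C : Type*} [Category C] [Preadditive C]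
    [HasBinaryBiproducts C] (A B : C) (hA : IsZero A) : A ⊞ B ≅ B where
  hom := biprod.snd
  inv := biprod.inr
  hom_inv_id := by
    have h1 : (biprod.fst : A ⊞ B ⟶ A) = 0 := hA.eq_of_tgt _ _
    have h2 := biprod.total (X := A) (Y := B)
    rw [h1, zero_comp, zero_add] at h2
    exact h2
  inv_hom_id := biprod.inr_snd

variable (X X' : Scheme.{u})

/-- the module on a disjoint union with prescribed restrictions to the two pieces. -/
noncomputable def coprodMod (L : X.Modules) (L' : X'.Modules) : (X ⨿ X').Modules :=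
  (Scheme.Modules.pushforward (coprod.inl : X ⟶ X ⨿ X')).obj L ⊞
    (Scheme.Modules.pushforward (coprod.inr : X' ⟶ X ⨿ X')).obj L'

variable {X X'}

lemma isZero_restrict_inl_pushforward_inr (L' : X'.Modules) :
    IsZero (((Scheme.Modules.pushforward (coprod.inr : X' ⟶ X ⨿ X')).obj L').restrict
      (coprod.inl : X ⟶ X ⨿ X')) := by
  apply isZero_of_subsingleton
  intro U
  have hW : (coprod.inr : X' ⟶ X ⨿ X') ⁻¹ᵁ ((coprod.inl : X ⟶ X ⨿ X') ''ᵁ U) = ⊥ := by
    ext y
    simp only [Opens.coe_bot, Set.mem_empty_iff_false, iff_false]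
    rintro ⟨x, -, hx⟩
    exact inl_ne_inr _ _ x y hx
  exact ⟨fun a b => eq_of_eq_bot L' hW
    (show Γ(L', (coprod.inr : X' ⟶ X ⨿ X') ⁻¹ᵁ ((coprod.inl : X ⟶ X ⨿ X') ''ᵁ U)) from a) b⟩

lemma isZero_restrict_inr_pushforward_inl (L : X.Modules) :
    IsZero (((Scheme.Modules.pushforward (coprod.inl : X ⟶ X ⨿ X')).obj L).restrict
      (coprod.inr : X' ⟶ X ⨿ X')) := by
  apply isZero_of_subsingleton
  intro U
  have hW : (coprod.inl : X ⟶ X ⨿ X') ⁻¹ᵁ ((coprod.inr : X' ⟶ X ⨿ X') ''ᵁ U) = ⊥ := by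
    ext y
    simp only [Opens.coe_bot, Set.mem_empty_iff_false, iff_false]
    rintro ⟨x, -, hx⟩
    exact inr_ne_inl _ _ y x hx
  exact ⟨fun a b => eq_of_eq_bot L hW
    (show Γ(L, (coprod.inl : X ⟶ X ⨿ X') ⁻¹ᵁ ((coprod.inr : X' ⟶ X ⨿ X') ''ᵁ U)) from a) b⟩

noncomputable instance restrictFunctor_preservesBinaryBiproducts {X Y : Scheme.{u}} (f : X ⟶ Y)
    [IsOpenImmersion f] : PreservesBinaryBiproducts (Scheme.Modules.restrictFunctor f) :=
  preservesBinaryBiproducts_of_preservesBinaryCoproducts _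

/-- the restriction of `coprodMod L L'` to the first piece is `L`. -/
noncomputable def coprodModRestrictInl (L : X.Modules) (L' : X'.Modules) :
    (coprodMod X X' L L').restrict (coprod.inl : X ⟶ X ⨿ X') ≅ L :=
  (Scheme.Modules.restrictFunctor (coprod.inl : X ⟶ X ⨿ X')).mapBiprod _ _ ≪≫
    biprodIsoOfIsZero _ _ (isZero_restrict_inl_pushforward_inr L') ≪≫
    (Scheme.Modules.restrictFunctorAdjCounitIso (coprod.inl : X ⟶ X ⨿ X')).app L

/-- the restriction of `coprodMod L L'` to the second piece is `L'`. -/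
noncomputable def coprodModRestrictInr (L : X.Modules) (L' : X'.Modules) :
    (coprodMod X X' L L').restrict (coprod.inr : X' ⟶ X ⨿ X') ≅ L' :=
  (Scheme.Modules.restrictFunctor (coprod.inr : X' ⟶ X ⨿ X')).mapBiprod _ _ ≪≫
    biprodIsoOfIsZero' _ _ (isZero_restrict_inr_pushforward_inl L) ≪≫
    (Scheme.Modules.restrictFunctorAdjCounitIso (coprod.inr : X' ⟶ X ⨿ X')).app L'

end Groth.Agent.LD.QC
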