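import Groth.Agent.Lib.Lead.QC.LocalBase2
import Groth.Agent.Lib.Lead.QC.AmpleBasis2
import Groth.Agent.Lib.Lead.QC.PullInv
universe u
open CategoryTheory Limits AlgebraicGeometry TopologicalSpace Opposite

namespace Groth.Agent.LD.QC
variable {X : Scheme.{u}}

/-- if `a ⊗ e` is a basis of `A ⊗ B` and `e` is a basis of `B`, then `a` is a basis of the
invertible module `A`. -/
theorem IsBasisOver.of_tmul {A B : X.Modules} (hA : PicF.IsInvertible A) {V : X.Opens}
    {a : Γ(A, V)} {e : Γ(B, V)} (he : IsBasisOver B V e)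
    (h : IsBasisOver (CohB1.tensorMod A B) V (SecTwist.tmul A B V a e)) : IsBasisOver A V a := by
  apply isBasisOver_of_local
  intro x hx W hxW
  obtain ⟨U', α, hU', hxU', hU'le, hα⟩ := exists_affine_basis A hA x (V ⊓ W) ⟨hx, hxW⟩
  have hU'V : U' ≤ V := hU'le.trans inf_le_left
  obtain ⟨c, hc⟩ := hα.exists_coord (A.presheaf.map (homOfLE hU'V).op a)
  have h1 := h.mono hU'V
  rw [tmul_res, hc, tmul_smul_left] at h1
  have h2 := hα.tmul (he.mono hU'V)
  have hu := (h2.smul_iff c).mp h1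
  have h3 := (hα.smul_iff c).mpr hu
  rw [← hc] at h3
  refine ⟨U', hU'V, hxU', hU'le.trans inf_le_right, ?_⟩
  have h4 := h3 U' le_rfl
  simp only [res_self] at h4
  exact h4

/-- **a section over `X_s` of an invertible module `N` extends, after twisting by a power of `s`,
to a global section whose generating locus is the generating locus of the original section**
(`X` quasi-compact and quasi-separated). -/
theorem exists_genLocus_eq_image_twist [CompactSpace X] [QuasiSeparatedSpace X] (M : X.Modules)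
    (hM : PicF.IsInvertible M) (s : unitMod X ⟶ M) (N : X.Modules) (hN : PicF.IsInvertible N)
    (σ : unitMod (CohB1.genLocus M s) ⟶ N.restrict (CohB1.genLocus M s).ι) :
    ∃ (n : ℕ) (T : unitMod X ⟶ CohB1.tensorMod (CohB1.tensorMod N (CohB1.tensorPow M n)) M),
      CohB1.genLocus _ T = (CohB1.genLocus M s).ι ''ᵁ CohB1.genLocus _ σ := by
  haveI : M.IsQuasicoherent := qc_of_isInvertible M hM
  haveI : N.IsQuasicoherent := qc_of_isInvertible N hN
  let U := CohB1.genLocus M s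
  let j := U.ι
  let t' : Γ(N, j ''ᵁ ⊤) := sectionOfHom σ
  have himg : j ''ᵁ ⊤ = U := U.ι_image_top
  let t₀ : Γ(N, U) := N.presheaf.map (homOfLE himg.ge).op t'
  obtain ⟨n, -, τ, hτ⟩ := exists_extension_twist M hM s N t₀
  let T₀ : unitMod X ⟶ CohB1.tensorMod N (CohB1.tensorPow M n) := homOfSection _ τ
  refine ⟨n, SecTwist.tmulHom T₀ s, ?_⟩
  rw [genLocus_tmulHom (isInvertible_tensorMod hN (isInvertible_tensorPow hM n)) hM]
  have hvalT : ∀ (V : X.Opens) (hV : V ≤ U), SecTwist.val T₀ V =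
      SecTwist.tmul N (CohB1.tensorPow M n) V (N.presheaf.map (homOfLE hV).op t₀)
        (secPow (SecTwist.val s V) n) := by
    intro V hV
    rw [val_homOfSection, ← res_res _ (le_top : U ≤ ⊤) hV τ, hτ, twist_res]
    change SecTwist.tmul N (CohB1.tensorPow M n) V _ (SecTwist.pow s n V) = _
    rw [pow_eq_secPow]
  have key : ∀ (V : X.Opens) (hV : V ≤ U),
      IsBasisOver (CohB1.tensorMod N (CohB1.tensorPow M n)) V (SecTwist.val T₀ V) ↔ IsBasisOver N V (N.presheaf.map (homOfLE hV).op t₀) := by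
    intro V hV
    rw [hvalT V hV]
    have hb := (isBasisOver_val_of_le s hV).secPow n
    exact ⟨fun h => IsBasisOver.of_tmul hN hb h, fun h => h.tmul hb⟩
  have hval : ∀ W : U.toScheme.Opens,
      (show Γ(N, j ''ᵁ W) from SecTwist.val σ W) =
        N.presheaf.map (homOfLE (U.ι_image_le W)).op t₀ := by
    intro W
    rw [val_restrict_eq N j σ W]
    change _ = N.presheaf.map _ (N.presheaf.map _ t')
    rw [res_res]
  ext y
  constructor
  · rintro ⟨hy, hyr⟩
    obtain ⟨V, hyV, hV⟩ := (mem_genLocus_iff _ _ y).mp hy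
    have hV' := hV.mono (inf_le_left : V ⊓ U ≤ V)
    rw [val_res] at hV'
    rw [key _ inf_le_right] at hV'
    let y' : U.toScheme := ⟨y, hyr⟩
    refine ⟨y', ?_, rfl⟩
    refine (mem_genLocus_iff _ σ y').mpr ⟨j ⁻¹ᵁ (V ⊓ U), ⟨hyV, hyr⟩, ?_⟩
    have hle2 : j ''ᵁ (j ⁻¹ᵁ (V ⊓ U)) ≤ V ⊓ U := by
      rintro _ ⟨z, hz, rfl⟩; exact hz
    have h3 := hV'.mono hle2
    rw [res_res] at h3
    have h4 := (isBasisOver_restrict_iff j N (j ⁻¹ᵁ (V ⊓ U))
      (show Γ(N, j ''ᵁ (j ⁻¹ᵁ (V ⊓ U))) from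
        SecTwist.val σ (j ⁻¹ᵁ (V ⊓ U)))).mpr (by rw [hval]; exact h3)
    exact h4
  · rintro ⟨y', hy', rfl⟩
    obtain ⟨W, hyW, hW⟩ := (mem_genLocus_iff _ _ y').mp hy'
    have h1 := (isBasisOver_restrict_iff j N W
      (show Γ(N, j ''ᵁ W) from SecTwist.val σ W)).mp hW
    rw [hval] at h1
    rw [← key] at h1
    exact ⟨(mem_genLocus_iff _ _ _).mpr ⟨j ''ᵁ W, ⟨y', hyW, rfl⟩, h1⟩, y'.2⟩

end Groth.Agent.LD.QC
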