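import Groth.Agent.Lib.Lead.QC.BlowUpMul
import Groth.Prelude.Def_MeroSh
universe u
open CategoryTheory Limits AlgebraicGeometry TopologicalSpace Opposite

namespace Groth.Agent.LD.QC

section Reg
variable {X X' : Scheme.{u}}

/-- a section all of whose germs are nonzerodivisors is a nonzerodivisor. -/
theorem mem_nonZeroDivisors_of_germ (V : X.Opens) (s : Γ(X, V))
    (h : ∀ x (hx : x ∈ V), X.presheaf.germ V x hx s ∈ nonZeroDivisors (X.presheaf.stalk x)) :
    s ∈ nonZeroDivisors Γ(X, V) := by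
  rw [mem_nonZeroDivisors_iff_right]
  intro z hz
  refine TopCat.Presheaf.section_ext X.sheaf V z 0 (fun x hx => ?_)
  have h0 : X.presheaf.germ V x hx z = 0 := by
    apply (mem_nonZeroDivisors_iff_right.mp (h x hx))
    have : X.presheaf.germ V x hx z * X.presheaf.germ V x hx s = X.presheaf.germ V x hx (z * s) :=
      (map_mul (X.presheaf.germ V x hx).hom z s).symm
    rw [this, hz]
    exact map_zero (X.presheaf.germ V x hx).hom
  exact h0.trans (map_zero (X.presheaf.germ V x hx).hom).symm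

/-- germs of a nonzerodivisor on an affine open are nonzerodivisors. -/
theorem germ_mem_nonZeroDivisors {V : X.Opens} (hV : IsAffineOpen V) (t : Γ(X, V))
    (ht : t ∈ nonZeroDivisors Γ(X, V)) (x : X) (hx : x ∈ V) :
    X.presheaf.germ V x hx t ∈ nonZeroDivisors (X.presheaf.stalk x) := by
  letI : Algebra Γ(X, V) (X.presheaf.stalk x) :=
    TopCat.Presheaf.algebra_section_stalk X.presheaf ⟨x, hx⟩
  haveI := hV.isLocalization_stalk ⟨x, hx⟩
  exact IsLocalization.map_nonZeroDivisors_le (hV.primeIdealOf ⟨x, hx⟩).asIdeal.primeCompl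
    (X.presheaf.stalk x) (Submonoid.mem_map_of_mem _ ht)

variable {𝓘 : X.IdealSheafData} {b : X' ⟶ X}

set_option maxHeartbeats 800000 in
/-- **regular sections pull back to regular sections on a blow-up.** -/
theorem IsBlowUp.app_mem_regSub (hb : BlowUp.IsBlowUp b 𝓘) (U : X.Opens) (s : Γ(X, U))
    (hs : s ∈ Mero.regSub X U) : b.app U s ∈ Mero.regSub X' (b ⁻¹ᵁ U) := by
  rintro ⟨x', hx'⟩
  change X'.presheaf.germ (b ⁻¹ᵁ U) x' hx' (b.app U s) ∈ _
  obtain ⟨V, hV, hxV, hVU0⟩ := exists_isAffineOpen_mem_and_subset (x := b x') (U := U) hx'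
  have hVU : V ≤ U := hVU0
  obtain ⟨V', hxV', e, c, hc, hE⟩ := exists_affine_principal_le (𝓘.comap b) hb.1 x'
    (b ⁻¹ᵁ V) hxV
  have hsV : X.presheaf.map (homOfLE hVU).op s ∈ nonZeroDivisors Γ(X, V) := by
    apply mem_nonZeroDivisors_of_germ
    intro x hx
    rw [TopCat.Presheaf.germ_res_apply]
    exact hs ⟨x, hVU hx⟩
  have h1 := IsBlowUp.map_mem_nonZeroDivisors hb ⟨V, hV⟩ V' e c hc hE _ hsV
  have h2 := germ_mem_nonZeroDivisors V'.2 _ h1 x' hxV'
  have h3 : X'.presheaf.germ V'.1 x' hxV' (b.appLE V V'.1 e (X.presheaf.map (homOfLE hVU).op s)) =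
      X'.presheaf.germ (b ⁻¹ᵁ U) x' hx' (b.app U s) := by
    have hle : V'.1 ≤ b ⁻¹ᵁ U := fun z hz => hVU (e hz)
    have : b.appLE V V'.1 e (X.presheaf.map (homOfLE hVU).op s) =
        X'.presheaf.map (homOfLE hle).op (b.app U s) := by
      rw [← CommRingCat.comp_apply, Scheme.Hom.map_appLE, Scheme.Hom.appLE, CommRingCat.comp_apply]
    rw [this, TopCat.Presheaf.germ_res_apply]
  rw [← h3]
  exact h2

end Reg

end Groth.Agent.LD.QC
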