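import Groth.Agent.Lib.Lead.QC.Push
import Groth.Agent.Lib.Lead.QC.SpecHom
import Groth.Agent.Lib.Lead.QC.SuppSES
import Groth.Agent.Lib.Lead.QC.Closure
import Groth.Prelude.Def_QCohCat
import Groth.Prelude.Def_CohB1

/-! # Restriction to a retrocompact open is a localization of `QCoh`. -/

universe u
open CategoryTheory Limits AlgebraicGeometry TopologicalSpace Opposite

namespace Groth.Agent.LD.QC

variable {X : Scheme.{u}}

theorem isZero_restrict_iff (U : X.Opens) (M : X.Modules) :
    IsZero ((Scheme.Modules.restrictFunctor U.ι).obj M) ↔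
      CohB1.support M ⊆ ((↑U : Set X))ᶜ := by
  constructor
  · intro h x hx hxU
    have h1 : CohB1.support (M.restrict U.ι) = ∅ := support_eq_empty_of_isZero h
    have h2 : (⟨x, hxU⟩ : U) ∈ CohB1.support (M.restrict U.ι) :=
      (mem_support_restrict_iff U.ι M ⟨x, hxU⟩).mpr hx
    rw [h1] at h2
    exact h2
  · intro h
    apply isZero_of_support_eq_empty
    ext y
    simp only [Set.mem_empty_iff_false, iff_false]
    intro hy
    have h3 := (mem_support_restrict_iff U.ι M y).mp hy
    exact h h3 y.2

theorem isIso_restrict_map_iff (U : X.Opens) {A B : X.Modules} (f : A ⟶ B) :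
    IsIso ((Scheme.Modules.restrictFunctor U.ι).map f) ↔
      CohB1.support (kernel f) ⊆ ((↑U : Set X))ᶜ ∧
        CohB1.support (cokernel f) ⊆ ((↑U : Set X))ᶜ := by
  rw [← isZero_restrict_iff, ← isZero_restrict_iff]
  have eK : (Scheme.Modules.restrictFunctor U.ι).obj (kernel f) ≅
      kernel ((Scheme.Modules.restrictFunctor U.ι).map f) :=
    PreservesKernel.iso (Scheme.Modules.restrictFunctor U.ι) f
  have eC : (Scheme.Modules.restrictFunctor U.ι).obj (cokernel f) ≅
      cokernel ((Scheme.Modules.restrictFunctor U.ι).map f) :=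
    PreservesCokernel.iso (Scheme.Modules.restrictFunctor U.ι) f
  constructor
  · intro h
    exact ⟨IsZero.of_iso (isZero_kernel_of_mono _) eK, IsZero.of_iso (isZero_cokernel_of_epi _) eC⟩
  · rintro ⟨hK, hC⟩
    haveI : Mono ((Scheme.Modules.restrictFunctor U.ι).map f) :=
      Preadditive.mono_of_isZero_kernel _ (IsZero.of_iso hK eK.symm)
    haveI : Epi ((Scheme.Modules.restrictFunctor U.ι).map f) :=
      Preadditive.epi_of_isZero_cokernel _ (IsZero.of_iso hC eC.symm)
    exact isIso_of_mono_of_epi _

/-- **restriction `QCoh(X) ⥤ QCoh(U)` to a retrocompact open is the localization at the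
morphisms whose kernel and cokernel are supported off `U`.** -/
theorem restrict_isLocalization (U : X.Opens) [QuasiCompact U.ι] :
    (ObjectProperty.lift (QCohCat.isQCoh (↑U : Scheme.{u}))
        (ObjectProperty.ι (QCohCat.isQCoh X) ⋙ Scheme.Modules.restrictFunctor U.ι)
        (fun M => @Scheme.Modules.isQuasicoherent_restrictFunctor (↑U : Scheme.{u}) X U.ι
          inferInstance M.obj M.property)).IsLocalization
      (fun (A B : QCohCat.QCoh X) (f : A ⟶ B) =>
        CohB1.support (kernel f.hom) ⊆ ((↑U : Set X))ᶜ ∧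
          CohB1.support (cokernel f.hom) ⊆ ((↑U : Set X))ᶜ) := by
  let PX := QCohCat.isQCoh X
  let PU := QCohCat.isQCoh (↑U : Scheme.{u})
  let L : QCohCat.QCoh X ⥤ QCohCat.QCoh (↑U : Scheme.{u}) :=
    PU.lift (PX.ι ⋙ Scheme.Modules.restrictFunctor U.ι)
      (fun M => @Scheme.Modules.isQuasicoherent_restrictFunctor (↑U : Scheme.{u}) X U.ι
          inferInstance M.obj M.property)
  let R : QCohCat.QCoh (↑U : Scheme.{u}) ⥤ QCohCat.QCoh X :=
    PX.lift (PU.ι ⋙ Scheme.Modules.pushforward U.ι) (fun M => by
      haveI : M.obj.IsQuasicoherent := M.property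
      exact qc_pushforward U.ι M.obj)
  let adj : L ⊣ R := (Scheme.Modules.restrictAdjunction U.ι).restrictFullyFaithful
    PX.fullyFaithfulι PU.fullyFaithfulι (PU.liftCompιIso _ _).symm (PX.liftCompιIso _ _).symm
  haveI : R.Full := inferInstance
  haveI : R.Faithful := inferInstance
  have hloc : L.IsLocalization ((MorphismProperty.isomorphisms _).inverseImage L) :=
    adj.isLocalization
  have hW : (fun (A B : QCohCat.QCoh X) (f : A ⟶ B) =>
        CohB1.support (kernel f.hom) ⊆ ((↑U : Set X))ᶜ ∧
          CohB1.support (cokernel f.hom) ⊆ ((↑U : Set X))ᶜ) =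
      (MorphismProperty.isomorphisms _).inverseImage L := by
    ext A B f
    rw [← isIso_restrict_map_iff]
    show IsIso ((Scheme.Modules.restrictFunctor U.ι).map f.hom) ↔ IsIso (L.map f)
    constructor
    · intro h
      exact ⟨⟨ObjectProperty.homMk (inv ((Scheme.Modules.restrictFunctor U.ι).map f.hom)),
        by apply ObjectProperty.hom_ext; exact IsIso.hom_inv_id ((Scheme.Modules.restrictFunctor U.ι).map f.hom),
        by apply ObjectProperty.hom_ext; exact IsIso.inv_hom_id ((Scheme.Modules.restrictFunctor U.ι).map f.hom)⟩⟩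
    · intro h
      haveI := h
      exact Functor.map_isIso PU.ι (L.map f)
  rw [hW]
  exact hloc

end Groth.Agent.LD.QC
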