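import Groth.Agent.Lib.Lead.QC.CartierDense
import Mathlib.RingTheory.Ideal.MinimalPrime.Localization
universe u
open CategoryTheory Limits AlgebraicGeometry TopologicalSpace Opposite Topology

namespace Groth.Agent.LD.QC

section Alg
variable {R : Type*} [CommRing R]

/-- in a reduced ring an element outside all minimal primes is a nonzerodivisor. -/
theorem mem_nonZeroDivisors_of_notMem_minimalPrimes [IsReduced R] (c : R)
    (h : ∀ p ∈ minimalPrimes R, c ∉ p) : c ∈ nonZeroDivisors R := by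
  rw [mem_nonZeroDivisors_iff_right]
  intro z hz
  have hz' : z ∈ (⊥ : Ideal R).radical := by
    rw [← Ideal.sInf_minimalPrimes, Ideal.mem_sInf]
    intro p hp
    have hpp : p.IsPrime := Ideal.minimalPrimes_isPrime hp
    have : z * c ∈ p := by rw [hz]; exact zero_mem _
    exact (hpp.mem_or_mem this).resolve_right (h p hp)
  have hnil : (⊥ : Ideal R).radical = ⊥ := by
    have := nilradical_eq_zero R
    rwa [nilradical] at this
  rw [hnil] at hz'
  exact hz'

end Alg

section Sch
variable {X Y : Scheme.{u}}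

/-- the point of an affine open corresponding to a minimal prime is a maximal point. -/
theorem maximal_fromSpec_of_minimalPrimes {V : X.Opens} (hV : IsAffineOpen V)
    (p : PrimeSpectrum Γ(X, V)) (hp : p.asIdeal ∈ minimalPrimes Γ(X, V)) :
    ∀ y : X, y ⤳ hV.fromSpec p → y = hV.fromSpec p := by
  intro y hy
  have hyV : y ∈ V := hy.mem_open V.isOpen (fromSpec_mem hV p)
  have hyq : hV.fromSpec (hV.primeIdealOf ⟨y, hyV⟩) = y := hV.fromSpec_primeIdealOf ⟨y, hyV⟩
  rw [← hyq] at hy ⊢
  have hspec := (hV.fromSpec.isOpenEmbedding.isInducing.specializes_iff).mp hy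
  have hle := (PrimeSpectrum.le_iff_specializes _ _).mpr hspec
  rw [minimalPrimes_eq_minimals] at hp
  have := hp.2 (hV.primeIdealOf ⟨y, hyV⟩).2 hle
  have heq : hV.primeIdealOf ⟨y, hyV⟩ = p := by
    ext1
    exact le_antisymm hle this
  rw [heq]

set_option maxHeartbeats 800000 in
/-- **S8862**: on a reduced scheme, the inverse image of an effective Cartier divisor not
containing the image of any maximal point is an effective Cartier divisor. -/
theorem isEffCartierIdeal_comap_of_reduced [IsReduced X] (f : X ⟶ Y) (𝓘 : Y.IdealSheafData)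
    (hD : BlowUp.IsEffCartierIdeal 𝓘)
    (h : ∀ ξ : X, (∀ y : X, y ⤳ ξ → y = ξ) → f ξ ∉ 𝓘.support) :
    BlowUp.IsEffCartierIdeal (𝓘.comap f) := by
  intro x'
  obtain ⟨U, V, e, d, hxV, hd, hIU, hc⟩ := locPrincipal_comap 𝓘 hD f x'
  refine ⟨V, hxV, _, ?_, hc⟩
  apply mem_nonZeroDivisors_of_notMem_minimalPrimes
  intro p hp hcp
  let p' : PrimeSpectrum Γ(X, V.1) := ⟨p, Ideal.minimalPrimes_isPrime hp⟩
  have hmax := maximal_fromSpec_of_minimalPrimes V.2 p' hp
  have hξV : V.2.fromSpec p' ∈ V.1 := fromSpec_mem V.2 p'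
  have hfξ := h _ hmax
  have hfU : f (V.2.fromSpec p') ∈ U.1 := e hξV
  rw [Scheme.IdealSheafData.mem_support_iff_of_mem (U := U) hfU, hIU,
    Scheme.zeroLocus_span, Scheme.zeroLocus_singleton] at hfξ
  have hfξ' : f (V.2.fromSpec p') ∈ Y.basicOpen d := by simpa using hfξ
  have h1 : V.2.fromSpec p' ∈ X.basicOpen (f.appLE U.1 V.1 e d) := by
    rw [Scheme.Hom.appLE, CommRingCat.comp_apply, Scheme.basicOpen_res]
    refine ⟨hξV, ?_⟩
    rw [← Scheme.preimage_basicOpen]
    exact hfξ'
  have h2 : p' ∈ (V.2.fromSpec ⁻¹ᵁ X.basicOpen (f.appLE U.1 V.1 e d) :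
      (Spec Γ(X, V.1)).Opens) := h1
  rw [V.2.fromSpec_preimage_basicOpen] at h2
  exact h2 hcp

end Sch

end Groth.Agent.LD.QC
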