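import Groth.Agent.Lib.Lead.QC.BlowUpProps
import Mathlib.AlgebraicGeometry.Noetherian
universe u
open CategoryTheory Limits AlgebraicGeometry TopologicalSpace Opposite

namespace Groth.Agent.LD.QC

section BD
variable {X X' : Scheme.{u}} {𝓘 : X.IdealSheafData} {π : X' ⟶ X}

/-- **S17887**: the preimage of a schematically dense open avoiding the centre is schematically
dense in the blow-up. -/
theorem IsBlowUp.isSchemeTheoreticallyDominant_preimage (hπ : BlowUp.IsBlowUp π 𝓘)
    (U : X.Opens) [IsSchemeTheoreticallyDominant U.ι] [QuasiCompact U.ι]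
    (hU : Disjoint (𝓘.support : Set X) (U : Set X)) :
    IsSchemeTheoreticallyDominant (π ⁻¹ᵁ U).ι := by
  haveI := IsBlowUp.isOpenImmersion_compl hπ
  haveI := IsBlowUp.isAffineHom_compl hπ
  haveI := IsBlowUp.isSchemeTheoreticallyDominant_compl hπ
  set W' : X'.Opens := π ⁻¹ᵁ 𝓘.support.compl with hW'
  set j : (W' : Scheme) ⟶ X := W'.ι ≫ π with hj
  have H := isPullback_morphismRestrict j U
  haveI : IsSchemeTheoreticallyDominant (j ⁻¹ᵁ U).ι := IsSchemeTheoreticallyDominant.of_isPullback H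
  have hrange : Set.range (π ⁻¹ᵁ U).ι = Set.range ((j ⁻¹ᵁ U).ι ≫ W'.ι) := by
    rw [Scheme.Opens.range_ι]
    ext x'
    constructor
    · intro hx'
      have hxW : x' ∈ W' := by
        change π x' ∉ 𝓘.support
        intro hs
        exact (Set.disjoint_left.mp hU) hs hx'
      exact ⟨⟨⟨x', hxW⟩, hx'⟩, rfl⟩
    · rintro ⟨⟨⟨z, hz⟩, hzU⟩, rfl⟩
      exact hzU
  rw [← IsOpenImmersion.isoOfRangeEq_hom_fac (π ⁻¹ᵁ U).ι ((j ⁻¹ᵁ U).ι ≫ W'.ι) hrange]
  infer_instance

end BD

end Groth.Agent.LD.QC
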