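import Groth.Agent.Lib.Lead.QC.CartierBC
universe u
open CategoryTheory Limits AlgebraicGeometry TopologicalSpace Opposite

namespace Groth.Agent.LD.QC

section CL
variable {X Y : Scheme.{u}}

/-- if the inverse image of an effective Cartier divisor contains an effective Cartier divisor,
it is an effective Cartier divisor. -/
theorem isEffCartierIdeal_comap_of_le (I : X.IdealSheafData) (J : Y.IdealSheafData)
    (hI : BlowUp.IsEffCartierIdeal I) (hJ : BlowUp.IsEffCartierIdeal J) (f : X ⟶ Y)
    (h : I ≤ J.comap f) : BlowUp.IsEffCartierIdeal (J.comap f) := by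
  intro x
  obtain ⟨U, hfxU, -, d, hd, hJU⟩ := exists_affine_principal_le J hJ (f x) ⊤ (Set.mem_univ _)
  obtain ⟨V, hxV, e, c, hc, hIV⟩ := exists_affine_principal_le I hI x (f ⁻¹ᵁ U.1) hfxU
  have hJV : (J.comap f).ideal V = Ideal.span {f.appLE U.1 V.1 e d} := by
    rw [ideal_comap_of_le J f U V e, hJU, Ideal.map_span, Set.image_singleton]
  refine ⟨V, hxV, f.appLE U.1 V.1 e d, ?_, hJV⟩
  have hcm : c ∈ (J.comap f).ideal V := h V (hIV ▸ Ideal.mem_span_singleton_self c)
  rw [hJV] at hcm
  obtain ⟨t, ht⟩ := Ideal.mem_span_singleton'.mp hcm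
  rw [← ht] at hc
  exact (mul_mem_nonZeroDivisors.mp hc).2

end CL

end Groth.Agent.LD.QC
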