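import Mathlib
import Groth.Prelude.Def_PerfAux
import Groth.Prelude.Def_RefHull
import Groth.Agent.Lib.Lead.QC.ProjFormula
import Groth.Agent.Lib.Lead.QC.LocFree3
import Groth.Agent.Lib.Lead.QC.PullbackUnit
import Groth.Agent.Lib.Lead.QC.EpiLocal
import Groth.Agent.Lib.Lead.QC.AModPush
import Groth.Agent.Lib.Lead.QC.Pullback
import Groth.Agent.Lib.Lead.QC.TensorQC
import Groth.Agent.Lib.Lead.QC.FinType
import Groth.Agent.Lib.Lead.QC.StalkNbhd
import Groth.Agent.Lib.Lead.QC.FreeData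
import Groth.Agent.Lib.Lead.QC.Closure
import Groth.Agent.Lib.Lead.QC.SheafIso
import Groth.Agent.Lib.Helper2.HomSh4

/-!
# The resolution property descends along finite locally free surjective morphisms

For `f : X ⟶ Y` finite, flat, locally of finite presentation and surjective, with
`A = f_* O_X`, every quasi-coherent `O_Y`-module of finite type `M` is a quotient of
`A ⊗ 𝓗om(A, M)` (evaluation), which by the projection formula for the affine morphism `f` is
`f_* (f^* 𝓗om(A, M))`; a finite locally free quotient presentation on `X` pushes forward to one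
on `Y`.
-/

universe u
open CategoryTheory Limits AlgebraicGeometry TopologicalSpace Opposite TensorProduct

namespace Groth.Agent.LD.ResDesc

open Groth.Agent.LD.QC Groth.Agent.H2

/-! ### algebra -/

/-- linear maps out of a finitely presented flat module into a finite module form a finite
module. -/
lemma finite_linearMap_of_fp_flat {R P N : Type*} [CommRing R] [AddCommGroup P] [Module R P]
    [AddCommGroup N] [Module R N] [Module.FinitePresentation R P] [Module.Flat R P]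
    [Module.Finite R N] : Module.Finite R (P →ₗ[R] N) := by
  obtain ⟨k, i, p, hip⟩ :=
    Module.Flat.exists_factorization_of_finitePresentation (LinearMap.id : P →ₗ[R] P)
  have hs : Function.Surjective (LinearMap.lcomp R N i) := by
    intro g
    refine ⟨g ∘ₗ p, ?_⟩
    ext x
    rw [LinearMap.lcomp_apply, LinearMap.comp_apply]
    have h1 : p (i x) = x := by
      have := congrArg (fun h : P →ₗ[R] P => h x) hip
      simpa using this.symm
    rw [h1]
  exact Module.Finite.of_surjective (LinearMap.lcomp R N i) hs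

/-! ### the sheaf Hom out of a finite locally free module -/

section Hom
variable {Y : Scheme.{u}}

/-- `𝓗om(A, M)` is quasi-coherent of finite type for `A` finite locally free and `M`
quasi-coherent of finite type. -/
theorem qc_ft_homSh (A M : Y.Modules) (hA : FlatMod.IsFinLocFree A) [M.IsQuasicoherent]
    (hM : M.IsFiniteType) :
    (RefHull.homSh A M).IsQuasicoherent ∧ (RefHull.homSh A M).IsFiniteType := by
  haveI := qc_of_isFinLocFree A hA
  have hfp := isFinitePresentation_of_isFinLocFree A hA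
  haveI hq : (RefHull.homSh A M).IsQuasicoherent := HomSh.qc_homSh hfp
  refine ⟨hq, ?_⟩
  rw [isFiniteType_iff_finite_sections]
  intro U hU
  obtain ⟨h1, h2⟩ := (isFinLocFree_iff_sections A).mp hA U hU
  haveI := h1
  haveI := h2
  haveI := finite_sections_of_isFiniteType M hM hU
  haveI : Module.Finite Γ(Y, U) (Γ(A, U) →ₗ[Γ(Y, U)] Γ(M, U)) := finite_linearMap_of_fp_flat
  exact Module.Finite.equiv (HomSh.secEquiv (F := A) (G := M) hU).symm

/-- the evaluation pairing. -/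
noncomputable def evB (A M : Y.Modules) (U : Y.Opens) :
    Γ(A, U) →ₗ[Γ(Y, U)] Γ(RefHull.homSh A M, U) →ₗ[Γ(Y, U)] Γ(M, U) :=
  LinearMap.mk₂ Γ(Y, U) (fun a φ => HomSh.app φ le_rfl a)
    (fun a a' φ => HomSh.app_add φ le_rfl a a')
    (fun c a φ => HomSh.app_smul φ le_rfl c a)
    (fun a φ φ' => HomSh.app_add_hom φ φ' le_rfl a)
    (fun c a φ => by rw [HomSh.app_smul_hom, HomSh.sres_self])

/-- the evaluation morphism `A ⊗ 𝓗om(A, M) ⟶ M`. -/
noncomputable def evHom (A M : Y.Modules) : CohB1.tensorMod A (RefHull.homSh A M) ⟶ M :=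
  tensorDescAll A (RefHull.homSh A M) M (fun U => evB A M U) (by
    intro U V h a φ
    change M.presheaf.map (homOfLE h).op (HomSh.app φ le_rfl a) =
      HomSh.app ((RefHull.homSh A M).presheaf.map (homOfLE h).op φ) le_rfl
        (A.presheaf.map (homOfLE h).op a)
    rw [HomSh.app_res_hom h φ le_rfl]
    exact (HomSh.app_res φ le_rfl h a).symm)

lemma evHom_app_tmul (A M : Y.Modules) (U : Y.Opens) (a : Γ(A, U))
    (φ : Γ(RefHull.homSh A M, U)) :
    (evHom A M).app U (SecTwist.tmul A (RefHull.homSh A M) U a φ) = HomSh.app φ le_rfl a := by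
  rw [evHom, tensorDescAll_app_tmul]
  rfl

/-- the evaluation morphism is an epimorphism when `A` is finite locally free with nonzero
stalks. -/
theorem epi_evHom (A M : Y.Modules) (hA : FlatMod.IsFinLocFree A)
    (hnt : ∀ y : Y, Nontrivial (A.presheaf.stalk y)) : Epi (evHom A M) := by
  have hfp := isFinitePresentation_of_isFinLocFree A hA
  apply epi_of_local_lift
  intro U t y hy
  haveI hfree : Module.Free (Y.presheaf.stalk y) (A.presheaf.stalk y) :=
    free_stalk_of_isFinLocFree A hA y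
  haveI := hnt y
  obtain ⟨b, -⟩ : ∃ b, b = Module.Free.chooseBasis (Y.presheaf.stalk y) (A.presheaf.stalk y) :=
    ⟨_, rfl⟩
  obtain ⟨i⟩ := b.index_nonempty
  obtain ⟨ψ, hψ⟩ : ∃ ψ : A.presheaf.stalk y →ₗ[Y.presheaf.stalk y] M.presheaf.stalk y,
      ψ = (b.coord i).smulRight (M.presheaf.germ U y hy t) := ⟨_, rfl⟩
  obtain ⟨θ, hθ⟩ := HomSh.evalStalk_surjective (F := A) (G := M) hfp y ψ
  obtain ⟨W₁, hW₁U, hyW₁, φ₁, hφ₁⟩ :=
    (RefHull.homSh A M).presheaf.exists_le_germ_eq θ hy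
  have hθ' : φ₁.1 ⟨y, hyW₁⟩ = ψ := by
    rw [← RefHull.evalStalk_germ A M y hyW₁ φ₁, hφ₁, hθ]
  obtain ⟨W₂, hW₂W₁, hyW₂, a₂, ha₂⟩ := A.presheaf.exists_le_germ_eq (b i) hyW₁
  obtain ⟨φ₂, hφ₂⟩ : ∃ φ₂ : Γ(RefHull.homSh A M, W₂),
      φ₂ = (RefHull.homSh A M).presheaf.map (homOfLE hW₂W₁).op φ₁ := ⟨_, rfl⟩
  obtain ⟨t₂, ht₂⟩ : ∃ t₂ : Γ(M, W₂),
      t₂ = M.presheaf.map (homOfLE (hW₂W₁.trans hW₁U)).op t := ⟨_, rfl⟩
  have key : φ₂.1 ⟨y, hyW₂⟩ = ψ := by
    rw [hφ₂, HomSh.res_val]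
    exact hθ'
  have hval : ψ (b i) = M.presheaf.germ U y hy t := by
    rw [hψ]
    show (b.coord i) (b i) • M.presheaf.germ U y hy t = _
    rw [Module.Basis.coord_apply, Module.Basis.repr_self, Finsupp.single_eq_same, one_smul]
  have hgerm : M.presheaf.germ W₂ y hyW₂ (HomSh.app φ₂ le_rfl a₂) =
      M.presheaf.germ W₂ y hyW₂ t₂ := by
    refine (HomSh.germ_app φ₂ le_rfl a₂ y hyW₂).trans ?_
    have e1 : (φ₂.1 ⟨y, le_refl W₂ hyW₂⟩ : RefHull.StalkHom A M y) = ψ := key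
    show (φ₂.1 ⟨y, le_refl W₂ hyW₂⟩ : RefHull.StalkHom A M y)
      (A.presheaf.germ W₂ y hyW₂ a₂) = _
    rw [e1, ha₂, ht₂]
    exact hval.trans (germ_res M y (hW₂W₁.trans hW₁U) hyW₂ t).symm
  obtain ⟨W, hW, hyW, h0⟩ := exists_res_eq_zero_of_germ_eq_zero M y hyW₂
    (HomSh.app φ₂ le_rfl a₂ - t₂) (by rw [map_sub, hgerm, sub_self])
  rw [map_sub, sub_eq_zero] at h0
  refine ⟨W, hW.trans (hW₂W₁.trans hW₁U), hyW,
    SecTwist.tmul A (RefHull.homSh A M) W (A.presheaf.map (homOfLE hW).op a₂)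
      ((RefHull.homSh A M).presheaf.map (homOfLE hW).op φ₂), ?_⟩
  rw [evHom_app_tmul, HomSh.app_res_hom hW φ₂ le_rfl]
  refine (HomSh.app_res φ₂ le_rfl hW a₂).trans ?_
  rw [h0, ht₂]
  exact res_res M _ _ t

end Hom

/-! ### direct images along finite locally free morphisms -/

section Push
variable {X Y : Scheme.{u}} (f : X ⟶ Y)

/-- sections of a direct image, with the module structure made explicit. -/
noncomputable def pushSecEquiv (F : X.Modules) (V : Y.Opens) :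
    @LinearEquiv Γ(Y, V) Γ(Y, V) _ _ (RingHom.id _) (RingHom.id _) _ _
      Γ((Scheme.Modules.pushforward f).obj F, V) Γ(F, f ⁻¹ᵁ V) _ _ _
      (Module.compHom Γ(F, f ⁻¹ᵁ V) (f.app V).hom) :=
  letI := Module.compHom Γ(F, f ⁻¹ᵁ V) (f.app V).hom
  { toFun := fun m => m
    invFun := fun m => m
    map_add' := fun _ _ => rfl
    map_smul' := fun _ _ => rfl
    left_inv := fun _ => rfl
    right_inv := fun _ => rfl }

/-- the stalks of `f_* O_X` are nonzero for surjective `f`. -/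
theorem nontrivial_stalk_push_unit [Surjective f]
    (hft : ((Scheme.Modules.pushforward f).obj
      (SheafOfModules.unit X.ringCatSheaf)).IsFiniteType) (y : Y) :
    Nontrivial (((Scheme.Modules.pushforward f).obj
      (SheafOfModules.unit X.ringCatSheaf)).presheaf.stalk y) := by
  by_contra hn
  rw [not_nontrivial_iff_subsingleton] at hn
  obtain ⟨U, hyU, hU⟩ := exists_nbhd_stalks_zero _ hft y hn
  obtain ⟨x, rfl⟩ := f.surjective y
  have hx : x ∈ f ⁻¹ᵁ U := hyU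
  have h1 := section_eq_zero_of_stalks _ U hU le_rfl
    ((pushUnitEquiv f U).symm (1 : Γ(X, f ⁻¹ᵁ U)))
  have h2 : (1 : Γ(X, f ⁻¹ᵁ U)) = 0 := by
    have h3 := congrArg (pushUnitEquiv f U) h1
    rwa [LinearEquiv.apply_symm_apply, map_zero] at h3
  have h4 := congrArg (X.presheaf.germ (f ⁻¹ᵁ U) x hx).hom h2
  rw [map_one, map_zero] at h4
  exact one_ne_zero h4

/-- the direct image of a finite locally free module along a finite locally free morphism is
finite locally free. -/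
theorem isFinLocFree_pushforward (hf : IsFinite f ∧ Flat f ∧ LocallyOfFinitePresentation f)
    (E : X.Modules) (hE : FlatMod.IsFinLocFree E) :
    FlatMod.IsFinLocFree ((Scheme.Modules.pushforward f).obj E) := by
  obtain ⟨hAff, hA⟩ := (affine_finLocFree_pushforward_iff f).mpr hf
  haveI := hAff
  haveI := qc_of_isFinLocFree E hE
  haveI := qc_of_isFinLocFree _ hA
  haveI := qc_pushforward f E
  rw [isFinLocFree_iff_sections]
  intro V hV
  have hU : IsAffineOpen (f ⁻¹ᵁ V) := hV.preimage f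
  obtain ⟨hEfp, hEfl⟩ := (isFinLocFree_iff_sections E).mp hE _ hU
  obtain ⟨hAfp, hAfl⟩ := (isFinLocFree_iff_sections _).mp hA V hV
  haveI := hEfp
  haveI := hEfl
  haveI := hAfp
  haveI := hAfl
  letI alg : Algebra Γ(Y, V) Γ(X, f ⁻¹ᵁ V) := (f.app V).hom.toAlgebra
  haveI : Module.FinitePresentation Γ(Y, V) Γ(X, f ⁻¹ᵁ V) :=
    Module.FinitePresentation.of_equiv (pushUnitEquiv f V)
  haveI : Module.Flat Γ(Y, V) Γ(X, f ⁻¹ᵁ V) :=
    Module.Flat.of_linearEquiv (pushUnitEquiv f V).symm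
  letI mod : Module Γ(Y, V) Γ(E, f ⁻¹ᵁ V) := Module.compHom Γ(E, f ⁻¹ᵁ V) (f.app V).hom
  haveI : IsScalarTower Γ(Y, V) Γ(X, f ⁻¹ᵁ V) Γ(E, f ⁻¹ᵁ V) :=
    IsScalarTower.of_algebraMap_smul fun r m => rfl
  haveI h1 : Module.FinitePresentation Γ(Y, V) Γ(E, f ⁻¹ᵁ V) :=
    Module.FinitePresentation.trans Γ(Y, V) Γ(E, f ⁻¹ᵁ V) Γ(X, f ⁻¹ᵁ V)
  haveI h2 : Module.Flat Γ(Y, V) Γ(E, f ⁻¹ᵁ V) :=
    Module.Flat.trans Γ(Y, V) Γ(X, f ⁻¹ᵁ V) Γ(E, f ⁻¹ᵁ V)
  exact ⟨Module.FinitePresentation.of_equiv (pushSecEquiv f E V).symm,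
    Module.Flat.of_linearEquiv (pushSecEquiv f E V)⟩

end Push

/-! ### the projection formula for affine morphisms -/

section PF
variable {X Y : Scheme.{u}} (f : X ⟶ Y)

/-- sections of a pullback over the preimage of an affine open, for an affine morphism. -/
theorem exists_sections_equiv_unitSec {V : Y.Opens} (hV : IsAffineOpen V)
    (hU : IsAffineOpen (f ⁻¹ᵁ V)) (M : Y.Modules) [M.IsQuasicoherent] :
    letI := (f.app V).hom.toAlgebra
    ∃ Φ : Γ((Scheme.Modules.pullback f).obj M, f ⁻¹ᵁ V) ≃ₗ[Γ(X, f ⁻¹ᵁ V)]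
        (Γ(X, f ⁻¹ᵁ V) ⊗[Γ(Y, V)] Γ(M, V)),
      ∀ m : Γ(M, V), Φ (unitSec f M V m) = (1 : Γ(X, f ⁻¹ᵁ V)) ⊗ₜ[Γ(Y, V)] m := by
  have key : ∀ (φ : Γ(Y, V) ⟶ Γ(X, f ⁻¹ᵁ V)), φ = f.appLE V (f ⁻¹ᵁ V) le_rfl →
      (letI := φ.hom.toAlgebra
       ∃ Φ : Γ((Scheme.Modules.pullback f).obj M, f ⁻¹ᵁ V) ≃ₗ[Γ(X, f ⁻¹ᵁ V)]
          (Γ(X, f ⁻¹ᵁ V) ⊗[Γ(Y, V)] Γ(M, V)),
        ∀ m : Γ(M, V), Φ (pbSec f M (le_refl (f ⁻¹ᵁ V)) m) =
          (1 : Γ(X, f ⁻¹ᵁ V)) ⊗ₜ[Γ(Y, V)] m) := by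
    rintro φ rfl
    exact exists_pullback_sections_equiv_pbSec f hU hV le_rfl M
  obtain ⟨Φ, hΦ⟩ := key (f.app V) (Scheme.Hom.app_eq_appLE f)
  refine ⟨Φ, fun m => ?_⟩
  have e : pbSec f M (le_refl (f ⁻¹ᵁ V)) m = unitSec f M V m := by
    unfold pbSec
    exact res_self _ _ _
  rw [← e]
  exact hΦ m

/-- **the projection formula for an affine morphism**, on sections over an affine open. -/
theorem bijective_projHom_app (F : X.Modules) [F.IsQuasicoherent] (L : Y.Modules)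
    [L.IsQuasicoherent] [IsAffineHom f] {V : Y.Opens} (hV : IsAffineOpen V) :
    Function.Bijective ((projHom f F L).app V) := by
  have hU : IsAffineOpen (f ⁻¹ᵁ V) := hV.preimage f
  haveI : ((Scheme.Modules.pushforward f).obj F).IsQuasicoherent := qc_pushforward f F
  haveI : ((Scheme.Modules.pullback f).obj L).IsQuasicoherent := qc_pullback f L
  letI alg : Algebra Γ(Y, V) Γ(X, f ⁻¹ᵁ V) := (f.app V).hom.toAlgebra
  letI mod : Module Γ(Y, V) Γ(F, f ⁻¹ᵁ V) := Module.compHom Γ(F, f ⁻¹ᵁ V) (f.app V).hom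
  haveI : IsScalarTower Γ(Y, V) Γ(X, f ⁻¹ᵁ V) Γ(F, f ⁻¹ᵁ V) :=
    IsScalarTower.of_algebraMap_smul fun r m => rfl
  obtain ⟨Φ, hΦ⟩ := exists_sections_equiv_unitSec f hV hU L
  let E1 := tensorSecEquiv F ((Scheme.Modules.pullback f).obj L) hU
  let E2 : Γ(F, f ⁻¹ᵁ V) ⊗[Γ(X, f ⁻¹ᵁ V)] Γ((Scheme.Modules.pullback f).obj L, f ⁻¹ᵁ V)
      ≃ₗ[Γ(X, f ⁻¹ᵁ V)]
      Γ(F, f ⁻¹ᵁ V) ⊗[Γ(X, f ⁻¹ᵁ V)] (Γ(X, f ⁻¹ᵁ V) ⊗[Γ(Y, V)] Γ(L, V)) :=
    TensorProduct.congr (LinearEquiv.refl Γ(X, f ⁻¹ᵁ V) Γ(F, f ⁻¹ᵁ V)) Φ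
  let E3 := TensorProduct.AlgebraTensorModule.cancelBaseChange Γ(Y, V) Γ(X, f ⁻¹ᵁ V)
    Γ(X, f ⁻¹ᵁ V) Γ(F, f ⁻¹ᵁ V) Γ(L, V)
  let E4 : Γ(F, f ⁻¹ᵁ V) ⊗[Γ(Y, V)] Γ(L, V) ≃ₗ[Γ(Y, V)]
      Γ((Scheme.Modules.pushforward f).obj F, V) ⊗[Γ(Y, V)] Γ(L, V) :=
    TensorProduct.congr (pushSecEquiv f F V).symm (LinearEquiv.refl Γ(Y, V) Γ(L, V))
  let E5 := tensorSecEquiv ((Scheme.Modules.pushforward f).obj F) L hV
  let G : Γ(CohB1.tensorMod F ((Scheme.Modules.pullback f).obj L), f ⁻¹ᵁ V) ≃+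
      Γ(CohB1.tensorMod ((Scheme.Modules.pushforward f).obj F) L, V) :=
    E1.symm.toAddEquiv.trans (E2.toAddEquiv.trans (E3.toAddEquiv.trans
      (E4.toAddEquiv.trans E5.toAddEquiv)))
  have hGT : ∀ z : Γ(CohB1.tensorMod ((Scheme.Modules.pushforward f).obj F) L, V),
      G ((projHom f F L).app V z) = z := by
    intro z
    refine tmul_induction ((Scheme.Modules.pushforward f).obj F) L hV
      (p := fun z => G ((projHom f F L).app V z) = z) ?_ ?_ ?_ z
    · show G ((projHom f F L).app V 0) = 0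
      have e : (projHom f F L).app V 0 = 0 := map_zero ((projHom f F L).app V).hom
      rw [e]
      exact map_zero G
    · intro s l
      show G ((projHom f F L).app V (SecTwist.tmul _ L V s l)) = _
      rw [projHom_app_tmul]
      obtain ⟨s', hs'⟩ : ∃ s' : Γ(F, f ⁻¹ᵁ V), s' = s := ⟨s, rfl⟩
      have k1 : E1.symm (SecTwist.tmul F ((Scheme.Modules.pullback f).obj L) (f ⁻¹ᵁ V) s'
          (unitSec f L V l)) = s' ⊗ₜ[Γ(X, f ⁻¹ᵁ V)] unitSec f L V l :=
        tensorSecEquiv_symm_tmul F _ hU s' _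
      have k2 : E2 (s' ⊗ₜ[Γ(X, f ⁻¹ᵁ V)] unitSec f L V l) =
          s' ⊗ₜ[Γ(X, f ⁻¹ᵁ V)] ((1 : Γ(X, f ⁻¹ᵁ V)) ⊗ₜ[Γ(Y, V)] l) := by
        show TensorProduct.congr (LinearEquiv.refl Γ(X, f ⁻¹ᵁ V) Γ(F, f ⁻¹ᵁ V)) Φ
          (s' ⊗ₜ[Γ(X, f ⁻¹ᵁ V)] unitSec f L V l) = _
        rw [TensorProduct.congr_tmul, hΦ]
        rfl
      have k3 : E3 (s' ⊗ₜ[Γ(X, f ⁻¹ᵁ V)] ((1 : Γ(X, f ⁻¹ᵁ V)) ⊗ₜ[Γ(Y, V)] l)) =
          s' ⊗ₜ[Γ(Y, V)] l := by
        show TensorProduct.AlgebraTensorModule.cancelBaseChange Γ(Y, V) Γ(X, f ⁻¹ᵁ V)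
          Γ(X, f ⁻¹ᵁ V) Γ(F, f ⁻¹ᵁ V) Γ(L, V) (s' ⊗ₜ ((1 : Γ(X, f ⁻¹ᵁ V)) ⊗ₜ l)) = _
        rw [TensorProduct.AlgebraTensorModule.cancelBaseChange_tmul, one_smul]
      have k4 : E4 (s' ⊗ₜ[Γ(Y, V)] l) = s ⊗ₜ[Γ(Y, V)] l := by
        show TensorProduct.congr (pushSecEquiv f F V).symm (LinearEquiv.refl Γ(Y, V) Γ(L, V))
          (s' ⊗ₜ[Γ(Y, V)] l) = _
        rw [TensorProduct.congr_tmul, hs']
        rfl
      have k5 : E5 (s ⊗ₜ[Γ(Y, V)] l) =
          SecTwist.tmul ((Scheme.Modules.pushforward f).obj F) L V s l := by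
        have h := tensorSecEquiv_symm_tmul ((Scheme.Modules.pushforward f).obj F) L hV s l
        rw [LinearEquiv.symm_apply_eq] at h
        exact h.symm
      show E5 (E4 (E3 (E2 (E1.symm (SecTwist.tmul F ((Scheme.Modules.pullback f).obj L)
        (f ⁻¹ᵁ V) (show Γ(F, f ⁻¹ᵁ V) from s) (unitSec f L V l)))))) = _
      rw [← hs', k1, k2, k3, k4, k5, hs']
    · intro a b ha hb
      have ha' : G ((projHom f F L).app V a) = a := ha
      have hb' : G ((projHom f F L).app V b) = b := hb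
      show G ((projHom f F L).app V (a + b)) = a + b
      have e : (projHom f F L).app V (a + b) =
          (projHom f F L).app V a + (projHom f F L).app V b :=
        map_add ((projHom f F L).app V).hom a b
      rw [e]
      exact (map_add G _ _).trans (by rw [ha', hb'])
  constructor
  · intro z z' h
    have h2 : G ((projHom f F L).app V z) = G ((projHom f F L).app V z') := by rw [h]
    rwa [hGT, hGT] at h2
  · intro w
    refine ⟨G w, ?_⟩
    apply G.injective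
    exact hGT (G w)

/-- **the projection formula for an affine morphism** and quasi-coherent modules. -/
theorem isIso_projHom_of_affine (F : X.Modules) [F.IsQuasicoherent] (L : Y.Modules)
    [L.IsQuasicoherent] [IsAffineHom f] : IsIso (projHom f F L) := by
  apply isIso_of_local_bijective
  intro y W hyW
  obtain ⟨V, hV, hyV, hVW⟩ := exists_isAffineOpen_mem_and_subset (x := y) (U := W) hyW
  exact ⟨V, hyV, hVW, bijective_projHom_app f F L hV⟩

end PF

/-! ### the main theorem -/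

/-- **the resolution property descends along a surjective finite locally free morphism.** -/
theorem main {X Y : Scheme.{u}} (f : X ⟶ Y)
    (hf : IsFinite f ∧ Flat f ∧ LocallyOfFinitePresentation f) [Surjective f]
    (hX : PerfAux.HasResolutionProperty X) : PerfAux.HasResolutionProperty Y := by
  intro M hMq hMft
  haveI : M.IsQuasicoherent := hMq
  obtain ⟨hAff, hA⟩ := (affine_finLocFree_pushforward_iff f).mpr hf
  haveI := hAff
  have hAfp := isFinitePresentation_of_isFinLocFree _ hA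
  have hAft : ((Scheme.Modules.pushforward f).obj
      (SheafOfModules.unit X.ringCatSheaf)).IsFiniteType := inferInstance
  have hnt := nontrivial_stalk_push_unit f hAft
  obtain ⟨A, hAdef⟩ : ∃ A, A = (Scheme.Modules.pushforward f).obj
      (SheafOfModules.unit X.ringCatSheaf) := ⟨_, rfl⟩
  rw [← hAdef] at hA hnt
  obtain ⟨hHq, hHft⟩ := qc_ft_homSh A M hA hMft
  haveI := hHq
  have hev : Epi (evHom A M) := epi_evHom A M hA hnt
  haveI hpq : ((Scheme.Modules.pullback f).obj (RefHull.homSh A M)).IsQuasicoherent :=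
    qc_pullback f _
  have hpft := isFiniteType_pullback f (RefHull.homSh A M) hHft
  obtain ⟨E', π', hE', hπ'⟩ := hX ((Scheme.Modules.pullback f).obj (RefHull.homSh A M)) hpq hpft
  haveI := hπ'
  haveI hE'q : E'.IsQuasicoherent := qc_of_isFinLocFree E' hE'
  haveI hPq : (CohB1.tensorMod (unitMod X)
      ((Scheme.Modules.pullback f).obj (RefHull.homSh A M))).IsQuasicoherent :=
    qc_of_iso (unitorL' _).symm hpq
  obtain ⟨π'', hπ''⟩ : ∃ π'' : E' ⟶ CohB1.tensorMod (unitMod X)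
      ((Scheme.Modules.pullback f).obj (RefHull.homSh A M)),
      π'' = π' ≫ (unitorL' _).inv := ⟨_, rfl⟩
  haveI : Epi π'' := by
    rw [hπ'']
    infer_instance
  haveI h1 : Epi ((Scheme.Modules.pushforward f).map π'') :=
    epi_pushforward_of_affine f hE'q hPq π''
  haveI h2 : IsIso (projHom f (unitMod X) (RefHull.homSh A M)) :=
    isIso_projHom_of_affine f (unitMod X) (RefHull.homSh A M)
  haveI := hev
  subst hAdef
  refine ⟨(Scheme.Modules.pushforward f).obj E',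
    (Scheme.Modules.pushforward f).map π'' ≫
      inv (projHom f (unitMod X) (RefHull.homSh _ M)) ≫ evHom _ M,
    isFinLocFree_pushforward f hf E' hE', ?_⟩
  infer_instance

end Groth.Agent.LD.ResDesc
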