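import Mathlib
import Groth.Agent.Lib.Lead.QC.ClosedUnit
import Groth.Agent.Lib.Lead.QC.IdealMod
import Groth.Agent.Lib.Lead.QC.ProjFormulaLF
import Groth.Agent.Lib.Lead.QC.FiniteFree
import Groth.Agent.Lib.Lead.QC.PullInv
import Groth.Agent.Lib.Lead.QC.UnitIso
import Groth.Agent.Lib.Lead.QC.TwistExt
import Groth.Agent.Lib.Lead.QC.InvBasis
import Groth.Agent.Lib.Lead.QC.InvInverse
import Groth.Agent.Lib.Lead.QC.TensorPow
import Groth.Agent.Lib.Lead.QC.AmpleIso
import Groth.Agent.Lib.Lead.QC.Pullback
import Groth.Agent.Lib.Lead.KT.ExtCompare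
import Groth.Agent.Lib.Lead.XS.KilEdge
import Groth.Agent.Lib.Lead.AE.Group
import Groth.Agent.Lib.Lead.FF.PicInj2
import Groth.Agent.Lib.Lead.SC.RPush
import Groth.Agent.Lib.Lead.SC.Affine
import Groth.Agent.Lib.Helper5.DegC.Cartier
import Groth.Agent.Lib.Helper5.Glue.F
import Groth.Agent.Lib.Helper2.EulerPbD
import Groth.Agent.Lib.Helper2.EulerTwC
import Groth.Agent.Lib.Helper2.LerayLin
import Groth.Agent.Lib.Helper7.ClImmMod
import Groth.Agent.H4.NT4

/-!
# Injectivity of `Pic X → Pic X₀` for a square-zero thickening with `H¹(X, 𝓘) = 0`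
-/

set_option autoImplicit false
universe u
open CategoryTheory CategoryTheory.Limits AlgebraicGeometry TopologicalSpace Opposite Abelian

namespace Groth.Agent.LD.QC.PicSqZero

open Groth.Agent.LD Groth.Agent.LD.QC

variable {X : Scheme.{u}}

/-- transport of vanishing of cohomology along an isomorphism. -/
lemma subsingleton_HH_of_iso {M M' : X.Modules} (e : M ≅ M') (n : ℕ)
    (h : Subsingleton (Coh.HH X M' n)) : Subsingleton (Coh.HH X M n) := by
  let e' : Coh.toAb M ≅ Coh.toAb M' := (SheafOfModules.toSheaf X.ringCatSheaf).mapIso e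
  have hx : ∀ z : Coh.HH X M n, Sheaf.H.map e'.inv n (Sheaf.H.map e'.hom n z) = z := fun z => by
    rw [← Sheaf.H.map_comp_apply, e'.hom_inv_id, Sheaf.H.map_id_apply]
  refine ⟨fun x y => ?_⟩
  rw [← hx x, ← hx y, Subsingleton.elim (Sheaf.H.map e'.hom n x) (Sheaf.H.map e'.hom n y)]

variable (I : X.IdealSheafData)

/-- a square-zero ideal kills its own ideal module. -/
lemma isIso_unit_idealMod (hI : I * I = ⊥) :
    IsIso ((Scheme.Modules.pullbackPushforwardAdjunction I.subschemeι).unit.app
      (ClSub.idealMod I)) := by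
  rw [isIso_unit_closedImmersion_iff]
  intro U a ha s
  apply idealModι_app_injective I U.1
  rw [map_zero]
  have h1 : (ClSub.idealModι I).app U.1 (a • s) = a • (ClSub.idealModι I).app U.1 s :=
    Scheme.Modules.Hom.app_smul (ClSub.idealModι I) a s
  rw [h1]
  have h2 : (show Γ(X, U.1) from (ClSub.idealModι I).app U.1 s) ∈ I.ideal U :=
    (exists_idealModι_app_eq_iff I U _).mp ⟨s, rfl⟩
  rw [I.ker_subschemeι] at ha
  have h3 : a * (show Γ(X, U.1) from (ClSub.idealModι I).app U.1 s) ∈ (I * I).ideal U :=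
    Ideal.mul_mem_mul ha h2
  rw [hI] at h3
  have h4 : a * (show Γ(X, U.1) from (ClSub.idealModι I).app U.1 s) ∈ (⊥ : Ideal Γ(X, U.1)) := h3
  have h5 := Ideal.mem_bot.mp h4
  exact h5

lemma surjective_subschemeι (hI : I * I = ⊥) : Surjective I.subschemeι := by
  refine ⟨fun x => ?_⟩
  have h : (I * I).support = ⊤ := by rw [hI]; exact Scheme.IdealSheafData.support_bot
  rw [Scheme.IdealSheafData.support_mul, sup_idem] at h
  have hx : x ∈ Set.range I.subschemeι := by
    rw [I.range_subschemeι, h]
    trivial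
  exact hx

lemma exists_nilThick (hI : I * I = ⊥) : ∃ n, Groth.Agent.H4.NT1.NilThick n I.subschemeι := by
  apply Groth.Agent.H4.NT1.exists_nilThick
  refine ⟨⟨inferInstance, surjective_subschemeι I hI⟩, 2, ?_⟩
  rw [I.ker_subschemeι, pow_two, hI]
  rfl

/-- a morphism between invertible modules which becomes an isomorphism on a square-zero closed
subscheme is an isomorphism. -/
lemma isIso_of_isIso_pullback (hI : I * I = ⊥) {N M : X.Modules} (hN : PicF.IsInvertible N)
    (hM : PicF.IsInvertible M) (s : N ⟶ M)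
    (hs : IsIso ((Scheme.Modules.pullback I.subschemeι).map s)) : IsIso s := by
  obtain ⟨n, hn⟩ := exists_nilThick I hI
  have hC : IsZero (cokernel s) := by
    apply Groth.Agent.H4.NT4.isZero_of_isZero_pullback hn
    have e : (Scheme.Modules.pullback I.subschemeι).obj (cokernel s) ≅
        cokernel ((Scheme.Modules.pullback I.subschemeι).map s) :=
      PreservesCokernel.iso (Scheme.Modules.pullback I.subschemeι) s
    exact IsZero.of_iso (isZero_cokernel_of_epi _) e
  haveI : Epi s := Preadditive.epi_of_isZero_cokernel s hC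
  exact Groth.Agent.H2.Euler.isIso_of_epi_of_isFinLocFreeOfRank 1
    ((isInvertible_iff N).mp hN) ((isInvertible_iff M).mp hM) s

/-- key isomorphism: `M ⊗ 𝓘 ≅ 𝓘` when `M` restricts trivially to the closed subscheme. -/
lemma nonempty_tensor_idealMod_iso (hI : I * I = ⊥) (M : X.Modules) (hM : PicF.IsInvertible M)
    (φ : (Scheme.Modules.pullback I.subschemeι).obj M ≅ unitMod I.subscheme) :
    Nonempty (CohB1.tensorMod M (ClSub.idealMod I) ≅ ClSub.idealMod I) := by
  haveI := isIso_unit_idealMod I hI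
  let i := I.subschemeι
  let P := (Scheme.Modules.pullback i).obj (ClSub.idealMod I)
  let η : ClSub.idealMod I ≅ (Scheme.Modules.pushforward i).obj P :=
    asIso ((Scheme.Modules.pullbackPushforwardAdjunction i).unit.app (ClSub.idealMod I))
  haveI := isIso_projHomL i P M (isFinLocFree_of_isInvertible M hM)
  exact ⟨tensorIso' (Iso.refl M) η ≪≫ asIso (projHomL i P M) ≪≫
    (Scheme.Modules.pushforward i).mapIso (tensorIso' φ (Iso.refl P) ≪≫ unitorL' P) ≪≫ η.symm⟩

section Lift

variable [HasExt.{u} X.Modules]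

/-- global sections of `i_* i^* M` lift to `M` when `H¹(X, 𝓘) = 0`. -/
lemma exists_lift_unit (hI : I * I = ⊥) (h1 : Subsingleton (Coh.HH X (ClSub.idealMod I) 1))
    (M : X.Modules) (hM : PicF.IsInvertible M)
    (φ : (Scheme.Modules.pullback I.subschemeι).obj M ≅ unitMod I.subscheme)
    (g : unitMod X ⟶ (Scheme.Modules.pushforward I.subschemeι).obj
      ((Scheme.Modules.pullback I.subschemeι).obj M)) :
    ∃ s : unitMod X ⟶ M,
      s ≫ (Scheme.Modules.pullbackPushforwardAdjunction I.subschemeι).unit.app M = g := by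
  classical
  let i := I.subschemeι
  let adj := Scheme.Modules.pullbackPushforwardAdjunction i
  have hMf := isFinLocFree_of_isInvertible M hM
  haveI := qc_of_isInvertible M hM
  let S : ShortComplex X.Modules := (ShortComplex.mk (ClSub.idealModι I) (ClSub.toSubscheme I)
      (kernel.condition (ClSub.toSubscheme I))).map (LT M)
  have hS : S.ShortExact := by
    have hS0 := Groth.Agent.H5.DegC.shortExact_idealMod I
    exact
      { exact := hS0.exact.map_of_epi_of_preservesCokernel (LT M) hS0.epi_g inferInstance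
        mono_f := by
          change Mono ((LT M).map (ClSub.idealModι I))
          rw [KoszTw.tensorBi_obj_map]
          haveI : Mono (ClSub.idealModι I) := hS0.mono_f
          exact mono_tensorMap_left_of_isFinLocFree (ClSub.idealModι I) M hMf
        epi_g := by
          haveI := hS0.epi_g
          exact (LT M).map_epi _ }
  obtain ⟨eK⟩ := nonempty_tensor_idealMod_iso I hI M hM φ
  haveI : HasExt.{u} (SheafOfModules.{u} X.ringCatSheaf) := ‹HasExt.{u} X.Modules›
  obtain ⟨e3⟩ := KT.nonempty_ext_unit_equiv (Opens.grothendieckTopology X) X.ringCatSheaf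
    (CohB1.tensorMod M (ClSub.idealMod I)) 1
  haveI : Subsingleton (Coh.HH X (CohB1.tensorMod M (ClSub.idealMod I)) 1) :=
    subsingleton_HH_of_iso eK 1 h1
  haveI hsub : Subsingleton (Ext (unitMod X) S.X₁ 1) :=
    e3.toEquiv.subsingleton
  let N := CohB1.tensorMod ((Scheme.Modules.pullback i).obj M) (unitMod I.subscheme)
  haveI := isIso_projHomL i (unitMod I.subscheme) M hMf
  let θ : CohB1.tensorMod M ((Scheme.Modules.pushforward i).obj (unitMod I.subscheme)) ≅
      (Scheme.Modules.pushforward i).obj N := asIso (projHomL i (unitMod I.subscheme) M)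
  let lam : M ≅ CohB1.tensorMod M (unitMod X) := (SecTwist.unitorR M).symm
  let Sg : CohB1.tensorMod M (unitMod X) ⟶
      CohB1.tensorMod M ((Scheme.Modules.pushforward i).obj (unitMod I.subscheme)) :=
    (LT M).map (ClSub.toSubscheme I)
  haveI : Epi Sg := hS.epi_g
  let f : M ⟶ (Scheme.Modules.pushforward i).obj N := lam.hom ≫ Sg ≫ θ.hom
  haveI : Epi f := by dsimp only [f]; infer_instance
  let fb : (Scheme.Modules.pullback i).obj M ⟶ N := (adj.homEquiv M N).symm f
  have hf : adj.unit.app M ≫ (Scheme.Modules.pushforward i).map fb = f :=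
    (adj.homEquiv M N).apply_symm_apply f
  haveI : Epi ((Scheme.Modules.pushforward i).map fb) := by
    haveI : Epi (adj.unit.app M ≫ (Scheme.Modules.pushforward i).map fb) := hf ▸ ‹Epi f›
    exact epi_of_epi (adj.unit.app M) _
  haveI := Groth.Agent.H7.ClImmMod.faithful_pushforward i
  haveI : Epi fb := (Scheme.Modules.pushforward i).epi_of_epi_map ‹_›
  have hiM : PicF.IsInvertible ((Scheme.Modules.pullback i).obj M) := isInvertible_pullback i hM
  have hN : PicF.IsInvertible N := isInvertible_of_iso (SecTwist.unitorR _).symm hiM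
  haveI : IsIso fb := Groth.Agent.H2.Euler.isIso_of_epi_of_isFinLocFreeOfRank 1
    ((isInvertible_iff _).mp hiM) ((isInvertible_iff _).mp hN) fb
  obtain ⟨s', hs''⟩ : ∃ s' : unitMod X ⟶ CohB1.tensorMod M (unitMod X),
      s' ≫ Sg = g ≫ (Scheme.Modules.pushforward i).map fb ≫ θ.inv :=
    Groth.Agent.H2.Euler.exists_lift_of_subsingleton_ext hS (unitMod X)
      (g ≫ (Scheme.Modules.pushforward i).map fb ≫ θ.inv)
  refine ⟨s' ≫ lam.inv, ?_⟩
  rw [← cancel_mono ((Scheme.Modules.pushforward i).map fb), Category.assoc, Category.assoc, hf]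
  dsimp only [f]
  rw [Iso.inv_hom_id_assoc, reassoc_of% hs'', Iso.inv_hom_id, Category.comp_id]

/-- **an invertible module on a square-zero thickening with `H¹(X, 𝓘) = 0` which is trivial on the
closed subscheme is trivial.** -/
theorem nonempty_unit_iso (hI : I * I = ⊥) (h1 : Subsingleton (Coh.HH X (ClSub.idealMod I) 1))
    (M : X.Modules) (hM : PicF.IsInvertible M)
    (φ : (Scheme.Modules.pullback I.subschemeι).obj M ≅ unitMod I.subscheme) :
    Nonempty (unitMod X ≅ M) := by
  let i := I.subschemeι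
  let adj := Scheme.Modules.pullbackPushforwardAdjunction i
  let γ : (Scheme.Modules.pullback i).obj (unitMod X) ≅ (Scheme.Modules.pullback i).obj M :=
    pullbackUnitIso i ≪≫ φ.symm
  obtain ⟨s, hs⟩ := exists_lift_unit I hI h1 M hM φ (adj.homEquiv _ _ γ.hom)
  have hγ : (Scheme.Modules.pullback i).map s = γ.hom := by
    apply (adj.homEquiv _ _).injective
    have h1 : adj.homEquiv _ _ ((Scheme.Modules.pullback i).map s) = s ≫ adj.unit.app M :=
      (adj.unit.naturality s).symm
    rw [h1, hs]
  haveI : IsIso ((Scheme.Modules.pullback i).map s) := by rw [hγ]; infer_instance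
  haveI := isIso_of_isIso_pullback I hI (isInvertible_unit X) hM s inferInstance
  exact ⟨asIso s⟩

end Lift

/-- **restriction of Picard groups along a square-zero thickening with `H¹(X, 𝓘) = 0` is
injective.** -/
theorem nonempty_iso_of_pullback_iso (hI : I * I = ⊥)
    (h1 : Subsingleton (Coh.HH X (ClSub.idealMod I) 1))
    (L L' : X.Modules) (hL : PicF.IsInvertible L) (hL' : PicF.IsInvertible L')
    (e : (Scheme.Modules.pullback I.subschemeι).obj L ≅
      (Scheme.Modules.pullback I.subschemeι).obj L') :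
    Nonempty (L ≅ L') := by
  haveI := Groth.Agent.H1.sheafOfModules_isGrothendieckAbelian
    (Opens.grothendieckTopology X) X.ringCatSheaf
  haveI : EnoughInjectives X.Modules :=
    inferInstanceAs (EnoughInjectives (SheafOfModules.{u} X.ringCatSheaf))
  haveI : HasExt.{u} X.Modules := hasExt_of_enoughInjectives.{u} _
  let i := I.subschemeι
  obtain ⟨L₁, hL₁, ⟨e₁⟩⟩ := Groth.Agent.H5.Glue.exists_inverse L hL
  have e₂ : CohB1.tensorMod L₁ L ≅ unitMod X := tensorCommGen L₁ L ≪≫ e₁
  have hM : PicF.IsInvertible (CohB1.tensorMod L₁ L') := isInvertible_tensorMod hL₁ hL'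
  let φ : (Scheme.Modules.pullback i).obj (CohB1.tensorMod L₁ L') ≅ unitMod I.subscheme :=
    pbTensorIso i L₁ L' hL₁ hL' ≪≫ tensorIso' (Iso.refl _) e.symm ≪≫
      (pbTensorIso i L₁ L hL₁ hL).symm ≪≫ (Scheme.Modules.pullback i).mapIso e₂ ≪≫
      pullbackUnitIso i
  obtain ⟨ψ⟩ := nonempty_unit_iso I hI h1 _ hM φ
  exact AE.nonempty_iso_of_inverses hL₁ hL hL' e₂ ψ.symm

/-- **S14629**. -/
theorem s14629 (X : Scheme.{u}) (I : X.IdealSheafData)
    (hI : I * I = ⊥) (h1 : Subsingleton (Coh.HH X (ClSub.idealMod I) 1))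
    (c d : PicF.Cl X) (hc : PicF.IsInvertibleCl c) (hd : PicF.IsInvertibleCl d)
    (h : PicF.pullCl I.subschemeι c = PicF.pullCl I.subschemeι d) : c = d := by
  obtain ⟨L, rfl, hL⟩ := hc
  obtain ⟨L', rfl, hL'⟩ := hd
  have h' : PicF.cl ((Scheme.Modules.pullback I.subschemeι).obj L) =
      PicF.cl ((Scheme.Modules.pullback I.subschemeι).obj L') := h
  obtain ⟨e⟩ := (FF.cl_eq_iff _ _).mp h'
  exact (FF.cl_eq_iff _ _).mpr (nonempty_iso_of_pullback_iso I hI h1 L L' hL hL' e)

/-- **S3237**. -/
theorem s3237 (X : Scheme.{u}) (I : X.IdealSheafData) (hI : I ^ 2 = ⊥)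
    (h1 : Subsingleton (Coh.HH I.subscheme
      ((Scheme.Modules.pullback I.subschemeι).obj (ClSub.idealMod I)) 1))
    (L L' : X.Modules) (hL : PicF.IsInvertible L) (hL' : PicF.IsInvertible L')
    (e : (Scheme.Modules.pullback I.subschemeι).obj L ≅
      (Scheme.Modules.pullback I.subschemeι).obj L') :
    Nonempty (L ≅ L') := by
  have hI' : I * I = ⊥ := by rw [← pow_two]; exact hI
  refine nonempty_iso_of_pullback_iso I hI' ?_ L L' hL hL' e
  haveI := isIso_unit_idealMod I hI'
  let i := I.subschemeι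
  let P := (Scheme.Modules.pullback i).obj (ClSub.idealMod I)
  haveI : P.IsQuasicoherent := qc_pullback i _
  have hP : Subsingleton (Coh.HH X ((Scheme.Modules.pushforward i).obj P) 1) := by
    have hb := Groth.Agent.H2.Leray.edgeH_bijective i (Coh.toAb P) (fun q =>
      SC.isZero_rightDerived_push i.base {V : X.Opens | IsAffineOpen V} X.isBasis_affineOpens 0
        (fun V hV j _ => SC.subsingleton_ext_of_isAffineOpen P j (i ⁻¹ᵁ V) (hV.preimage i)) q
        (Nat.zero_le _)) 1
    exact hb.1.subsingleton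
  exact subsingleton_HH_of_iso
    (asIso ((Scheme.Modules.pullbackPushforwardAdjunction i).unit.app (ClSub.idealMod I))) 1 hP

end Groth.Agent.LD.QC.PicSqZero
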