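import Mathlib
import Groth.Agent.Lib.Lead.QC.PicSqZero
import Groth.Agent.Lib.Lead.QC.LocFree
import Groth.Agent.Lib.Lead.QC.LocFree2
import Groth.Agent.Lib.Lead.QC.Gen
import Groth.Agent.Lib.Lead.QC.FinType
import Groth.Agent.Lib.Lead.QC.HomAffine
import Groth.Agent.Lib.Lead.QC.TensorQC
import Groth.Agent.Lib.Lead.QC.FreeData
import Groth.Agent.Lib.Lead.Syz
import Groth.Agent.Lib.Lead.FF.Descent
import Groth.Agent.Lib.Lead.XS.Dualizing
import Groth.Agent.Lib.Helper5.ExtG1.E
import Groth.Agent.H4.SPt5

/-!
# Lifting homomorphisms of finite locally free modules along a square-zero thickening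
-/

set_option autoImplicit false
universe u
open CategoryTheory CategoryTheory.Limits AlgebraicGeometry TopologicalSpace Opposite Abelian

namespace Groth.Agent.LD.QC.LiftSqZero

open Groth.Agent.LD Groth.Agent.LD.QC Groth.Agent.LD.QC.PicSqZero

variable {X : Scheme.{u}}

/-- an epimorphic endomorphism of a quasi-coherent module of finite type is an isomorphism. -/
theorem isIso_of_epi_endo (E : X.Modules) [hq : E.IsQuasicoherent] (hE : E.IsFiniteType)
    (φ : E ⟶ E) [Epi φ] : IsIso φ := by
  apply isIso_of_bijective_affine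
  intro U
  haveI := finite_sections_of_isFiniteType E hE U.2
  have hs : Function.Surjective (φ.app U.1) := epi_app_affine hq hq φ U.2
  let L : Γ(E, U.1) →ₗ[Γ(X, U.1)] Γ(E, U.1) :=
    { toFun := φ.app U.1
      map_add' := map_add _
      map_smul' := fun r t => Scheme.Modules.Hom.app_smul φ r t }
  exact ⟨OrzechProperty.injective_of_surjective_endomorphism L hs, hs⟩

lemma mono_map_of_natIso {C D : Type*} [Category C] [Category D] {F G : C ⥤ D} (e : F ≅ G)
    {A B : C} (φ : A ⟶ B) [Mono (G.map φ)] : Mono (F.map φ) := by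
  have h : F.map φ = e.hom.app A ≫ G.map φ ≫ e.inv.app B := by
    rw [← Category.assoc, ← e.hom.naturality, Category.assoc, Iso.hom_inv_id_app,
      Category.comp_id]
  rw [h]
  infer_instance

/-- the pullback of a short exact sequence with finite locally free cokernel stays left exact. -/
theorem mono_pullback_map_of_shortExact {Y Z : Scheme.{u}} (f : Z ⟶ Y)
    {S : ShortComplex Y.Modules} (hS : S.ShortExact) (hE : FlatMod.IsFinLocFree S.X₃) :
    Mono ((Scheme.Modules.pullback f).map S.f) := by
  rw [FF.mono_iff_stalk]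
  intro z
  have hSz := Syz.shortExact_stalk hS (f.base z)
  let T := S.map (DerSch.stalkFunctor Y (f.base z))
  haveI : Projective T.X₃ :=
    Syz.projective_stalk_of_isFinLocFree S.X₃ hE _
  haveI : Epi T.g := hSz.epi_g
  let σ : T.X₃ ⟶ T.X₂ := Projective.factorThru (𝟙 _) T.g
  have hσ : σ ≫ T.g = 𝟙 _ := Projective.factorThru_comp _ _
  let sp := ShortComplex.Splitting.ofExactOfSection T hSz.exact σ hσ hSz.mono_f
  have hr : T.f ≫ sp.r = 𝟙 _ := sp.f_r
  haveI hmono : Mono ((ModuleCat.extendScalars.{u, u, u} (f.stalkMap z).hom).map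
      ((DerSch.stalkFunctor Y (f.base z)).map S.f)) := by
    have h2 : (ModuleCat.extendScalars.{u, u, u} (f.stalkMap z).hom).map T.f ≫
        (ModuleCat.extendScalars.{u, u, u} (f.stalkMap z).hom).map sp.r = 𝟙 _ := by
      rw [← CategoryTheory.Functor.map_comp, hr, CategoryTheory.Functor.map_id]
    exact (SplitMono.mk _ h2).mono
  haveI : Mono ((DerSch.stalkFunctor Y (f.base z) ⋙
      ModuleCat.extendScalars.{u, u, u} (f.stalkMap z).hom).map S.f) := hmono
  exact mono_map_of_natIso (Groth.Agent.H4.SPt5.stalkPullbackIso f z) S.f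

section Ext

variable {Z : Scheme.{u}} (i : Z ⟶ X) [IsClosedImmersion i]
  [HasExt.{u} X.Modules] [HasExt.{u} Z.Modules] [EnoughInjectives X.Modules]

/-- `Ext¹_X(E, i_* G) = 0` when `Ext¹_Z(i^* E, G) = 0`, for `E` finite locally free. -/
theorem subsingleton_ext_one_push (E : X.Modules) (hE : FlatMod.IsFinLocFree E)
    (G : Z.Modules) [G.IsQuasicoherent]
    (h : Subsingleton (Ext.{u} ((Scheme.Modules.pullback i).obj E) G 1)) :
    Subsingleton (Ext.{u} E ((Scheme.Modules.pushforward i).obj G) 1) := by
  apply Groth.Agent.H5.ExtG1.subsingleton_ext_one_of_forall_split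
  intro Q a b w hSE
  let S := ShortComplex.mk a b w
  let adj := Scheme.Modules.pullbackPushforwardAdjunction i
  haveI hm : Mono ((Scheme.Modules.pullback i).map a) :=
    mono_pullback_map_of_shortExact i hSE hE
  have hS' : (S.map (Scheme.Modules.pullback i)).ShortExact :=
    { exact := hSE.exact.map_of_epi_of_preservesCokernel (Scheme.Modules.pullback i)
        hSE.epi_g inferInstance
      mono_f := hm
      epi_g := by
        haveI := hSE.epi_g
        exact (Scheme.Modules.pullback i).map_epi _ }
  haveI := XS.DZ.isIso_counit_of_qc i G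
  let ε : (Scheme.Modules.pullback i).obj ((Scheme.Modules.pushforward i).obj G) ≅ G :=
    asIso (adj.counit.app G)
  haveI : Subsingleton (Ext.{u} ((Scheme.Modules.pullback i).obj E)
      (S.map (Scheme.Modules.pullback i)).X₁ 1) :=
    (extEquivRight ((Scheme.Modules.pullback i).obj E) ε 1).toEquiv.subsingleton
  obtain ⟨σ₀, hσ₀⟩ := Groth.Agent.H2.Euler.exists_lift_of_subsingleton_ext hS'
    ((Scheme.Modules.pullback i).obj E) (𝟙 _)
  let sp := ShortComplex.Splitting.ofExactOfSection _ hS'.exact σ₀ hσ₀ hS'.mono_f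
  let r : Q ⟶ (Scheme.Modules.pushforward i).obj G :=
    adj.unit.app Q ≫ (Scheme.Modules.pushforward i).map (sp.r ≫ ε.hom)
  have hr : a ≫ r = 𝟙 _ := by
    have h1 : a ≫ adj.unit.app Q =
        adj.unit.app _ ≫ (Scheme.Modules.pushforward i).map ((Scheme.Modules.pullback i).map a) :=
      adj.unit.naturality a
    have h2 : (Scheme.Modules.pullback i).map a ≫ sp.r = 𝟙 _ := sp.f_r
    dsimp only [r]
    rw [reassoc_of% h1, ← Functor.map_comp, reassoc_of% h2]
    exact adj.right_triangle_components G
  let sp' := ShortComplex.Splitting.ofExactOfRetraction S hSE.exact r hr hSE.epi_g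
  exact ⟨sp'.s, sp'.s_g⟩

end Ext

lemma shortExact_of_iso' {C : Type*} [Category C] [Abelian C] {A B B' Q Q' : C}
    {a : A ⟶ B} {b : B ⟶ Q} {wab : a ≫ b = 0} (hS : (ShortComplex.mk a b wab).ShortExact)
    (l : B ≅ B') (t : Q ≅ Q') (p : B' ⟶ Q') (h : l.hom ≫ p = b ≫ t.hom) :
    ∃ w : (a ≫ l.hom) ≫ p = 0, (ShortComplex.mk (a ≫ l.hom) p w).ShortExact := by
  have w : (a ≫ l.hom) ≫ p = 0 := by
    rw [Category.assoc, h, reassoc_of% wab, zero_comp]
  refine ⟨w, ?_⟩
  exact ShortComplex.shortExact_of_iso
    (ShortComplex.isoMk (S₁ := ShortComplex.mk a b wab) (S₂ := ShortComplex.mk (a ≫ l.hom) p w)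
      (Iso.refl A) l t (Category.id_comp _) h) hS

variable (I : X.IdealSheafData)

/-- the kernel of the unit `F ⟶ i_* i^* F` of a finite locally free module on a square-zero
thickening is the pushforward of `i^* 𝓘 ⊗ i^* F`. -/
lemma exists_kernel_unit (hI : I * I = ⊥) (F : X.Modules) (hF : FlatMod.IsFinLocFree F) :
    ∃ (K : X.Modules) (k : K ⟶ F)
      (w : k ≫ (Scheme.Modules.pullbackPushforwardAdjunction I.subschemeι).unit.app F = 0),
      (ShortComplex.mk k _ w).ShortExact ∧
      Nonempty (K ≅ (Scheme.Modules.pushforward I.subschemeι).obj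
        (CohB1.tensorMod ((Scheme.Modules.pullback I.subschemeι).obj (ClSub.idealMod I))
          ((Scheme.Modules.pullback I.subschemeι).obj F))) := by
  classical
  let i := I.subschemeι
  let adj := Scheme.Modules.pullbackPushforwardAdjunction i
  haveI := qc_of_isFinLocFree F hF
  haveI := isIso_unit_idealMod I hI
  let P := (Scheme.Modules.pullback i).obj (ClSub.idealMod I)
  haveI : P.IsQuasicoherent := qc_pullback i _
  let F₀ := (Scheme.Modules.pullback i).obj F
  haveI : F₀.IsQuasicoherent := qc_pullback i _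
  let S : ShortComplex X.Modules := (ShortComplex.mk (ClSub.idealModι I) (ClSub.toSubscheme I)
      (kernel.condition (ClSub.toSubscheme I))).map (LT F)
  have hS : S.ShortExact := by
    have hS0 := Groth.Agent.H5.DegC.shortExact_idealMod I
    exact
      { exact := hS0.exact.map_of_epi_of_preservesCokernel (LT F) hS0.epi_g inferInstance
        mono_f := by
          change Mono ((LT F).map (ClSub.idealModι I))
          rw [KoszTw.tensorBi_obj_map]
          haveI : Mono (ClSub.idealModι I) := hS0.mono_f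
          exact mono_tensorMap_left_of_isFinLocFree (ClSub.idealModι I) F hF
        epi_g := by
          haveI := hS0.epi_g
          exact (LT F).map_epi _ }
  let η : ClSub.idealMod I ≅ (Scheme.Modules.pushforward i).obj P :=
    asIso (adj.unit.app (ClSub.idealMod I))
  haveI := isIso_projHomL i P F hF
  let eK : S.X₁ ≅ (Scheme.Modules.pushforward i).obj (CohB1.tensorMod F₀ P) :=
    tensorIso' (Iso.refl F) η ≪≫ asIso (projHomL i P F)
  let N := CohB1.tensorMod F₀ (unitMod I.subscheme)
  haveI := isIso_projHomL i (unitMod I.subscheme) F hF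
  let θ₀ : CohB1.tensorMod F ((Scheme.Modules.pushforward i).obj (unitMod I.subscheme)) ≅
      (Scheme.Modules.pushforward i).obj N := asIso (projHomL i (unitMod I.subscheme) F)
  let θ : S.X₃ ≅ (Scheme.Modules.pushforward i).obj N := θ₀
  let lam : F ≅ S.X₂ := (SecTwist.unitorR F).symm
  haveI : Epi S.g := hS.epi_g
  let f : F ⟶ (Scheme.Modules.pushforward i).obj N := lam.hom ≫ S.g ≫ θ.hom
  haveI : Epi f := by dsimp only [f]; infer_instance
  let fb : F₀ ⟶ N := (adj.homEquiv F N).symm f
  have hf : adj.unit.app F ≫ (Scheme.Modules.pushforward i).map fb = f :=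
    (adj.homEquiv F N).apply_symm_apply f
  haveI : Epi ((Scheme.Modules.pushforward i).map fb) := by
    haveI : Epi (adj.unit.app F ≫ (Scheme.Modules.pushforward i).map fb) := hf ▸ ‹Epi f›
    exact epi_of_epi (adj.unit.app F) _
  haveI := Groth.Agent.H7.ClImmMod.faithful_pushforward i
  haveI : Epi fb := (Scheme.Modules.pushforward i).epi_of_epi_map ‹_›
  haveI : IsIso fb := by
    haveI := isFinitePresentation_of_isFinLocFree F₀ (isFinLocFree_pullback i F hF)
    haveI : IsIso (fb ≫ (SecTwist.unitorR F₀).hom) :=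
      isIso_of_epi_endo F₀ inferInstance (fb ≫ (SecTwist.unitorR F₀).hom)
    exact IsIso.of_isIso_comp_right fb (SecTwist.unitorR F₀).hom
  have hcomm : lam.inv ≫ adj.unit.app F =
      S.g ≫ θ.hom ≫ (Scheme.Modules.pushforward i).map (inv fb) := by
    rw [← cancel_mono ((Scheme.Modules.pushforward i).map fb)]
    simp only [Category.assoc]
    rw [← CategoryTheory.Functor.map_comp, IsIso.inv_hom_id, CategoryTheory.Functor.map_id,
      Category.comp_id, hf]
    dsimp only [f]
    rw [Iso.inv_hom_id_assoc]
  let e₃ : S.X₃ ≅ (Scheme.Modules.pushforward i).obj F₀ :=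
    θ ≪≫ (Scheme.Modules.pushforward i).mapIso (asIso fb).symm
  obtain ⟨w, hSE⟩ := shortExact_of_iso' (a := S.f) (b := S.g) (wab := S.zero) hS lam.symm e₃
    (adj.unit.app F) hcomm
  exact ⟨S.X₁, S.f ≫ lam.inv, w, hSE,
    ⟨eK ≪≫ (Scheme.Modules.pushforward i).mapIso (tensorCommAll F₀ P)⟩⟩

/-- **S11774** (core): a homomorphism of finite locally free modules is determined by its
restriction to a square-zero closed subscheme when `Hom(E₀, I ⊗ F₀) = 0`. -/
theorem map_eq_of_pullback_map_eq (hI : I * I = ⊥) (E F : X.Modules)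
    (hF : FlatMod.IsFinLocFree F)
    (h0 : Subsingleton ((Scheme.Modules.pullback I.subschemeι).obj E ⟶
      CohB1.tensorMod ((Scheme.Modules.pullback I.subschemeι).obj (ClSub.idealMod I))
        ((Scheme.Modules.pullback I.subschemeι).obj F)))
    (u u' : E ⟶ F)
    (huu' : (Scheme.Modules.pullback I.subschemeι).map u =
      (Scheme.Modules.pullback I.subschemeι).map u') : u = u' := by
  let i := I.subschemeι
  let adj := Scheme.Modules.pullbackPushforwardAdjunction i
  obtain ⟨K, k, w, hSE, ⟨eK⟩⟩ := exists_kernel_unit I hI F hF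
  have h1 : ∀ v : E ⟶ F, v ≫ adj.unit.app F =
      adj.unit.app E ≫ (Scheme.Modules.pushforward i).map ((Scheme.Modules.pullback i).map v) :=
    fun v => adj.unit.naturality v
  have h2 : (u - u') ≫ adj.unit.app F = 0 := by
    rw [Preadditive.sub_comp, h1, h1, huu', sub_self]
  haveI : Mono k := hSE.mono_f
  let m : E ⟶ K := hSE.exact.lift (u - u') h2
  have hm : m ≫ k = u - u' := hSE.exact.lift_f _ _
  have hm0 : m = 0 := by
    have h3 : m ≫ eK.hom = 0 := by
      apply (adj.homEquiv _ _).symm.injective
      exact Subsingleton.elim _ _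
    rw [← cancel_mono eK.hom, h3, zero_comp]
  rw [hm0, zero_comp] at hm
  exact sub_eq_zero.mp hm.symm

/-- an endomorphism of a finite locally free module which becomes an isomorphism on a square-zero
closed subscheme is an isomorphism. -/
lemma isIso_endo_of_isIso_pullback (hI : I * I = ⊥) {E : X.Modules} (hE : FlatMod.IsFinLocFree E)
    (s : E ⟶ E) (hs : IsIso ((Scheme.Modules.pullback I.subschemeι).map s)) : IsIso s := by
  obtain ⟨n, hn⟩ := exists_nilThick I hI
  have hC : IsZero (cokernel s) := by
    apply Groth.Agent.H4.NT4.isZero_of_isZero_pullback hn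
    have e : (Scheme.Modules.pullback I.subschemeι).obj (cokernel s) ≅
        cokernel ((Scheme.Modules.pullback I.subschemeι).map s) :=
      PreservesCokernel.iso (Scheme.Modules.pullback I.subschemeι) s
    exact IsZero.of_iso (isZero_cokernel_of_epi _) e
  haveI : Epi s := Preadditive.epi_of_isZero_cokernel s hC
  haveI := isFinitePresentation_of_isFinLocFree E hE
  exact isIso_of_epi_endo E inferInstance s

section Lift

variable [HasExt.{u} X.Modules] [HasExt.{u} I.subscheme.Modules] [EnoughInjectives X.Modules]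

/-- lifting along the unit is possible when the relevant `Ext¹` vanishes. -/
lemma exists_lift (hI : I * I = ⊥) (E F : X.Modules) (hE : FlatMod.IsFinLocFree E)
    (hF : FlatMod.IsFinLocFree F)
    (h1 : Subsingleton (Ext.{u} ((Scheme.Modules.pullback I.subschemeι).obj E)
      (CohB1.tensorMod ((Scheme.Modules.pullback I.subschemeι).obj (ClSub.idealMod I))
        ((Scheme.Modules.pullback I.subschemeι).obj F)) 1))
    (g : E ⟶ (Scheme.Modules.pushforward I.subschemeι).obj
      ((Scheme.Modules.pullback I.subschemeι).obj F)) :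
    ∃ s : E ⟶ F,
      s ≫ (Scheme.Modules.pullbackPushforwardAdjunction I.subschemeι).unit.app F = g := by
  let i := I.subschemeι
  obtain ⟨K, k, w, hSE, ⟨eK⟩⟩ := exists_kernel_unit I hI F hF
  haveI : ((Scheme.Modules.pullback i).obj (ClSub.idealMod I)).IsQuasicoherent := qc_pullback i _
  haveI := qc_of_isFinLocFree F hF
  haveI : ((Scheme.Modules.pullback i).obj F).IsQuasicoherent := qc_pullback i _
  haveI := tensorMod_isQuasicoherent ((Scheme.Modules.pullback i).obj (ClSub.idealMod I))
    ((Scheme.Modules.pullback i).obj F)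
  haveI h2 := subsingleton_ext_one_push i E hE _ h1
  haveI : Subsingleton (Ext.{u} E (ShortComplex.mk k _ w).X₁ 1) :=
    (extEquivRight E eK 1).toEquiv.subsingleton
  exact Groth.Agent.H2.Euler.exists_lift_of_subsingleton_ext hSE E g

/-- **S11767** (core): homomorphisms of finite locally free modules lift along a square-zero
thickening when `Ext¹(E₀, I ⊗ F₀) = 0`. -/
theorem exists_map_lift (hI : I * I = ⊥) (E F : X.Modules) (hE : FlatMod.IsFinLocFree E)
    (hF : FlatMod.IsFinLocFree F)
    (h1 : Subsingleton (Ext.{u} ((Scheme.Modules.pullback I.subschemeι).obj E)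
      (CohB1.tensorMod ((Scheme.Modules.pullback I.subschemeι).obj (ClSub.idealMod I))
        ((Scheme.Modules.pullback I.subschemeι).obj F)) 1))
    (u₀ : (Scheme.Modules.pullback I.subschemeι).obj E ⟶
      (Scheme.Modules.pullback I.subschemeι).obj F) :
    ∃ u : E ⟶ F, (Scheme.Modules.pullback I.subschemeι).map u = u₀ := by
  let i := I.subschemeι
  let adj := Scheme.Modules.pullbackPushforwardAdjunction i
  obtain ⟨s, hs⟩ := exists_lift I hI E F hE hF h1 (adj.homEquiv _ _ u₀)
  refine ⟨s, ?_⟩
  apply (adj.homEquiv _ _).injective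
  have h2 : adj.homEquiv _ _ ((Scheme.Modules.pullback i).map s) = s ≫ adj.unit.app F :=
    (adj.unit.naturality s).symm
  rw [h2, hs]

/-- **S11769** (core): finite locally free modules with isomorphic restrictions to a square-zero
closed subscheme are isomorphic when `Ext¹(E₀, I ⊗ E₀) = 0`. -/
theorem nonempty_iso_of_pullback_iso (hI : I * I = ⊥) (E E' : X.Modules)
    (hE : FlatMod.IsFinLocFree E) (hE' : FlatMod.IsFinLocFree E')
    (e : (Scheme.Modules.pullback I.subschemeι).obj E ≅
      (Scheme.Modules.pullback I.subschemeι).obj E')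
    (h1 : Subsingleton (Ext.{u} ((Scheme.Modules.pullback I.subschemeι).obj E)
      (CohB1.tensorMod ((Scheme.Modules.pullback I.subschemeι).obj (ClSub.idealMod I))
        ((Scheme.Modules.pullback I.subschemeι).obj E)) 1)) :
    Nonempty (E ≅ E') := by
  let i := I.subschemeι
  let P := (Scheme.Modules.pullback i).obj (ClSub.idealMod I)
  have h1a : Subsingleton (Ext.{u} ((Scheme.Modules.pullback i).obj E)
      (CohB1.tensorMod P ((Scheme.Modules.pullback i).obj E')) 1) :=
    (extEquivRight ((Scheme.Modules.pullback i).obj E) (tensorIso' (Iso.refl P) e)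
      1).symm.toEquiv.subsingleton
  have h1b : Subsingleton (Ext.{u} ((Scheme.Modules.pullback i).obj E')
      (CohB1.tensorMod P ((Scheme.Modules.pullback i).obj E)) 1) :=
    (extEquivLeft e (CohB1.tensorMod P ((Scheme.Modules.pullback i).obj E))
      1).symm.toEquiv.subsingleton
  obtain ⟨u, hu⟩ := exists_map_lift I hI E E' hE hE' h1a e.hom
  obtain ⟨v, hv⟩ := exists_map_lift I hI E' E hE' hE h1b e.inv
  haveI huv : IsIso (u ≫ v) := by
    apply isIso_endo_of_isIso_pullback I hI hE
    rw [CategoryTheory.Functor.map_comp, hu, hv, e.hom_inv_id]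
    infer_instance
  haveI hvu : IsIso (v ≫ u) := by
    apply isIso_endo_of_isIso_pullback I hI hE'
    rw [CategoryTheory.Functor.map_comp, hu, hv, e.inv_hom_id]
    infer_instance
  have hl : (inv (v ≫ u) ≫ v) ≫ u = 𝟙 _ := by rw [Category.assoc, IsIso.inv_hom_id]
  have hr : u ≫ (v ≫ inv (u ≫ v)) = 𝟙 _ := by rw [← Category.assoc, IsIso.hom_inv_id]
  have hlr : v ≫ inv (u ≫ v) = inv (v ≫ u) ≫ v := by
    calc v ≫ inv (u ≫ v) = ((inv (v ≫ u) ≫ v) ≫ u) ≫ (v ≫ inv (u ≫ v)) := by
          rw [hl, Category.id_comp]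
      _ = (inv (v ≫ u) ≫ v) ≫ (u ≫ (v ≫ inv (u ≫ v))) := by simp only [Category.assoc]
      _ = inv (v ≫ u) ≫ v := by rw [hr, Category.comp_id]
  exact ⟨{ hom := u, inv := v ≫ inv (u ≫ v), hom_inv_id := hr, inv_hom_id := by rw [hlr, hl] }⟩

end Lift

/-- **S11767**. -/
theorem s11767 (X : Scheme.{u}) (I : X.IdealSheafData) (hI : I ^ 2 = ⊥)
    (E F : X.Modules) (hE : FlatMod.IsFinLocFree E) (hF : FlatMod.IsFinLocFree F)
    [HasExt.{u} I.subscheme.Modules]
    (h1 : Subsingleton (Abelian.Ext.{u} ((Scheme.Modules.pullback I.subschemeι).obj E)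
      (CohB1.tensorMod ((Scheme.Modules.pullback I.subschemeι).obj (ClSub.idealMod I))
        ((Scheme.Modules.pullback I.subschemeι).obj F)) 1))
    (u₀ : (Scheme.Modules.pullback I.subschemeι).obj E ⟶
      (Scheme.Modules.pullback I.subschemeι).obj F) :
    ∃ u : E ⟶ F, (Scheme.Modules.pullback I.subschemeι).map u = u₀ := by
  haveI := Groth.Agent.H1.sheafOfModules_isGrothendieckAbelian
    (Opens.grothendieckTopology X) X.ringCatSheaf
  haveI : EnoughInjectives X.Modules :=
    inferInstanceAs (EnoughInjectives (SheafOfModules.{u} X.ringCatSheaf))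
  haveI : HasExt.{u} X.Modules := hasExt_of_enoughInjectives.{u} _
  have hI' : I * I = ⊥ := by rw [← pow_two]; exact hI
  exact exists_map_lift I hI' E F hE hF h1 u₀

/-- **S11769**. -/
theorem s11769 (X : Scheme.{u}) (I : X.IdealSheafData)
    (hI : I ^ 2 = ⊥) (E E' : X.Modules) (hE : FlatMod.IsFinLocFree E)
    (hE' : FlatMod.IsFinLocFree E')
    (e : (Scheme.Modules.pullback I.subschemeι).obj E ≅
      (Scheme.Modules.pullback I.subschemeι).obj E')
    [HasExt.{u} I.subscheme.Modules]
    (h1 : Subsingleton (Abelian.Ext.{u} ((Scheme.Modules.pullback I.subschemeι).obj E)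
      (CohB1.tensorMod ((Scheme.Modules.pullback I.subschemeι).obj (ClSub.idealMod I))
        ((Scheme.Modules.pullback I.subschemeι).obj E)) 1)) :
    Nonempty (E ≅ E') := by
  haveI := Groth.Agent.H1.sheafOfModules_isGrothendieckAbelian
    (Opens.grothendieckTopology X) X.ringCatSheaf
  haveI : EnoughInjectives X.Modules :=
    inferInstanceAs (EnoughInjectives (SheafOfModules.{u} X.ringCatSheaf))
  haveI : HasExt.{u} X.Modules := hasExt_of_enoughInjectives.{u} _
  have hI' : I * I = ⊥ := by rw [← pow_two]; exact hI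
  exact nonempty_iso_of_pullback_iso I hI' E E' hE hE' e h1

/-- **S11774**. -/
theorem s11774 (X : Scheme.{u}) (I : X.IdealSheafData) (hI : I ^ 2 = ⊥)
    (E F : X.Modules) (hF : FlatMod.IsFinLocFree F)
    (h0 : Subsingleton ((Scheme.Modules.pullback I.subschemeι).obj E ⟶
      CohB1.tensorMod ((Scheme.Modules.pullback I.subschemeι).obj (ClSub.idealMod I))
        ((Scheme.Modules.pullback I.subschemeι).obj F)))
    (u u' : E ⟶ F)
    (huu' : (Scheme.Modules.pullback I.subschemeι).map u =
      (Scheme.Modules.pullback I.subschemeι).map u') :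
    u = u' := by
  have hI' : I * I = ⊥ := by rw [← pow_two]; exact hI
  exact map_eq_of_pullback_map_eq I hI' E F hF h0 u u' huu'

end Groth.Agent.LD.QC.LiftSqZero
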