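import Groth.Agent.Lib.Lead.QC.WeakAssIso
universe u v
namespace Groth.Agent.LD.QC

section WAPush

theorem ker_toSpanSingleton_restrictScalars {A B : Type u} [CommRing A] [CommRing B] (φ : A →+* B)
    {N : Type v} [AddCommGroup N] [Module A N] [Module B N]
    (hsm : ∀ (a : A) (n : N), a • n = φ a • n) (m : N) :
    (LinearMap.ker (LinearMap.toSpanSingleton A N m) : Ideal A) =
      Ideal.comap φ (LinearMap.ker (LinearMap.toSpanSingleton B N m) : Ideal B) := by
  ext a
  change a • m = 0 ↔ φ a • m = 0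
  rw [hsm]

/-- weakly associated primes of a restriction of scalars come from weakly associated primes. -/
theorem exists_weakAss_comap_eq {A B : Type u} [CommRing A] [CommRing B] (φ : A →+* B)
    {N : Type v} [AddCommGroup N] [Module A N] [Module B N]
    (hsm : ∀ (a : A) (n : N), a • n = φ a • n) (p : Ideal A) (hp : p ∈ FlatCA.weakAss A N) :
    ∃ q ∈ FlatCA.weakAss B N, Ideal.comap φ q = p := by
  rw [mem_weakAss_iff] at hp
  obtain ⟨m, hm⟩ := hp
  rw [ker_toSpanSingleton_restrictScalars φ hsm m] at hm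
  obtain ⟨q, hq, hqp⟩ := Ideal.exists_minimalPrimes_comap_eq φ p hm
  exact ⟨q, (mem_weakAss_iff q).mpr ⟨m, hq⟩, hqp⟩

/-- weakly associated primes of a submodule of a finite product. -/
theorem exists_mem_weakAss_of_injective_pi {A : Type u} [CommRing A] {N : Type v} [AddCommGroup N]
    [Module A N] {ι : Type*} [Finite ι] {P : ι → Type v} [∀ i, AddCommGroup (P i)]
    [∀ i, Module A (P i)] (g : ∀ i, N →+ P i) (hg : ∀ i (a : A) (n : N), g i (a • n) = a • g i n)
    (hinj : ∀ n : N, (∀ i, g i n = 0) → n = 0) (p : Ideal A) (hp : p ∈ FlatCA.weakAss A N) :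
    ∃ i, p ∈ FlatCA.weakAss A (P i) := by
  classical
  haveI := Fintype.ofFinite ι
  rw [mem_weakAss_iff] at hp
  obtain ⟨m, ⟨hpp, hIp⟩, hmin⟩ := hp
  have hinf : (Finset.univ.inf fun i =>
      (LinearMap.ker (LinearMap.toSpanSingleton A (P i) (g i m)) : Ideal A)) ≤ p := by
    intro a ha
    apply hIp
    change a • m = 0
    apply hinj
    intro i
    rw [hg]
    have hle : (Finset.univ.inf fun i =>
      (LinearMap.ker (LinearMap.toSpanSingleton A (P i) (g i m)) : Ideal A)) ≤
        (LinearMap.ker (LinearMap.toSpanSingleton A (P i) (g i m)) : Ideal A) :=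
      Finset.inf_le (Finset.mem_univ i)
    exact hle ha
  obtain ⟨i, -, hi⟩ := (Ideal.IsPrime.inf_le' hpp).mp hinf
  refine ⟨i, (mem_weakAss_iff p).mpr ⟨g i m, ⟨hpp, hi⟩, ?_⟩⟩
  rintro q ⟨hq, hIq⟩ hqp
  refine hmin ⟨hq, ?_⟩ hqp
  intro a ha
  apply hIq
  change a • g i m = 0
  rw [← hg, show a • m = 0 from ha, map_zero]

end WAPush
end Groth.Agent.LD.QC
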