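import Mathlib
import Groth.Prelude.Def_ClSub2
import Groth.Agent.Lib.Lead.QC.NegTwist
import Groth.Agent.Lib.Lead.QC.InvField
import Groth.Agent.Lib.Lead.QC.TensorPow
import Groth.Agent.Lib.Lead.QC.FreeHom
import Groth.Agent.Lib.Lead.QC.FreeData
import Groth.Agent.Lib.Lead.QC.AmpleIso
import Groth.Agent.Lib.Lead.CohLES.H0
import Groth.Agent.Lib.Helper5.CV.A
import Groth.Agent.Lib.Helper5.Curve4.Tors1
import Groth.Agent.Lib.Helper5.Split.Split2

/-!
# Negative powers of an invertible module with enough sections have no sections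

On an integral proper scheme over a field, if `L^j` has nonzero sections for `j ≥ 4` and no
positive power of `L` is trivial, then the powers of an inverse `M` of `L` have no nonzero
sections.
-/

set_option autoImplicit false
universe u
open CategoryTheory Limits AlgebraicGeometry TopologicalSpace Opposite

namespace Groth.Agent.LD.NegPowSec

open Groth.Agent.LD.QC

variable {X : Scheme.{u}}

lemma comp_iso_ne_zero {A B C : X.Modules} (f : A ⟶ B) (e : B ≅ C) (hf : f ≠ 0) :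
    f ≫ e.hom ≠ 0 := by
  intro h
  apply hf
  have h1 := congrArg (fun g => g ≫ e.inv) h
  simpa using h1

/-- a nonzero class in `H⁰` gives a nonzero global section. -/
lemma exists_hom_ne_zero (F : X.Modules) (x : Coh.HH X F 0) (hx : x ≠ 0) :
    ∃ s : unitMod X ⟶ F, s ≠ 0 := by
  refine ⟨homOfSection F (CL.HH0Equiv F x), fun h0 => hx ?_⟩
  have h1 := sectionOfHom_homOfSection F (CL.HH0Equiv F x)
  rw [h0] at h1
  have h2 : sectionOfHom (0 : unitMod X ⟶ F) = 0 := rfl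
  rw [h2] at h1
  exact (CL.HH0Equiv F).injective (h1.symm.trans (map_zero (CL.HH0Equiv F)).symm)

lemma mulSec_ne_zero [IsIntegral X] {M : X.Modules} [M.IsQuasicoherent]
    (hM : PicF.IsInvertible M) {a b : ℕ} (σ : unitMod X ⟶ CohB1.tensorPow M a)
    (τ : unitMod X ⟶ CohB1.tensorPow M b) (hσ : σ ≠ 0) (hτ : τ ≠ 0) : mulSec M σ τ ≠ 0 := by
  unfold mulSec
  exact comp_iso_ne_zero _ _ (Groth.Agent.H5.CV.tmulHom_ne_zero (isInvertible_tensorPow hM a)
    (isInvertible_tensorPow hM b) σ τ hσ hτ)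

/-- a section followed by multiplication by a section is the product section. -/
lemma comp_twistBy (Q : X.Modules) {N : X.Modules} (τ : unitMod X ⟶ Q) (σ : unitMod X ⟶ N) :
    τ ≫ Groth.Agent.H5.Curve4.twistBy Q σ = SecTwist.tmulHom τ σ := by
  rw [← homOfSection_sectionOfHom (τ ≫ Groth.Agent.H5.Curve4.twistBy Q σ),
    ← homOfSection_sectionOfHom (SecTwist.tmulHom τ σ)]
  congr 1
  show (Groth.Agent.H5.Curve4.twistBy Q σ).app ⊤ (τ.app ⊤ (1 : Γ(X, ⊤))) = _
  rw [Groth.Agent.H5.Curve4.twistBy_app]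
  exact (SecTwist.val_tmulHom τ σ ⊤).symm

theorem main (k : Type u) [Field k] (X : Scheme.{u}) [X.Over (Spec (CommRingCat.of k))]
    [IsProper (X ↘ (Spec (CommRingCat.of k)))] [IsIntegral X]
    (L M : X.Modules) (hL : PicF.IsInvertible L) (hM : ClSub.IsInverseOf M L)
    (hsec : ∀ j : ℕ, 4 ≤ j → Nontrivial (Coh.HH X (CohB1.tensorPow L j) 0))
    (hnt : ∀ j : ℕ, 1 ≤ j → IsEmpty (CohB1.tensorPow L j ≅ Coh.structureModule X))
    (i : ℕ) (hi : 1 ≤ i) :
    Subsingleton (Coh.HH X (CohB1.tensorPow M i) 0) := by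
  obtain ⟨ε⟩ := hM
  have hMinv : PicF.IsInvertible M := Groth.Agent.H5.Split.isInvertible_of_tensor_iso hL ε
  haveI : M.IsQuasicoherent := qc_of_isInvertible M hMinv
  haveI : L.IsQuasicoherent := qc_of_isInvertible L hL
  have hfield : IsField (Γ(X, ⊤) : Type u) :=
    isField_of_universallyClosed k (X ↘ Spec (CommRingCat.of k))
  by_contra hns
  rw [not_subsingleton_iff_nontrivial] at hns
  obtain ⟨x, hx⟩ := exists_ne (0 : Coh.HH X (CohB1.tensorPow M i) 0)
  obtain ⟨s, hs⟩ := exists_hom_ne_zero (CohB1.tensorPow M i) x hx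
  have hs2 : mulSec M s s ≠ 0 := mulSec_ne_zero hMinv s s hs hs
  have hs4 : mulSec M (mulSec M s s) (mulSec M s s) ≠ 0 := mulSec_ne_zero hMinv _ _ hs2 hs2
  obtain ⟨n, hn⟩ : ∃ n : ℕ, n = (i + i) + (i + i) := ⟨_, rfl⟩
  obtain ⟨s4, hs4'⟩ : ∃ s4 : unitMod X ⟶ CohB1.tensorPow M n, s4 ≠ 0 := by
    subst hn
    exact ⟨_, hs4⟩
  have hn4 : 4 ≤ 0 + n := by omega
  haveI := hsec (0 + n) hn4
  obtain ⟨y, hy⟩ := exists_ne (0 : Coh.HH X (CohB1.tensorPow L (0 + n)) 0)
  obtain ⟨t, ht⟩ := exists_hom_ne_zero (CohB1.tensorPow L (0 + n)) y hy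
  have hLn : PicF.IsInvertible (CohB1.tensorPow L (0 + n)) := isInvertible_tensorPow hL _
  have hMn : PicF.IsInvertible (CohB1.tensorPow M n) := isInvertible_tensorPow hMinv _
  obtain ⟨ψ⟩ := Groth.Agent.LD.NegTwist.nonempty_psi M L hMinv hL ε (unitMod X) 0 n
  have hQinv : PicF.IsInvertible (CohB1.tensorMod (unitMod X) (CohB1.tensorPow L (0 + n))) :=
    isInvertible_of_iso (unitorL' _).symm hLn
  have ht' : t ≫ (unitorL' (CohB1.tensorPow L (0 + n))).inv ≠ 0 :=
    comp_iso_ne_zero t (unitorL' _).symm ht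
  obtain ⟨κ, -⟩ : ∃ κ : CohB1.tensorMod (CohB1.tensorMod (unitMod X) (CohB1.tensorPow L (0 + n)))
      (CohB1.tensorPow M n) ≅ unitMod X, True :=
    ⟨ψ ≪≫ unitorL' (CohB1.tensorPow L 0), trivial⟩
  have hu : Groth.Agent.H5.Curve4.twistBy
      (CohB1.tensorMod (unitMod X) (CohB1.tensorPow L (0 + n))) s4 ≫ κ.hom ≠ 0 := by
    intro h0
    have h1 : (t ≫ (unitorL' (CohB1.tensorPow L (0 + n))).inv) ≫ Groth.Agent.H5.Curve4.twistBy
        (CohB1.tensorMod (unitMod X) (CohB1.tensorPow L (0 + n))) s4 ≠ 0 := by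
      rw [comp_twistBy]
      exact Groth.Agent.H5.CV.tmulHom_ne_zero hQinv hMn _ s4 ht' hs4'
    apply comp_iso_ne_zero _ κ h1
    rw [Category.assoc, h0, comp_zero]
  obtain ⟨e1⟩ := nonempty_iso_unit_of_sections hfield _ hQinv _ ht' _ hu
  exact (hnt (0 + n) (by omega)).false ((unitorL' _).symm ≪≫ e1)

end Groth.Agent.LD.NegPowSec
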