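import Groth.Agent.Lib.Lead.QC.AmpleTwistFinite
import Groth.Agent.Lib.Lead.QC.NegTwist
import Groth.Agent.Lib.Lead.QC.TensorComm
import Groth.Agent.Lib.Lead.QC.ZeroScheme
import Groth.Agent.Lib.Lead.QC.IdealMod
import Groth.Agent.Lib.Lead.QC.AmpleIso
import Groth.Agent.Lib.Lead.QC.SubExt
import Groth.Agent.Lib.Lead.PD.ConnZeroInt
import Groth.Agent.Lib.Helper5.Glue.F
universe u
open CategoryTheory Limits AlgebraicGeometry TopologicalSpace Opposite

namespace Groth.Agent.LD.QC
variable {X : Scheme.{u}}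

/-- a section of a module generating at all associated points of `X` is a monomorphism
(locally Noetherian case). -/
theorem mono_of_assPoints_mem_genLocus [IsLocallyNoetherian X] (M : X.Modules)
    (s : unitMod X ⟶ M)
    (h : ∀ x : X, Curv2.IsAssPoint (unitMod X) x → x ∈ CohB1.genLocus M s) : Mono s := by
  haveI : (unitMod X).IsQuasicoherent := qc_of_isInvertible _ (isInvertible_unit X)
  have key : ∀ (W : X.Opens) (c : Γ(unitMod X, W)), s.app W c = 0 → c = 0 := by
    intro W c hc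
    apply section_ext_of_cover (unitMod X) (fun V : {V : X.affineOpens // V.1 ≤ W} => V.1.1)
      (fun V => V.2) (le_iSup_affineOpens W)
    intro V
    rw [map_zero]
    by_contra hne
    obtain ⟨x, hxV, hxass, hx⟩ :=
      NegTwist.exists_assPoint_of_ne_zero (unitMod X) V.1.2 _ hne
    have hxg := h x hxass
    apply hx (V.1.1 ⊓ CohB1.genLocus M s) inf_le_left ⟨hxV, hxg⟩
    have hbij := (le_genLocus_iff M s (CohB1.genLocus M s)).mp le_rfl
      (V.1.1 ⊓ CohB1.genLocus M s) inf_le_right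
    apply hbij.1
    rw [app_res s, app_res s, hc, map_zero, map_zero, map_zero]
  apply mono_of_injective_app
  intro W a b hab
  have : a - b = 0 := key W (a - b) (by rw [map_sub, hab, sub_self])
  exact sub_eq_zero.mp this

/-- **S1658**: on a Noetherian scheme with an ample module every invertible module is the
difference of two effective Cartier divisors avoiding a given finite set of points. -/
theorem s1658 (X : Scheme.{u}) [IsNoetherian X] (L : X.Modules) (hL : CohB1.IsAmple L)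
    (N : X.Modules) (hN : PicF.IsInvertible N) (E : Set X) (hE : E.Finite) :
    ∃ D D' : X.IdealSheafData, BlowUp.IsEffCartierIdeal D ∧ BlowUp.IsEffCartierIdeal D' ∧
      Disjoint E (D.support : Set X) ∧ Disjoint E (D'.support : Set X) ∧
      Nonempty (CohB1.tensorMod N (ClSub.idealMod D) ≅ ClSub.idealMod D') := by
  classical
  haveI : CompactSpace X := hL.2.1
  haveI : X.IsSeparated := isSeparated_of_affine_genLocus L hL.1 hL.2.2
  haveI : (unitMod X).IsQuasicoherent := qc_of_isInvertible _ (isInvertible_unit X)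
  have hass : {x : X | Curv2.IsAssPoint (unitMod X) x}.Finite :=
    NegTwist.finite_assPoints (unitMod X) (isFiniteType_of_isInvertible _ (isInvertible_unit X))
  obtain ⟨Z, hZ⟩ : ∃ Z : Finset X, Z = hE.toFinset ∪ hass.toFinset := ⟨_, rfl⟩
  have hZE : ∀ x ∈ E, x ∈ Z := fun x hx => by
    rw [hZ]; exact Finset.mem_union_left _ (hE.mem_toFinset.mpr hx)
  have hZA : ∀ x : X, Curv2.IsAssPoint (unitMod X) x → x ∈ Z := fun x hx => by
    rw [hZ]; exact Finset.mem_union_right _ (hass.mem_toFinset.mpr hx)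
  obtain ⟨n₁, h1⟩ := exists_twist_section_finset L hL N hN _ Z rfl
  obtain ⟨n₂, h2⟩ := exists_twist_section_finset L hL (unitMod X) (isInvertible_unit X) _ Z rfl
  obtain ⟨n, hn1, hn2⟩ : ∃ n, n₁ ≤ n ∧ n₂ ≤ n := ⟨max n₁ n₂, le_max_left _ _, le_max_right _ _⟩
  obtain ⟨s, hs⟩ := h1 n hn1
  obtain ⟨t₀, ht₀⟩ := h2 n hn2
  have hLn : PicF.IsInvertible (CohB1.tensorPow L n) := isInvertible_tensorPow hL.1 n
  haveI : (CohB1.tensorPow L n).IsQuasicoherent := qc_of_isInvertible _ hLn
  haveI : N.IsQuasicoherent := qc_of_isInvertible _ hN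
  obtain ⟨t, htdef⟩ : ∃ t : unitMod X ⟶ CohB1.tensorPow L n,
      t = t₀ ≫ (unitorL (CohB1.tensorPow L n)).hom := ⟨_, rfl⟩
  have ht : ∀ z ∈ Z, z ∈ CohB1.genLocus (CohB1.tensorPow L n) t := fun z hz => by
    rw [htdef, genLocus_comp_iso]; exact ht₀ z hz
  obtain ⟨N', hN', ⟨εN⟩⟩ := Groth.Agent.H5.Glue.exists_inverse N hN
  obtain ⟨L', hL', ⟨εL⟩⟩ := Groth.Agent.H5.Glue.exists_inverse (CohB1.tensorPow L n) hLn
  haveI : N'.IsQuasicoherent := qc_of_isInvertible _ hN'
  haveI : L'.IsQuasicoherent := qc_of_isInvertible _ hL'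
  have hP : PicF.IsInvertible (CohB1.tensorMod N (CohB1.tensorPow L n)) :=
    isInvertible_tensorMod hN hLn
  have hP' : PicF.IsInvertible (CohB1.tensorMod N' L') := isInvertible_tensorMod hN' hL'
  haveI : (CohB1.tensorMod N' L').IsQuasicoherent := qc_of_isInvertible _ hP'
  let εP : CohB1.tensorMod (CohB1.tensorMod N (CohB1.tensorPow L n)) (CohB1.tensorMod N' L') ≅
      unitMod X :=
    tensorMiddleFour N (CohB1.tensorPow L n) N' L' ≪≫ tensorIso' εN εL ≪≫ unitorL (unitMod X)
  haveI hsm : Mono s :=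
    mono_of_assPoints_mem_genLocus _ s (fun x hx => hs x (hZA x hx))
  haveI htm : Mono t :=
    mono_of_assPoints_mem_genLocus _ t (fun x hx => ht x (hZA x hx))
  obtain ⟨φ⟩ := nonempty_iso_idealMod_zeroScheme _ _ εP s hP hP'
  obtain ⟨ψ⟩ := nonempty_iso_idealMod_zeroScheme _ _ εL t hLn hL'
  refine ⟨PicF2.zeroScheme _ s, PicF2.zeroScheme _ t, ?_, ?_, ?_, ?_, ?_⟩
  · exact (isInvertible_idealMod_iff _).mp (isInvertible_of_iso φ hP')
  · exact (isInvertible_idealMod_iff _).mp (isInvertible_of_iso ψ hL')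
  · rw [support_zeroScheme _ hP s, Set.disjoint_left]
    intro x hxE hx
    exact hx (hs x (hZE x hxE))
  · rw [support_zeroScheme _ hLn t, Set.disjoint_left]
    intro x hxE hx
    exact hx (ht x (hZE x hxE))
  · exact ⟨tensorIso' (Iso.refl N) φ.symm ≪≫ (tensorAssoc N N' L').symm ≪≫
      tensorIso' εN (Iso.refl L') ≪≫ unitorL L' ≪≫ ψ⟩

end Groth.Agent.LD.QC
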