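import Groth.Agent.Lib.Lead.QC.AmpleFinite2
import Groth.Agent.Lib.Lead.QC.TensorDesc
universe u
open CategoryTheory Limits AlgebraicGeometry TopologicalSpace Opposite

namespace Groth.Agent.LD.QC
variable {X : Scheme.{u}}

/-- for an ample `L` and an invertible `E`, all large twists `E ⊗ L^n` have a global section
generating at a given point. -/
theorem exists_twist_section_point [QuasiSeparatedSpace X] (L : X.Modules)
    (hL : CohB1.IsAmple L) (E : X.Modules) (hE : PicF.IsInvertible E) (z : X) :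
    ∃ n₀ : ℕ, ∀ n : ℕ, n₀ ≤ n → ∃ b : unitMod X ⟶ CohB1.tensorMod E (CohB1.tensorPow L n),
      z ∈ CohB1.genLocus _ b := by
  haveI : E.IsQuasicoherent := qc_of_isInvertible E hE
  obtain ⟨n₀, hn₀⟩ := exists_epi_free_of_isAmple L hL E (isFiniteType_of_isInvertible E hE)
  refine ⟨n₀, fun n hn => ?_⟩
  obtain ⟨K, p, hp⟩ := hn₀ n hn
  have hM : PicF.IsInvertible (CohB1.tensorMod E (CohB1.tensorPow L n)) :=
    isInvertible_tensorMod hE (isInvertible_tensorPow hL.1 n)
  obtain ⟨U, e, hzU, he⟩ := (isInvertible_iff_exists_isBasisOver _).mp hM z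
  obtain ⟨W, hW, hzW, g, hg⟩ := exists_local_lift p hp U e z hzU
  obtain ⟨j, hj⟩ := exists_mem_genLocus_of_lift _ p z e he W hW hzW g hg
  exact ⟨_, hj⟩

/-- **sections of large twists generating at finitely many points**: for an ample `L` and an
invertible `E` on a quasi-compact separated scheme and a finite set `Z` of points, for all large
`n` there is a global section of `E ⊗ L^n` generating at every point of `Z`. -/
theorem exists_twist_section_finset [CompactSpace X] [X.IsSeparated] (L : X.Modules)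
    (hL : CohB1.IsAmple L) (E : X.Modules) (hE : PicF.IsInvertible E) :
    ∀ (N : ℕ) (Z : Finset X), Z.card = N →
    ∃ n₀ : ℕ, ∀ n : ℕ, n₀ ≤ n → ∃ T : unitMod X ⟶ CohB1.tensorMod E (CohB1.tensorPow L n),
      ∀ z ∈ Z, z ∈ CohB1.genLocus _ T := by
  classical
  haveI : QuasiSeparatedSpace X := inferInstance
  haveI : L.IsQuasicoherent := qc_of_isInvertible L hL.1
  haveI : E.IsQuasicoherent := qc_of_isInvertible E hE
  intro N
  induction N using Nat.strong_induction_on with
  | _ N ih =>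
  intro Z hZN
  by_cases hZ0 : Z = ∅
  · subst hZ0
    exact ⟨0, fun n _ => ⟨0, by simp⟩⟩
  by_cases hrel : ∃ a ∈ Z, ∃ b ∈ Z, a ≠ b ∧ a ⤳ b
  · obtain ⟨a, ha, b, hb, hab, hspec⟩ := hrel
    have hcard : (Z.erase a).card < N := by rw [← hZN]; exact Finset.card_erase_lt_of_mem ha
    obtain ⟨n₀, h⟩ := ih _ hcard (Z.erase a) rfl
    refine ⟨n₀, fun n hn => ?_⟩
    obtain ⟨T, hT⟩ := h n hn
    refine ⟨T, fun z hz => ?_⟩
    by_cases hza : z = a
    · subst hza
      exact hspec.mem_open (CohB1.genLocus _ T).2 (hT b (Finset.mem_erase.mpr ⟨hab.symm, hb⟩))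
    · exact hT z (Finset.mem_erase.mpr ⟨hza, hz⟩)
  · push Not at hrel
    obtain ⟨z, hz⟩ := Finset.nonempty_iff_ne_empty.mpr hZ0
    have hcard : (Z.erase z).card < N := by rw [← hZN]; exact Finset.card_erase_lt_of_mem hz
    obtain ⟨N₁, h1⟩ := ih _ hcard (Z.erase z) rfl
    obtain ⟨N₂, h2⟩ := exists_twist_section_point L hL E hE z
    let C : Set X := ⋃ w ∈ Z.erase z, closure {w}
    have hC : IsClosed C :=
      Set.Finite.isClosed_biUnion (Finset.finite_toSet _) (fun _ _ => isClosed_closure)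
    let V₂ : X.Opens := ⟨Cᶜ, hC.isOpen_compl⟩
    have hzV₂ : z ∈ V₂ := by
      intro hzC
      obtain ⟨w, hw, hzw⟩ := Set.mem_iUnion₂.mp hzC
      have hw' := Finset.mem_erase.mp hw
      exact hrel w hw'.2 z hz hw'.1 (specializes_iff_mem_closure.mpr hzw)
    obtain ⟨n₂, s₂, k1, k2, k3⟩ := exists_affine_genLocus_le L hL z V₂ hzV₂
    refine ⟨max N₁ (N₂ + (n₂ + 1)), fun n hn => ?_⟩
    obtain ⟨T₁, hT₁⟩ := h1 n (le_trans (le_max_left _ _) hn)
    by_cases hz1 : z ∈ CohB1.genLocus _ T₁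
    · refine ⟨T₁, fun w hw => ?_⟩
      by_cases hwz : w = z
      · subst hwz; exact hz1
      · exact hT₁ w (Finset.mem_erase.mpr ⟨hwz, hw⟩)
    · have hn2 : N₂ + (n₂ + 1) ≤ n := le_trans (le_max_right _ _) hn
      obtain ⟨m, hm⟩ : ∃ m, n = m + (n₂ + 1) := ⟨n - (n₂ + 1), by omega⟩
      subst hm
      have hmN : N₂ ≤ m := by omega
      obtain ⟨b, hb⟩ := h2 m hmN
      haveI : (CohB1.tensorPow L m).IsQuasicoherent :=
        qc_of_isInvertible _ (isInvertible_tensorPow hL.1 m)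
      haveI : (CohB1.tensorPow L (n₂ + 1)).IsQuasicoherent :=
        qc_of_isInvertible _ (isInvertible_tensorPow hL.1 (n₂ + 1))
      let φ : CohB1.tensorMod (CohB1.tensorMod E (CohB1.tensorPow L m))
          (CohB1.tensorPow L (n₂ + 1)) ≅ CohB1.tensorMod E (CohB1.tensorPow L (m + (n₂ + 1))) :=
        tensorAssoc E (CohB1.tensorPow L m) (CohB1.tensorPow L (n₂ + 1)) ≪≫
          tensorIso' (Iso.refl E) (powAddIso L m (n₂ + 1))
      let T₂ : unitMod X ⟶ CohB1.tensorMod E (CohB1.tensorPow L (m + (n₂ + 1))) :=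
        SecTwist.tmulHom b s₂ ≫ φ.hom
      have g2 : CohB1.genLocus _ T₂ = CohB1.genLocus _ b ⊓ CohB1.genLocus _ s₂ := by
        change CohB1.genLocus _ (SecTwist.tmulHom b s₂ ≫ φ.hom) = _
        rw [genLocus_comp_iso, genLocus_tmulHom
          (isInvertible_tensorMod hE (isInvertible_tensorPow hL.1 m))
          (isInvertible_tensorPow hL.1 (n₂ + 1))]
      have hMinv := isInvertible_tensorMod hE (isInvertible_tensorPow hL.1 (m + (n₂ + 1)))
      refine ⟨T₁ + T₂, fun w hw => ?_⟩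
      by_cases hwz : w = z
      · subst hwz
        rw [add_comm T₁ T₂]
        apply mem_genLocus_add _ hMinv
        · rw [g2]; exact ⟨hb, k1⟩
        · exact hz1
      · have hw' : w ∈ Z.erase z := Finset.mem_erase.mpr ⟨hwz, hw⟩
        apply mem_genLocus_add _ hMinv
        · exact hT₁ w hw'
        · rw [g2]
          intro hw2
          have h4 : w ∈ V₂ := k2 hw2.2
          exact h4 (Set.mem_biUnion hw' (subset_closure rfl))

/-- **S8674**. -/
theorem s8674 (X : Scheme.{u}) [IsNoetherian X] (L : X.Modules) (hL : CohB1.IsAmple L)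
    (E : X.Modules) (hE : PicF.IsInvertible E) (ι : Type) [Finite ι] (x : ι → ↥X) :
    ∃ n : ℕ, ∀ k : ℕ, 1 ≤ k →
      ∃ s : Coh.structureModule X ⟶ CohB1.tensorMod E (CohB1.tensorPow L (k * n)),
      ∀ i : ι, x i ∈ CohB1.genLocus (CohB1.tensorMod E (CohB1.tensorPow L (k * n))) s := by
  classical
  haveI : CompactSpace X := hL.2.1
  haveI : X.IsSeparated := isSeparated_of_affine_genLocus L hL.1 hL.2.2
  haveI := Fintype.ofFinite ι
  obtain ⟨n₀, h⟩ := exists_twist_section_finset L hL E hE _ (Finset.univ.image x) rfl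
  refine ⟨n₀ + 1, fun k hk => ?_⟩
  have hk' : n₀ ≤ k * (n₀ + 1) :=
    calc n₀ ≤ n₀ + 1 := Nat.le_succ _
      _ = 1 * (n₀ + 1) := (one_mul _).symm
      _ ≤ k * (n₀ + 1) := Nat.mul_le_mul_right _ hk
  obtain ⟨T, hT⟩ := h (k * (n₀ + 1)) hk'
  exact ⟨T, fun i => hT (x i) (Finset.mem_image_of_mem x (Finset.mem_univ i))⟩

end Groth.Agent.LD.QC
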