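import Groth.Agent.Lib.Lead.QC.Mon
import Groth.Agent.Lib.Lead.QC.SepAmple

/-! # Base loci and stable base loci of invertible modules. -/

set_option autoImplicit false
universe u
open CategoryTheory Limits AlgebraicGeometry TopologicalSpace Opposite

namespace Groth.Agent.LD.QC
variable {X : Scheme.{u}}

/-- the base locus of the `m`-th tensor power. -/
def Bs (L : X.Modules) (m : ℕ) : Set X :=
  {x | ∀ s : unitMod X ⟶ CohB1.tensorPow L m, x ∉ CohB1.genLocus (CohB1.tensorPow L m) s}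

/-- the stable base locus. -/
def SB (L : X.Modules) : Set X :=
  {x | ∀ m : ℕ, 0 < m → ∀ s : unitMod X ⟶ CohB1.tensorPow L m,
    x ∉ CohB1.genLocus (CohB1.tensorPow L m) s}

lemma not_mem_Bs_iff (L : X.Modules) (m : ℕ) (x : X) :
    x ∉ Bs L m ↔ ∃ s : unitMod X ⟶ CohB1.tensorPow L m,
      x ∈ CohB1.genLocus (CohB1.tensorPow L m) s := by
  unfold Bs
  rw [Set.mem_ofPred_eq]
  push Not
  rfl

lemma SB_subset_Bs (L : X.Modules) {m : ℕ} (hm : 0 < m) : SB L ⊆ Bs L m := fun _ hx => hx m hm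

/-- the complement of the base locus, as an open. -/
noncomputable def BsOpen (L : X.Modules) (m : ℕ) : X.Opens :=
  ⨆ s : unitMod X ⟶ CohB1.tensorPow L m, CohB1.genLocus (CohB1.tensorPow L m) s

lemma mem_BsOpen_iff (L : X.Modules) (m : ℕ) (x : X) : x ∈ BsOpen L m ↔ x ∉ Bs L m := by
  rw [BsOpen, Opens.mem_iSup, not_mem_Bs_iff]

variable {L : X.Modules} [L.IsQuasicoherent]

theorem Bs_add_subset (hL : PicF.IsInvertible L) (a b : ℕ) : Bs L (a + b) ⊆ Bs L a ∪ Bs L b := by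
  intro x hx
  by_contra hcon
  rw [Set.mem_union, not_or] at hcon
  obtain ⟨s, hs⟩ := (not_mem_Bs_iff L a x).1 hcon.1
  obtain ⟨t, ht⟩ := (not_mem_Bs_iff L b x).1 hcon.2
  refine hx (mulSec L s t) ?_
  rw [genLocus_mulSec hL]
  exact ⟨hs, ht⟩

theorem Bs_mul_subset (hL : PicF.IsInvertible L) (m : ℕ) {k : ℕ} (hk : 0 < k) :
    Bs L (m * k) ⊆ Bs L m := by
  intro x hx
  by_contra hcon
  obtain ⟨s, hs⟩ := (not_mem_Bs_iff L m x).1 hcon
  obtain ⟨k, rfl⟩ := Nat.exists_eq_succ_of_ne_zero hk.ne'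
  refine hx (castSec L (powIdx_eq m (k + 1)) (secMulPow L s (k + 1))) ?_
  rw [genLocus_castSec, genLocus_secMulPow hL]
  exact hs

theorem Bs_mul_subset' (hL : PicF.IsInvertible L) (m : ℕ) {k : ℕ} (hk : 0 < k) :
    Bs L (k * m) ⊆ Bs L m := by
  rw [Nat.mul_comm]; exact Bs_mul_subset hL m hk

/-- on a Noetherian space the stable base locus is the base locus of all multiples of some
exponent. -/
theorem exists_Bs_eq_SB [NoetherianSpace X] (hL : PicF.IsInvertible L) :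
    ∃ n₀ : ℕ, 0 < n₀ ∧ (∀ m : ℕ, 0 < m → Bs L n₀ ⊆ Bs L m) ∧
      ∀ k : ℕ, 0 < k → SB L = Bs L (k * n₀) := by
  obtain ⟨U, ⟨n₀, hn₀, rfl⟩, hmax⟩ := (wellFounded_gt (α := X.Opens)).has_min
    {U | ∃ n, 0 < n ∧ BsOpen L n = U} ⟨_, 1, one_pos, rfl⟩
  have hmin : ∀ m, 0 < m → Bs L n₀ ⊆ Bs L m := by
    intro m hm
    have h1 : Bs L (n₀ * m) ⊆ Bs L n₀ := Bs_mul_subset hL n₀ hm
    have h2 : Bs L (n₀ * m) ⊆ Bs L m := Bs_mul_subset' hL m hn₀
    have h3 : BsOpen L n₀ ≤ BsOpen L (n₀ * m) := by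
      intro x hx
      rw [mem_BsOpen_iff] at hx ⊢
      exact fun h => hx (h1 h)
    have h4 : BsOpen L (n₀ * m) = BsOpen L n₀ := by
      by_contra hne
      exact hmax _ ⟨n₀ * m, Nat.mul_pos hn₀ hm, rfl⟩ (lt_of_le_of_ne h3 (Ne.symm hne))
    intro x hx
    by_contra hxm
    have h5 : x ∈ BsOpen L (n₀ * m) := by
      rw [mem_BsOpen_iff]; exact fun h => hxm (h2 h)
    rw [h4, mem_BsOpen_iff] at h5
    exact h5 hx
  refine ⟨n₀, hn₀, hmin, fun k hk => ?_⟩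
  apply Set.Subset.antisymm
  · exact SB_subset_Bs L (Nat.mul_pos hk hn₀)
  · intro x hx m hm
    exact hmin m hm (Bs_mul_subset' hL n₀ hk hx)

lemma Bs_pow (p m : ℕ) : Bs (CohB1.tensorPow L p) m = Bs L (m * p) := by
  obtain ⟨e0⟩ := ((isMon_powLeft L L p).pow m).cast rfl (Nat.mul_zero m)
  let e : CohB1.tensorPow (CohB1.tensorPow L p) m ≅ CohB1.tensorPow L (m * p) :=
    e0 ≪≫ SecTwist.unitorR _
  ext x
  rw [← not_iff_not, not_mem_Bs_iff, not_mem_Bs_iff]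
  constructor
  · rintro ⟨s, hs⟩
    exact ⟨s ≫ e.hom, by rw [genLocus_comp_iso]; exact hs⟩
  · rintro ⟨t, ht⟩
    refine ⟨t ≫ e.inv, ?_⟩
    have h := genLocus_comp_iso (t ≫ e.inv) e
    rw [← h, Category.assoc, e.inv_hom_id, Category.comp_id]
    exact ht

theorem SB_pow (hL : PicF.IsInvertible L) {p : ℕ} (hp : 0 < p) :
    SB (CohB1.tensorPow L p) = SB L := by
  ext x
  constructor
  · intro hx m hm
    have h1 : x ∈ Bs (CohB1.tensorPow L p) m := hx m hm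
    rw [Bs_pow] at h1
    exact Bs_mul_subset hL m hp h1
  · intro hx m hm
    have h1 : x ∈ Bs L (m * p) := hx (m * p) (Nat.mul_pos hm hp)
    rw [← Bs_pow] at h1
    exact h1

end Groth.Agent.LD.QC
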