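import Groth.Agent.Lib.Lead.QC.FreeData

/-! # Local bases of finite locally free modules. -/

universe u
open CategoryTheory Limits AlgebraicGeometry TopologicalSpace Opposite TensorProduct

namespace Groth.Agent.LD.QC

variable {X : Scheme.{u}}

/-- twisting by a module with a free decomposition over `U`. -/
theorem bijective_tmul_of_freeData (F P : X.Modules) (U : X.Opens) {n : ℕ}
    (D : FreeData (P.restrict U.ι) n) (V : X.Opens) (hV : V ≤ U) :
    Function.Bijective (fun t : Fin n → Γ(F, V) =>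
      ∑ i, SecTwist.tmul F P V (t i)
        (P.presheaf.map (homOfLE hV).op (basisOfIso P U (D.ι i)))) := by
  have hV' : U.ι ''ᵁ (U.ι ⁻¹ᵁ V) = V := by
    simp [Scheme.Hom.image_preimage_eq_opensRange_inf, hV]
  have key := D.bijective_tmul (F.restrict U.ι) (U.ι ⁻¹ᵁ V)
  have h2 := app_bijective_of_isIso (restrictTensorHom U.ι F P) (U.ι ⁻¹ᵁ V)
  have h3 := h2.comp key
  have h4 : (⇑(ConcreteCategory.hom ((restrictTensorHom U.ι F P).app (U.ι ⁻¹ᵁ V)))) ∘
      (fun t : Fin n → Γ(F.restrict U.ι, U.ι ⁻¹ᵁ V) =>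
        ∑ i, SecTwist.tmul (F.restrict U.ι) (P.restrict U.ι) (U.ι ⁻¹ᵁ V) (t i)
          (D.sec i (U.ι ⁻¹ᵁ V))) =
      fun t : Fin n → Γ(F, U.ι ''ᵁ (U.ι ⁻¹ᵁ V)) =>
        ∑ i, SecTwist.tmul F P (U.ι ''ᵁ (U.ι ⁻¹ᵁ V)) (t i)
          (P.presheaf.map (homOfLE (U.ι_image_le _)).op (basisOfIso P U (D.ι i))) := by
    funext t
    rw [Function.comp_apply]
    refine (map_sum ((restrictTensorHom U.ι F P).app (U.ι ⁻¹ᵁ V)).hom _ _).trans ?_
    refine Finset.sum_congr rfl (fun i _ => ?_)
    rw [basisOfIso_res]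
    exact restrictTensorHom_tmul U.ι F P (U.ι ⁻¹ᵁ V) (t i) (D.sec i (U.ι ⁻¹ᵁ V))
  replace h3 := (congrArg Function.Bijective h4).mp h3
  have gen : ∀ (V' : X.Opens) (heq : V' = U.ι ''ᵁ (U.ι ⁻¹ᵁ V)) (h : V' ≤ U),
      Function.Bijective (fun t : Fin n → Γ(F, V') =>
        ∑ i, SecTwist.tmul F P V' (t i)
          (P.presheaf.map (homOfLE h).op (basisOfIso P U (D.ι i)))) := by
    intro V' heq h
    subst heq
    exact h3
  exact gen V hV'.symm hV

/-- `e` is a basis of `L` over `U`. -/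
def IsBasisFam (L : X.Modules) (U : X.Opens) {n : ℕ} (e : Fin n → Γ(L, U)) : Prop :=
  ∀ (V : X.Opens) (h : V ≤ U),
    Function.Bijective (fun a : Fin n → Γ(X, V) =>
      ∑ i, a i • L.presheaf.map (homOfLE h).op (e i))

/-- a free decomposition over `U` gives a basis over `U`. -/
theorem isBasisFam_of_freeData (L : X.Modules) (U : X.Opens) {n : ℕ}
    (D : FreeData (L.restrict U.ι) n) :
    IsBasisFam L U (fun i => basisOfIso L U (D.ι i)) := by
  intro V hV
  have h1 := bijective_tmul_of_freeData (unitMod X) L U D V hV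
  have h2 := app_bijective_of_isIso (unitorL' L).hom V
  have h3 := h2.comp h1
  have h4 : (⇑(ConcreteCategory.hom ((unitorL' L).hom.app V))) ∘
      (fun t : Fin n → Γ(unitMod X, V) =>
        ∑ i, SecTwist.tmul (unitMod X) L V (t i)
          (L.presheaf.map (homOfLE hV).op (basisOfIso L U (D.ι i)))) =
      fun a : Fin n → Γ(X, V) =>
        ∑ i, a i • L.presheaf.map (homOfLE hV).op (basisOfIso L U (D.ι i)) := by
    funext t
    rw [Function.comp_apply]
    refine (map_sum ((unitorL' L).hom.app V).hom _ _).trans ?_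
    refine Finset.sum_congr rfl (fun i _ => ?_)
    exact unitorL'_hom_app_tmul L V (t i) _
  exact (congrArg Function.Bijective h4).mp h3

/-- the morphism `O_U^n ⟶ L|_U` attached to a family of sections. -/
noncomputable def homOfSecFam (L : X.Modules) (U : X.Opens) {n : ℕ} (e : Fin n → Γ(L, U)) :
    FlatMod.freeMod (U : Scheme.{u}) n ⟶ L.restrict U.ι :=
  Sigma.desc (fun i => homOfSecOver L U (e i))

lemma ι_homOfSecFam (L : X.Modules) (U : X.Opens) {n : ℕ} (e : Fin n → Γ(L, U)) (i : Fin n) :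
    ((FreeData.free (U : Scheme.{u}) n).ι i) ≫ homOfSecFam L U e = homOfSecOver L U (e i) := by
  unfold homOfSecFam FreeData.free
  exact Sigma.ι_desc _ _

/-- the sections of `homOfSecFam`. -/
theorem bijective_app_homOfSecFam_iff (L : X.Modules) (U : X.Opens) {n : ℕ}
    (e : Fin n → Γ(L, U)) (W : (U : Scheme.{u}).Opens) :
    Function.Bijective ((homOfSecFam L U e).app W) ↔
      Function.Bijective (fun a : Fin n → Γ(X, U.ι ''ᵁ W) =>
        ∑ i, a i • L.presheaf.map (homOfLE (U.ι_image_le W)).op (e i)) := by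
  have hβ := (FreeData.free (U : Scheme.{u}) n).bijective_sum W
  have h2 : Function.Bijective (U.ι.appIso W).inv.hom :=
    (ConcreteCategory.isIso_iff_bijective (U.ι.appIso W).inv).mp inferInstance
  have hγ : Function.Bijective (fun (a : Fin n → Γ(U, W)) (i : Fin n) =>
      (U.ι.appIso W).inv.hom (a i)) :=
    ⟨h2.1.comp_left, h2.2.comp_left⟩
  have h3 : (⇑(ConcreteCategory.hom ((homOfSecFam L U e).app W))) ∘
      (fun a : Fin n → Γ(U, W) => ∑ i, ((FreeData.free (U : Scheme.{u}) n).ι i).app W (a i)) =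
      (fun a : Fin n → Γ(X, U.ι ''ᵁ W) =>
        ∑ i, a i • L.presheaf.map (homOfLE (U.ι_image_le W)).op (e i)) ∘
      (fun (a : Fin n → Γ(U, W)) (i : Fin n) => (U.ι.appIso W).inv.hom (a i)) := by
    funext a
    rw [Function.comp_apply, Function.comp_apply]
    refine (map_sum ((homOfSecFam L U e).app W).hom _ _).trans ?_
    refine Finset.sum_congr rfl (fun i _ => ?_)
    rw [← ConcreteCategory.comp_apply, ← Scheme.Modules.Hom.comp_app, ι_homOfSecFam,
      unitHom_app, homOfSecOver_app_one]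
    rfl
  constructor
  · intro h
    have h4 := h.comp hβ
    rw [h3] at h4
    exact (Function.Bijective.of_comp_iff _ hγ).mp h4
  · intro h
    have h4 := h.comp hγ
    rw [← h3] at h4
    exact (Function.Bijective.of_comp_iff _ hβ).mp h4

/-- a basis over `U` gives a free decomposition over `U`. -/
theorem IsBasisFam.exists_freeData {L : X.Modules} {U : X.Opens} {n : ℕ} {e : Fin n → Γ(L, U)}
    (he : IsBasisFam L U e) :
    ∃ D : FreeData (L.restrict U.ι) n, ∀ i, D.ι i = homOfSecOver L U (e i) := by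
  haveI : IsIso (homOfSecFam L U e) := by
    rw [Scheme.Modules.Hom.isIso_iff_isIso_app]
    intro W
    rw [ConcreteCategory.isIso_iff_bijective]
    exact (bijective_app_homOfSecFam_iff L U e W).mpr (he _ _)
  exact ⟨(FreeData.free (U : Scheme.{u}) n).ofIso (asIso (homOfSecFam L U e)),
    fun i => ι_homOfSecFam L U e i⟩

/-- a family which is a basis over arbitrarily small neighbourhoods of every point is a basis. -/
theorem isBasisFam_of_local {L : X.Modules} {U : X.Opens} {n : ℕ} (e : Fin n → Γ(L, U))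
    (h : ∀ x ∈ U, ∀ W : X.Opens, x ∈ W → ∃ (V : X.Opens) (hV : V ≤ U), x ∈ V ∧ V ≤ W ∧
      Function.Bijective (fun a : Fin n → Γ(X, V) =>
        ∑ i, a i • L.presheaf.map (homOfLE hV).op (e i))) :
    IsBasisFam L U e := by
  haveI : IsIso (homOfSecFam L U e) := by
    apply isIso_of_local_bijective
    intro x' W' hx'
    obtain ⟨V, hV, hxV, hVW, hbij⟩ := h (U.ι x') x'.2 (U.ι ''ᵁ W') ⟨x', hx', rfl⟩
    have hVW' : U.ι ⁻¹ᵁ V ≤ W' := by
      intro y hy
      obtain ⟨z, hz, hzy⟩ := hVW hy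
      rwa [← U.ι.isOpenEmbedding.injective hzy]
    have himg : U.ι ''ᵁ (U.ι ⁻¹ᵁ V) = V := by
      rw [Scheme.Hom.image_preimage_eq_opensRange_inf, Scheme.Opens.opensRange_ι]
      exact inf_eq_right.mpr hV
    refine ⟨U.ι ⁻¹ᵁ V, hxV, hVW', ?_⟩
    rw [bijective_app_homOfSecFam_iff]
    have key : ∀ (V₁ : X.Opens) (hh : V₁ = V) (h₁ : V₁ ≤ U),
        Function.Bijective (fun a : Fin n → Γ(X, V₁) =>
          ∑ i, a i • L.presheaf.map (homOfLE h₁).op (e i)) := by
      rintro V₁ rfl h₁; exact hbij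
    exact key _ himg _
  let D := (FreeData.free (U : Scheme.{u}) n).ofIso (asIso (homOfSecFam L U e))
  have h1 := isBasisFam_of_freeData L U D
  have h2 : (fun i => basisOfIso L U (D.ι i)) = e := by
    funext i
    have : D.ι i = homOfSecOver L U (e i) := ι_homOfSecFam L U e i
    rw [this, basisOfIso_homOfSecOver]
  rwa [h2] at h1

end Groth.Agent.LD.QC
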