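import Groth.Agent.Lib.Lead.QC.GlobGen2
import Groth.Agent.Lib.Lead.QC.TensorComm
universe u
open CategoryTheory Limits AlgebraicGeometry TopologicalSpace Opposite

namespace Groth.Agent.LD.QC
variable {X : Scheme.{u}}

/-- iterated tensor product of a finite family of modules. -/
noncomputable def bigTensor : (m : ℕ) → (Fin m → X.Modules) → X.Modules
  | 0, _ => unitMod X
  | m + 1, L => CohB1.tensorMod (bigTensor m (fun i => L i.castSucc)) (L (Fin.last m))

theorem isInvertible_bigTensor : ∀ (m : ℕ) (L : Fin m → X.Modules)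
    (_ : ∀ i, PicF.IsInvertible (L i)), PicF.IsInvertible (bigTensor m L)
  | 0, _, _ => isInvertible_unit X
  | m + 1, L, hL => isInvertible_tensorMod
      (isInvertible_bigTensor m (fun i => L i.castSucc) (fun i => hL i.castSucc)) (hL (Fin.last m))

/-- tensor product of a family of sections. -/
noncomputable def bigTmulHom : (m : ℕ) → (L : Fin m → X.Modules) →
    (∀ i, unitMod X ⟶ L i) → (unitMod X ⟶ bigTensor m L)
  | 0, _, _ => 𝟙 _
  | m + 1, L, w => SecTwist.tmulHom (bigTmulHom m (fun i => L i.castSucc) (fun i => w i.castSucc))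
      (w (Fin.last m))

theorem genLocus_bigTmulHom_le : ∀ (m : ℕ) (L : Fin m → X.Modules)
    (_ : ∀ i, PicF.IsInvertible (L i)) (w : ∀ i, unitMod X ⟶ L i) (i : Fin m),
    CohB1.genLocus (bigTensor m L) (bigTmulHom m L w) ≤ CohB1.genLocus (L i) (w i)
  | 0, _, _, _, i => i.elim0
  | m + 1, L, hL, w, i => by
    have h1 : CohB1.genLocus (bigTensor (m + 1) L) (bigTmulHom (m + 1) L w) =
        CohB1.genLocus _ (bigTmulHom m (fun i => L i.castSucc) (fun i => w i.castSucc)) ⊓
          CohB1.genLocus _ (w (Fin.last m)) :=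
      genLocus_tmulHom (isInvertible_bigTensor m _ (fun i => hL i.castSucc)) (hL (Fin.last m)) _ _
    rw [h1]
    induction i using Fin.lastCases with
    | last => exact inf_le_right
    | cast j =>
      exact inf_le_left.trans
        (genLocus_bigTmulHom_le m (fun i => L i.castSucc) (fun i => hL i.castSucc)
          (fun i => w i.castSucc) j)

theorem mem_genLocus_bigTmulHom : ∀ (m : ℕ) (L : Fin m → X.Modules)
    (_ : ∀ i, PicF.IsInvertible (L i)) (w : ∀ i, unitMod X ⟶ L i) (x : X)
    (_ : ∀ i, x ∈ CohB1.genLocus (L i) (w i)),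
    x ∈ CohB1.genLocus (bigTensor m L) (bigTmulHom m L w)
  | 0, _, _, _, x, _ => by
    change x ∈ CohB1.genLocus (unitMod X) (𝟙 _)
    rw [genLocus_id]; trivial
  | m + 1, L, hL, w, x, hx => by
    have h1 : CohB1.genLocus (bigTensor (m + 1) L) (bigTmulHom (m + 1) L w) =
        CohB1.genLocus _ (bigTmulHom m (fun i => L i.castSucc) (fun i => w i.castSucc)) ⊓
          CohB1.genLocus _ (w (Fin.last m)) :=
      genLocus_tmulHom (isInvertible_bigTensor m _ (fun i => hL i.castSucc)) (hL (Fin.last m)) _ _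
    rw [h1]
    exact ⟨mem_genLocus_bigTmulHom m (fun i => L i.castSucc) (fun i => hL i.castSucc)
      (fun i => w i.castSucc) x (fun i => hx i.castSucc), hx (Fin.last m)⟩

end Groth.Agent.LD.QC
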