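import Groth.Agent.Lib.Lead.QC.BlowUpProps
import Mathlib.RingTheory.Ideal.MinimalPrime.Localization
universe u
open CategoryTheory Limits AlgebraicGeometry TopologicalSpace Opposite Topology

namespace Groth.Agent.LD.QC

section Top
variable {A B : Type*} [TopologicalSpace A] [TopologicalSpace B]

theorem maximal_iff_of_isOpenEmbedding {f : A → B} (hf : IsOpenEmbedding f) (a : A) :
    (∀ y : A, y ⤳ a → y = a) ↔ (∀ z : B, z ⤳ f a → z = f a) := by
  constructor
  · intro h z hz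
    have hzr : z ∈ Set.range f := hz.mem_open hf.isOpen_range ⟨a, rfl⟩
    obtain ⟨y, rfl⟩ := hzr
    rw [h y (hf.isInducing.specializes_iff.mp hz)]
  · intro h y hy
    exact hf.injective (h (f y) (hf.isInducing.specializes_iff.mpr hy))

end Top

section MP
variable {X : Scheme.{u}}

/-- a maximal point does not lie on an effective Cartier divisor. -/
theorem notMem_support_of_maximal (E : X.IdealSheafData) (hE : BlowUp.IsEffCartierIdeal E)
    (x : X) (hx : ∀ y : X, y ⤳ x → y = x) : x ∉ E.support := by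
  intro hxs
  obtain ⟨V, hxV, c, hc, hI⟩ := hE x
  rw [Scheme.IdealSheafData.mem_support_iff_of_mem (U := V) hxV, hI,
    Scheme.zeroLocus_span, Scheme.zeroLocus_singleton] at hxs
  set p := V.2.primeIdealOf ⟨x, hxV⟩ with hp
  have hfp : V.2.fromSpec p = x := V.2.fromSpec_primeIdealOf ⟨x, hxV⟩
  have hcp : c ∈ p.asIdeal := by
    by_contra hcp
    apply hxs
    have : p ∈ (V.2.fromSpec ⁻¹ᵁ X.basicOpen c : (Spec Γ(X, V.1)).Opens) := by
      rw [V.2.fromSpec_preimage_basicOpen]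
      exact hcp
    change x ∈ X.basicOpen c
    rw [← hfp]
    exact this
  have hmin : p.asIdeal ∈ minimalPrimes Γ(X, V.1) := by
    rw [minimalPrimes_eq_minimals]
    refine ⟨p.2, ?_⟩
    intro q hq hqp
    let q' : PrimeSpectrum Γ(X, V.1) := ⟨q, hq⟩
    have hspec : q' ⤳ p := (PrimeSpectrum.le_iff_specializes q' p).mp hqp
    have h2 : V.2.fromSpec q' ⤳ V.2.fromSpec p := hspec.map V.2.fromSpec.continuous
    rw [hfp] at h2
    have h3 : V.2.fromSpec q' = V.2.fromSpec p := by rw [hfp]; exact hx _ h2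
    have h4 : q' = p := V.2.fromSpec.isOpenEmbedding.injective h3
    rw [← h4]
  exact Set.disjoint_left.mp (Ideal.disjoint_nonZeroDivisors_of_mem_minimalPrimes hmin) hcp hc

variable {X' : Scheme.{u}} {𝓘 : X.IdealSheafData} {b : X' ⟶ X}

/-- **S1681**: a blow-up induces a bijection on maximal points away from the centre. -/
theorem IsBlowUp.bijOn_maximal (hb : BlowUp.IsBlowUp b 𝓘) :
    Set.BijOn (fun x' => b x') {x' : X' | ∀ y : X', y ⤳ x' → y = x'}
      {x : X | (∀ y : X, y ⤳ x → y = x) ∧ x ∉ 𝓘.support} := by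
  haveI hoi := IsBlowUp.isOpenImmersion_compl hb
  haveI hiso := IsBlowUp.isIso_restrict_compl hb
  set W : X.Opens := 𝓘.support.compl with hW
  set W' : X'.Opens := b ⁻¹ᵁ W with hW'
  set g : (W' : Scheme) ⟶ X := W'.ι ≫ b with hg
  have hmemW' : ∀ x' : X', (∀ y : X', y ⤳ x' → y = x') → x' ∈ W' := by
    intro x' hx'
    have := notMem_support_of_maximal (𝓘.comap b) hb.1 x' hx'
    rw [Scheme.IdealSheafData.support_comap] at this
    exact this
  have hι := W'.ι.isOpenEmbedding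
  have hgo := g.isOpenEmbedding
  refine ⟨?_, ?_, ?_⟩
  · intro x' hx'
    have hxW := hmemW' x' hx'
    refine ⟨?_, hxW⟩
    have h1 : ∀ y : (W' : Scheme), y ⤳ (⟨x', hxW⟩ : W') → y = ⟨x', hxW⟩ :=
      (maximal_iff_of_isOpenEmbedding hι ⟨x', hxW⟩).mpr hx'
    exact (maximal_iff_of_isOpenEmbedding hgo ⟨x', hxW⟩).mp h1
  · intro x₁ hx₁ x₂ hx₂ h12
    have h1 := hmemW' x₁ hx₁
    have h2 := hmemW' x₂ hx₂
    have : (⟨x₁, h1⟩ : W') = ⟨x₂, h2⟩ := hgo.injective h12
    exact congrArg Subtype.val this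
  · rintro x ⟨hx, hxs⟩
    let w : (W' : Scheme) := (inv (b ∣_ W)) ⟨x, hxs⟩
    have hgw : g w = x := by
      have h1 : (b ∣_ W) w = ⟨x, hxs⟩ := by
        change ((inv (b ∣_ W)) ≫ (b ∣_ W)) ⟨x, hxs⟩ = _
        rw [IsIso.inv_hom_id]
        rfl
      have h2 : g = (b ∣_ W) ≫ W.ι := (morphismRestrict_ι b W).symm
      rw [h2]
      change W.ι ((b ∣_ W) w) = x
      rw [h1]
      rfl
    refine ⟨W'.ι w, ?_, hgw⟩
    have h1 : ∀ z : X, z ⤳ g w → z = g w := by rw [hgw]; exact hx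
    exact (maximal_iff_of_isOpenEmbedding hι w).mp
      ((maximal_iff_of_isOpenEmbedding hgo w).mpr h1)

end MP

end Groth.Agent.LD.QC
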