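import Groth.Agent.Lib.Lead.QC.PullBC
import Groth.Agent.Lib.Lead.QC.TensorRestrict
universe u
open CategoryTheory Limits AlgebraicGeometry TopologicalSpace Opposite

namespace Groth.Agent.LD.QC

/-- **external tensor products of ample modules are ample**, as soon as intersections of preimages
of small affine opens are affine. -/
theorem isAmple_box {Q U₁ U₂ : Scheme.{u}} [CompactSpace Q] (p₁ : Q ⟶ U₁) (p₂ : Q ⟶ U₂)
    (L₁ : U₁.Modules) (L₂ : U₂.Modules) (hL₁ : CohB1.IsAmple L₁) (hL₂ : CohB1.IsAmple L₂)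
    (H : ∀ z : Q, ∃ (A₀ : U₁.Opens) (B₀ : U₂.Opens), p₁ z ∈ A₀ ∧ p₂ z ∈ B₀ ∧
      ∀ (A : U₁.Opens) (B : U₂.Opens), IsAffineOpen A → IsAffineOpen B → A ≤ A₀ → B ≤ B₀ →
        IsAffineOpen (p₁ ⁻¹ᵁ A ⊓ p₂ ⁻¹ᵁ B)) :
    CohB1.IsAmple (CohB1.tensorMod ((Scheme.Modules.pullback p₁).obj L₁)
      ((Scheme.Modules.pullback p₂).obj L₂)) := by
  haveI : CompactSpace U₁ := hL₁.2.1
  haveI : CompactSpace U₂ := hL₂.2.1
  haveI : U₁.IsSeparated := isSeparated_of_affine_genLocus _ hL₁.1 hL₁.2.2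
  haveI : U₂.IsSeparated := isSeparated_of_affine_genLocus _ hL₂.1 hL₂.2.2
  have hA := isInvertible_pullback p₁ hL₁.1
  have hB := isInvertible_pullback p₂ hL₂.1
  refine ⟨isInvertible_tensorMod hA hB, inferInstance, fun z => ?_⟩
  obtain ⟨A₀, B₀, hzA, hzB, Haff⟩ := H z
  obtain ⟨n, s, hxs, hsW, hsa⟩ := exists_affine_genLocus_le L₁ hL₁ (p₁ z) A₀ hzA
  obtain ⟨m, t, hyt, htW, hta⟩ := exists_affine_genLocus_le L₂ hL₂ (p₂ z) B₀ hzB
  obtain ⟨K, T, hT⟩ := exists_tmul_section hA hB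
    (pbPowHom p₁ L₁ hL₁.1 s) (pbPowHom p₂ L₂ hL₂.1 t)
  rw [genLocus_pbPowHom, genLocus_pbPowHom] at hT
  refine ⟨K, T, ?_, ?_⟩
  · rw [hT]; exact ⟨hxs, hyt⟩
  · rw [hT]; exact Haff _ _ hsa hta hsW htW

end Groth.Agent.LD.QC
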