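import Mathlib.RingTheory.DiscreteValuationRing.TFAE
import Mathlib.RingTheory.Filtration
universe u
open IsLocalRing

namespace Groth.Agent.LD.QC

section DVR
variable {R : Type*} [CommRing R] [IsNoetherianRing R] [IsLocalRing R]

theorem exists_unit_mul_pow_of_maximalIdeal_eq_span (π : R)
    (hm : maximalIdeal R = Ideal.span {π}) (x : R) (hx : x ≠ 0) :
    ∃ (n : ℕ) (u : R), IsUnit u ∧ x = u * π ^ n := by
  classical
  have hK : ⨅ i : ℕ, maximalIdeal R ^ i = ⊥ :=
    Ideal.iInf_pow_eq_bot_of_isLocalRing _ (IsLocalRing.maximalIdeal.isMaximal R).ne_top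
  have hex : ∃ n : ℕ, x ∉ maximalIdeal R ^ n := by
    by_contra hcon
    push Not at hcon
    apply hx
    have : x ∈ ⨅ i : ℕ, maximalIdeal R ^ i := by
      rw [Ideal.mem_iInf]
      exact hcon
    rw [hK] at this
    exact this
  have hn := Nat.find_spec hex
  have hmin := fun k => Nat.find_min hex (m := k)
  set n := Nat.find hex with hn'
  have hn0 : n ≠ 0 := by
    intro h0
    rw [h0, pow_zero, Ideal.one_eq_top] at hn
    exact hn Submodule.mem_top
  obtain ⟨k, hk⟩ := Nat.exists_eq_succ_of_ne_zero hn0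
  have hxk : x ∈ maximalIdeal R ^ k := by
    by_contra hcon
    exact hmin k (by omega) hcon
  rw [hm, Ideal.span_singleton_pow] at hxk
  obtain ⟨u, hu⟩ := Ideal.mem_span_singleton'.mp hxk
  refine ⟨k, u, ?_, hu.symm⟩
  by_contra hnu
  have hum : u ∈ maximalIdeal R := (IsLocalRing.mem_maximalIdeal u).mpr hnu
  apply hn
  rw [hk, pow_succ', ← hu]
  refine Ideal.mul_mem_mul hum ?_
  rw [hm, Ideal.span_singleton_pow]
  exact Ideal.mem_span_singleton_self _

theorem isDomain_of_maximalIdeal_eq_span (π : R) (hπ : π ∈ nonZeroDivisors R)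
    (hm : maximalIdeal R = Ideal.span {π}) : IsDomain R := by
  haveI : NoZeroDivisors R := by
    constructor
    intro x y hxy
    by_contra hcon
    push Not at hcon
    obtain ⟨a, u, hu, rfl⟩ := exists_unit_mul_pow_of_maximalIdeal_eq_span π hm x hcon.1
    obtain ⟨b, v, hv, rfl⟩ := exists_unit_mul_pow_of_maximalIdeal_eq_span π hm y hcon.2
    have h1 : (u * v) * π ^ (a + b) = 0 := by
      rw [← hxy, pow_add]
      ring
    have h2 : π ^ (a + b) = 0 := by
      have := (hu.mul hv).mul_right_eq_zero.mp h1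
      exact this
    have h3 : π ^ (a + b) ∈ nonZeroDivisors R := pow_mem hπ _
    have h4 : (1 : R) = 0 := by
      apply (mem_nonZeroDivisors_iff_right.mp h3)
      rw [one_mul, h2]
    exact one_ne_zero h4
  exact NoZeroDivisors.to_isDomain R

theorem isDiscreteValuationRing_of_maximalIdeal_eq_span (π : R) (hπ : π ∈ nonZeroDivisors R)
    (hm : maximalIdeal R = Ideal.span {π}) :
    ∃ _ : IsDomain R, IsDiscreteValuationRing R := by
  haveI hdom := isDomain_of_maximalIdeal_eq_span π hπ hm
  refine ⟨hdom, ?_⟩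
  have hnf : ¬ IsField R := by
    intro hf
    have hπ0 : π ≠ 0 := nonZeroDivisors.ne_zero hπ
    obtain ⟨c, hc⟩ := hf.mul_inv_cancel hπ0
    have hu : IsUnit π := IsUnit.of_mul_eq_one c hc
    have : π ∈ maximalIdeal R := hm ▸ Ideal.mem_span_singleton_self π
    exact (IsLocalRing.mem_maximalIdeal π).mp this hu
  have hp : (maximalIdeal R).IsPrincipal := ⟨π, by rw [hm]⟩
  exact ((IsDiscreteValuationRing.TFAE R hnf).out 4 0).mp hp

end DVR

end Groth.Agent.LD.QC
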