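import Groth.Agent.Lib.Lead.QC.CartierStalk
import Groth.Agent.Lib.Lead.QC.DVRCrit
import Groth.Agent.Lib.Lead.QC.RelCartier
universe u
open CategoryTheory Limits AlgebraicGeometry TopologicalSpace Opposite Topology

namespace Groth.Agent.LD.QC

section CD
variable {X : Scheme.{u}}

set_option maxHeartbeats 1600000 in
/-- **S1569**: the local ring at the generic point of an integral effective Cartier divisor on a
Noetherian scheme is a discrete valuation ring. -/
theorem isDVR_stalk_of_integral_effCartier [IsLocallyNoetherian X] (D : X.IdealSheafData)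
    (hD : BlowUp.IsEffCartierIdeal D) [IsIntegral D.subscheme] (ξ : X)
    (hξ : IsGenericPoint ξ (D.support : Set X)) :
    ∃ _ : IsDomain (X.presheaf.stalk ξ), IsDiscreteValuationRing (X.presheaf.stalk ξ) := by
  have hξs : ξ ∈ (D.support : Set X) := hξ.mem
  have hgen : ∀ y ∈ (D.support : Set X), y ⤳ ξ → y = ξ := fun y hy hyξ =>
    (hyξ.antisymm (hξ.specializes hy)).eq
  obtain ⟨U, hξU, f, hf, hDU⟩ := hD ξ
  haveI : IsNoetherianRing Γ(X, U.1) := IsLocallyNoetherian.component_noetherian U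
  have hmin := primeIdealOf_mem_minimalPrimes D U f hDU ξ hξU hξs hgen
  -- `(f)` is prime
  have hprime : (Ideal.span {f}).IsPrime := by
    rw [← hDU]
    obtain ⟨ξ', hξ'⟩ : ξ ∈ Set.range D.subschemeι := by
      rw [D.range_subschemeι]
      exact hξs
    haveI : Nonempty (D.subschemeι ⁻¹ᵁ U.1) := ⟨⟨ξ', by
      change D.subschemeι ξ' ∈ U.1
      rw [hξ']
      exact hξU⟩⟩
    haveI : IsDomain Γ(D.subscheme, D.subschemeι ⁻¹ᵁ U.1) := inferInstance
    haveI : IsDomain (Γ(X, U.1) ⧸ D.ideal U) :=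
      (subschemeSectionsEquiv D U).toMulEquiv.isDomain _
    exact (Ideal.Quotient.isDomain_iff_prime _).mp inferInstance
  have hp_eq : (U.2.primeIdealOf ⟨ξ, hξU⟩).asIdeal = Ideal.span {f} :=
    le_antisymm (hmin.2 ⟨hprime, le_rfl⟩ hmin.1.2) hmin.1.2
  letI : Algebra Γ(X, U.1) (X.presheaf.stalk ξ) :=
    TopCat.Presheaf.algebra_section_stalk X.presheaf ⟨ξ, hξU⟩
  haveI hloc := U.2.isLocalization_stalk ⟨ξ, hξU⟩
  haveI : IsNoetherianRing (X.presheaf.stalk ξ) :=
    IsLocalization.isNoetherianRing (U.2.primeIdealOf ⟨ξ, hξU⟩).asIdeal.primeCompl _ inferInstance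
  have hmax : IsLocalRing.maximalIdeal (X.presheaf.stalk ξ) =
      Ideal.span {algebraMap Γ(X, U.1) (X.presheaf.stalk ξ) f} := by
    rw [← IsLocalization.AtPrime.map_eq_maximalIdeal (U.2.primeIdealOf ⟨ξ, hξU⟩).asIdeal
      (X.presheaf.stalk ξ), hp_eq, Ideal.map_span, Set.image_singleton]
  have hnz : algebraMap Γ(X, U.1) (X.presheaf.stalk ξ) f ∈ nonZeroDivisors (X.presheaf.stalk ξ) :=
    IsLocalization.map_nonZeroDivisors_le (U.2.primeIdealOf ⟨ξ, hξU⟩).asIdeal.primeCompl
      (X.presheaf.stalk ξ) (Submonoid.mem_map_of_mem _ hf)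
  exact isDiscreteValuationRing_of_maximalIdeal_eq_span _ hnz hmax

end CD

end Groth.Agent.LD.QC
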