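import Groth.Agent.Lib.Lead.QC.WeakAss
import Groth.Agent.Lib.Lead.QC.CartierHeight
import Groth.Agent.Lib.Lead.QC.LocFree3
universe u
open CategoryTheory Limits AlgebraicGeometry TopologicalSpace Opposite IsLocalRing

namespace Groth.Agent.LD.QC

section CW
variable {X Y : Scheme.{u}}

set_option maxHeartbeats 1600000 in
/-- **S8861** -/
theorem isEffCartierIdeal_comap_of_weakAss (f : X ⟶ Y) (𝓘 : Y.IdealSheafData)
    (hD : BlowUp.IsEffCartierIdeal 𝓘)
    (h : ∀ x : X, Curv2.IsWeakAssPoint (Coh.structureModule X) x → f x ∉ 𝓘.support) :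
    BlowUp.IsEffCartierIdeal (𝓘.comap f) := by
  intro x'
  obtain ⟨U, V, e, d, hxV, hd, hIU, hc⟩ := locPrincipal_comap 𝓘 hD f x'
  refine ⟨V, hxV, _, ?_, hc⟩
  rw [mem_nonZeroDivisors_iff_right]
  intro z hz
  by_contra hz0
  obtain ⟨y, hyV, hyW, hann⟩ := exists_isWeakAssPoint_of_ne_zero' (Coh.structureModule X) V.2
    (show Γ(Coh.structureModule X, V.1) from z) hz0
  have hcy : f.appLE U.1 V.1 e d ∈ (V.2.primeIdealOf ⟨y, hyV⟩).asIdeal := by
    apply hann
    change f.appLE U.1 V.1 e d * z = 0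
    rw [mul_comm]
    exact hz
  rw [mem_primeIdealOf_iff] at hcy
  apply h y hyW
  have hfU : f y ∈ U.1 := e hyV
  rw [Scheme.IdealSheafData.mem_support_iff_of_mem (U := U) hfU, hIU,
    Scheme.zeroLocus_span, Scheme.zeroLocus_singleton]
  intro hfy
  apply hcy
  rw [Scheme.Hom.appLE, CommRingCat.comp_apply, Scheme.basicOpen_res]
  refine ⟨hyV, ?_⟩
  rw [← Scheme.preimage_basicOpen]
  exact hfy

end CW

end Groth.Agent.LD.QC
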