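import Mathlib
import Groth.Agent.Lib.Lead.QC.SubExtRestrict
import Groth.Agent.Lib.Lead.QC.Push
import Groth.Agent.Lib.Lead.SC.Efface
import Groth.Prelude.Def_Coh

/-! # Extending a quasi-coherent module with a map to `F|_U` from a quasi-compact open. -/

set_option autoImplicit false
universe u
open CategoryTheory Limits Opposite AlgebraicGeometry TopologicalSpace

namespace Groth.Agent.LD.QC

variable {X : Scheme.{u}}

theorem exists_qc_extension_map (U : X.Opens) [QuasiCompact U.ι]
    (F : X.Modules) [hF : F.IsQuasicoherent] (G : (U : Scheme.{u}).Modules)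
    [hG : G.IsQuasicoherent] (φ : G ⟶ F.restrict U.ι) :
    ∃ (H : X.Modules) (ψ : H ⟶ F) (e : H.restrict U.ι ≅ G), H.IsQuasicoherent ∧
      e.hom ≫ φ = (Scheme.Modules.restrictFunctor U.ι).map ψ := by
  let R := Scheme.Modules.restrictFunctor U.ι
  let P := (Scheme.Modules.pushforward U.ι).obj G
  have hPq : P.IsQuasicoherent := qc_pushforward U.ι G
  have hBq : (P ⊞ F).IsQuasicoherent := SC.qc_biprod P F hPq hF
  haveI := hBq
  let ε : R.obj P ≅ G := (Scheme.Modules.restrictFunctorAdjCounitIso U.ι).app G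
  let i : G ⟶ (P ⊞ F).restrict U.ι :=
    ε.inv ≫ R.map (biprod.inl : P ⟶ P ⊞ F) + φ ≫ R.map (biprod.inr : F ⟶ P ⊞ F)
  have hi1 : i ≫ R.map (biprod.fst : P ⊞ F ⟶ P) = ε.inv := by
    simp only [i, Preadditive.add_comp, Category.assoc, ← Functor.map_comp, biprod.inl_fst,
      biprod.inr_fst, Functor.map_zero, comp_zero, add_zero]
    rw [R.map_id]
    exact Category.comp_id _
  have hi2 : i ≫ R.map (biprod.snd : P ⊞ F ⟶ F) = φ := by
    simp only [i, Preadditive.add_comp, Category.assoc, ← Functor.map_comp, biprod.inl_snd,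
      biprod.inr_snd, Functor.map_zero, comp_zero, zero_add]
    rw [R.map_id]
    exact Category.comp_id _
  haveI : Mono i := mono_of_mono_fac hi1
  obtain ⟨I, ι, e', hι, hIq, hcomp⟩ := exists_qc_extension U.ι (P ⊞ F) G hG i
  refine ⟨I, ι ≫ biprod.snd, e', hIq, ?_⟩
  change _ = R.map (ι ≫ biprod.snd)
  rw [R.map_comp, ← hcomp, Category.assoc, hi2]

end Groth.Agent.LD.QC
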