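import Mathlib
import Groth.Agent.Lib.Lead.QC.ExtendMap
import Groth.Agent.Lib.Lead.QC.SerreSupp
import Groth.Agent.Lib.Lead.QC.SubSup
import Groth.Agent.Lib.Lead.QC.FreeHom
import Groth.Agent.Lib.Lead.PF.LocalVanish
import Groth.Prelude.Def_Coh

/-! # The centre of the category of coherent modules on a Noetherian scheme

A natural endomorphism of the identity functor of `Coh(X)` is multiplication by a global
function. -/

set_option autoImplicit false
set_option linter.style.haveILetI false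
set_option linter.unusedSectionVars false
set_option linter.unusedVariables false
universe u
open CategoryTheory Limits Opposite AlgebraicGeometry TopologicalSpace

namespace Groth.Agent.LD.QC

variable {X : Scheme.{u}}

/-- the category of coherent modules. -/
abbrev CohCat (X : Scheme.{u}) := ObjectProperty.FullSubcategory (fun M : X.Modules => Coh.IsCoh M)

section
variable (φ : 𝟭 (CohCat X) ⟶ 𝟭 (CohCat X))

/-- the component of a natural endomorphism of the identity at a coherent module. -/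
noncomputable def Φ (M : X.Modules) (hM : Coh.IsCoh M) : M ⟶ M := (φ.app ⟨M, hM⟩).hom

lemma Φ_naturality {M N : X.Modules} (hM : Coh.IsCoh M) (hN : Coh.IsCoh N) (f : M ⟶ N) :
    f ≫ Φ φ N hN = Φ φ M hM ≫ f := by
  have h := φ.naturality (X := ⟨M, hM⟩) (Y := ⟨N, hN⟩) (ObjectProperty.homMk f)
  exact congrArg InducedCategory.Hom.hom h

variable [IsNoetherian X]

/-- **key lemma**: over an open `U`, the restriction of `φ_M` commutes with every morphism
`O_U ⟶ M|_U`, `φ_O` acting on the source. -/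
theorem restrict_Φ_comm (U : X.Opens) (M : X.Modules) (hM : Coh.IsCoh M)
    (μ : unitMod (U : Scheme.{u}) ⟶ M.restrict U.ι) :
    μ ≫ (Scheme.Modules.restrictFunctor U.ι).map (Φ φ M hM) =
      ((Scheme.Modules.restrictUnitIso U.ι).inv ≫
        (Scheme.Modules.restrictFunctor U.ι).map (Φ φ (unitMod X) (PF.isCoh_unitMod X)) ≫
        (Scheme.Modules.restrictUnitIso U.ι).hom) ≫ μ := by
  classical
  let R := Scheme.Modules.restrictFunctor U.ι
  let ν := Scheme.Modules.restrictUnitIso U.ι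
  have hO : Coh.IsCoh (unitMod X) := PF.isCoh_unitMod X
  haveI hOq : (unitMod X).IsQuasicoherent := hO.1
  haveI hMq : M.IsQuasicoherent := hM.1
  let F : X.Modules := unitMod X ⊞ M
  have hFq : F.IsQuasicoherent := SC.qc_biprod (unitMod X) M hO.1 hM.1
  haveI := hFq
  have hF : Coh.IsCoh F := ⟨hFq, isFiniteType_biprod (unitMod X) M hO.2 hM.2⟩
  let φ₀ : unitMod (U : Scheme.{u}) ⟶ R.obj F :=
    ν.inv ≫ R.map (biprod.inl : unitMod X ⟶ F) + μ ≫ R.map (biprod.inr : M ⟶ F)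
  have h1 : φ₀ ≫ R.map (biprod.fst : F ⟶ unitMod X) = ν.inv := by
    simp only [φ₀, Preadditive.add_comp, Category.assoc, ← Functor.map_comp, biprod.inl_fst,
      biprod.inr_fst, Functor.map_zero, comp_zero, add_zero]
    rw [R.map_id]
    exact Category.comp_id _
  have h2 : φ₀ ≫ R.map (biprod.snd : F ⟶ M) = μ := by
    simp only [φ₀, Preadditive.add_comp, Category.assoc, ← Functor.map_comp, biprod.inl_snd,
      biprod.inr_snd, Functor.map_zero, comp_zero, zero_add]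
    rw [R.map_id]
    exact Category.comp_id _
  haveI : QuasiCompact U.ι := inferInstance
  obtain ⟨H, ψ, e, hHq, he⟩ := exists_qc_extension_map U F (unitMod (U : Scheme.{u})) φ₀
  let H' : X.Modules := Abelian.image ψ
  let π : H ⟶ H' := Abelian.factorThruImage ψ
  let ι : H' ⟶ F := Abelian.image.ι ψ
  have hπι : π ≫ ι = ψ := Abelian.image.fac ψ
  have hH'q : H'.IsQuasicoherent := qc_kernel _ hFq (qc_cokernel ψ hHq hFq)
  have hH' : Coh.IsCoh H' := isCoh_of_mono ι hH'q hF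
  have nat : ι ≫ Φ φ F hF = Φ φ H' hH' ≫ ι := Φ_naturality φ hH' hF ι
  have natfst : (biprod.fst : F ⟶ unitMod X) ≫ Φ φ (unitMod X) hO = Φ φ F hF ≫ biprod.fst :=
    Φ_naturality φ hF hO _
  have natsnd : (biprod.snd : F ⟶ M) ≫ Φ φ M hM = Φ φ F hF ≫ biprod.snd :=
    Φ_naturality φ hF hM _
  let θ : unitMod (U : Scheme.{u}) ⟶ R.obj H' := e.inv ≫ R.map π
  have hθ : θ ≫ R.map ι = φ₀ := by
    change (e.inv ≫ R.map π) ≫ R.map ι = φ₀
    rw [Category.assoc, ← R.map_comp, hπι]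
    change e.inv ≫ (Scheme.Modules.restrictFunctor U.ι).map ψ = φ₀
    rw [← he, e.inv_hom_id_assoc]
  haveI : Epi π := inferInstanceAs (Epi (Abelian.factorThruImage ψ))
  haveI : Epi (R.map π) := inferInstance
  haveI : Epi θ := epi_comp _ _
  haveI : Mono φ₀ := mono_of_mono_fac h1
  haveI : Mono θ := mono_of_mono_fac hθ
  haveI : IsIso θ := isIso_of_mono_of_epi θ
  let γ : unitMod (U : Scheme.{u}) ⟶ unitMod (U : Scheme.{u}) :=
    θ ≫ R.map (Φ φ H' hH') ≫ inv θ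
  have key : φ₀ ≫ R.map (Φ φ F hF) = γ ≫ φ₀ := by
    calc φ₀ ≫ R.map (Φ φ F hF) = θ ≫ R.map ι ≫ R.map (Φ φ F hF) := by
          rw [← hθ, Category.assoc]
      _ = θ ≫ R.map (Φ φ H' hH') ≫ R.map ι := by
          rw [← R.map_comp, nat, R.map_comp]
      _ = γ ≫ θ ≫ R.map ι := by
          simp only [γ, Category.assoc, IsIso.inv_hom_id_assoc]
      _ = γ ≫ φ₀ := by rw [hθ]
  have k1 : ν.inv ≫ R.map (Φ φ (unitMod X) hO) = γ ≫ ν.inv := by
    calc ν.inv ≫ R.map (Φ φ (unitMod X) hO)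
        = φ₀ ≫ R.map (biprod.fst : F ⟶ unitMod X) ≫ R.map (Φ φ (unitMod X) hO) := by
          rw [← Category.assoc, h1]
      _ = φ₀ ≫ R.map (Φ φ F hF) ≫ R.map (biprod.fst : F ⟶ unitMod X) := by
          rw [← R.map_comp, natfst, R.map_comp]
      _ = γ ≫ φ₀ ≫ R.map (biprod.fst : F ⟶ unitMod X) := by
          rw [← Category.assoc, key, Category.assoc]
      _ = γ ≫ ν.inv := by rw [h1]
  have hγ : γ = ν.inv ≫ R.map (Φ φ (unitMod X) hO) ≫ ν.hom := by
    rw [← Category.assoc, k1, Category.assoc, ν.inv_hom_id, Category.comp_id]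
  change μ ≫ R.map (Φ φ M hM) = (ν.inv ≫ R.map (Φ φ (unitMod X) hO) ≫ ν.hom) ≫ μ
  rw [← hγ]
  calc μ ≫ R.map (Φ φ M hM)
      = φ₀ ≫ R.map (biprod.snd : F ⟶ M) ≫ R.map (Φ φ M hM) := by
        rw [← Category.assoc, h2]
    _ = φ₀ ≫ R.map (Φ φ F hF) ≫ R.map (biprod.snd : F ⟶ M) := by
        rw [← R.map_comp, natsnd, R.map_comp]
    _ = γ ≫ φ₀ ≫ R.map (biprod.snd : F ⟶ M) := by
        rw [← Category.assoc, key, Category.assoc]
    _ = γ ≫ μ := by rw [h2]

/-- the global function attached to `φ`. -/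
noncomputable def centerSection : Γ(X, ⊤) := sectionOfHom (Φ φ (unitMod X) (PF.isCoh_unitMod X))

lemma Φ_unit_app (W : X.Opens) (a : Γ(X, W)) :
    (Φ φ (unitMod X) (PF.isCoh_unitMod X)).app W a =
      a * X.presheaf.map (homOfLE (le_top : W ≤ ⊤)).op (centerSection φ) := by
  set ΦO := Φ φ (unitMod X) (PF.isCoh_unitMod X)
  have h1 : ΦO.app W (X.presheaf.map (homOfLE (le_top : W ≤ ⊤)).op (1 : Γ(X, ⊤))) =
      X.presheaf.map (homOfLE (le_top : W ≤ ⊤)).op (ΦO.app ⊤ (1 : Γ(X, ⊤))) :=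
    app_res ΦO (le_top : W ≤ ⊤) (1 : Γ(X, ⊤))
  have h2 : X.presheaf.map (homOfLE (le_top : W ≤ ⊤)).op (1 : Γ(X, ⊤)) = (1 : Γ(X, W)) :=
    map_one (X.presheaf.map (homOfLE (le_top : W ≤ ⊤)).op).hom
  rw [h2] at h1
  have h3 : ΦO.app W (a • (1 : Γ(X, W))) = a • ΦO.app W (1 : Γ(X, W)) :=
    (appLinear ΦO W).map_smul a (1 : Γ(X, W))
  have h4 : (a • (1 : Γ(X, W)) : Γ(X, W)) = a := mul_one a
  rw [h4, h1] at h3
  exact h3

/-- `φ_M` is multiplication by the global function, on sections over `U.ι ''ᵁ ⊤`. -/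
theorem Φ_app_image_top (M : X.Modules) (hM : Coh.IsCoh M) (U : X.Opens) (s : Γ(M, U.ι ''ᵁ ⊤)) :
    (Φ φ M hM).app (U.ι ''ᵁ ⊤) s =
      X.presheaf.map (homOfLE (le_top : U.ι ''ᵁ ⊤ ≤ ⊤)).op (centerSection φ) • s := by
  let N : (U : Scheme.{u}).Modules := M.restrict U.ι
  let s' : Γ(N, ⊤) := s
  let μ : unitMod (U : Scheme.{u}) ⟶ N := homOfSection N s'
  have hμ : μ.app ⊤ (1 : Γ((U : Scheme.{u}), ⊤)) = s' := sectionOfHom_homOfSection N s'
  have hmain := restrict_Φ_comm φ U M hM μ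
  have hsec := congrArg (fun t : unitMod (U : Scheme.{u}) ⟶ N =>
    t.app ⊤ (1 : Γ((U : Scheme.{u}), ⊤))) hmain
  -- left side
  have hL : (μ ≫ (Scheme.Modules.restrictFunctor U.ι).map (Φ φ M hM)).app ⊤
      (1 : Γ((U : Scheme.{u}), ⊤)) = (Φ φ M hM).app (U.ι ''ᵁ ⊤) s := by
    change ((Scheme.Modules.restrictFunctor U.ι).map (Φ φ M hM)).app ⊤ (μ.app ⊤ (1 : Γ((U : Scheme.{u}), ⊤))) = _
    rw [hμ]
    rfl
  -- right side
  set ΦO := Φ φ (unitMod X) (PF.isCoh_unitMod X)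
  let ρ : unitMod (U : Scheme.{u}) ⟶ unitMod (U : Scheme.{u}) :=
    (Scheme.Modules.restrictUnitIso U.ι).inv ≫ (Scheme.Modules.restrictFunctor U.ι).map ΦO ≫
      (Scheme.Modules.restrictUnitIso U.ι).hom
  let c : Γ((U : Scheme.{u}), ⊤) := ρ.app ⊤ (1 : Γ((U : Scheme.{u}), ⊤))
  have hc : (U.ι.appIso ⊤).inv c =
      X.presheaf.map (homOfLE (le_top : U.ι ''ᵁ ⊤ ≤ ⊤)).op (centerSection φ) := by
    change (U.ι.appIso ⊤).inv ((U.ι.appIso ⊤).hom (ΦO.app (U.ι ''ᵁ ⊤)
      ((U.ι.appIso ⊤).inv (1 : Γ((U : Scheme.{u}), ⊤))))) = _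
    rw [← ConcreteCategory.comp_apply, Iso.hom_inv_id, ConcreteCategory.id_apply, map_one,
      Φ_unit_app, one_mul]
  have hR : (ρ ≫ μ).app ⊤ (1 : Γ((U : Scheme.{u}), ⊤)) =
      X.presheaf.map (homOfLE (le_top : U.ι ''ᵁ ⊤ ≤ ⊤)).op (centerSection φ) • s := by
    change μ.app ⊤ c = _
    have e1 : μ.app ⊤ (c • (1 : Γ((U : Scheme.{u}), ⊤))) = c • μ.app ⊤ (1 : Γ((U : Scheme.{u}), ⊤)) :=
      (appLinear μ ⊤).map_smul c (1 : Γ((U : Scheme.{u}), ⊤))
    have e2 : (c • (1 : Γ((U : Scheme.{u}), ⊤)) : Γ((U : Scheme.{u}), ⊤)) = c := mul_one c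
    rw [e2, hμ] at e1
    rw [e1, ← hc]
    rfl
  exact hL.symm.trans (hsec.trans hR)

/-- `φ_M` is multiplication by the global function, on sections over any open. -/
theorem Φ_app (M : X.Modules) (hM : Coh.IsCoh M) (V : X.Opens) (s : Γ(M, V)) :
    (Φ φ M hM).app V s =
      X.presheaf.map (homOfLE (le_top : V ≤ ⊤)).op (centerSection φ) • s := by
  have key : ∀ (W : X.Opens) (hW : W = V) (s : Γ(M, W)), (Φ φ M hM).app W s =
      X.presheaf.map (homOfLE (le_top : W ≤ ⊤)).op (centerSection φ) • s → True := fun _ _ _ _ => trivial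
  have h := Φ_app_image_top φ M hM V
  have hV : V.ι ''ᵁ ⊤ = V := by simp
  revert h
  generalize V.ι ''ᵁ ⊤ = W at hV
  subst hV
  intro h
  exact h s

end

end Groth.Agent.LD.QC
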