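import Mathlib
import Groth.Agent.Lib.Lead.QC.SubExtRestrict
import Groth.Agent.Lib.Lead.QC.Coh
import Groth.Agent.Lib.Lead.QC.SubSup
import Groth.Prelude.Def_Coh

/-! # A common coherent "roof" for two coherent modules isomorphic over an open. -/

set_option autoImplicit false
universe u
open CategoryTheory Limits Opposite AlgebraicGeometry TopologicalSpace

namespace Groth.Agent.LD.QC

variable {X : Scheme.{u}}

theorem exists_common_coh [IsNoetherian X] (U : X.Opens) (F₁ F₂ : X.Modules)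
    (h₁ : Coh.IsCoh F₁) (h₂ : Coh.IsCoh F₂)
    (e : F₁.restrict U.ι ≅ F₂.restrict U.ι) :
    ∃ (G : X.Modules) (p₁ : G ⟶ F₁) (p₂ : G ⟶ F₂), Coh.IsCoh G ∧
      IsIso ((Scheme.Modules.restrictFunctor U.ι).map p₁) ∧
      IsIso ((Scheme.Modules.restrictFunctor U.ι).map p₂) := by
  obtain ⟨h₁q, h₁f⟩ := h₁
  obtain ⟨h₂q, h₂f⟩ := h₂
  haveI := h₁q
  haveI := h₂q
  let R := Scheme.Modules.restrictFunctor U.ι
  haveI : R.IsLeftAdjoint := (Scheme.Modules.restrictAdjunction U.ι).isLeftAdjoint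
  have hBq : (F₁ ⊞ F₂).IsQuasicoherent := SC.qc_biprod F₁ F₂ h₁q h₂q
  have hBf : (F₁ ⊞ F₂).IsFiniteType := isFiniteType_biprod F₁ F₂ h₁f h₂f
  haveI := hBq
  let i : F₁.restrict U.ι ⟶ (F₁ ⊞ F₂).restrict U.ι :=
    R.map (biprod.inl : F₁ ⟶ F₁ ⊞ F₂) + e.hom ≫ R.map (biprod.inr : F₂ ⟶ F₁ ⊞ F₂)
  have hi1 : i ≫ R.map (biprod.fst : F₁ ⊞ F₂ ⟶ F₁) = 𝟙 _ := by
    simp only [i, Preadditive.add_comp, Category.assoc, ← Functor.map_comp, biprod.inl_fst,
      biprod.inr_fst, Functor.map_zero, comp_zero, add_zero]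
    exact R.map_id F₁
  have hi2 : i ≫ R.map (biprod.snd : F₁ ⊞ F₂ ⟶ F₂) = e.hom := by
    simp only [i, Preadditive.add_comp, Category.assoc, ← Functor.map_comp, biprod.inl_snd,
      biprod.inr_snd, Functor.map_zero, zero_add]
    rw [R.map_id]
    exact Category.comp_id _
  haveI : Mono i := mono_of_mono_fac hi1
  haveI : QuasiCompact U.ι := inferInstance
  obtain ⟨I, ι, e', hι, hIq, hcomp⟩ :=
    exists_qc_extension U.ι (F₁ ⊞ F₂) (F₁.restrict U.ι) (qc_restrict U.ι F₁) i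
  haveI := hι
  refine ⟨I, ι ≫ biprod.fst, ι ≫ biprod.snd,
    ⟨hIq, isFiniteType_of_mono ι hIq hBq hBf⟩, ?_, ?_⟩
  · have : R.map (ι ≫ biprod.fst) = e'.hom := by
      rw [R.map_comp, ← hcomp, Category.assoc, hi1]
      exact Category.comp_id _
    change IsIso (R.map (ι ≫ biprod.fst))
    rw [this]
    infer_instance
  · have : R.map (ι ≫ biprod.snd) = e'.hom ≫ e.hom := by
      rw [R.map_comp, ← hcomp, Category.assoc, hi2]
    change IsIso (R.map (ι ≫ biprod.snd))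
    rw [this]
    infer_instance

end Groth.Agent.LD.QC
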