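import Mathlib
import Groth.Agent.Lib.Helper5.Snap.DimDrop

/-! # A closed subset of the closure of a point missing that point has smaller dimension. -/

set_option autoImplicit false

namespace Groth.Agent.LD.QC

/-- a closed subset of `closure {η}` not containing `η` has dimension `< d` if
`dim closure {η} ≤ d`. -/
theorem dim_lt_of_closed_subset_closure {T : Type*} [TopologicalSpace T] (η : T) (Z : Set T)
    (hZ : IsClosed Z) (hZη : Z ⊆ closure ({η} : Set T)) (hη : η ∉ Z) (d : ℕ)
    (hd : topologicalKrullDim ↥(closure ({η} : Set T)) ≤ (d : WithBot ℕ∞)) :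
    topologicalKrullDim ↥Z < (d : WithBot ℕ∞) := by
  haveI : IrreducibleSpace ↥(closure ({η} : Set T)) :=
    Subtype.irreducibleSpace isIrreducible_singleton.closure
  let Z' : Set ↥(closure ({η} : Set T)) := Subtype.val ⁻¹' Z
  have hZ' : IsClosed Z' := hZ.preimage continuous_subtype_val
  have hne : Z' ≠ Set.univ := by
    intro h
    have hηY : η ∈ closure ({η} : Set T) := subset_closure rfl
    have : (⟨η, hηY⟩ : ↥(closure ({η} : Set T))) ∈ Z' := by rw [h]; trivial
    exact hη this
  have h1 := Groth.Agent.H5.Snap.dim_lt_of_isClosed_ne_univ Z' hZ' hne d hd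
  let f : ↥Z → ↥Z' := fun z => ⟨⟨z.1, hZη z.2⟩, z.2⟩
  have hc : Continuous f :=
    Continuous.subtype_mk (Continuous.subtype_mk continuous_subtype_val fun z => hZη z.2)
      fun z => z.2
  have hg : Continuous (fun w : ↥Z' => ((w : ↥(closure ({η} : Set T))) : T)) :=
    continuous_subtype_val.comp continuous_subtype_val
  have hf : Topology.IsInducing f := by
    refine Topology.IsInducing.of_comp hc hg ?_
    exact Topology.IsInducing.subtypeVal
  exact lt_of_le_of_lt hf.topologicalKrullDim_le h1

end Groth.Agent.LD.QC
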