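import Groth.Agent.Lib.Lead.QC.Flat
import Groth.Agent.Lib.Lead.QC.PushFin
universe u
open CategoryTheory Limits AlgebraicGeometry TopologicalSpace Opposite TensorProduct

namespace Groth.Agent.LD.QC
variable {X Y S : Scheme.{u}}

lemma sectionsModuleOver_pushforward_eq (f : X ⟶ Y) (q : Y ⟶ S) (F : X.Modules)
    {V : Y.Opens} {W : S.Opens} (hVW : V ≤ q ⁻¹ᵁ W) :
    sectionsModuleOver q ((Scheme.Modules.pushforward f).obj F) hVW =
      sectionsModuleOver (f ≫ q) F (U := f ⁻¹ᵁ V) (V := W) (f.preimage_mono hVW) := by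
  refine Module.ext' _ _ fun a m => ?_
  change f.app V (q.appLE W V hVW a) • (show Γ(F, f ⁻¹ᵁ V) from m) =
    (f ≫ q).appLE W (f ⁻¹ᵁ V) (f.preimage_mono hVW) a • (show Γ(F, f ⁻¹ᵁ V) from m)
  congr 1
  have : (f ≫ q).appLE W (f ⁻¹ᵁ V) (f.preimage_mono hVW) = q.appLE W V hVW ≫ f.app V := by
    rw [← Scheme.Hom.appLE_eq_app, Scheme.Hom.appLE_comp_appLE]
  rw [this]
  rfl

theorem isFlatOver_pushforward_iff (f : X ⟶ Y) [IsAffineHom f] (q : Y ⟶ S)
    (F : X.Modules) [F.IsQuasicoherent] :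
    (∀ x : X, @Module.Flat (S.presheaf.stalk ((f ≫ q).base x)) (F.presheaf.stalk x) _ _
      (stalkModuleOver (f ≫ q) F x)) ↔
    (∀ y : Y, @Module.Flat (S.presheaf.stalk (q.base y))
      (((Scheme.Modules.pushforward f).obj F).presheaf.stalk y) _ _
      (stalkModuleOver q ((Scheme.Modules.pushforward f).obj F) y)) := by
  haveI := qc_pushforward f F
  constructor
  · intro h y
    obtain ⟨W, hW, hyW, -⟩ := exists_isAffineOpen_mem_and_subset (x := q.base y) (U := ⊤) trivial
    obtain ⟨V, hV, hyV, hVW⟩ := exists_isAffineOpen_mem_and_subset (x := y) (U := q ⁻¹ᵁ W) hyW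
    have h1 := flat_sections_of_isFlatOverAt (f ≫ q) F (hV.preimage f) hW
      (f.preimage_mono hVW) (fun x _ => h x)
    rw [← sectionsModuleOver_pushforward_eq f q F hVW] at h1
    exact isFlatOverAt_of_flat_sections q _ hV hW hVW y hyV h1
  · intro h x
    obtain ⟨W, hW, hyW, -⟩ :=
      exists_isAffineOpen_mem_and_subset (x := q.base (f.base x)) (U := ⊤) trivial
    obtain ⟨V, hV, hyV, hVW⟩ :=
      exists_isAffineOpen_mem_and_subset (x := f.base x) (U := q ⁻¹ᵁ W) hyW
    have h1 := flat_sections_of_isFlatOverAt q ((Scheme.Modules.pushforward f).obj F) hV hW hVW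
      (fun y _ => h y)
    rw [sectionsModuleOver_pushforward_eq f q F hVW] at h1
    exact isFlatOverAt_of_flat_sections (f ≫ q) F (hV.preimage f) hW (f.preimage_mono hVW) x hyV h1

end Groth.Agent.LD.QC
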