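import Mathlib
import Groth.Agent.Lib.Lead.QC.ProjFormulaLF
import Groth.Agent.Lib.Lead.QC.LocFree2
import Groth.Agent.Lib.Lead.MS.TensorColim
import Groth.Agent.H4.RT4

/-! # Relative generating families and the resolution property (S14988). -/

set_option autoImplicit false
universe u
open CategoryTheory Limits Opposite AlgebraicGeometry TopologicalSpace

namespace Groth.Agent.LD.GenFam
open Groth.Agent.LD.QC

variable {X Y : Scheme.{u}}

instance preservesColimits_LT (P : X.Modules) : PreservesColimitsOfSize.{u, u} (LT P) :=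
  inferInstanceAs (PreservesColimitsOfSize.{u, u} ((ModSite.tensorBi X.sheaf).obj P))

/-- `W ⊗ f^*(-)`. -/
noncomputable def TW (f : X ⟶ Y) (W : X.Modules) : Y.Modules ⥤ X.Modules :=
  Scheme.Modules.pullback f ⋙ LT W

lemma TW_obj (f : X ⟶ Y) (W : X.Modules) (N : Y.Modules) :
    (TW f W).obj N = CohB1.tensorMod W ((Scheme.Modules.pullback f).obj N) := rfl

instance preservesColimits_TW (f : X ⟶ Y) (W : X.Modules) :
    PreservesColimitsOfSize.{u, u} (TW f W) := by
  haveI : PreservesColimitsOfSize.{u, u} (Scheme.Modules.pullback f) :=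
    (Scheme.Modules.pullbackPushforwardAdjunction f).leftAdjoint_preservesColimits
  unfold TW
  infer_instance

lemma epi_TW_map (f : X ⟶ Y) (W : X.Modules) {N N' : Y.Modules} (ρ : N ⟶ N') [Epi ρ] :
    Epi ((TW f W).map ρ) := by
  haveI : (Scheme.Modules.pullback f).IsLeftAdjoint :=
    (Scheme.Modules.pullbackPushforwardAdjunction f).isLeftAdjoint
  haveI : Epi ((Scheme.Modules.pullback f).map ρ) := inferInstance
  change Epi ((LT W).map ((Scheme.Modules.pullback f).map ρ))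
  infer_instance

lemma hom_ext_TW (f : X ⟶ Y) (W : X.Modules) {κ : Type u} (V : κ → Y.Modules) {Z : X.Modules}
    (a b : (TW f W).obj (∐ V) ⟶ Z)
    (h : ∀ l, (TW f W).map (Sigma.ι V l) ≫ a = (TW f W).map (Sigma.ι V l) ≫ b) : a = b := by
  have hc := isColimitOfPreserves (TW f W) (coproductIsCoproduct V)
  refine hc.hom_ext ?_
  rintro ⟨l⟩
  exact h l

theorem main (f : X ⟶ Y)
    (hY : ∀ N : Y.Modules, Coh.IsQCoh N →
      ∃ (κ : Type u) (V : κ → Y.Modules) (π : (∐ V) ⟶ N),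
        (∀ k, FlatMod.IsFinLocFree (V k)) ∧ Epi π)
    {ι : Type u} (W : ι → X.Modules) (hW : ∀ i, FlatMod.IsFinLocFree (W i))
    (hf : ∀ M : X.Modules, Coh.IsQCoh M →
      ∃ (κ : Type u) (j : κ → ι) (N : κ → Y.Modules)
        (π : (∐ fun k => CohB1.tensorMod (W (j k)) ((Scheme.Modules.pullback f).obj (N k))) ⟶ M),
        (∀ k, Coh.IsQCoh (N k)) ∧ Epi π) :
    ∀ M : X.Modules, Coh.IsQCoh M →
      ∃ (κ : Type u) (E : κ → X.Modules) (π : (∐ E) ⟶ M),
        (∀ k, FlatMod.IsFinLocFree (E k)) ∧ Epi π := by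
  intro M hM
  obtain ⟨κ, j, N, π, hN, hπ⟩ := hf M hM
  change (∐ fun k => (TW f (W (j k))).obj (N k)) ⟶ M at π
  replace hπ : Epi π := hπ
  choose κ' V ρ hV hρ using fun k => hY (N k) (hN k)
  let A : κ → X.Modules := fun k => (TW f (W (j k))).obj (N k)
  let θ : ∀ p : (Σ k, κ' k), (TW f (W (j p.1))).obj (V p.1 p.2) ⟶ M := fun p =>
    (TW f (W (j p.1))).map (Sigma.ι (V p.1) p.2 ≫ ρ p.1) ≫ Sigma.ι A p.1 ≫ π
  refine ⟨Σ k, κ' k, fun p => (TW f (W (j p.1))).obj (V p.1 p.2), Sigma.desc θ, ?_, ?_⟩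
  · intro p
    exact Groth.Agent.H4.RT4.isFinLocFree_tensor _ _ (hW _)
      (isFinLocFree_pullback f _ (hV p.1 p.2))
  · constructor
    intro Z g h hgh
    haveI := hπ
    rw [← cancel_epi π]
    apply Sigma.hom_ext
    intro k
    haveI := hρ k
    haveI := epi_TW_map f (W (j k)) (ρ k)
    rw [← cancel_epi ((TW f (W (j k))).map (ρ k))]
    apply hom_ext_TW
    intro l
    have h1 := congrArg (fun t => Sigma.ι (fun p : (Σ k, κ' k) =>
      (TW f (W (j p.1))).obj (V p.1 p.2)) ⟨k, l⟩ ≫ t) hgh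
    simp only [← Category.assoc, Sigma.ι_desc] at h1
    simp only [θ, Functor.map_comp, Category.assoc] at h1
    exact h1

end Groth.Agent.LD.GenFam
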