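import Groth.Agent.Lib.Lead.QC.ResDescFLF
import Groth.Agent.Lib.Lead.RSp.Coprod

/-!
# Generating families push forward along finite locally free surjective morphisms (S13542)

For `f : X ⟶ Y` finite, flat, of finite presentation and surjective and a generating family `E i`
of quasi-coherent modules on `X`, the family `f_* E i` is generating on `Y`: with `A = f_* O_X`,
a quasi-coherent `N` is a quotient of `A ⊗ 𝓗om(A, N) ≅ f_* f^* 𝓗om(A, N)`.
-/

universe u
open CategoryTheory Limits AlgebraicGeometry TopologicalSpace Opposite TensorProduct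

namespace Groth.Agent.LD.GenPush

open Groth.Agent.LD.QC Groth.Agent.H2 Groth.Agent.LD.ResDesc

/-- sections of a coproduct of modules on a scheme over a quasi-compact open are finite sums. -/
theorem secs {X : Scheme.{u}} {κ : Type u} (F : κ → X.Modules) (U : X.Opens)
    (hU : IsCompact (U : Set X)) (s : Γ(∐ F, U)) :
    ∃ (S : Finset κ) (t : ∀ i, Γ(F i, U)), s = ∑ i ∈ S, (Sigma.ι F i).app U (t i) :=
  Groth.Agent.LD.RSp.coprod_sections_surj (O := X.sheaf) F U hU s

/-- for a quasi-compact morphism the comparison `∐ f_* F_k ⟶ f_* ∐ F_k` is an epimorphism. -/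
theorem epi_sigmaComparison_push {X Y : Scheme.{u}} (f : X ⟶ Y) [QuasiCompact f] {κ : Type u}
    (F : κ → X.Modules) : Epi (sigmaComparison (Scheme.Modules.pushforward f) F) := by
  classical
  apply Groth.Agent.LD.QC.epi_of_local_lift
  intro U t y hy
  obtain ⟨W, hW, hyW, hWU⟩ := exists_isAffineOpen_mem_and_subset (x := y) (U := U) hy
  refine ⟨W, hWU, hyW, ?_⟩
  have hc : IsCompact ((f ⁻¹ᵁ W : X.Opens) : Set X) :=
    QuasiCompact.isCompact_preimage (f := f) (W : Set Y) W.isOpen hW.isCompact
  obtain ⟨S, t', hst⟩ := secs F (f ⁻¹ᵁ W) hc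
    (((Scheme.Modules.pushforward f).obj (∐ F)).presheaf.map (homOfLE hWU).op t)
  refine ⟨∑ i ∈ S,
    (Sigma.ι (fun k => (Scheme.Modules.pushforward f).obj (F k)) i).app W (t' i), ?_⟩
  rw [map_sum]
  refine Eq.trans ?_ hst.symm
  refine Finset.sum_congr rfl fun i _ => ?_
  have h := congrArg (fun φ => Scheme.Modules.Hom.app φ W)
    (ι_comp_sigmaComparison (Scheme.Modules.pushforward f) F i)
  exact ConcreteCategory.congr_hom h (t' i)

/-- **generating families push forward along finite locally free surjective morphisms.** -/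
theorem main {X Y : Scheme.{u}} (f : X ⟶ Y) [IsFinite f] [Flat f] [LocallyOfFinitePresentation f]
    [Surjective f] {ι : Type u} (E : ι → X.Modules) (hE : ∀ i, Coh.IsQCoh (E i))
    (hgen : ∀ M : X.Modules, Coh.IsQCoh M →
      ∃ (κ : Type u) (j : κ → ι) (π : (∐ fun k : κ => E (j k)) ⟶ M), Epi π) :
    ∀ N : Y.Modules, Coh.IsQCoh N →
      ∃ (κ : Type u) (j : κ → ι)
        (π : (∐ fun k : κ => (Scheme.Modules.pushforward f).obj (E (j k))) ⟶ N), Epi π := by
  intro M hMq
  haveI : M.IsQuasicoherent := hMq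
  obtain ⟨hAff, hA⟩ := (affine_finLocFree_pushforward_iff f).mpr
    ⟨inferInstance, inferInstance, inferInstance⟩
  haveI := hAff
  have hAfp := isFinitePresentation_of_isFinLocFree _ hA
  have hAft : ((Scheme.Modules.pushforward f).obj
      (SheafOfModules.unit X.ringCatSheaf)).IsFiniteType := inferInstance
  have hnt := nontrivial_stalk_push_unit f hAft
  obtain ⟨A, hAdef⟩ : ∃ A, A = (Scheme.Modules.pushforward f).obj
      (SheafOfModules.unit X.ringCatSheaf) := ⟨_, rfl⟩
  rw [← hAdef] at hA hnt hAfp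
  haveI hHq : (RefHull.homSh A M).IsQuasicoherent := Groth.Agent.H2.HomSh.qc_homSh hAfp
  have hev : Epi (evHom A M) := epi_evHom A M hA hnt
  haveI hpq : ((Scheme.Modules.pullback f).obj (RefHull.homSh A M)).IsQuasicoherent :=
    qc_pullback f _
  haveI hPq : (CohB1.tensorMod (unitMod X)
      ((Scheme.Modules.pullback f).obj (RefHull.homSh A M))).IsQuasicoherent :=
    qc_of_iso (unitorL' _).symm hpq
  obtain ⟨κ, j, π, hπ⟩ := hgen _ hPq
  haveI := hπ
  have hSq : (∐ fun k : κ => E (j k)).IsQuasicoherent :=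
    qc_colimit (Discrete.functor fun k : κ => E (j k)) (fun k => hE (j k.as))
  haveI h1 : Epi ((Scheme.Modules.pushforward f).map π) :=
    epi_pushforward_of_affine f hSq hPq π
  haveI h2 : IsIso (projHom f (unitMod X) (RefHull.homSh A M)) :=
    isIso_projHom_of_affine f (unitMod X) (RefHull.homSh A M)
  haveI := hev
  haveI h3 := epi_sigmaComparison_push f (fun k : κ => E (j k))
  subst hAdef
  refine ⟨κ, j, sigmaComparison (Scheme.Modules.pushforward f) (fun k : κ => E (j k)) ≫
    (Scheme.Modules.pushforward f).map π ≫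
      inv (projHom f (unitMod X) (RefHull.homSh _ M)) ≫ evHom _ M, ?_⟩
  infer_instance

end Groth.Agent.LD.GenPush
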