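import Groth.Agent.Lib.Lead.QC.CartierStalk
import Mathlib.AlgebraicGeometry.Morphisms.QuasiCompact
import Mathlib.RingTheory.Finiteness.Ideal
universe u
open CategoryTheory Limits AlgebraicGeometry TopologicalSpace Opposite Topology

namespace Groth.Agent.LD.QC

section IP
variable {Y : Scheme.{u}}

/-- on an affine open, inclusion of supports gives inclusion into the radical. -/
theorem ideal_le_radical_of_support_subset (I I' : Y.IdealSheafData)
    (hZ : (I'.support : Set Y) ⊆ (I.support : Set Y)) (V : Y.affineOpens) :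
    I.ideal V ≤ (I'.ideal V).radical := by
  rw [← PrimeSpectrum.zeroLocus_subset_zeroLocus_iff]
  intro q hq
  have h1 : V.2.fromSpec q ∈ V.2.fromSpec '' PrimeSpectrum.zeroLocus (I'.ideal V : Set Γ(Y, V.1)) :=
    ⟨q, hq, rfl⟩
  rw [V.2.fromSpec_image_zeroLocus, ← I'.coe_support_inter V] at h1
  have h2 : V.2.fromSpec q ∈ (I.support : Set Y) ∩ V.1 := ⟨hZ h1.1, h1.2⟩
  rw [I.coe_support_inter V, ← V.2.fromSpec_image_zeroLocus] at h2
  obtain ⟨q', hq', hqq⟩ := h2
  rw [V.2.fromSpec.isOpenEmbedding.injective hqq] at hq'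
  exact hq'

/-- **S7846**: on a quasi-compact scheme, a power of a finite type ideal sheaf is contained in
any ideal sheaf with smaller vanishing locus. -/
theorem exists_pow_le_of_support_subset [CompactSpace Y] (I I' : Y.IdealSheafData)
    (hI : ∀ V : Y.affineOpens, (I.ideal V).FG)
    (hZ : (I'.support : Set Y) ⊆ (I.support : Set Y)) : ∃ n : ℕ, 1 ≤ n ∧ I ^ n ≤ I' := by
  classical
  obtain ⟨s, hs, hcov⟩ := (isCompact_iff_finite_and_eq_biUnion_affineOpens (X := Y)
    (U := ⊤)).mp (by simpa using isCompact_univ)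
  have hex : ∀ V : Y.affineOpens, ∃ n : ℕ, (I.ideal V) ^ n ≤ I'.ideal V := fun V =>
    Ideal.exists_pow_le_of_le_radical_of_fg (ideal_le_radical_of_support_subset I I' hZ V) (hI V)
  choose n hn using hex
  let N := hs.toFinset.sup n + 1
  refine ⟨N, Nat.le_add_left 1 _, ?_⟩
  apply Scheme.IdealSheafData.le_of_iSup_eq_top (fun V : s => V.1)
  · rw [eq_top_iff, hcov]
    apply iSup₂_le
    intro V hV
    exact le_iSup (fun W : s => (W.1 : Y.Opens)) ⟨V, hV⟩
  · rintro ⟨V, hV⟩
    change (I.ideal V) ^ N ≤ I'.ideal V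
    refine le_trans (Ideal.pow_le_pow_right ?_) (hn V)
    have : n V ≤ hs.toFinset.sup n := Finset.le_sup (f := n) (hs.mem_toFinset.mpr hV)
    omega

end IP

end Groth.Agent.LD.QC
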