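import Groth.Agent.Lib.Lead.QC.Closure
import Groth.Agent.Lib.Helper1.SheafOfModulesGrothendieck

/-! # The largest quasi-coherent submodule contained in a submodule of a quasi-coherent module. -/

universe u
open CategoryTheory Limits AlgebraicGeometry TopologicalSpace Opposite

namespace Groth.Agent.LD.QC

variable {X : Scheme.{u}}

/-- the image in `G ⊆ F` of a morphism from a quasi-coherent module is quasi-coherent. -/
lemma exists_qc_image {F G : X.Modules} (hF : F.IsQuasicoherent) (j : G ⟶ F) [Mono j]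
    {H : X.Modules} (hH : H.IsQuasicoherent) (ψ : H ⟶ G) :
    ∃ (A : X.Modules) (p : H ⟶ A) (a : A ⟶ G), A.IsQuasicoherent ∧ Mono a ∧ p ≫ a = ψ := by
  have hz : kernel.ι (ψ ≫ j) ≫ ψ = 0 := by
    rw [← cancel_mono j, Category.assoc, kernel.condition, zero_comp]
  refine ⟨cokernel (kernel.ι (ψ ≫ j)), cokernel.π _, cokernel.desc _ ψ hz, ?_, ?_,
    cokernel.π_desc _ _ _⟩
  · exact qc_cokernel _ (qc_kernel _ hH hF) hH
  · have h1 : cokernel.desc (kernel.ι (ψ ≫ j)) ψ hz ≫ j =
        Abelian.factorThruCoimage (ψ ≫ j) := by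
      apply (cancel_epi (cokernel.π (kernel.ι (ψ ≫ j)))).1
      rw [cokernel.π_desc_assoc]
      exact (Abelian.coimage.fac (ψ ≫ j)).symm
    haveI : Mono (cokernel.desc (kernel.ι (ψ ≫ j)) ψ hz ≫ j) := by rw [h1]; infer_instance
    exact mono_of_mono _ j

/-- **the largest quasi-coherent submodule of a quasi-coherent module `F` contained in a given
submodule `G`.** -/
theorem exists_largest_qc_sub {F G : X.Modules} (hF : F.IsQuasicoherent) (j : G ⟶ F) [Mono j] :
    ∃ (G' : X.Modules) (k : G' ⟶ G), G'.IsQuasicoherent ∧ Mono k ∧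
      ∀ H : X.Modules, H.IsQuasicoherent → Function.Bijective (fun φ : H ⟶ G' => φ ≫ k) := by
  haveI := Groth.Agent.H1.sheafOfModules_isGrothendieckAbelian
    (Opens.grothendieckTopology X) X.ringCatSheaf
  haveI : WellPowered.{u} X.Modules :=
    IsGrothendieckAbelian.wellPowered (C := SheafOfModules.{u} X.ringCatSheaf)
  let S := {A : Subobject G // ((A : X.Modules)).IsQuasicoherent}
  let Idx : Type u := Shrink.{u} S
  let eqv : Idx ≃ S := (equivShrink.{u} S).symm
  let B : Idx → X.Modules := fun s => ((eqv s).1 : X.Modules)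
  have hB : ∀ s, (B s).IsQuasicoherent := fun s => (eqv s).2
  let σ : ∐ B ⟶ G := Sigma.desc (fun s => (eqv s).1.arrow)
  have hσ : ∀ s, Sigma.ι B s ≫ σ = (eqv s).1.arrow := fun s => Sigma.ι_desc _ _
  have hSig : (∐ B).IsQuasicoherent := qc_colimit (Discrete.functor B) (fun s => hB s.as)
  obtain ⟨G', p, k, hG', hk, hpk⟩ := exists_qc_image hF j hSig σ
  haveI := hk
  refine ⟨G', k, hG', hk, fun H hH => ⟨fun φ φ' h => (cancel_mono k).1 h, fun ψ => ?_⟩⟩
  obtain ⟨A, q, a, hA, ha, hqa⟩ := exists_qc_image hF j hH ψ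
  haveI := ha
  let s₀ : S := ⟨Subobject.mk a, qc_of_iso (Subobject.underlyingIso a).symm hA⟩
  let s : Idx := equivShrink.{u} S s₀
  have hs : eqv s = s₀ := (equivShrink.{u} S).symm_apply_apply s₀
  have hle : Subobject.mk a ≤ (eqv s).1 := le_of_eq (congrArg Subtype.val hs).symm
  refine ⟨q ≫ (Subobject.underlyingIso a).inv ≫ Subobject.ofLE _ _ hle ≫ Sigma.ι B s ≫ p, ?_⟩
  show (q ≫ (Subobject.underlyingIso a).inv ≫ Subobject.ofLE _ _ hle ≫ Sigma.ι B s ≫ p) ≫ k = ψ
  simp only [Category.assoc]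
  rw [hpk, hσ, Subobject.ofLE_arrow, Subobject.underlyingIso_arrow, hqa]

end Groth.Agent.LD.QC
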