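import Groth.Agent.Lib.Lead.QC.SubSh
import Groth.Agent.Lib.Lead.QC.SubExtRestrict
import Mathlib.Topology.NoetherianSpace

/-! # Schemes whose underlying space is locally Noetherian. -/

universe u
open CategoryTheory Limits AlgebraicGeometry TopologicalSpace Opposite

namespace Groth.Agent.LD.QC
variable {X : Scheme.{u}}

/-- the underlying space is locally Noetherian. -/
def LocNoeth (X : Scheme.{u}) : Prop :=
  ∀ x : X, ∃ U : X.Opens, x ∈ U ∧ NoetherianSpace (U : Set X)

/-- every subset is quasi-compact. -/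
def HerCompact (W : Set X) : Prop := ∀ s : Set X, s ⊆ W → IsCompact s

lemma herCompact_of_noeth {U : X.Opens} (hU : NoetherianSpace (U : Set X)) :
    HerCompact (U : Set X) := fun s hs => (noetherianSpace_set_iff _).mp hU s hs

lemma HerCompact.mono {W W' : Set X} (h : HerCompact W) (hW : W' ⊆ W) : HerCompact W' :=
  fun s hs => h s (hs.trans hW)

/-- compact subsets of a locally Noetherian space are hereditarily compact. -/
lemma herCompact_of_isCompact (hX : LocNoeth X) {K : Set X} (hK : IsCompact K) : HerCompact K := by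
  intro s hs
  choose U hxU hU using hX
  obtain ⟨t, -, ht⟩ := hK.elim_nhds_subcover (fun x => (U x : Set X))
    (fun x _ => (U x).2.mem_nhds (hxU x))
  have hs' : s = ⋃ x ∈ t, (s ∩ (U x : Set X)) := by
    ext y
    simp only [Set.mem_iUnion, Set.mem_inter_iff, exists_and_left, exists_prop]
    constructor
    · intro hy
      obtain ⟨x, hxt, hyx⟩ := Set.mem_iUnion₂.mp (ht (hs hy))
      exact ⟨hy, x, hxt, hyx⟩
    · exact fun h => h.1
  rw [hs']
  exact t.isCompact_biUnion fun x _ => herCompact_of_noeth (hU x) _ Set.inter_subset_right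

theorem quasiSeparatedSpace_of_locNoeth (hX : LocNoeth X) : QuasiSeparatedSpace X := by
  rw [quasiSeparatedSpace_iff]
  intro U V _ hU _ _
  exact herCompact_of_isCompact hX hU _ Set.inter_subset_left

theorem quasiCompact_of_locNoeth (hX : LocNoeth X) {Y : Scheme.{u}} (j : Y ⟶ X)
    [IsOpenImmersion j] : QuasiCompact j := by
  rw [quasiCompact_iff]
  intro K _ hK
  have h1 : IsCompact (j '' (j ⁻¹' K)) :=
    herCompact_of_isCompact hX hK _ (Set.image_preimage_subset _ _)
  exact j.isOpenEmbedding.isInducing.isCompact_iff.mpr h1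

/-- a hereditarily compact affine open neighbourhood. -/
theorem exists_affine_herCompact (hX : LocNoeth X) (x : X) :
    ∃ W : X.Opens, IsAffineOpen W ∧ x ∈ W ∧ HerCompact (W : Set X) := by
  obtain ⟨U, hxU, hU⟩ := hX x
  obtain ⟨W, hW, hxW, hWU⟩ := exists_isAffineOpen_mem_and_subset (x := x) (U := U) hxU
  exact ⟨W, hW, hxW, (herCompact_of_noeth hU).mono hWU⟩

/-- quasi-coherence is local. -/
theorem qc_of_locally (M : X.Modules)
    (h : ∀ x : X, ∃ W : X.Opens, x ∈ W ∧ (M.restrict W.ι).IsQuasicoherent) :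
    M.IsQuasicoherent := by
  choose W hxW hW using h
  have hc : IsOpenCover W := by
    rw [IsOpenCover, eq_top_iff]
    intro x _
    exact Opens.mem_iSup.mpr ⟨x, hxW x⟩
  exact qc_of_openCover M (X.openCoverOfIsOpenCover W hc) hW

/-- two subsheaves agreeing on opens inside `W` have isomorphic restrictions to `W`. -/
theorem SubSh.restrict_iso_of_eq {F : X.Modules} (S S' : SubSh F) (W : X.Opens)
    (h : ∀ W' : X.Opens, W' ≤ W → S.N W' = S'.N W') :
    Nonempty (S.toModules.restrict W.ι ≅ S'.toModules.restrict W.ι) := by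
  haveI : Mono ((Scheme.Modules.restrictFunctor W.ι).map S.ι) := by
    apply mono_of_injective_app
    intro W'
    exact mono_app S.ι (W.ι ''ᵁ W')
  haveI : Mono ((Scheme.Modules.restrictFunctor W.ι).map S'.ι) := by
    apply mono_of_injective_app
    intro W'
    exact mono_app S'.ι (W.ι ''ᵁ W')
  obtain ⟨e, -⟩ := exists_iso_of_range_eq
    ((Scheme.Modules.restrictFunctor W.ι).map S.ι) ((Scheme.Modules.restrictFunctor W.ι).map S'.ι)
    (by
      intro W'
      have hle : W.ι ''ᵁ W' ≤ W := by
        rintro _ ⟨y, -, rfl⟩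
        exact y.2
      change Set.range (S.ι.app (W.ι ''ᵁ W')) = Set.range (S'.ι.app (W.ι ''ᵁ W'))
      rw [SubSh.range_ι, SubSh.range_ι, h _ hle])
  exact ⟨e⟩

end Groth.Agent.LD.QC
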