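import Groth.Agent.Lib.Helper1.PushO2

/-! # Normality descends along morphisms with `O_Y → f_* O_X` surjective. -/

set_option autoImplicit false
universe u
open CategoryTheory Limits AlgebraicGeometry TopologicalSpace Opposite

namespace Groth.Agent.LD.QC

open Groth.Agent.H1.PushO

variable {X Y : Scheme.{u}} [IsIntegral X] [IsIntegral Y] (f : X ⟶ Y)

theorem isNormalScheme_of_app_surjective (hdom : f.base (genericPoint X) ⤳ genericPoint Y)
    (hX : Pi1.IsNormalScheme X) (hsurj : ∀ V : Y.Opens, Function.Surjective (f.app V)) :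
    Pi1.IsNormalScheme Y := by
  rw [Groth.Agent.H5.AG.isNormalScheme_iff_affine Y]
  intro V hne hV
  haveI : IsFractionRing Γ(Y, V) Y.functionField :=
    functionField_isFractionRing_of_isAffineOpen Y V hV
  rw [isIntegrallyClosed_iff Y.functionField]
  intro t ht
  have hgV : genericPoint Y ∈ V :=
    ((genericPoint_spec Y).mem_open_set_iff V.isOpen).mpr (by simpa using hne)
  have hgX := genericPoint_mem_preimage f hdom V hgV
  have hx : ∀ (W : X.Opens) [Nonempty W], W ≤ f ⁻¹ᵁ V → IsAffineOpen W →
      IsIntegral Γ(X, W) (CohIII.stalkToFunctionField f (genericPoint Y) hdom t) := by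
    intro W hneW hWV hW
    have hgW : genericPoint X ∈ W :=
      ((genericPoint_spec X).mem_open_set_iff W.isOpen).mpr (by simpa using hneW)
    let ψ : Γ(Y, V) →+* Γ(X, W) := (X.presheaf.map (homOfLE hWV).op).hom.comp (f.app V).hom
    refine IsIntegral.map_of_comp_eq ψ (CohIII.stalkToFunctionField f (genericPoint Y) hdom) ?_ ht
    ext b
    change X.presheaf.germ W (genericPoint X) hgW (X.presheaf.map (homOfLE hWV).op (f.app V b)) =
      CohIII.stalkToFunctionField f (genericPoint Y) hdom
        (Y.presheaf.germ V (genericPoint Y) hgV b)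
    rw [stalkToFunctionField_germ f hdom V hgV b]
    exact TopCat.Presheaf.germ_res_apply X.presheaf (homOfLE hWV) (genericPoint X) hgW _
  obtain ⟨s, hs⟩ := exists_section_of_isIntegral' hX (f ⁻¹ᵁ V) hgX _ hx
  obtain ⟨b, rfl⟩ := hsurj V s
  refine ⟨b, ?_⟩
  apply stalkToFunctionField_injective f hdom
  change CohIII.stalkToFunctionField f (genericPoint Y) hdom
    (Y.presheaf.germ V (genericPoint Y) hgV b) = _
  rw [stalkToFunctionField_germ f hdom V hgV b]
  exact hs

theorem specializes_genericPoint_of_surjective [Surjective f] :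
    f.base (genericPoint X) ⤳ genericPoint Y := by
  obtain ⟨x, hx⟩ := f.surjective (genericPoint Y)
  rw [← hx]
  exact ((genericPoint_spec X).specializes (Set.mem_univ x)).map f.continuous

end Groth.Agent.LD.QC
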