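import Mathlib
import Groth.Agent.Lib.Helper1.DescProj

/-!
# Projectivity of modules is local for the Zariski topology

For arbitrary (not necessarily finite) modules: if `A → S_j` is a finite family of flat ring maps
jointly surjective on spectra and every `S_j ⊗_A M` is projective over `S_j`, then `M` is projective.
This is deduced from the Raynaud–Gruson descent of projectivity (helper1) along the faithfully
flat map `A → ∏ S_j`.
-/

universe u

open TensorProduct

namespace Groth.Agent.LD.QC

/-- finite products of projective modules are projective. -/
theorem projective_pi {R : Type*} [Ring R] {ι : Type*} [Finite ι] (Q : ι → Type*)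
    [∀ i, AddCommGroup (Q i)] [∀ i, Module R (Q i)] [∀ i, Module.Projective R (Q i)] :
    Module.Projective R (∀ i, Q i) := by
  classical
  haveI := Fintype.ofFinite ι
  exact Module.Projective.of_equiv' (DFinsupp.linearEquivFunOnFintype (R := R) (M := Q))

/-- finitely supported functions with values in a projective module form a projective module. -/
theorem projective_finsupp {R : Type*} [Ring R] (ι P : Type*) [AddCommGroup P] [Module R P]
    [Module.Projective R P] : Module.Projective R (ι →₀ P) := by
  classical
  exact Module.Projective.of_equiv' (finsuppLequivDFinsupp R (ι := ι) (M := P)).symm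

/-- restriction of scalars along `R → R'`, with `R'` projective over `R`, preserves
projectivity. -/
theorem projective_restrictScalars (R R' N : Type*) [CommRing R] [CommRing R'] [Algebra R R']
    [AddCommGroup N] [Module R N] [Module R' N] [IsScalarTower R R' N]
    [Module.Projective R R'] [hN : Module.Projective R' N] : Module.Projective R N := by
  obtain ⟨s, hs⟩ := Module.projective_def'.mp hN
  haveI := projective_finsupp (R := R) N R'
  refine Module.Projective.of_split (s.restrictScalars R)
    ((Finsupp.linearCombination R' (id : N → N)).restrictScalars R) ?_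
  ext x
  exact congr($hs x)

section Pi

variable {A : Type*} [CommRing A] {ι : Type*} [Fintype ι] [DecidableEq ι]
  (S : ι → Type*) [∀ j, CommRing (S j)] [∀ j, Algebra A (S j)]
  (M : Type*) [AddCommGroup M] [Module A M]

/-- the tensor product with a finite product of algebras is projective over the product as soon
as all the factors are. -/
theorem projective_pi_tensor (h : ∀ j, Module.Projective (S j) (S j ⊗[A] M)) :
    Module.Projective (∀ j, S j) ((∀ j, S j) ⊗[A] M) := by
  letI instAlg : ∀ j, Algebra (∀ j, S j) (S j) := fun j => (Pi.evalRingHom S j).toAlgebra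
  have hsm : ∀ j (r : ∀ j, S j) (s : S j), r • s = r j * s := fun j r s => rfl
  haveI : ∀ j, SMulCommClass A (∀ j, S j) (S j) := fun j =>
    ⟨fun a r s => by
      rw [hsm, hsm, Algebra.smul_def, Algebra.smul_def]
      ring⟩
  haveI : ∀ j, Module.Projective (∀ j, S j) (S j) := fun j =>
    Module.Projective.of_split (M := ∀ j, S j)
      { toFun := fun x => Pi.single j x
        map_add' := fun x y => Pi.single_add j x y
        map_smul' := fun r x => by
          funext i
          change Pi.single j (r j * x) i = r i * Pi.single j x i
          by_cases hi : i = j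
          · subst hi
            rw [Pi.single_eq_same, Pi.single_eq_same]
          · rw [Pi.single_eq_of_ne hi, Pi.single_eq_of_ne hi, mul_zero] }
      { toFun := fun x => x j
        map_add' := fun _ _ => rfl
        map_smul' := fun _ _ => rfl }
      (by ext x; simp)
  haveI : ∀ j, Module.Projective (∀ j, S j) (S j ⊗[A] M) := fun j =>
    projective_restrictScalars (∀ j, S j) (S j) (S j ⊗[A] M)
  -- the components of the comparison map
  let φ : ∀ j, ((∀ j, S j) ⊗[A] M) →ₗ[∀ j, S j] (S j ⊗[A] M) := fun j =>
    { toFun := fun x => LinearMap.rTensor M (Pi.evalAlgHom A S j).toLinearMap x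
      map_add' := fun x y => map_add _ x y
      map_smul' := fun r x => by
        induction x using TensorProduct.induction_on with
        | zero => simp only [smul_zero, map_zero]
        | tmul s m =>
          rw [TensorProduct.smul_tmul', LinearMap.rTensor_tmul, LinearMap.rTensor_tmul,
            RingHom.id_apply, TensorProduct.smul_tmul']
          rfl
        | add x y hx hy =>
          simp only [smul_add, map_add, RingHom.id_apply] at hx hy ⊢
          rw [hx, hy] }
  let Φ : ((∀ j, S j) ⊗[A] M) →ₗ[∀ j, S j] (∀ j, S j ⊗[A] M) := LinearMap.pi φ
  have hΦ : Function.Bijective Φ := by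
    have h1 : ∀ x, Φ x = TensorProduct.piLeft A M S x := by
      intro x
      induction x using TensorProduct.induction_on with
      | zero => simp
      | tmul s m =>
        funext j
        have hl : Φ (s ⊗ₜ[A] m) j = s j ⊗ₜ[A] m := by
          change LinearMap.rTensor M (Pi.evalAlgHom A S j).toLinearMap (s ⊗ₜ[A] m) = _
          rw [LinearMap.rTensor_tmul]
          rfl
        rw [hl]
        simp
      | add x y hx hy => rw [map_add, map_add, hx, hy]
    have h2 : (Φ : _ → _) = TensorProduct.piLeft A M S := funext h1
    rw [h2]
    exact (TensorProduct.piLeft A M S).bijective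
  haveI : Module.Projective (∀ j, S j) (∀ j, S j ⊗[A] M) := projective_pi _
  exact Module.Projective.of_equiv' (LinearEquiv.ofBijective Φ hΦ).symm

end Pi

/-- **projectivity is local for the Zariski topology** (finite flat families jointly surjective on
spectra). -/
theorem projective_of_flat_cover {A : Type u} [CommRing A] {ι : Type u} [Finite ι]
    (S : ι → Type u) [∀ j, CommRing (S j)] (φ : ∀ j, A →+* S j) (hflat : ∀ j, (φ j).Flat)
    (hcov : ∀ p : PrimeSpectrum A, ∃ j, p ∈ Set.range (PrimeSpectrum.comap (φ j)))
    (M : Type u) [AddCommGroup M] [Module A M]
    (hproj : ∀ j, letI := (φ j).toAlgebra; Module.Projective (S j) (S j ⊗[A] M)) :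
    Module.Projective A M := by
  classical
  haveI := Fintype.ofFinite ι
  letI : ∀ j, Algebra A (S j) := fun j => (φ j).toAlgebra
  haveI : ∀ j, Module.Flat A (S j) := fun j => hflat j
  haveI : Module.Flat A (∀ j, S j) :=
    Module.Flat.of_linearEquiv (DFinsupp.linearEquivFunOnFintype (R := A) (M := S)).symm
  haveI : Module.FaithfullyFlat A (∀ j, S j) := by
    apply Module.FaithfullyFlat.of_comap_surjective
    intro p
    obtain ⟨j, q, hq⟩ := hcov p
    refine ⟨PrimeSpectrum.comap (Pi.evalRingHom S j) q, ?_⟩
    rw [← hq]
    rfl
  haveI : Module.Projective (∀ j, S j) ((∀ j, S j) ⊗[A] M) := projective_pi_tensor S M hproj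
  exact Groth.Agent.H1.DescProj.projective_of_baseChange (R := A) (S := ∀ j, S j)

end Groth.Agent.LD.QC
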