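import Groth.Agent.Lib.Lead.QC.PullbackUnit

/-! # Projectivity of sections of a quasi-coherent module over affine opens

* `secLinearEquivOfIso`: an isomorphism of `O_X`-modules induces linear equivalences on sections.
* `projective_sections_of_le`: for quasi-coherent `M`, affine opens `U ≤ V`, projectivity of `Γ(M, V)` over
  `Γ(X, V)` implies that of `Γ(M, U)` over `Γ(X, U)`.
* `projective_iff_of_bijective_algebraMap`.
* `projective_tilde_iff`: `M~` has projective sections over every affine open iff `M` is projective.
-/

universe u
open CategoryTheory Limits AlgebraicGeometry TopologicalSpace Opposite TensorProduct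

namespace Groth.Agent.LD.QC

variable {X : Scheme.{u}}

/-- an isomorphism of `O_X`-modules induces linear equivalences on sections. -/
noncomputable def secLinearEquivOfIso {M N : X.Modules} (e : M ≅ N) (U : X.Opens) :
    Γ(M, U) ≃ₗ[Γ(X, U)] Γ(N, U) where
  toFun := e.hom.app U
  invFun := e.inv.app U
  map_add' := map_add (e.hom.app U).hom
  map_smul' := fun r m => Scheme.Modules.Hom.app_smul e.hom r m
  left_inv := fun m => by
    have h : e.hom ≫ e.inv = 𝟙 _ := e.hom_inv_id
    exact congr($(h).app U m)
  right_inv := fun m => by
    have h : e.inv ≫ e.hom = 𝟙 _ := e.inv_hom_id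
    exact congr($(h).app U m)

/-- for quasi-coherent `M` and affine opens `U ≤ V`, projectivity of the sections passes from `V`
to `U`. -/
theorem projective_sections_of_le (M : X.Modules) [M.IsQuasicoherent] {U V : X.Opens}
    (hU : IsAffineOpen U) (hV : IsAffineOpen V) (e : U ≤ V)
    (h : Module.Projective Γ(X, V) Γ(M, V)) : Module.Projective Γ(X, U) Γ(M, U) := by
  have e' : U ≤ (𝟙 X) ⁻¹ᵁ V := e
  letI := ((𝟙 X : X ⟶ X).appLE V U e').hom.toAlgebra
  letI := pbModule (𝟙 X) M e'
  haveI := pbModule_isScalarTower (𝟙 X) M e'
  have hbc := isBaseChange_pbSec (𝟙 X) hU hV e' M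
  haveI : Module.Projective Γ(X, U) Γ((Scheme.Modules.pullback (𝟙 X)).obj M, U) :=
    Module.Projective.of_equiv' hbc.equiv
  exact Module.Projective.of_equiv' (secLinearEquivOfIso ((Scheme.Modules.pullbackId X).app M) U)

/-- projectivity over `A` and over an `A`-algebra `R'` with bijective structure map coincide. -/
theorem projective_iff_of_bijective_algebraMap {A R' N : Type*} [CommRing A] [CommRing R']
    [Algebra A R'] [AddCommGroup N] [Module A N] [Module R' N] [IsScalarTower A R' N]
    (h : Function.Bijective (algebraMap A R')) :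
    Module.Projective R' N ↔ Module.Projective A N := by
  let σ : A ≃+* R' := RingEquiv.ofBijective (algebraMap A R') h
  haveI i1 : RingHomInvPair (σ : A →+* R') (σ.symm : R' →+* A) := RingHomInvPair.of_ringEquiv σ
  haveI i2 : RingHomInvPair (σ.symm : R' →+* A) (σ : A →+* R') := RingHomInvPair.symm _ _
  let e₂ : N ≃ₛₗ[(σ : A →+* R')] N :=
    { toFun := id
      invFun := id
      map_add' := fun _ _ => rfl
      map_smul' := fun a n => by
        change a • n = algebraMap A R' a • n
        rw [algebraMap_smul]
      left_inv := fun _ => rfl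
      right_inv := fun _ => rfl }
  constructor
  · intro hp
    exact Module.Projective.of_equiv e₂.symm
  · intro hp
    exact Module.Projective.of_equiv e₂

/-- the structure map `A → Γ(Spec A, ⊤)` is bijective. -/
theorem bijective_algebraMap_Spec_top (A : CommRingCat.{u}) :
    Function.Bijective (algebraMap A Γ(Spec A, ⊤)) := by
  rw [IsAffineOpen.algebraMap_Spec_obj]
  have h1 : (homOfLE (le_top : (⊤ : (Spec A).Opens) ≤ ⊤)) = 𝟙 _ := Subsingleton.elim _ _
  rw [h1, op_id, (Spec A).presheaf.map_id, Category.comp_id]
  exact ConcreteCategory.bijective_of_isIso (Scheme.ΓSpecIso A).inv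

/-- **`M~` has projective sections over every affine open iff `M` is projective.** -/
theorem projective_tilde_iff (A : CommRingCat.{u}) (M : ModuleCat.{u} A) :
    (∀ U : (Spec A).Opens, IsAffineOpen U → Module.Projective Γ(Spec A, U) Γ(tilde M, U)) ↔
      Module.Projective A M := by
  have e0 : M ≃ₗ[A] Γ(tilde M, ⊤) := (tilde.isoTop M).toLinearEquiv
  have hbij := bijective_algebraMap_Spec_top A
  constructor
  · intro h
    have h1 : Module.Projective Γ(Spec A, ⊤) Γ(tilde M, ⊤) := h ⊤ (isAffineOpen_top (Spec A))
    have h2 : Module.Projective A Γ(tilde M, ⊤) :=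
      (projective_iff_of_bijective_algebraMap hbij).mp h1
    exact Module.Projective.of_equiv' e0.symm
  · intro h U hU
    have h2 : Module.Projective A Γ(tilde M, ⊤) := Module.Projective.of_equiv' e0
    have h1 : Module.Projective Γ(Spec A, ⊤) Γ(tilde M, ⊤) :=
      (projective_iff_of_bijective_algebraMap hbij).mpr h2
    exact projective_sections_of_le (tilde M) hU (isAffineOpen_top (Spec A)) le_top h1

end Groth.Agent.LD.QC
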