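import Groth.Agent.Lib.Lead.QC.ProjLocal
import Groth.Agent.Lib.Lead.QC.ProjSections
import Groth.Agent.Lib.Lead.QC.SepCrit
import Groth.Agent.Lib.Lead.QC.Pullback

/-! # Local projectivity of quasi-coherent modules is Zariski local

* `projective_sections_of_cover`: if `X` has an affine open cover `W i` with `Γ(F, W i)` projective over
  `Γ(X, W i)`, then `Γ(F, U)` is projective over `Γ(X, U)` for every affine open `U`.
* `s7391`, `s7413`.
-/

universe u
open CategoryTheory Limits AlgebraicGeometry TopologicalSpace Opposite TensorProduct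

namespace Groth.Agent.LD.QC

variable {X : Scheme.{u}}

/-- if `Γ(F, D)` is projective, `D ≤ U` affine, then `Γ(X, D) ⊗ Γ(F, U)` is projective. -/
theorem projective_tensor_of_projective_sections (F : X.Modules) [F.IsQuasicoherent] {D U : X.Opens}
    (hD : IsAffineOpen D) (hU : IsAffineOpen U) (e : D ≤ (𝟙 X) ⁻¹ᵁ U)
    (φ : Γ(X, U) →+* Γ(X, D)) (hφ : φ = ((𝟙 X : X ⟶ X).appLE U D e).hom)
    (h : Module.Projective Γ(X, D) Γ(F, D)) :
    letI := φ.toAlgebra
    Module.Projective Γ(X, D) (Γ(X, D) ⊗[Γ(X, U)] Γ(F, U)) := by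
  subst hφ
  letI := ((𝟙 X : X ⟶ X).appLE U D e).hom.toAlgebra
  letI := pbModule (𝟙 X) F e
  haveI := pbModule_isScalarTower (𝟙 X) F e
  have hbc := isBaseChange_pbSec (𝟙 X) hD hU e F
  haveI h0 : Module.Projective Γ(X, D) Γ((𝟭 X.Modules).obj F, D) := h
  haveI : Module.Projective Γ(X, D) Γ((Scheme.Modules.pullback (𝟙 X)).obj F, D) :=
    Module.Projective.of_equiv' (secLinearEquivOfIso ((Scheme.Modules.pullbackId X).app F) D).symm
  exact Module.Projective.of_equiv' hbc.equiv.symm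

/-- **local projectivity can be checked on one affine open cover.** -/
theorem projective_sections_of_cover (F : X.Modules) [F.IsQuasicoherent] {I : Type*}
    (W : I → X.Opens) (hW : ⨆ i, W i = ⊤) (hWa : ∀ i, IsAffineOpen (W i))
    (hWp : ∀ i, Module.Projective Γ(X, W i) Γ(F, W i)) {U : X.Opens} (hU : IsAffineOpen U) :
    Module.Projective Γ(X, U) Γ(F, U) := by
  classical
  have hx : ∀ x : U, ∃ (i : I) (f : Γ(X, U)), X.basicOpen f ≤ W i ∧ (x : X) ∈ X.basicOpen f := by
    intro x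
    have hx' : (x : X) ∈ (⨆ i, W i : X.Opens) := by rw [hW]; trivial
    obtain ⟨i, hi⟩ := Opens.mem_iSup.mp hx'
    obtain ⟨f, hf1, hf2⟩ := hU.exists_basicOpen_le (V := W i) ⟨x, hi⟩ x.2
    exact ⟨i, f, hf1, hf2⟩
  choose idx f hf1 hf2 using hx
  obtain ⟨t, ht⟩ := hU.isCompact.elim_finite_subcover
    (fun x : U => ((X.basicOpen (f x) : X.Opens) : Set X))
    (fun x => (X.basicOpen (f x)).isOpen) (fun y hy => Set.mem_iUnion.mpr ⟨⟨y, hy⟩, hf2 ⟨y, hy⟩⟩)
  -- the ideal generated by the `f j`, `j ∈ t`, is the unit ideal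
  have hspan : Ideal.span (Set.range (fun j : ↥t => f j.1)) = ⊤ := by
    rw [← hU.self_le_iSup_basicOpen_iff]
    intro y hy
    obtain ⟨x, hx⟩ := Set.mem_iUnion.mp (ht hy)
    obtain ⟨hxt, hyx⟩ := Set.mem_iUnion.mp hx
    exact Opens.mem_iSup.mpr ⟨⟨f x, ⟨⟨x, hxt⟩, rfl⟩⟩, hyx⟩
  let φ : ∀ j : ↥t, Γ(X, U) →+* Γ(X, X.basicOpen (f j.1)) := fun j =>
    (X.presheaf.map (homOfLE (X.basicOpen_le (f j.1))).op).hom
  refine projective_of_flat_cover (A := Γ(X, U)) (ι := ↥t)
    (fun j => Γ(X, X.basicOpen (f j.1))) φ ?_ ?_ Γ(F, U) ?_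
  · intro j
    haveI := hU.isLocalization_basicOpen (f j.1)
    have h1 : Module.Flat Γ(X, U) Γ(X, X.basicOpen (f j.1)) :=
      IsLocalization.flat _ (Submonoid.powers (f j.1))
    exact h1
  · intro p
    by_contra hne
    have hall : ∀ j : ↥t, f j.1 ∈ p.asIdeal := by
      intro j
      by_contra hj
      apply hne
      refine ⟨j, ?_⟩
      haveI := hU.isLocalization_basicOpen (f j.1)
      have h2 := PrimeSpectrum.localization_away_comap_range (Γ(X, X.basicOpen (f j.1))) (f j.1)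
      change Set.range (PrimeSpectrum.comap (φ j)) = _ at h2
      rw [h2]
      exact hj
    have hle : Ideal.span (Set.range (fun j : ↥t => f j.1)) ≤ p.asIdeal := by
      rw [Ideal.span_le]
      rintro _ ⟨j, rfl⟩
      exact hall j
    rw [hspan] at hle
    exact p.isPrime.ne_top (top_le_iff.mp hle)
  · intro j
    have e' : X.basicOpen (f j.1) ≤ (𝟙 X) ⁻¹ᵁ U := X.basicOpen_le (f j.1)
    have hD : IsAffineOpen (X.basicOpen (f j.1)) := hU.basicOpen (f j.1)
    have hp : Module.Projective Γ(X, X.basicOpen (f j.1)) Γ(F, X.basicOpen (f j.1)) :=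
      projective_sections_of_le F hD (hWa (idx j.1)) (hf1 j.1) (hWp (idx j.1))
    exact projective_tensor_of_projective_sections F hD hU e' (φ j)
      (by rw [id_appLE]) hp

/-- S7391: local projectivity is equivalent to projectivity of the sections on one affine cover. -/
theorem s7391 (X : Scheme.{u}) (F : X.Modules) [F.IsQuasicoherent] :
    (∀ U : X.Opens, IsAffineOpen U → Module.Projective Γ(X, U) Γ(F, U)) ↔
      ∃ (I : Type u) (U : I → X.Opens), (⨆ i, U i) = ⊤ ∧ ∀ i, IsAffineOpen (U i) ∧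
        Module.Projective Γ(X, U i) Γ(F, U i) := by
  constructor
  · intro h
    exact ⟨X.affineOpens, fun U => U.1, iSup_affineOpens_eq_top X, fun U => ⟨U.2, h U.1 U.2⟩⟩
  · rintro ⟨I, W, hW, hWa⟩ U hU
    exact projective_sections_of_cover F W hW (fun i => (hWa i).1) (fun i => (hWa i).2) hU

/-- S7413: the pullback of a locally projective quasi-coherent module is locally projective. -/
theorem s7413 {X Y : Scheme.{u}} (f : X ⟶ Y) (G : Y.Modules) [G.IsQuasicoherent]
    (hG : ∀ V : Y.Opens, IsAffineOpen V → Module.Projective Γ(Y, V) Γ(G, V))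
    (U : X.Opens) (hU : IsAffineOpen U) :
    Module.Projective Γ(X, U) Γ((Scheme.Modules.pullback f).obj G, U) := by
  haveI : ((Scheme.Modules.pullback f).obj G).IsQuasicoherent := qc_pullback f G
  let I : Type u :=
    { p : X.Opens × Y.Opens // IsAffineOpen p.1 ∧ IsAffineOpen p.2 ∧ p.1 ≤ f ⁻¹ᵁ p.2 }
  refine projective_sections_of_cover ((Scheme.Modules.pullback f).obj G) (I := I)
    (fun p => p.1.1) ?_ (fun p => p.2.1) ?_ hU
  · rw [eq_top_iff]
    intro x _
    obtain ⟨V, hV, hxV, -⟩ := exists_isAffineOpen_mem_and_subset (x := f x) (U := ⊤) trivial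
    obtain ⟨W, hW, hxW, hWV⟩ := exists_isAffineOpen_mem_and_subset (x := x) (U := f ⁻¹ᵁ V) hxV
    exact Opens.mem_iSup.mpr ⟨⟨(W, V), hW, hV, fun y hy => hWV hy⟩, hxW⟩
  · rintro ⟨⟨W, V⟩, hW, hV, e⟩
    letI := (f.appLE V W e).hom.toAlgebra
    letI := pbModule f G e
    haveI := pbModule_isScalarTower f G e
    have hbc := isBaseChange_pbSec f hW hV e G
    haveI := hG V hV
    exact Module.Projective.of_equiv' hbc.equiv

end Groth.Agent.LD.QC
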