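import Groth.Agent.Lib.Lead.QC.PushFin
universe u
open CategoryTheory Limits AlgebraicGeometry TopologicalSpace Opposite

namespace Groth.Agent.LD.QC

lemma finite_of_finite_ringHom {R A M : Type*} [CommRing R] [CommRing A] [AddCommGroup M]
    [Module R M] [Module A M] (φ : R →+* A)
    (h : ∀ (r : R) (m : M), r • m = φ r • m) [Module.Finite R M] : Module.Finite A M := by
  let _ := φ.toAlgebra
  have : IsScalarTower R A M := ⟨fun r a m => by
    rw [h r (a • m), ← mul_smul]; rfl⟩
  exact Module.Finite.of_restrictScalars_finite R A M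

theorem sections_finite_of_pushforward {X Y : Scheme.{u}} (f : X ⟶ Y) (F : X.Modules) (V : Y.Opens)
    (h2 : Module.Finite Γ(Y, V) Γ((Scheme.Modules.pushforward f).obj F, V)) :
    Module.Finite Γ(X, f ⁻¹ᵁ V) Γ(F, f ⁻¹ᵁ V) := by
  exact @finite_of_finite_ringHom Γ(Y, V) Γ(X, f ⁻¹ᵁ V) Γ((Scheme.Modules.pushforward f).obj F, V) _ _ _ _
    (inferInstanceAs (Module Γ(X, f ⁻¹ᵁ V) Γ(F, f ⁻¹ᵁ V))) (f.app V).hom (fun _ _ => rfl) h2

theorem isFiniteType_of_pushforward {X Y : Scheme.{u}} (f : X ⟶ Y) [IsAffineHom f]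
    (F : X.Modules) [F.IsQuasicoherent]
    (hF : ((Scheme.Modules.pushforward f).obj F).IsFiniteType) : F.IsFiniteType := by
  haveI := qc_pushforward f F
  apply isFiniteType_of_finite_sections
  intro x
  obtain ⟨V, hV, hxV, -⟩ := exists_isAffineOpen_mem_and_subset (x := f x) (U := ⊤) trivial
  exact ⟨f ⁻¹ᵁ V, hV.preimage f, hxV,
    sections_finite_of_pushforward f F V (finite_sections_of_isFiniteType _ hF hV)⟩

end Groth.Agent.LD.QC
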