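import Groth.Agent.Lib.Lead.QC.Rank
universe u
open CategoryTheory Limits AlgebraicGeometry TopologicalSpace Opposite TensorProduct

namespace Groth.Agent.LD.QC

/-- over a reduced ring, a surjection `R^n → N` onto a module all of whose fibre ranks equal `n`
is injective. -/
theorem injective_of_surjective_of_fibre_rank {R : Type u} [CommRing R] [IsReduced R]
    {N : Type u} [AddCommGroup N] [Module R N] (n : ℕ) (φ : (Fin n → R) →ₗ[R] N)
    (hφ : Function.Surjective φ)
    (h : ∀ q : PrimeSpectrum R, Module.finrank q.asIdeal.ResidueField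
      (q.asIdeal.ResidueField ⊗[R] N) = n) : Function.Injective φ := by
  rw [← LinearMap.ker_eq_bot, eq_bot_iff]
  intro v hv
  rw [Submodule.mem_bot]
  ext j
  apply IsReduced.eq_zero
  rw [← mem_nilradical, nilradical_eq_sInf, Ideal.mem_sInf]
  intro q hq
  haveI : q.IsPrime := hq
  let Q : PrimeSpectrum R := ⟨q, hq⟩
  let k := q.ResidueField
  -- the base change of φ to k
  let ψ : k ⊗[R] (Fin n → R) →ₗ[k] k ⊗[R] N := LinearMap.baseChange k φ
  have hψs : Function.Surjective ψ := LinearMap.lTensor_surjective k hφ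
  haveI : Module.Finite k (k ⊗[R] (Fin n → R)) := inferInstance
  haveI : Nontrivial R := Q.nontrivial
  have hdim : Module.finrank k (k ⊗[R] (Fin n → R)) = Module.finrank k (k ⊗[R] N) := by
    rw [h Q, Module.finrank_baseChange]
    simp
  haveI : Module.Finite k (k ⊗[R] N) := Module.Finite.of_surjective ψ hψs
  have hψi : Function.Injective ψ :=
    (LinearMap.injective_iff_surjective_of_finrank_eq_finrank hdim).mpr hψs
  have h0 : ψ ((1 : k) ⊗ₜ[R] v) = 0 := by
    change (1 : k) ⊗ₜ[R] φ v = 0
    rw [LinearMap.mem_ker.mp hv, TensorProduct.tmul_zero]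
  have h1 : (1 : k) ⊗ₜ[R] v = 0 := hψi (by rw [h0, map_zero])
  -- project to the j-th coordinate
  let π : k ⊗[R] (Fin n → R) →ₗ[R] k :=
    TensorProduct.lift ((LinearMap.lsmul R k).comp (LinearMap.proj j)).flip
  have h2 : π ((1 : k) ⊗ₜ[R] v) = algebraMap R k (v j) := by
    simp [π, Algebra.smul_def]
  rw [h1, map_zero] at h2
  exact (Ideal.algebraMap_residueField_eq_zero).mp h2.symm

/-- the rank of a base change only depends on the isomorphism class of the algebra. -/
lemma finrank_tensor_eq_of_algEquiv {R : Type u} [CommRing R] {k k' : Type u} [CommRing k]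
    [CommRing k'] [Algebra R k] [Algebra R k'] (e : k ≃ₐ[R] k') (N : Type u) [AddCommGroup N]
    [Module R N] : Module.finrank k (k ⊗[R] N) = Module.finrank k' (k' ⊗[R] N) := by
  refine finrank_eq_of_semilinear e.toRingEquiv
    (TensorProduct.congr e.toLinearEquiv (LinearEquiv.refl R N)).toAddEquiv fun a t => ?_
  induction t using TensorProduct.induction_on with
  | zero => simp
  | tmul b m =>
    change TensorProduct.congr e.toLinearEquiv (LinearEquiv.refl R N) (a • (b ⊗ₜ[R] m)) =
      e a • TensorProduct.congr e.toLinearEquiv (LinearEquiv.refl R N) (b ⊗ₜ[R] m)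
    rw [TensorProduct.smul_tmul', TensorProduct.congr_tmul, TensorProduct.congr_tmul,
      TensorProduct.smul_tmul']
    simp
  | add x y hx hy =>
    rw [smul_add, map_add, map_add, smul_add, hx, hy]

/-- fibre rank of a localized module in terms of the canonical residue field. -/
theorem finrank_residueField_tensor_eq {R : Type u} [CommRing R] (q : Ideal R) [q.IsPrime]
    (A : Type u) [CommRing A] [Algebra R A] [IsLocalization.AtPrime A q] [IsLocalRing A]
    {N L : Type u} [AddCommGroup N] [AddCommGroup L] [Module R N] [Module R L] [Module A L]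
    [IsScalarTower R A L] (f : N →ₗ[R] L) [IsLocalizedModule q.primeCompl f] :
    Module.finrank (IsLocalRing.ResidueField A) (IsLocalRing.ResidueField A ⊗[A] L) =
      Module.finrank q.ResidueField (q.ResidueField ⊗[R] N) := by
  let κ := IsLocalRing.ResidueField A
  have hbc : IsBaseChange A f := IsLocalizedModule.isBaseChange q.primeCompl A f
  let e_a : A ⊗[R] N ≃ₗ[A] L := hbc.equiv
  let e_b : κ ⊗[A] (A ⊗[R] N) ≃ₗ[κ] κ ⊗[R] N := AlgebraTensorModule.cancelBaseChange R A κ κ N
  let e_c : κ ⊗[A] (A ⊗[R] N) ≃ₗ[κ] κ ⊗[A] L :=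
    AlgebraTensorModule.congr (LinearEquiv.refl κ κ) e_a
  have h1 : Module.finrank κ (κ ⊗[A] L) = Module.finrank κ (κ ⊗[R] N) :=
    (e_c.symm.trans e_b).finrank_eq
  rw [h1]
  -- the residue fields are isomorphic as `R`-algebras
  let e₁ : A ≃ₐ[R] Localization.AtPrime q :=
    IsLocalization.algEquiv q.primeCompl A (Localization.AtPrime q)
  let e₂ : κ ≃+* q.ResidueField := IsLocalRing.ResidueField.mapEquiv e₁.toRingEquiv
  let e₃ : κ ≃ₐ[R] q.ResidueField :=
    { e₂ with
      commutes' := fun r => by
        change e₂ (IsLocalRing.residue A (algebraMap R A r)) =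
          IsLocalRing.residue _ (algebraMap R (Localization.AtPrime q) r)
        rw [← e₁.commutes r]
        rfl }
  exact finrank_tensor_eq_of_algEquiv e₃ N

/-- if the images of finitely many elements generate the localization of a finite module, they
generate the module up to multiplication by an element of the submonoid. -/
lemma exists_smul_mem_span_of_span_localized {R : Type*} [CommRing R] (S : Submonoid R)
    (A : Type*) [CommRing A] [Algebra R A] [IsLocalization S A] {N L : Type*} [AddCommGroup N]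
    [AddCommGroup L] [Module R N] [Module R L] [Module A L] [IsScalarTower R A L]
    (f : N →ₗ[R] L) [IsLocalizedModule S f] [Module.Finite R N] {ι : Type*} (m : ι → N)
    (h : Submodule.span A (Set.range (f ∘ m)) = ⊤) :
    ∃ a ∈ S, ∀ t : N, a • t ∈ Submodule.span R (Set.range m) := by
  classical
  have h1 : (Submodule.span R (Set.range m)).localized' A S f = ⊤ := by
    rw [Submodule.localized'_span, ← Set.range_comp, h]
  have key : ∀ t : N, ∃ s : S, (s : R) • t ∈ Submodule.span R (Set.range m) := by
    intro t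
    have ht : f t ∈ (Submodule.span R (Set.range m)).localized' A S f := by rw [h1]; trivial
    obtain ⟨y, hy, s, hys⟩ := (Submodule.mem_localized' A S f _ _).mp ht
    rw [IsLocalizedModule.mk'_eq_iff] at hys
    -- f y = s • f t = f (s • t)
    have h2 : f y = f ((s : R) • t) := by rw [hys, map_smul]; rfl
    obtain ⟨c, hc⟩ := IsLocalizedModule.exists_of_eq (S := S) (f := f) h2
    refine ⟨c * s, ?_⟩
    have : ((c * s : S) : R) • t = (c : R) • y := by
      rw [Submonoid.coe_mul, mul_smul]
      exact hc.symm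
    rw [this]
    exact Submodule.smul_mem _ _ hy
  choose s hs using key
  obtain ⟨σ, hσ⟩ := (inferInstance : Module.Finite R N)
  refine ⟨∏ x ∈ σ, (s x : R), Submonoid.prod_mem S fun x _ => (s x).2, fun t => ?_⟩
  have ht : t ∈ Submodule.span R (σ : Set N) := by rw [hσ]; trivial
  induction ht using Submodule.span_induction with
  | mem x hx =>
    rw [← Finset.prod_erase_mul σ _ hx, mul_smul]
    exact Submodule.smul_mem _ _ (hs x)
  | zero => rw [smul_zero]; exact zero_mem _
  | add x y _ _ hx hy => rw [smul_add]; exact add_mem hx hy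
  | smul r x _ hx => rw [smul_comm]; exact Submodule.smul_mem _ _ hx

variable {X : Scheme.{u}}

/-- a finite type quasi-coherent module is generated, near `x`, by `fibreRank F x` sections. -/
theorem exists_basicOpen_surjection (F : X.Modules) [F.IsQuasicoherent] (hft : F.IsFiniteType)
    {U₀ : X.Opens} (hU₀ : IsAffineOpen U₀) (x : X) (hx : x ∈ U₀) :
    ∃ a : Γ(X, U₀), x ∈ X.basicOpen a ∧
      ∃ ψ : (Fin (fibreRank F x) → Γ(X, X.basicOpen a)) →ₗ[Γ(X, X.basicOpen a)]
        Γ(F, X.basicOpen a), Function.Surjective ψ := by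
  set n := fibreRank F x with hn
  letI := stalkΓModule F x U₀ hx
  haveI := isLocalizedModule_germ F hU₀ x hx
  letI : Algebra Γ(X, U₀) (X.presheaf.stalk x) :=
    TopCat.Presheaf.algebra_section_stalk X.presheaf ⟨x, hx⟩
  haveI := hU₀.isLocalization_stalk ⟨x, hx⟩
  haveI : IsScalarTower Γ(X, U₀) (X.presheaf.stalk x) (F.presheaf.stalk x) :=
    IsScalarTower.of_algebraMap_smul fun r m => rfl
  haveI : Module.Finite Γ(X, U₀) Γ(F, U₀) := finite_sections_of_isFiniteType F hft hU₀
  haveI : Module.Finite (X.presheaf.stalk x) (F.presheaf.stalk x) :=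
    finite_stalk_of_finite_sections F hU₀ x hx inferInstance
  let A := X.presheaf.stalk x
  let L := F.presheaf.stalk x
  let κ := IsLocalRing.ResidueField A
  let b : Module.Basis (Fin n) κ (κ ⊗[A] L) := Module.finBasisOfFinrankEq κ _ rfl
  have hsurj : Function.Surjective (TensorProduct.mk A κ L 1) :=
    TensorProduct.mk_surjective A L κ IsLocalRing.residue_surjective
  choose l hl using fun i => hsurj (b i)
  have hspan : Submodule.span A (Set.range l) = ⊤ :=
    IsLocalRing.span_eq_top_of_tmul_eq_basis l b hl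
  set p := hU₀.primeIdealOf ⟨x, hx⟩ with hp
  choose ms hms using fun i =>
    IsLocalizedModule.surj p.asIdeal.primeCompl (germLinear F x U₀ hx) (l i)
  let m : Fin n → Γ(F, U₀) := fun i => (ms i).1
  have hspan' : Submodule.span A (Set.range (germLinear F x U₀ hx ∘ m)) = ⊤ := by
    rw [eq_top_iff, ← hspan, Submodule.span_le]
    rintro _ ⟨i, rfl⟩
    obtain ⟨u, hu'⟩ : IsUnit (algebraMap Γ(X, U₀) A ((ms i).2 : Γ(X, U₀))) :=
      IsLocalization.map_units A (ms i).2
    have h1 : (u : A) • l i = germLinear F x U₀ hx (m i) := by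
      rw [hu', algebraMap_smul]
      exact hms i
    have h2 : l i = (↑u⁻¹ : A) • germLinear F x U₀ hx (m i) := by
      rw [← h1, smul_smul, Units.inv_mul, one_smul]
    rw [h2]
    exact Submodule.smul_mem _ _ (Submodule.subset_span ⟨i, rfl⟩)
  obtain ⟨a, ha, hspanN⟩ := exists_smul_mem_span_of_span_localized p.asIdeal.primeCompl A
    (germLinear F x U₀ hx) m hspan'
  refine ⟨a, mem_basicOpen_of_mem_primeCompl hU₀ x hx a ha, ?_⟩
  letI : Algebra Γ(X, U₀) Γ(X, X.basicOpen a) := resAlgebra (X.basicOpen_le a)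
  letI : Module Γ(X, U₀) Γ(F, X.basicOpen a) := resModule F (X.basicOpen_le a)
  haveI : IsScalarTower Γ(X, U₀) Γ(X, X.basicOpen a) Γ(F, X.basicOpen a) :=
    resModule_isScalarTower F (X.basicOpen_le a)
  haveI : IsLocalization.Away a Γ(X, X.basicOpen a) := hU₀.isLocalization_basicOpen a
  haveI : IsLocalizedModule.Away a (resLinear F (X.basicOpen_le a)) :=
    isLocalizedModule_basicOpen F hU₀ a
  let ρ := resLinear F (X.basicOpen_le a)
  let m' : Fin n → Γ(F, X.basicOpen a) := fun i => ρ (m i)
  refine ⟨Fintype.linearCombination Γ(X, X.basicOpen a) m', ?_⟩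
  rw [← LinearMap.range_eq_top, Fintype.range_linearCombination, eq_top_iff]
  intro t _
  obtain ⟨⟨m0, s⟩, hs⟩ := IsLocalizedModule.surj (Submonoid.powers a) ρ t
  -- `a • m0` lies in the span of the `m i`
  have h3 : ρ (a • m0) ∈ (Submodule.span Γ(X, X.basicOpen a) (Set.range m')).restrictScalars
      Γ(X, U₀) := by
    apply Submodule.span_le_restrictScalars Γ(X, U₀) Γ(X, X.basicOpen a) (Set.range m')
    have : ρ (a • m0) ∈ (Submodule.span Γ(X, U₀) (Set.range m)).map ρ :=
      Submodule.mem_map_of_mem (hspanN m0)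
    rw [Submodule.map_span, ← Set.range_comp] at this
    exact this
  rw [Submodule.restrictScalars_mem] at h3
  -- `ρ (a • m0) = (a * s) • t` and `a * s` is a unit of `Γ(X, D(a))`
  have h4 : ρ (a • m0) = algebraMap Γ(X, U₀) Γ(X, X.basicOpen a) (a * (s : Γ(X, U₀))) • t := by
    rw [map_smul, ← hs, algebraMap_smul, mul_smul]
    rfl
  have hu : IsUnit (algebraMap Γ(X, U₀) Γ(X, X.basicOpen a) (a * (s : Γ(X, U₀)))) :=
    IsLocalization.map_units Γ(X, X.basicOpen a)
      (⟨a * s, Submonoid.mul_mem _ (Submonoid.mem_powers a) s.2⟩ : Submonoid.powers a)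
  obtain ⟨u, hu'⟩ := hu
  have h5 : t = (↑u⁻¹ : Γ(X, X.basicOpen a)) • ρ (a • m0) := by
    rw [h4, ← hu', smul_smul, Units.inv_mul, one_smul]
  rw [h5]
  exact Submodule.smul_mem _ _ h3

/-- the fibre rank at a point of an affine open, in terms of sections. -/
theorem fibreRank_eq_finrank_residueField (F : X.Modules) [F.IsQuasicoherent] {U : X.Opens}
    (hU : IsAffineOpen U) (y : X) (hy : y ∈ U) :
    fibreRank F y = Module.finrank (hU.primeIdealOf ⟨y, hy⟩).asIdeal.ResidueField
      ((hU.primeIdealOf ⟨y, hy⟩).asIdeal.ResidueField ⊗[Γ(X, U)] Γ(F, U)) := by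
  letI := stalkΓModule F y U hy
  haveI := isLocalizedModule_germ F hU y hy
  letI : Algebra Γ(X, U) (X.presheaf.stalk y) :=
    TopCat.Presheaf.algebra_section_stalk X.presheaf ⟨y, hy⟩
  haveI := hU.isLocalization_stalk ⟨y, hy⟩
  haveI : IsScalarTower Γ(X, U) (X.presheaf.stalk y) (F.presheaf.stalk y) :=
    IsScalarTower.of_algebraMap_smul fun r m => rfl
  exact finrank_residueField_tensor_eq (hU.primeIdealOf ⟨y, hy⟩).asIdeal (X.presheaf.stalk y)
    (germLinear F y U hy)

/-- over a reduced scheme, a finite type quasi-coherent module with locally constant fibre rank is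
finite locally free. -/
theorem isFinLocFree_of_reduced_of_rank [IsReduced X] (F : X.Modules) [F.IsQuasicoherent]
    (hft : F.IsFiniteType) (hlc : IsLocallyConstant (fibreRank F)) : FlatMod.IsFinLocFree F := by
  rw [isFinLocFree_iff]
  intro x
  obtain ⟨W, hW, hxW, hWc⟩ := (IsLocallyConstant.iff_exists_open _).mp hlc x
  obtain ⟨U₀, hU₀, hxU₀, hU₀W⟩ :=
    exists_isAffineOpen_mem_and_subset (x := x) (U := ⟨W, hW⟩) hxW
  obtain ⟨a, hxa, ψ, hψ⟩ := exists_basicOpen_surjection F hft hU₀ x hxU₀
  have hU : IsAffineOpen (X.basicOpen a) := hU₀.basicOpen a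
  have hinj : Function.Injective ψ := by
    refine injective_of_surjective_of_fibre_rank _ ψ hψ fun q => ?_
    have hy : hU.fromSpec q ∈ X.basicOpen a := fromSpec_mem hU q
    have h1 := fibreRank_eq_finrank_residueField F hU (hU.fromSpec q) hy
    rw [primeIdealOf_fromSpec hU q hy] at h1
    rw [← h1]
    exact hWc _ (hU₀W (X.basicOpen_le a hy))
  exact ⟨X.basicOpen a, fibreRank F x, hU, hxa,
    ⟨(LinearEquiv.ofBijective ψ ⟨hinj, hψ⟩).symm⟩⟩

/-- over a reduced scheme, a quasi-coherent module is finite locally free iff it is of finite type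
with locally constant fibre rank. -/
theorem isFinLocFree_iff_rank_of_reduced [IsReduced X] (F : X.Modules) [F.IsQuasicoherent] :
    FlatMod.IsFinLocFree F ↔ F.IsFiniteType ∧ IsLocallyConstant (fibreRank F) :=
  ⟨fun h => ⟨((isFinLocFree_iff_free_stalks_rank F).mp h).1,
    ((isFinLocFree_iff_free_stalks_rank F).mp h).2.2⟩,
    fun h => isFinLocFree_of_reduced_of_rank F h.1 h.2⟩

end Groth.Agent.LD.QC
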