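import Groth.Agent.Lib.Lead.QC.DevissageStep
import Groth.Agent.Lib.Lead.QC.SubExt
import Groth.Agent.Lib.Lead.QC.SubSup
import Groth.Agent.Lib.Lead.QC.GlobGen
import Groth.Agent.Lib.Lead.QC.StalkNbhd

/-! # Coherent modules whose generic stalk is killed by the maximal ideal

For a coherent module `G` on a Noetherian scheme whose stalk at `y` is killed by the maximal ideal
(a semisimple stalk), we construct coherent submodules `Ks, Ts ⊆ G` such that `Ks ⊞ Ts ⟶ G` is an
isomorphism at `y` and the stalk of `Ks` at `y` is simple (EGA III 3.1.3, reduction to 3.1.2). -/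

set_option autoImplicit false
universe u
open CategoryTheory Limits Opposite AlgebraicGeometry TopologicalSpace ZeroObject

namespace Groth.Agent.LD.QC
variable {X : Scheme.{u}}

/-- a module over a local ring killed by the maximal ideal is semisimple. -/
theorem isSemisimpleModule_of_maximalIdeal_smul {R : Type*} [CommRing R] [IsLocalRing R]
    {M : Type*} [AddCommGroup M] [Module R M]
    (h : ∀ a ∈ IsLocalRing.maximalIdeal R, ∀ m : M, a • m = 0) : IsSemisimpleModule R M := by
  have htors : Module.IsTorsionBySet R M (IsLocalRing.maximalIdeal R : Set R) :=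
    fun m a => h a.1 a.2 m
  letI := htors.module
  letI : Field (R ⧸ IsLocalRing.maximalIdeal R) := Ideal.Quotient.field _
  have : IsSemisimpleModule (R ⧸ IsLocalRing.maximalIdeal R) M := inferInstance
  exact htors.isSemisimpleModule_iff.mp this

/-- the stalk at `y` of a quasi-coherent module killed by the ideal of the closure of `y` is
killed by the maximal ideal of the local ring at `y`. -/
theorem stalk_smul_eq_zero_of_killedByIdeal (G : X.Modules) [G.IsQuasicoherent] (y : X)
    (hk : ClSub.KilledByIdeal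
      (Scheme.IdealSheafData.vanishingIdeal ⟨closure {y}, isClosed_closure⟩) G)
    (a : X.presheaf.stalk y) (ha : a ∈ IsLocalRing.maximalIdeal (X.presheaf.stalk y))
    (g : G.presheaf.stalk y) : a • g = 0 := by
  obtain ⟨V, hV, hyV, -⟩ := exists_isAffineOpen_mem_and_subset (x := y) (U := ⊤) trivial
  letI := stalkΓModule G y V hyV
  haveI := isLocalizedModule_germ G hV y hyV
  obtain ⟨⟨m, s⟩, hms⟩ := IsLocalizedModule.surj (hV.primeIdealOf ⟨y, hyV⟩).asIdeal.primeCompl
    (germLinear G y V hyV) g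
  have hms' : X.presheaf.germ V y hyV s.1 • g = G.presheaf.germ V y hyV m := hms
  letI : Algebra Γ(X, V) (X.presheaf.stalk y) :=
    TopCat.Presheaf.algebra_section_stalk X.presheaf ⟨y, hyV⟩
  haveI := hV.isLocalization_stalk ⟨y, hyV⟩
  obtain ⟨⟨b, t⟩, hbt⟩ := IsLocalization.surj (hV.primeIdealOf ⟨y, hyV⟩).asIdeal.primeCompl a
  have hbt' : a * X.presheaf.germ V y hyV t.1 = X.presheaf.germ V y hyV b := hbt
  have hu_s : IsUnit (X.presheaf.germ V y hyV s.1) := isUnit_germ_of_notMem hV y hyV s.1 s.2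
  have hu_t : IsUnit (X.presheaf.germ V y hyV t.1) := isUnit_germ_of_notMem hV y hyV t.1 t.2
  have hb_mem : X.presheaf.germ V y hyV b ∈ IsLocalRing.maximalIdeal (X.presheaf.stalk y) := by
    rw [← hbt']
    exact Ideal.mul_mem_right _ _ ha
  have hyb : y ∉ X.basicOpen b := by
    intro h
    have hu : IsUnit (X.presheaf.germ V y hyV b) := (X.mem_basicOpen b y hyV).mp h
    exact (IsLocalRing.mem_maximalIdeal _).mp hb_mem hu
  have hbI : b ∈ (Scheme.IdealSheafData.vanishingIdeal
      (⟨closure {y}, isClosed_closure⟩ : Closeds X)).ideal ⟨V, hV⟩ := by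
    apply mem_vanishingIdeal_of_forall_notMem_basicOpen
    intro z _ hzZ hzb
    apply hyb
    have hzZ' : z ∈ closure ({y} : Set X) := hzZ
    obtain ⟨w, hw1, hw2⟩ := mem_closure_iff.mp hzZ' (X.basicOpen b) (X.basicOpen b).isOpen hzb
    rw [Set.mem_singleton_iff] at hw2
    exact hw2 ▸ hw1
  have hbm : b • m = 0 := hk ⟨V, hV⟩ b hbI m
  have hfin : X.presheaf.germ V y hyV t.1 • (X.presheaf.germ V y hyV s.1 • (a • g)) = 0 := by
    have hgs : X.presheaf.germ V y hyV b • G.presheaf.germ V y hyV m =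
        G.presheaf.germ V y hyV (b • m) := (germ_smul G y V hyV b m).symm
    rw [smul_comm (X.presheaf.germ V y hyV s.1) a g, ← mul_smul,
      mul_comm (X.presheaf.germ V y hyV t.1) a, hbt', hms', hgs, hbm, map_zero]
  exact hu_s.smul_eq_zero.mp (hu_t.smul_eq_zero.mp hfin)

/-! ### stalk maps -/

lemma stalkMapₗ_germ' {A B : X.Modules} (φ : A ⟶ B) (y : X) (V : X.Opens) (hyV : y ∈ V)
    (s : Γ(A, V)) :
    Algz.stalkMapₗ φ y (A.presheaf.germ V y hyV s) = B.presheaf.germ V y hyV (φ.app V s) :=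
  stalkMap_germ φ y V hyV s

lemma stalkMapₗ_comp {A B C : X.Modules} (f : A ⟶ B) (g : B ⟶ C) (y : X)
    (a : A.presheaf.stalk y) :
    Algz.stalkMapₗ (f ≫ g) y a = Algz.stalkMapₗ g y (Algz.stalkMapₗ f y a) := by
  obtain ⟨V, hyV, s, rfl⟩ := TopCat.Presheaf.exists_germ_eq A.presheaf a
  rw [stalkMapₗ_germ', stalkMapₗ_germ', stalkMapₗ_germ']
  rfl

lemma stalkMapₗ_add {A B : X.Modules} (f g : A ⟶ B) (y : X) (a : A.presheaf.stalk y) :
    Algz.stalkMapₗ (f + g) y a = Algz.stalkMapₗ f y a + Algz.stalkMapₗ g y a := by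
  obtain ⟨V, hyV, s, rfl⟩ := TopCat.Presheaf.exists_germ_eq A.presheaf a
  rw [stalkMapₗ_germ', stalkMapₗ_germ', stalkMapₗ_germ', ← map_add]
  rfl

lemma stalkMapₗ_id {A : X.Modules} (y : X) (a : A.presheaf.stalk y) :
    Algz.stalkMapₗ (𝟙 A) y a = a := by
  obtain ⟨V, hyV, s, rfl⟩ := TopCat.Presheaf.exists_germ_eq A.presheaf a
  rw [stalkMapₗ_germ']
  rfl

/-- the sections over `V` whose germ at `y` lies in a given submodule of the stalk. -/
noncomputable def germComap (G : X.Modules) {V : X.Opens} (y : X) (hyV : y ∈ V)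
    (S : Submodule (X.presheaf.stalk y) (G.presheaf.stalk y)) : Submodule Γ(X, V) Γ(G, V) where
  carrier := {m | G.presheaf.germ V y hyV m ∈ S}
  add_mem' := by
    intro a b ha hb
    change G.presheaf.germ V y hyV (a + b) ∈ S
    rw [map_add]
    exact S.add_mem ha hb
  zero_mem' := by
    change G.presheaf.germ V y hyV 0 ∈ S
    rw [map_zero]
    exact S.zero_mem
  smul_mem' := by
    intro r m hm
    change G.presheaf.germ V y hyV (r • m) ∈ S
    rw [germ_smul]
    exact S.smul_mem _ hm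

/-- the stalk at `y` of the largest submodule of `G` whose sections over `V` have germ in `S`
is `S`. -/
theorem stalk_range_subGenι [QuasiSeparatedSpace X] (G : X.Modules) [G.IsQuasicoherent]
    {V : X.Opens} (hV : IsAffineOpen V) (y : X) (hyV : y ∈ V)
    (S : Submodule (X.presheaf.stalk y) (G.presheaf.stalk y)) (g : G.presheaf.stalk y) :
    (∃ a, Algz.stalkMapₗ (subGenι G hV (germComap G y hyV S)) y a = g) ↔ g ∈ S := by
  set N₁ := germComap G y hyV S with hN₁
  haveI hq : (subGen G hV N₁).IsQuasicoherent := subGen_qc G hV N₁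
  constructor
  · rintro ⟨a, rfl⟩
    letI := stalkΓModule (subGen G hV N₁) y V hyV
    haveI := isLocalizedModule_germ (subGen G hV N₁) hV y hyV
    obtain ⟨⟨t, σ⟩, hσ⟩ := IsLocalizedModule.surj
      (hV.primeIdealOf ⟨y, hyV⟩).asIdeal.primeCompl (germLinear (subGen G hV N₁) y V hyV) a
    have hσ' : X.presheaf.germ V y hyV σ.1 • a =
        (subGen G hV N₁).presheaf.germ V y hyV t := hσ
    obtain ⟨u, hu⟩ := isUnit_germ_of_notMem hV y hyV σ.1 σ.2
    have h1 : (u : X.presheaf.stalk y) • Algz.stalkMapₗ (subGenι G hV N₁) y a =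
        G.presheaf.germ V y hyV ((subGenι G hV N₁).app V t) := by
      rw [← map_smul, hu, hσ']
      exact stalkMap_germ (subGenι G hV N₁) y V hyV t
    have h2 : (subGenι G hV N₁).app V t ∈ N₁ :=
      (mem_range_subGenι_iff G hV N₁ _).mp ⟨t, rfl⟩
    have h3 : G.presheaf.germ V y hyV ((subGenι G hV N₁).app V t) ∈ S := h2
    have h4 : Algz.stalkMapₗ (subGenι G hV N₁) y a =
        (↑u⁻¹ : X.presheaf.stalk y) •
          ((u : X.presheaf.stalk y) • Algz.stalkMapₗ (subGenι G hV N₁) y a) := by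
      rw [smul_smul, Units.inv_mul, one_smul]
    rw [h4, h1]
    exact S.smul_mem _ h3
  · intro hg
    letI := stalkΓModule G y V hyV
    haveI := isLocalizedModule_germ G hV y hyV
    obtain ⟨⟨m, σ⟩, hσ⟩ := IsLocalizedModule.surj
      (hV.primeIdealOf ⟨y, hyV⟩).asIdeal.primeCompl (germLinear G y V hyV) g
    have hσ' : X.presheaf.germ V y hyV σ.1 • g = G.presheaf.germ V y hyV m := hσ
    obtain ⟨u, hu⟩ := isUnit_germ_of_notMem hV y hyV σ.1 σ.2
    have hm : m ∈ N₁ := by
      change G.presheaf.germ V y hyV m ∈ S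
      rw [← hσ']
      exact S.smul_mem _ hg
    obtain ⟨t, ht⟩ := (mem_range_subGenι_iff G hV N₁ m).mpr hm
    refine ⟨(↑u⁻¹ : X.presheaf.stalk y) • (subGen G hV N₁).presheaf.germ V y hyV t, ?_⟩
    have h1 : Algz.stalkMapₗ (subGenι G hV N₁) y
        ((subGen G hV N₁).presheaf.germ V y hyV t) = G.presheaf.germ V y hyV m := by
      rw [← ht]
      exact stalkMap_germ (subGenι G hV N₁) y V hyV t
    rw [map_smul, h1, ← hσ', ← hu, smul_smul, Units.inv_mul, one_smul]

/-- two submodules with complementary stalk images at `y`: their sum maps isomorphically at `y`. -/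
theorem biprod_desc_stalk_bijective {G Ks Ts : X.Modules} (k : Ks ⟶ G) (t : Ts ⟶ G) [Mono k]
    [Mono t] (y : X) (S T : Submodule (X.presheaf.stalk y) (G.presheaf.stalk y))
    (hST : IsCompl S T)
    (hrS : ∀ g, (∃ a, Algz.stalkMapₗ k y a = g) ↔ g ∈ S)
    (hrT : ∀ g, (∃ a, Algz.stalkMapₗ t y a = g) ↔ g ∈ T) :
    Function.Bijective (Algz.stalkMapₗ (biprod.desc k t) y) := by
  have hkinj : Function.Injective (Algz.stalkMapₗ k y) := stalkMap_injective_of_mono k y
  have htinj : Function.Injective (Algz.stalkMapₗ t y) := stalkMap_injective_of_mono t y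
  have hinl : ∀ a, Algz.stalkMapₗ (biprod.desc k t) y (Algz.stalkMapₗ biprod.inl y a) =
      Algz.stalkMapₗ k y a := by
    intro a
    rw [← stalkMapₗ_comp, biprod.inl_desc]
  have hinr : ∀ b, Algz.stalkMapₗ (biprod.desc k t) y (Algz.stalkMapₗ biprod.inr y b) =
      Algz.stalkMapₗ t y b := by
    intro b
    rw [← stalkMapₗ_comp, biprod.inr_desc]
  have htotal : ∀ z : (Ks ⊞ Ts).presheaf.stalk y,
      Algz.stalkMapₗ biprod.inl y (Algz.stalkMapₗ biprod.fst y z) +
        Algz.stalkMapₗ biprod.inr y (Algz.stalkMapₗ biprod.snd y z) = z := by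
    intro z
    rw [← stalkMapₗ_comp, ← stalkMapₗ_comp, ← stalkMapₗ_add, biprod.total, stalkMapₗ_id]
  constructor
  · rw [injective_iff_map_eq_zero]
    intro z hz
    rw [← htotal z, map_add, hinl, hinr] at hz
    have ha : Algz.stalkMapₗ k y (Algz.stalkMapₗ biprod.fst y z) ∈ S := (hrS _).mp ⟨_, rfl⟩
    have hb : Algz.stalkMapₗ t y (Algz.stalkMapₗ biprod.snd y z) ∈ T := (hrT _).mp ⟨_, rfl⟩
    have hab : Algz.stalkMapₗ k y (Algz.stalkMapₗ biprod.fst y z) =
        - Algz.stalkMapₗ t y (Algz.stalkMapₗ biprod.snd y z) := eq_neg_of_add_eq_zero_left hz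
    have ha' : Algz.stalkMapₗ k y (Algz.stalkMapₗ biprod.fst y z) ∈ S ⊓ T :=
      ⟨ha, hab ▸ T.neg_mem hb⟩
    rw [hST.inf_eq_bot, Submodule.mem_bot] at ha'
    have hb' : Algz.stalkMapₗ t y (Algz.stalkMapₗ biprod.snd y z) = 0 := by
      rw [ha', zero_add] at hz
      exact hz
    have ha0 : Algz.stalkMapₗ biprod.fst y z = 0 := hkinj (ha'.trans (map_zero _).symm)
    have hb0 : Algz.stalkMapₗ biprod.snd y z = 0 := htinj (hb'.trans (map_zero _).symm)
    rw [← htotal z, ha0, hb0, map_zero, map_zero, add_zero]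
  · intro g
    have hg : g ∈ S ⊔ T := by
      rw [hST.sup_eq_top]
      exact Submodule.mem_top
    obtain ⟨s, hs, t', ht', rfl⟩ := Submodule.mem_sup.mp hg
    obtain ⟨a, rfl⟩ := (hrS s).mpr hs
    obtain ⟨b, rfl⟩ := (hrT t').mpr ht'
    refine ⟨Algz.stalkMapₗ biprod.inl y a + Algz.stalkMapₗ biprod.inr y b, ?_⟩
    rw [map_add, hinl, hinr]

/-- **key construction**: for a coherent module `G` whose stalk at `y` is nonzero and killed by
the maximal ideal, there are coherent submodules `Ks, Ts` of `G` such that `Ks ⊞ Ts ⟶ G` is an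
isomorphism at `y` and `Ks` has a simple stalk at `y` (in the form of a dichotomy for its
submodules). -/
theorem exists_sub_simple_dichotomy [IsNoetherian X] (G : X.Modules) (hG : Coh.IsCoh G) (y : X)
    (hy : y ∈ CohB1.support G)
    (hk : ∀ a ∈ IsLocalRing.maximalIdeal (X.presheaf.stalk y),
      ∀ g : G.presheaf.stalk y, a • g = 0) :
    ∃ (Ks Ts : X.Modules) (k : Ks ⟶ G) (t : Ts ⟶ G), Mono k ∧ Mono t ∧ Coh.IsCoh Ks ∧
      Coh.IsCoh Ts ∧ y ∈ CohB1.support Ks ∧
      y ∉ CohB1.support (kernel (biprod.desc k t)) ∧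
      y ∉ CohB1.support (cokernel (biprod.desc k t)) ∧
      (∀ (K₁ : X.Modules) (k₁ : K₁ ⟶ Ks), Mono k₁ →
        y ∉ CohB1.support K₁ ∨ y ∉ CohB1.support (cokernel k₁)) := by
  haveI := hG.1
  obtain ⟨V, hV, hyV, -⟩ := exists_isAffineOpen_mem_and_subset (x := y) (U := ⊤) trivial
  haveI : IsSemisimpleModule (X.presheaf.stalk y) (G.presheaf.stalk y) :=
    isSemisimpleModule_of_maximalIdeal_smul hk
  haveI : Nontrivial (G.presheaf.stalk y) := not_subsingleton_iff_nontrivial.mp hy
  obtain ⟨S, hS⟩ := IsSemisimpleModule.exists_simple_submodule (X.presheaf.stalk y)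
    (G.presheaf.stalk y)
  have hSatom : IsAtom S := isSimpleModule_iff_isAtom.mp hS
  obtain ⟨T, hST⟩ := exists_isCompl S
  have hKc : Coh.IsCoh (subGen G hV (germComap G y hyV S)) :=
    isCoh_of_mono (subGenι G hV (germComap G y hyV S)) (subGen_qc G hV _) hG
  have hTc : Coh.IsCoh (subGen G hV (germComap G y hyV T)) :=
    isCoh_of_mono (subGenι G hV (germComap G y hyV T)) (subGen_qc G hV _) hG
  have hrS := stalk_range_subGenι G hV y hyV S
  have hrT := stalk_range_subGenι G hV y hyV T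
  have hkinj : Function.Injective
      (Algz.stalkMapₗ (subGenι G hV (germComap G y hyV S)) y) :=
    stalkMap_injective_of_mono _ y
  have hbij := biprod_desc_stalk_bijective (subGenι G hV (germComap G y hyV S))
    (subGenι G hV (germComap G y hyV T)) y S T hST hrS hrT
  refine ⟨_, _, subGenι G hV (germComap G y hyV S), subGenι G hV (germComap G y hyV T),
    inferInstance, inferInstance, hKc, hTc, ?_, ?_, ?_, ?_⟩
  · intro hsub
    apply hSatom.1
    rw [eq_bot_iff]
    intro g hg
    obtain ⟨a, rfl⟩ := (hrS g).mpr hg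
    rw [Submodule.mem_bot, Subsingleton.elim a 0, map_zero]
  · exact fun h => h (subsingleton_stalk_kernel _ y hbij.1)
  · exact fun h => h (subsingleton_stalk_cokernel _ y hbij.2)
  · intro K₁ k₁ hk₁
    haveI := hk₁
    have hk₁inj : Function.Injective (Algz.stalkMapₗ k₁ y) := stalkMap_injective_of_mono k₁ y
    have hle : LinearMap.range
        (Algz.stalkMapₗ (k₁ ≫ subGenι G hV (germComap G y hyV S)) y) ≤ S := by
      rintro g ⟨a, rfl⟩
      rw [stalkMapₗ_comp]
      exact (hrS _).mp ⟨_, rfl⟩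
    rcases hSatom.le_iff.mp hle with hbot | htop
    · left
      intro hx
      apply hx
      apply subsingleton_of_forall_eq_zero
      intro a
      apply hk₁inj
      apply hkinj
      have h1 : Algz.stalkMapₗ (k₁ ≫ subGenι G hV (germComap G y hyV S)) y a ∈
          LinearMap.range (Algz.stalkMapₗ (k₁ ≫ subGenι G hV (germComap G y hyV S)) y) :=
        ⟨a, rfl⟩
      rw [hbot, Submodule.mem_bot, stalkMapₗ_comp] at h1
      rw [h1, map_zero, map_zero]
    · right
      intro hx
      apply hx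
      apply subsingleton_stalk_cokernel k₁ y
      intro c
      have hc : Algz.stalkMapₗ (subGenι G hV (germComap G y hyV S)) y c ∈
          LinearMap.range (Algz.stalkMapₗ (k₁ ≫ subGenι G hV (germComap G y hyV S)) y) := by
        rw [htop]
        exact (hrS _).mp ⟨c, rfl⟩
      obtain ⟨a, ha⟩ := hc
      rw [stalkMapₗ_comp] at ha
      exact ⟨a, hkinj ha⟩

section Step
variable [IsNoetherian X] (P : X.Modules → Prop) (Y₀ : Set X)

/-- variant of `sub_of_simple_stalk` with the simplicity of the stalk replaced by the dichotomy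
it implies. -/
theorem sub_of_dichotomy
    (hker : ∀ S : ShortComplex X.Modules, S.ShortExact → Coh.IsCoh S.X₁ → Coh.IsCoh S.X₂ →
      Coh.IsCoh S.X₃ → CohB1.support S.X₂ ⊆ Y₀ → P S.X₂ → P S.X₃ → P S.X₁)
    (Y : Set X) (ξ : X) (hξ : ξ ∈ Y) (G : X.Modules) (hG : Coh.IsCoh G)
    (hGs : CohB1.support G = Y) (hYY₀ : Y ⊆ Y₀)
    (hdich : ∀ (K₁ : X.Modules) (k₁ : K₁ ⟶ G), Mono k₁ →
      ξ ∉ CohB1.support K₁ ∨ ξ ∉ CohB1.support (cokernel k₁))
    (hPG : P G)
    (IH : ∀ M : X.Modules, Coh.IsCoh M → CohB1.support M ⊆ Y → CohB1.support M ≠ Y → P M)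
    (K : X.Modules) (k : K ⟶ G) (hk : Mono k) (hK : Coh.IsCoh K) : P K := by
  haveI := hk
  have hCc : Coh.IsCoh (cokernel k) := isCoh_cokernel k hK hG
  have hses : (ShortComplex.mk k (cokernel.π k) (cokernel.condition k)).ShortExact :=
    { exact := ShortComplex.exact_of_g_is_cokernel _ (cokernelIsCokernel k)
      mono_f := inferInstanceAs (Mono k)
      epi_g := inferInstanceAs (Epi (cokernel.π k)) }
  rcases hdich K k hk with h1 | h3
  · have hKY : CohB1.support K ⊆ Y := hGs ▸ support_subset_of_mono k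
    exact IH K hK hKY (fun h => h1 (h ▸ hξ))
  · have hCY : CohB1.support (cokernel k) ⊆ Y := hGs ▸ support_subset_of_epi (cokernel.π k)
    have hPC : P (cokernel k) := IH _ hCc hCY (fun h => h3 (h ▸ hξ))
    exact hker _ hses hK hG hCc (hGs ▸ hYY₀) hPG hPC

end Step

end Groth.Agent.LD.QC
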