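import Groth.Agent.Lib.Lead.QC.Push
import Groth.Agent.Lib.Lead.QC.Gen
import Mathlib.AlgebraicGeometry.Morphisms.FinitePresentation
import Mathlib.AlgebraicGeometry.Morphisms.ClosedImmersion

/-! # Quasi-coherence of the subsheaf of sections killed by an ideal of finite type

If `ε : P ⟶ F` is a map of `𝒪_X`-modules with `F` quasi-coherent which, over every affine open
`U`, is injective with image the sections of `F` killed by an ideal `I(U)` that is finitely
generated and compatible with restriction, then `P` is quasi-coherent (EGA I 1.4.1 criterion). -/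

set_option autoImplicit false
universe u
open CategoryTheory Limits AlgebraicGeometry TopologicalSpace Opposite

namespace Groth.Agent.LD.QC

/-- a uniform power of `f` kills `I • s₀` when `I` is finitely generated and every `a • s₀`,
`a ∈ I`, is killed by some power of `f`. -/
lemma exists_pow_smul_eq_zero_of_fg {R M : Type*} [CommRing R] [AddCommGroup M] [Module R M]
    (I : Ideal R) (hI : I.FG) (f : R) (s₀ : M)
    (h : ∀ a ∈ I, ∃ n : ℕ, f ^ n • (a • s₀) = 0) :
    ∃ N : ℕ, ∀ a ∈ I, f ^ N • (a • s₀) = 0 := by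
  obtain ⟨S, hS⟩ := hI
  choose! n hn using h
  refine ⟨S.sup n, fun a ha => ?_⟩
  rw [← hS] at ha
  refine Submodule.span_induction (p := fun a _ => f ^ S.sup n • (a • s₀) = 0) ?_ ?_ ?_ ?_ ha
  · intro x hx
    have hxI : x ∈ I := hS ▸ Submodule.subset_span hx
    have hle : n x ≤ S.sup n := Finset.le_sup (Finset.mem_coe.mp hx)
    have hp : f ^ S.sup n = f ^ (S.sup n - n x) * f ^ n x := (pow_sub_mul_pow f hle).symm
    rw [hp, mul_smul, hn x hxI, smul_zero]
  · rw [zero_smul, smul_zero]
  · intro x y _ _ hx hy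
    rw [add_smul, smul_add, hx, hy, add_zero]
  · intro r x _ hx
    rw [smul_eq_mul, mul_smul, smul_comm (f ^ S.sup n) r (x • s₀), hx, smul_zero]

variable {X : Scheme.{u}}

/-- the subsheaf of sections of a quasi-coherent module killed by an ideal of finite type is
quasi-coherent. -/
theorem qc_of_mono_torsion (P F : X.Modules) [F.IsQuasicoherent] (ε : P ⟶ F)
    (I : ∀ U : X.Opens, Ideal Γ(X, U))
    (hres : ∀ (U V : X.Opens) (h : V ≤ U) (a : Γ(X, U)), a ∈ I U →
      X.presheaf.map (homOfLE h).op a ∈ I V)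
    (hFG : ∀ U : X.Opens, IsAffineOpen U → (I U).FG)
    (hinj : ∀ U : X.Opens, IsAffineOpen U → Function.Injective (ε.app U))
    (hker : ∀ U : X.Opens, IsAffineOpen U → ∀ (s : Γ(P, U)) (a : Γ(X, U)), a ∈ I U →
      a • ε.app U s = 0)
    (hrange : ∀ U : X.Opens, IsAffineOpen U → ∀ x : Γ(F, U),
      (∀ a : Γ(X, U), a ∈ I U → a • x = 0) → ∃ s : Γ(P, U), ε.app U s = x) :
    P.IsQuasicoherent := by
  refine qc_of_surj_inj P ?_ ?_
  · intro U hU f t
    have hD : IsAffineOpen (X.basicOpen f) := hU.basicOpen f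
    obtain ⟨m, s₀, hs₀⟩ := affine_surj F hU f (ε.app (X.basicOpen f) t)
    have key : ∀ a ∈ I U, ∃ n : ℕ, f ^ n • (a • s₀) = 0 := by
      intro a ha
      apply affine_inj F hU f (a • s₀)
      have h1 : X.presheaf.map (homOfLE (X.basicOpen_le f)).op a • ε.app (X.basicOpen f) t = 0 :=
        hker _ hD t _ (hres U _ (X.basicOpen_le f) a ha)
      rw [smul_res, hs₀, smul_comm, h1, smul_zero]
    obtain ⟨N, hN⟩ := exists_pow_smul_eq_zero_of_fg (I U) (hFG U hU) f s₀ key
    obtain ⟨s, hs⟩ := hrange U hU (f ^ N • s₀) (by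
      intro a ha
      rw [smul_comm, hN a ha])
    refine ⟨N + m, s, ?_⟩
    apply hinj _ hD
    rw [app_res, hs, smul_res, hs₀, Scheme.Modules.Hom.app_smul, map_pow, pow_add, mul_smul]
  · intro U hU f s hs
    have h0 : F.presheaf.map (homOfLE (X.basicOpen_le f)).op (ε.app U s) = 0 := by
      rw [← app_res, hs, map_zero]
    obtain ⟨n, hn⟩ := affine_inj F hU f (ε.app U s) h0
    refine ⟨n, hinj U hU ?_⟩
    rw [Scheme.Modules.Hom.app_smul, hn, map_zero]

/-- for a closed immersion locally of finite presentation, the kernel of the comorphism on an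
affine open is finitely generated. -/
lemma ker_app_fg {Z : Scheme.{u}} (i : Z ⟶ X) [IsClosedImmersion i]
    [LocallyOfFinitePresentation i] {U : X.Opens} (hU : IsAffineOpen U) :
    (RingHom.ker (i.app U).hom).FG := by
  have h : RingHom.FinitePresentation (i.appLE U (i ⁻¹ᵁ U) le_rfl).hom :=
    HasRingHomProperty.appLE @LocallyOfFinitePresentation i inferInstance ⟨U, hU⟩
      ⟨i ⁻¹ᵁ U, hU.preimage i⟩ le_rfl
  rw [Scheme.Hom.appLE_eq_app] at h
  letI := (i.app U).hom.toAlgebra
  haveI : Algebra.FinitePresentation Γ(X, U) Γ(Z, i ⁻¹ᵁ U) := h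
  exact Algebra.FinitePresentation.ker_fG_of_surjective (Algebra.ofId Γ(X, U) Γ(Z, i ⁻¹ᵁ U))
    (i.app_surjective U hU)

/-- the kernels of the comorphism are compatible with restriction. -/
lemma ker_app_res {Z : Scheme.{u}} (i : Z ⟶ X) {U V : X.Opens} (h : V ≤ U) (a : Γ(X, U))
    (ha : a ∈ RingHom.ker (i.app U).hom) :
    X.presheaf.map (homOfLE h).op a ∈ RingHom.ker (i.app V).hom := by
  have ha' : i.app U a = 0 := RingHom.mem_ker.mp ha
  rw [RingHom.mem_ker]
  change i.app V (X.presheaf.map (homOfLE h).op a) = 0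
  have h1 := i.naturality (homOfLE h).op
  have h2 := congr($h1 a)
  simp only [CommRingCat.comp_apply] at h2
  rw [h2, ha', map_zero]

end Groth.Agent.LD.QC
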