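import Groth.Agent.Lib.Lead.QC.WeakAssPush
import Groth.Agent.Lib.Lead.QC.AssAlg
import Mathlib.RingTheory.QuasiFinite.Basic
universe u v
namespace Groth.Agent.LD.QC

section WAFin

set_option maxHeartbeats 800000 in
/-- weakly associated primes contract to weakly associated primes along a finite ring map. -/
theorem comap_mem_weakAss_of_finite {A B : Type u} [CommRing A] [CommRing B] [Algebra A B]
    [Module.Finite A B] {N : Type v} [AddCommGroup N] [Module A N] [Module B N]
    [IsScalarTower A B N] (q : Ideal B) (hq : q ∈ FlatCA.weakAss B N) :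
    Ideal.comap (algebraMap A B) q ∈ FlatCA.weakAss A N := by
  classical
  rw [mem_weakAss_iff] at hq ⊢
  obtain ⟨m, hm⟩ := hq
  haveI hqp : q.IsPrime := hm.1.1
  obtain ⟨p, hpdef⟩ : ∃ p, p = Ideal.comap (algebraMap A B) q := ⟨_, rfl⟩
  rw [← hpdef]
  haveI hpp : p.IsPrime := hpdef ▸ Ideal.comap_isPrime _ q
  have hfin : (p.primesOver B).Finite := Algebra.QuasiFinite.finite_primesOver p
  -- Step 1: prime avoidance
  have hx : ∃ x ∈ q, ∀ Q ∈ p.primesOver B, Q ≠ q → x ∉ Q := by
    by_contra hcon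
    push Not at hcon
    have hsub : (q : Set B) ⊆
        ⋃ Q ∈ ((hfin.toFinset.erase q : Finset (Ideal B)) : Set (Ideal B)), ((id Q : Ideal B) : Set B) := by
      intro x hx
      obtain ⟨Q, hQ, hQq, hxQ⟩ := hcon x hx
      simp only [Set.mem_iUnion]
      refine ⟨Q, ?_, hxQ⟩
      simp only [Finset.coe_erase, Set.Finite.coe_toFinset, Set.mem_diff, Set.mem_singleton_iff]
      exact ⟨hQ, hQq⟩
    obtain ⟨Q, hQ, hqQ⟩ := (Ideal.subset_union_prime (f := id) q q (by
      intro i hi _ _
      have : i ∈ p.primesOver B := hfin.mem_toFinset.mp (Finset.mem_of_mem_erase hi)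
      exact this.1)).mp hsub
    have hQmem : Q ∈ p.primesOver B := hfin.mem_toFinset.mp (Finset.mem_of_mem_erase hQ)
    have hQne : Q ≠ q := Finset.ne_of_mem_erase hQ
    have hlt : q < Q := lt_of_le_of_ne hqQ hQne.symm
    have hlt2 := Ideal.IsIntegral.comap_lt_comap (R := A) hlt
    have hQp : Ideal.comap (algebraMap A B) Q = p := ((Ideal.liesOver_iff _ _).mp hQmem.2).symm
    rw [hQp, ← hpdef] at hlt2
    exact lt_irrefl _ hlt2
  obtain ⟨x, hxq, hxQ⟩ := hx
  obtain ⟨y, hyq, t, hyt⟩ := exists_notMem_mul_pow_mem_of_mem_minimalPrimes hm hxq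
  have hyt' : (y * x ^ t) • m = 0 := hyt
  refine ⟨y • m, ⟨hpp, ?_⟩, ?_⟩
  · intro a ha
    change a • y • m = 0 at ha
    rw [← algebraMap_smul B a (y • m), smul_smul] at ha
    have h1 : algebraMap A B a * y ∈ q := hm.1.2 ha
    have h2 := (hqp.mem_or_mem h1).resolve_right hyq
    rw [hpdef]
    exact h2
  · rintro p' ⟨hp', hIp'⟩ hp'p f hf
    have hfq : algebraMap A B f ∈ q := by
      have : f ∈ Ideal.comap (algebraMap A B) q := hpdef ▸ hf
      exact this
    obtain ⟨y1, hy1q, n, hy1n⟩ := exists_notMem_mul_pow_mem_of_mem_minimalPrimes hm hfq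
    have hy1n' : (y1 * algebraMap A B f ^ n) • m = 0 := hy1n
    -- the ideal K
    obtain ⟨K, hK⟩ : ∃ K : Ideal B, K = (LinearMap.ker (LinearMap.toSpanSingleton B N
        (algebraMap A B f ^ n • y • m)) : Ideal B) := ⟨_, rfl⟩
    have hy1K : y1 ∈ K := by
      rw [hK]
      change y1 • (algebraMap A B f ^ n • y • m) = 0
      rw [smul_smul, smul_smul, show y1 * algebraMap A B f ^ n * y = y * (y1 * algebraMap A B f ^ n) by ring,
        mul_smul, hy1n', smul_zero]
    have hxK : x ^ t ∈ K := by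
      rw [hK]
      change x ^ t • (algebraMap A B f ^ n • y • m) = 0
      rw [smul_smul, smul_smul, show x ^ t * algebraMap A B f ^ n * y = algebraMap A B f ^ n * (y * x ^ t) by ring,
        mul_smul, hyt', smul_zero]
    have hc : ∃ c : A, c ∉ p ∧ algebraMap A B c ∈ K := by
      by_contra hcon
      push Not at hcon
      have hdisj : Disjoint (K : Set B) (Algebra.algebraMapSubmonoid B p.primeCompl : Set B) := by
        rw [Set.disjoint_left]
        rintro _ hzK ⟨c, hc, rfl⟩
        exact hcon c hc hzK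
      obtain ⟨Q0, hQ0, hKQ0, hQ0T⟩ := Ideal.exists_le_prime_disjoint K _ hdisj
      have hle : Ideal.comap (algebraMap A B) Q0 ≤ p := by
        intro c hc
        by_contra hcp
        exact Set.disjoint_left.mp hQ0T hc ⟨c, hcp, rfl⟩
      obtain ⟨Q, hQ0Q, hQprime, hQp⟩ := Ideal.exists_ideal_over_prime_of_isIntegral_of_isPrime p Q0 hle
      have hQmem : Q ∈ p.primesOver B := ⟨hQprime, (Ideal.liesOver_iff _ _).mpr hQp.symm⟩
      by_cases hQq : Q = q
      · exact hy1q (hQq ▸ hQ0Q (hKQ0 hy1K))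
      · exact hxQ Q hQmem hQq (hQprime.mem_of_pow_mem t (hQ0Q (hKQ0 hxK)))
    obtain ⟨c, hcp, hcK⟩ := hc
    rw [hK] at hcK
    have h3 : (c * f ^ n) • (y • m) = 0 := by
      have h4 : algebraMap A B c • (algebraMap A B f ^ n • y • m) = 0 := hcK
      rw [← algebraMap_smul B (c * f ^ n) (y • m), map_mul, map_pow, mul_smul]
      exact h4
    have h5 : c * f ^ n ∈ p' := hIp' h3
    rcases hp'.mem_or_mem h5 with h6 | h6
    · exact absurd (hp'p h6) hcp
    · exact hp'.mem_of_pow_mem n h6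

end WAFin
end Groth.Agent.LD.QC
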