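import Groth.Agent.Lib.Lead.QC.WeakAssFinite
import Groth.Agent.Lib.Lead.QC.WeakAssPushSch
import Mathlib.AlgebraicGeometry.Morphisms.Finite
universe u
open CategoryTheory Limits AlgebraicGeometry TopologicalSpace Opposite IsLocalRing

namespace Groth.Agent.LD.QC

section WAFS
variable {X S : Scheme.{u}}

set_option maxHeartbeats 800000 in
/-- images of weakly associated points under a finite morphism are weakly associated to the
direct image. -/
theorem isWeakAssPoint_pushforward_of_isFinite (f : X ⟶ S) [IsFinite f]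
    (F : X.Modules) [F.IsQuasicoherent] (x : X)
    (hx : Curv2.IsWeakAssPoint F x) :
    Curv2.IsWeakAssPoint ((Scheme.Modules.pushforward f).obj F) (f x) := by
  haveI : ((Scheme.Modules.pushforward f).obj F).IsQuasicoherent := qc_pushforward f F
  obtain ⟨V, hV, hsV, -⟩ := exists_isAffineOpen_mem_and_subset (x := f x) (U := (⊤ : S.Opens)) trivial
  have hU : IsAffineOpen (f ⁻¹ᵁ V) := hV.preimage f
  have hxU : x ∈ f ⁻¹ᵁ V := hsV
  have hfin : (f.app V).hom.Finite := IsFinite.finite_app f V hV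
  rw [isWeakAssPoint_iff_mem_weakAss _ hV (f x) hsV]
  rw [isWeakAssPoint_iff_mem_weakAss F hU x hxU] at hx
  letI : Module Γ(X, f ⁻¹ᵁ V) Γ((Scheme.Modules.pushforward f).obj F, V) :=
    inferInstanceAs (Module Γ(X, f ⁻¹ᵁ V) Γ(F, f ⁻¹ᵁ V))
  algebraize [(f.app V).hom]
  haveI : IsScalarTower Γ(S, V) Γ(X, f ⁻¹ᵁ V) Γ((Scheme.Modules.pushforward f).obj F, V) :=
    ⟨fun a b n => by
      rw [Algebra.smul_def, mul_smul]
      rfl⟩
  have h1 := comap_mem_weakAss_of_finite (A := Γ(S, V)) (B := Γ(X, f ⁻¹ᵁ V))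
    (N := Γ((Scheme.Modules.pushforward f).obj F, V)) _ hx
  have h2 := IsAffineOpen.comap_primeIdealOf_appLE V hV (f ⁻¹ᵁ V) hU le_rfl hxU
  have h3 : (hV.primeIdealOf ⟨f x, hsV⟩).asIdeal =
      Ideal.comap (f.app V).hom (hU.primeIdealOf ⟨x, hxU⟩).asIdeal := by
    rw [← h2, Scheme.Hom.app_eq_appLE]
    rfl
  rw [h3]
  exact h1

end WAFS
end Groth.Agent.LD.QC
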