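import Groth.Agent.Lib.Lead.QC.AnnFlat
import Groth.Agent.Lib.Lead.QC.StalkPullback
import Groth.Agent.Lib.Lead.QC.WeakAss
import Mathlib.AlgebraicGeometry.Stalk
universe u
open CategoryTheory Limits AlgebraicGeometry TopologicalSpace Opposite TensorProduct IsLocalRing

namespace Groth.Agent.LD.QC

section Alg
variable {A B : Type u} [CommRing A] [CommRing B] [Algebra A B]

theorem radical_map_radical (I : Ideal A) :
    (Ideal.map (algebraMap A B) I.radical).radical = (Ideal.map (algebraMap A B) I).radical := by
  apply le_antisymm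
  · rw [Ideal.radical_le_radical_iff]
    exact Ideal.map_radical_le _
  · exact Ideal.radical_mono (Ideal.map_mono Ideal.le_radical)

theorem radical_ker_baseChange_eq_maximalIdeal [IsLocalRing A] [IsLocalRing B] [Module.Flat A B]
    (hfib : (Ideal.map (algebraMap A B) (maximalIdeal A)).radical = maximalIdeal B)
    {M N : Type u} [AddCommGroup M] [Module A M] [AddCommGroup N] {_ : Module A N} {_ : Module B N}
    {_ : IsScalarTower A B N} (σ : M →ₗ[A] N) (hσ : IsBaseChange B σ) (m : M)
    (hm : Ideal.radical (LinearMap.ker (LinearMap.toSpanSingleton A M m) : Ideal A) = maximalIdeal A) :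
    Ideal.radical (LinearMap.ker (LinearMap.toSpanSingleton B N (σ m)) : Ideal B) = maximalIdeal B := by
  rw [ker_toSpanSingleton_baseChange_of_flat σ hσ m, ← radical_map_radical, hm, hfib]

end Alg

section Sch
variable {X S : Scheme.{u}}

/-- if no other point of the fibre specialises to `x`, the maximal ideal of `O_{X,x}` is the radical
of the extension of the maximal ideal of `O_{S,f x}`. -/
theorem radical_map_maximalIdeal_stalkMap (f : X ⟶ S) (x : X)
    (hgen : ∀ y : X, f y = f x → y ⤳ x → y = x) :
    (Ideal.map (f.stalkMap x).hom (maximalIdeal (S.presheaf.stalk (f x)))).radical =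
      maximalIdeal (X.presheaf.stalk x) := by
  apply le_antisymm
  · rw [Ideal.IsPrime.radical_le_iff (inferInstance : (maximalIdeal (X.presheaf.stalk x)).IsPrime),
      Ideal.map_le_iff_le_comap]
    intro a ha
    exact ((IsLocalRing.mem_maximalIdeal _).mpr fun hu =>
      ((IsLocalRing.mem_maximalIdeal _).mp ha) (isUnit_of_map_unit (f.stalkMap x).hom a hu))
  · rw [Ideal.radical_eq_sInf]
    apply le_sInf
    rintro Q ⟨hQ, hQp⟩
    let Qpt : Spec (X.presheaf.stalk x) := ⟨Q, hQp⟩
    have hy : X.fromSpecStalk x Qpt ⤳ x := by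
      have : X.fromSpecStalk x Qpt ∈ Set.range (X.fromSpecStalk x) := ⟨Qpt, rfl⟩
      rwa [Scheme.range_fromSpecStalk] at this
    have hfy : f (X.fromSpecStalk x Qpt) = f x := by
      have h1 : f (X.fromSpecStalk x Qpt) = (X.fromSpecStalk x ≫ f) Qpt := rfl
      rw [h1, ← Scheme.SpecMap_stalkMap_fromSpecStalk]
      have h2 : (Spec.map (f.stalkMap x)) Qpt = closedPoint (S.presheaf.stalk (f x)) := by
        apply PrimeSpectrum.ext
        have hle : maximalIdeal (S.presheaf.stalk (f x)) ≤ Ideal.comap (f.stalkMap x).hom Q :=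
          Ideal.map_le_iff_le_comap.mp hQ
        haveI : (Ideal.comap (f.stalkMap x).hom Q).IsPrime := Ideal.comap_isPrime _ _
        exact ((IsLocalRing.maximalIdeal.isMaximal _).eq_of_le (Ideal.IsPrime.ne_top inferInstance) hle).symm
      change (S.fromSpecStalk (f x)) ((Spec.map (f.stalkMap x)) Qpt) = f x
      rw [h2, Scheme.fromSpecStalk_closedPoint]
    have hyx := hgen _ hfy hy
    have hQc : Qpt = closedPoint (X.presheaf.stalk x) := by
      apply (X.fromSpecStalk x).isEmbedding.injective
      rw [hyx, Scheme.fromSpecStalk_closedPoint]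
    have : Q = maximalIdeal (X.presheaf.stalk x) := congrArg PrimeSpectrum.asIdeal hQc
    rw [this]

end Sch
end Groth.Agent.LD.QC
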